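import Cfsg.Agent.Lib.QS3.Zero.Cert.B1

/-!
Groups with an involution centraliser `Q.S₃`: the outcome of coset enumeration for the type 0, case B.
-/

set_option autoImplicit false
set_option maxRecDepth 10000
set_option linter.unusedSectionVars false

namespace CfsgQS3.Zero.CertB

variable {M α : Type*} [Group M] [MulAction M α] {g : ℕ → M} {p : α} (H : CosetData relsB 3 g p)
include H

theorem collapse : g 3 • p = p :=
  (f6376 H)

end CfsgQS3.Zero.CertB
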