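import Cfsg.Agent.Lib.QS3.Zero.Cert.A3

/-!
Groups with an involution centraliser `Q.S₃`: the outcome of coset enumeration for the type 0, case A.
-/

set_option autoImplicit false
set_option maxRecDepth 10000
set_option linter.unusedSectionVars false

namespace CfsgQS3.Zero.CertA

/-- Representatives of cosets, part 0. -/
def reps0 : List (List ℕ) := [
  [],
  [9],
  [8],
  [3],
  [4],
  [9, 8],
  [9, 2],
  [9, 3],
  [8, 9],
  [8, 6],
  [8, 1],
  [8, 4],
  [3, 9],
  [3, 6],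
  [3, 1],
  [4, 8],
  [4, 2],
  [9, 8, 2],
  [9, 8, 6],
  [9, 8, 1],
  [9, 2, 9],
  [9, 2, 8],
  [9, 2, 5],
  [9, 2, 3],
  [9, 2, 4],
  [9, 3, 9],
  [9, 3, 2],
  [9, 3, 5],
  [9, 3, 6],
  [9, 3, 1],
  [8, 9, 2],
  [8, 9, 6],
  [8, 9, 1]]

/-- Representatives of cosets, part 1. -/
def reps1 : List (List ℕ) := [
  [8, 6, 8],
  [8, 6, 3],
  [8, 6, 4],
  [8, 1, 8],
  [8, 1, 3],
  [8, 1, 4],
  [8, 4, 2],
  [3, 9, 2],
  [3, 9, 6],
  [3, 9, 1],
  [3, 6, 8],
  [3, 6, 3],
  [3, 1, 8],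
  [3, 1, 3],
  [4, 8, 2],
  [4, 8, 5],
  [4, 8, 6],
  [4, 8, 1],
  [4, 2, 9],
  [4, 2, 8],
  [4, 2, 5],
  [4, 2, 3],
  [4, 2, 4],
  [9, 8, 2, 9],
  [9, 8, 2, 8],
  [9, 8, 2, 5],
  [9, 8, 2, 3],
  [9, 8, 2, 6],
  [9, 8, 2, 1],
  [9, 8, 2, 4],
  [9, 8, 6, 8],
  [9, 8, 6, 3],
  [9, 8, 1, 8]]

/-- Representatives of cosets, part 2. -/
def reps2 : List (List ℕ) := [
  [9, 8, 1, 3],
  [9, 2, 9, 8],
  [9, 2, 9, 5],
  [9, 2, 9, 3],
  [9, 2, 8, 9],
  [9, 2, 8, 2],
  [9, 2, 8, 6],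
  [9, 2, 8, 1],
  [9, 2, 8, 4],
  [9, 2, 5, 8],
  [9, 2, 5, 2],
  [9, 2, 5, 6],
  [9, 2, 5, 1],
  [9, 2, 5, 4],
  [9, 2, 3, 9],
  [9, 2, 3, 2],
  [9, 2, 3, 6],
  [9, 2, 3, 1],
  [9, 2, 4, 8],
  [9, 3, 9, 2],
  [9, 3, 9, 5],
  [9, 3, 9, 6],
  [9, 3, 2, 9],
  [9, 3, 2, 3],
  [9, 3, 2, 6],
  [9, 3, 2, 1],
  [9, 3, 2, 4],
  [9, 3, 5, 2],
  [9, 3, 5, 6],
  [9, 3, 5, 1],
  [9, 3, 6, 8],
  [9, 3, 6, 3],
  [9, 3, 1, 8]]

/-- Representatives of cosets, part 3. -/
def reps3 : List (List ℕ) := [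
  [8, 9, 2, 9],
  [8, 9, 2, 8],
  [8, 9, 2, 6],
  [8, 9, 2, 1],
  [8, 9, 2, 4],
  [8, 9, 6, 8],
  [8, 9, 6, 3],
  [8, 9, 1, 8],
  [8, 9, 1, 3],
  [8, 6, 8, 9],
  [8, 6, 8, 6],
  [8, 6, 8, 1],
  [8, 6, 8, 4],
  [8, 6, 3, 9],
  [8, 6, 3, 6],
  [8, 6, 3, 1],
  [8, 6, 4, 8],
  [8, 6, 4, 2],
  [8, 1, 8, 9],
  [8, 1, 8, 6],
  [8, 1, 8, 1],
  [8, 1, 8, 4],
  [8, 1, 3, 9],
  [8, 1, 3, 6],
  [8, 1, 3, 1],
  [8, 1, 4, 8],
  [8, 1, 4, 2],
  [8, 4, 2, 9],
  [8, 4, 2, 5],
  [8, 4, 2, 4],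
  [3, 9, 2, 6],
  [3, 9, 2, 1],
  [3, 9, 2, 4]]

/-- Representatives of cosets, part 4. -/
def reps4 : List (List ℕ) := [
  [3, 9, 6, 8],
  [3, 9, 6, 3],
  [3, 9, 1, 8],
  [3, 9, 1, 3],
  [3, 6, 8, 6],
  [3, 6, 8, 1],
  [3, 6, 8, 4],
  [3, 6, 3, 9],
  [3, 6, 3, 6],
  [3, 6, 3, 1],
  [3, 1, 8, 6],
  [3, 1, 8, 1],
  [3, 1, 8, 4],
  [3, 1, 3, 9],
  [3, 1, 3, 6],
  [3, 1, 3, 1],
  [4, 8, 2, 9],
  [4, 8, 2, 8],
  [4, 8, 2, 6],
  [4, 8, 2, 1],
  [4, 8, 2, 4],
  [4, 8, 5, 2],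
  [4, 8, 5, 6],
  [4, 8, 5, 1],
  [4, 8, 6, 8],
  [4, 8, 6, 3],
  [4, 8, 1, 8],
  [4, 8, 1, 3],
  [4, 2, 9, 8],
  [4, 2, 9, 5],
  [4, 2, 9, 3],
  [4, 2, 8, 9],
  [4, 2, 8, 6]]

/-- Representatives of cosets, part 5. -/
def reps5 : List (List ℕ) := [
  [4, 2, 8, 1],
  [4, 2, 8, 4],
  [4, 2, 5, 8],
  [4, 2, 5, 4],
  [4, 2, 3, 9],
  [4, 2, 3, 6],
  [4, 2, 3, 1],
  [4, 2, 4, 8],
  [9, 8, 2, 9, 2],
  [9, 8, 2, 9, 5],
  [9, 8, 2, 9, 6],
  [9, 8, 2, 9, 1],
  [9, 8, 2, 8, 9],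
  [9, 8, 2, 8, 2],
  [9, 8, 2, 8, 6],
  [9, 8, 2, 8, 1],
  [9, 8, 2, 5, 8],
  [9, 8, 2, 5, 6],
  [9, 8, 2, 5, 1],
  [9, 8, 2, 5, 4],
  [9, 8, 2, 6, 8],
  [9, 8, 2, 6, 4],
  [9, 8, 2, 1, 8],
  [9, 8, 2, 1, 5],
  [9, 8, 2, 1, 3],
  [9, 8, 2, 1, 4],
  [9, 8, 2, 4, 8],
  [9, 8, 6, 8, 2],
  [9, 8, 6, 8, 5],
  [9, 8, 6, 8, 6],
  [9, 8, 6, 8, 1],
  [9, 8, 6, 8, 4],
  [9, 8, 6, 3, 2]]

/-- Representatives of cosets, part 6. -/
def reps6 : List (List ℕ) := [
  [9, 8, 6, 3, 1],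
  [9, 8, 1, 8, 2],
  [9, 8, 1, 8, 5],
  [9, 8, 1, 8, 6],
  [9, 8, 1, 8, 4],
  [9, 8, 1, 3, 2],
  [9, 8, 1, 3, 6],
  [9, 8, 1, 3, 1],
  [9, 2, 9, 8, 2],
  [9, 2, 9, 8, 5],
  [9, 2, 9, 8, 6],
  [9, 2, 9, 5, 2],
  [9, 2, 9, 5, 3],
  [9, 2, 9, 5, 6],
  [9, 2, 9, 5, 1],
  [9, 2, 9, 3, 9],
  [9, 2, 9, 3, 2],
  [9, 2, 9, 3, 5],
  [9, 2, 9, 3, 6],
  [9, 2, 9, 3, 1],
  [9, 2, 8, 9, 2],
  [9, 2, 8, 9, 6],
  [9, 2, 8, 9, 1],
  [9, 2, 8, 2, 6],
  [9, 2, 8, 6, 8],
  [9, 2, 8, 6, 5],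
  [9, 2, 8, 6, 4],
  [9, 2, 8, 1, 8],
  [9, 2, 8, 1, 3],
  [9, 2, 8, 1, 4],
  [9, 2, 5, 8, 1],
  [9, 2, 5, 8, 4],
  [9, 2, 5, 6, 4]]

/-- Representatives of cosets, part 7. -/
def reps7 : List (List ℕ) := [
  [9, 2, 5, 1, 3],
  [9, 2, 5, 1, 4],
  [9, 2, 5, 4, 8],
  [9, 2, 5, 4, 2],
  [9, 2, 3, 9, 2],
  [9, 2, 3, 9, 6],
  [9, 2, 3, 2, 9],
  [9, 2, 3, 2, 6],
  [9, 2, 3, 6, 8],
  [9, 2, 3, 6, 3],
  [9, 2, 3, 1, 5],
  [9, 2, 4, 8, 2],
  [9, 2, 4, 8, 5],
  [9, 2, 4, 8, 6],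
  [9, 2, 4, 8, 1],
  [9, 3, 9, 2, 9],
  [9, 3, 9, 2, 8],
  [9, 3, 9, 2, 4],
  [9, 3, 2, 9, 8],
  [9, 3, 2, 9, 2],
  [9, 3, 2, 9, 3],
  [9, 3, 2, 9, 6],
  [9, 3, 2, 9, 1],
  [9, 3, 2, 3, 9],
  [9, 3, 2, 3, 6],
  [9, 3, 2, 3, 1],
  [9, 3, 2, 6, 8],
  [9, 3, 2, 6, 3],
  [9, 3, 2, 6, 4],
  [9, 3, 2, 1, 8],
  [9, 3, 2, 1, 5],
  [9, 3, 2, 4, 8],
  [9, 3, 5, 2, 9]]

/-- Representatives of cosets, part 8. -/
def reps8 : List (List ℕ) := [
  [9, 3, 5, 2, 6],
  [9, 3, 5, 2, 1],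
  [9, 3, 5, 2, 4],
  [9, 3, 6, 8, 6],
  [9, 3, 6, 8, 1],
  [9, 3, 6, 8, 4],
  [9, 3, 6, 3, 2],
  [9, 3, 6, 3, 6],
  [9, 3, 1, 8, 1],
  [8, 9, 2, 9, 2],
  [8, 9, 2, 9, 3],
  [8, 9, 2, 9, 6],
  [8, 9, 2, 8, 9],
  [8, 9, 2, 8, 4],
  [8, 9, 2, 6, 8],
  [8, 9, 2, 6, 5],
  [8, 9, 2, 6, 3],
  [8, 9, 2, 6, 4],
  [8, 9, 2, 1, 8],
  [8, 9, 2, 1, 5],
  [8, 9, 2, 1, 3],
  [8, 9, 2, 1, 4],
  [8, 9, 2, 4, 8],
  [8, 9, 2, 4, 2],
  [8, 9, 6, 8, 6],
  [8, 9, 6, 8, 1],
  [8, 9, 6, 3, 5],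
  [8, 9, 1, 8, 6],
  [8, 9, 1, 8, 1],
  [8, 9, 1, 3, 2],
  [8, 9, 1, 3, 5],
  [8, 6, 8, 9, 2],
  [8, 6, 8, 9, 1]]

/-- Representatives of cosets, part 9. -/
def reps9 : List (List ℕ) := [
  [8, 6, 8, 6, 8],
  [8, 6, 8, 6, 3],
  [8, 6, 8, 6, 4],
  [8, 6, 8, 1, 8],
  [8, 6, 8, 1, 4],
  [8, 6, 8, 4, 2],
  [8, 6, 3, 9, 1],
  [8, 6, 3, 6, 8],
  [8, 6, 3, 1, 8],
  [8, 6, 3, 1, 3],
  [8, 6, 4, 8, 6],
  [8, 6, 4, 2, 9],
  [8, 6, 4, 2, 8],
  [8, 6, 4, 2, 3],
  [8, 6, 4, 2, 4],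
  [8, 1, 8, 9, 2],
  [8, 1, 8, 9, 6],
  [8, 1, 8, 9, 1],
  [8, 1, 8, 6, 8],
  [8, 1, 8, 6, 3],
  [8, 1, 8, 6, 4],
  [8, 1, 8, 1, 3],
  [8, 1, 8, 4, 2],
  [8, 1, 3, 6, 8],
  [8, 1, 3, 6, 3],
  [8, 1, 3, 1, 8],
  [8, 1, 3, 1, 3],
  [8, 1, 4, 8, 2],
  [8, 1, 4, 8, 5],
  [8, 1, 4, 2, 8],
  [8, 1, 4, 2, 3],
  [8, 1, 4, 2, 4],
  [8, 4, 2, 9, 5]]

/-- Representatives of cosets, part 10. -/
def reps10 : List (List ℕ) := [
  [8, 4, 2, 9, 3],
  [8, 4, 2, 5, 4],
  [3, 9, 2, 6, 3],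
  [3, 9, 2, 1, 5],
  [3, 9, 2, 1, 4],
  [3, 9, 6, 8, 2],
  [3, 9, 6, 8, 1],
  [3, 9, 6, 3, 2],
  [3, 9, 6, 3, 5],
  [3, 9, 6, 3, 6],
  [3, 9, 1, 8, 6],
  [3, 9, 1, 3, 2],
  [3, 9, 1, 3, 5],
  [3, 9, 1, 3, 1],
  [3, 6, 8, 6, 8],
  [3, 6, 8, 6, 4],
  [3, 6, 8, 1, 8],
  [3, 6, 8, 1, 3],
  [3, 6, 8, 1, 4],
  [3, 6, 3, 9, 6],
  [3, 6, 3, 9, 1],
  [3, 6, 3, 1, 3],
  [3, 1, 8, 6, 8],
  [3, 1, 8, 6, 3],
  [3, 1, 8, 6, 4],
  [3, 1, 8, 1, 8],
  [3, 1, 8, 1, 3],
  [3, 1, 3, 9, 6],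
  [3, 1, 3, 9, 1],
  [3, 1, 3, 6, 3],
  [3, 1, 3, 1, 3],
  [4, 8, 2, 9, 2],
  [4, 8, 2, 9, 6]]

/-- Representatives of cosets, part 11. -/
def reps11 : List (List ℕ) := [
  [4, 8, 2, 9, 1],
  [4, 8, 2, 8, 6],
  [4, 8, 2, 6, 8],
  [4, 8, 2, 1, 8],
  [4, 8, 5, 2, 9],
  [4, 8, 5, 2, 1],
  [4, 8, 5, 2, 4],
  [4, 8, 6, 8, 6],
  [4, 8, 6, 8, 1],
  [4, 8, 6, 3, 6],
  [4, 8, 1, 8, 6],
  [4, 8, 1, 8, 1],
  [4, 8, 1, 3, 2],
  [4, 8, 1, 3, 1],
  [4, 2, 9, 5, 2],
  [4, 2, 9, 5, 3],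
  [4, 2, 9, 3, 9],
  [4, 2, 9, 3, 5],
  [4, 2, 8, 9, 2],
  [4, 2, 8, 9, 1],
  [4, 2, 8, 6, 5],
  [4, 2, 8, 6, 4],
  [4, 2, 8, 4, 2],
  [4, 2, 5, 8, 9],
  [4, 2, 5, 8, 6],
  [4, 2, 5, 8, 4],
  [4, 2, 5, 4, 8],
  [4, 2, 5, 4, 2],
  [4, 2, 3, 9, 2],
  [4, 2, 3, 6, 5],
  [4, 2, 3, 1, 3],
  [4, 2, 4, 8, 5],
  [9, 8, 2, 9, 2, 5]]

/-- Representatives of cosets, part 12. -/
def reps12 : List (List ℕ) := [
  [9, 8, 2, 9, 5, 6],
  [9, 8, 2, 9, 5, 1],
  [9, 8, 2, 9, 1, 8],
  [9, 8, 2, 9, 1, 5],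
  [9, 8, 2, 8, 9, 1],
  [9, 8, 2, 8, 1, 8],
  [9, 8, 2, 5, 6, 8],
  [9, 8, 2, 5, 6, 4],
  [9, 8, 2, 6, 8, 4],
  [9, 8, 2, 1, 8, 2],
  [9, 8, 2, 1, 5, 3],
  [9, 8, 2, 1, 3, 5],
  [9, 8, 2, 1, 3, 1],
  [9, 8, 2, 4, 8, 6],
  [9, 8, 6, 3, 1, 8],
  [9, 8, 6, 3, 1, 3],
  [9, 8, 1, 8, 6, 3],
  [9, 8, 1, 3, 6, 8],
  [9, 8, 1, 3, 6, 3],
  [9, 2, 9, 8, 2, 8],
  [9, 2, 9, 8, 2, 3],
  [9, 2, 9, 5, 2, 8],
  [9, 2, 9, 5, 2, 5],
  [9, 2, 9, 5, 2, 6],
  [9, 2, 9, 5, 2, 1],
  [9, 2, 9, 5, 2, 4],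
  [9, 2, 9, 5, 3, 5],
  [9, 2, 9, 5, 3, 1],
  [9, 2, 9, 5, 1, 3],
  [9, 2, 9, 3, 9, 5],
  [9, 2, 9, 3, 9, 6],
  [9, 2, 9, 3, 2, 8],
  [9, 2, 9, 3, 5, 2]]

/-- Representatives of cosets, part 13. -/
def reps13 : List (List ℕ) := [
  [9, 2, 9, 3, 5, 3],
  [9, 2, 9, 3, 5, 1],
  [9, 2, 8, 9, 2, 8],
  [9, 2, 8, 9, 2, 5],
  [9, 2, 8, 9, 6, 3],
  [9, 2, 8, 6, 5, 8],
  [9, 2, 8, 1, 8, 9],
  [9, 2, 8, 1, 8, 1],
  [9, 2, 8, 1, 4, 8],
  [9, 2, 5, 6, 4, 8],
  [9, 2, 5, 6, 4, 2],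
  [9, 2, 5, 1, 4, 8],
  [9, 2, 5, 1, 4, 2],
  [9, 2, 5, 4, 8, 5],
  [9, 2, 5, 4, 2, 5],
  [9, 2, 3, 9, 6, 3],
  [9, 2, 3, 2, 6, 8],
  [9, 2, 3, 6, 3, 2],
  [9, 2, 4, 8, 2, 3],
  [9, 2, 4, 8, 5, 8],
  [9, 2, 4, 8, 6, 5],
  [9, 3, 9, 2, 9, 3],
  [9, 3, 9, 2, 8, 9],
  [9, 3, 9, 2, 8, 4],
  [9, 3, 9, 2, 4, 8],
  [9, 3, 2, 9, 2, 5],
  [9, 3, 2, 9, 3, 2],
  [9, 3, 2, 9, 3, 5],
  [9, 3, 2, 9, 6, 8],
  [9, 3, 2, 6, 8, 6],
  [9, 3, 2, 6, 8, 4],
  [9, 3, 2, 6, 3, 9],
  [9, 3, 2, 1, 8, 1]]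

/-- Representatives of cosets, part 14. -/
def reps14 : List (List ℕ) := [
  [9, 3, 2, 4, 8, 5],
  [9, 3, 6, 8, 6, 3],
  [9, 3, 1, 8, 1, 3],
  [8, 9, 2, 9, 3, 5],
  [8, 9, 2, 6, 5, 4],
  [8, 9, 2, 6, 3, 1],
  [8, 9, 2, 4, 8, 5],
  [8, 9, 6, 8, 1, 3],
  [8, 9, 1, 8, 6, 8],
  [8, 9, 1, 8, 6, 3],
  [8, 6, 8, 9, 2, 9],
  [8, 6, 8, 9, 2, 4],
  [8, 6, 8, 6, 3, 1],
  [8, 6, 8, 1, 8, 6],
  [8, 6, 8, 1, 8, 1],
  [8, 6, 3, 9, 1, 3],
  [8, 6, 3, 6, 8, 1],
  [8, 6, 4, 2, 8, 9],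
  [8, 6, 4, 2, 8, 1],
  [8, 6, 4, 2, 3, 1],
  [8, 1, 8, 9, 6, 8],
  [8, 1, 8, 9, 6, 3],
  [8, 1, 8, 6, 8, 9],
  [8, 1, 8, 4, 2, 9],
  [8, 1, 8, 4, 2, 4],
  [8, 1, 3, 6, 3, 1],
  [8, 1, 3, 1, 8, 6],
  [8, 4, 2, 5, 4, 2],
  [3, 1, 3, 6, 3, 1],
  [4, 8, 5, 2, 9, 3],
  [4, 8, 6, 8, 6, 8],
  [4, 8, 1, 8, 1, 8],
  [4, 2, 9, 3, 9, 5]]

/-- The representatives of the cosets. -/
def repLists : List (List (List ℕ)) := [reps0, reps1, reps2, reps3, reps4, reps5, reps6, reps7, reps8, reps9, reps10, reps11, reps12, reps13, reps14]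

/-- The representatives of the cosets. -/
def reps : List (List ℕ) := repLists.flatten

theorem mem_reps {w : List ℕ} {l : List (List ℕ)} (hl : l ∈ repLists) (hw : w ∈ l) : w ∈ reps :=
  List.mem_flatten.2 ⟨l, hl, hw⟩

variable {M α : Type*} [Group M] [MulAction M α] {g : ℕ → M} {p : α} (H : CosetData relsA 3 g p)
include H

theorem step0_0 : ∀ w ∈ reps0, ∃ w' ∈ reps, g 0 • path g w p = path g w' p := by
  intro w hw
  simp only [reps0, List.mem_cons, List.not_mem_nil, or_false] at hw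
  rcases hw with rfl | rfl | rfl | rfl | rfl | rfl | rfl | rfl | rfl | rfl | rfl | rfl | rfl | rfl | rfl | rfl | rfl | rfl | rfl | rfl | rfl | rfl | rfl | rfl | rfl | rfl | rfl | rfl | rfl | rfl | rfl | rfl | rfl
  · exact ⟨[], mem_reps (l := reps0) (by simp [repLists]) (by decide), (f0 H)⟩
  · exact ⟨[9], mem_reps (l := reps0) (by simp [repLists]) (by decide), (f8 H)⟩
  · exact ⟨[3], mem_reps (l := reps0) (by simp [repLists]) (by decide), (f2686 H)⟩
  · exact ⟨[8], mem_reps (l := reps0) (by simp [repLists]) (by decide), (f2839 H)⟩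
  · exact ⟨[4], mem_reps (l := reps0) (by simp [repLists]) (by decide), (f25 H)⟩
  · exact ⟨[8, 4], mem_reps (l := reps0) (by simp [repLists]) (by decide), (f2836 H)⟩
  · exact ⟨[9, 2, 5], mem_reps (l := reps0) (by simp [repLists]) (by decide), (f131 H)⟩
  · exact ⟨[9, 3, 5], mem_reps (l := reps0) (by simp [repLists]) (by decide), (f157 H)⟩
  · exact ⟨[3, 9], mem_reps (l := reps0) (by simp [repLists]) (by decide), (f2854 H)⟩
  · exact ⟨[8, 6], mem_reps (l := reps0) (by simp [repLists]) (by decide), (f60 H)⟩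
  · exact ⟨[3, 1], mem_reps (l := reps0) (by simp [repLists]) (by decide), (f2451 H)⟩
  · exact ⟨[9, 8], mem_reps (l := reps0) (by simp [repLists]) (by decide), (f2575 H)⟩
  · exact ⟨[8, 9], mem_reps (l := reps0) (by simp [repLists]) (by decide), (f2782 H)⟩
  · exact ⟨[3, 6], mem_reps (l := reps0) (by simp [repLists]) (by decide), (f211 H)⟩
  · exact ⟨[8, 1], mem_reps (l := reps0) (by simp [repLists]) (by decide), (f2847 H)⟩
  · exact ⟨[4, 8, 5], mem_reps (l := reps1) (by simp [repLists]) (by decide), (f335 H)⟩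
  · exact ⟨[4, 2, 5], mem_reps (l := reps1) (by simp [repLists]) (by decide), (f357 H)⟩
  · exact ⟨[9, 8, 2, 5], mem_reps (l := reps1) (by simp [repLists]) (by decide), (f375 H)⟩
  · exact ⟨[9, 8, 6], mem_reps (l := reps0) (by simp [repLists]) (by decide), (f212 H)⟩
  · exact ⟨[8, 1, 4], mem_reps (l := reps1) (by simp [repLists]) (by decide), (f2845 H)⟩
  · exact ⟨[9, 2, 9, 5], mem_reps (l := reps2) (by simp [repLists]) (by decide), (f455 H)⟩
  · exact ⟨[9, 3, 2], mem_reps (l := reps0) (by simp [repLists]) (by decide), (f3096 H)⟩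
  · exact ⟨[9, 2], mem_reps (l := reps0) (by simp [repLists]) (by decide), (f129 H)⟩
  · exact ⟨[9, 2, 8, 2], mem_reps (l := reps2) (by simp [repLists]) (by decide), (f3145 H)⟩
  · exact ⟨[9, 2, 5, 4], mem_reps (l := reps2) (by simp [repLists]) (by decide), (f519 H)⟩
  · exact ⟨[9, 3, 9, 5], mem_reps (l := reps2) (by simp [repLists]) (by decide), (f561 H)⟩
  · exact ⟨[9, 2, 8], mem_reps (l := reps0) (by simp [repLists]) (by decide), (f3079 H)⟩
  · exact ⟨[9, 3], mem_reps (l := reps0) (by simp [repLists]) (by decide), (f155 H)⟩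
  · exact ⟨[9, 3, 6], mem_reps (l := reps0) (by simp [repLists]) (by decide), (f1649 H)⟩
  · exact ⟨[9, 3, 5, 1], mem_reps (l := reps2) (by simp [repLists]) (by decide), (f1619 H)⟩
  · exact ⟨[4, 2, 8], mem_reps (l := reps1) (by simp [repLists]) (by decide), (f2193 H)⟩
  · exact ⟨[8, 9, 6], mem_reps (l := reps0) (by simp [repLists]) (by decide), (f178 H)⟩
  · exact ⟨[3, 9, 1], mem_reps (l := reps1) (by simp [repLists]) (by decide), (f3407 H)⟩

theorem step1_0 : ∀ w ∈ reps0, ∃ w' ∈ reps, g 1 • path g w p = path g w' p := by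
  intro w hw
  simp only [reps0, List.mem_cons, List.not_mem_nil, or_false] at hw
  rcases hw with rfl | rfl | rfl | rfl | rfl | rfl | rfl | rfl | rfl | rfl | rfl | rfl | rfl | rfl | rfl | rfl | rfl | rfl | rfl | rfl | rfl | rfl | rfl | rfl | rfl | rfl | rfl | rfl | rfl | rfl | rfl | rfl | rfl
  · exact ⟨[], mem_reps (l := reps0) (by simp [repLists]) (by decide), (f2 H)⟩
  · exact ⟨[9], mem_reps (l := reps0) (by simp [repLists]) (by decide), (f10 H)⟩
  · exact ⟨[8, 1], mem_reps (l := reps0) (by simp [repLists]) (by decide), (f54 H)⟩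
  · exact ⟨[3, 1], mem_reps (l := reps0) (by simp [repLists]) (by decide), (f82 H)⟩
  · exact ⟨[4], mem_reps (l := reps0) (by simp [repLists]) (by decide), (f27 H)⟩
  · exact ⟨[9, 8, 1], mem_reps (l := reps0) (by simp [repLists]) (by decide), (f116 H)⟩
  · exact ⟨[9, 2], mem_reps (l := reps0) (by simp [repLists]) (by decide), (f36 H)⟩
  · exact ⟨[9, 3, 1], mem_reps (l := reps0) (by simp [repLists]) (by decide), (f160 H)⟩
  · exact ⟨[8, 9, 1], mem_reps (l := reps0) (by simp [repLists]) (by decide), (f180 H)⟩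
  · exact ⟨[8], mem_reps (l := reps0) (by simp [repLists]) (by decide), (f53 H)⟩
  · exact ⟨[8, 6], mem_reps (l := reps0) (by simp [repLists]) (by decide), (f56 H)⟩
  · exact ⟨[8, 1, 4], mem_reps (l := reps1) (by simp [repLists]) (by decide), (f253 H)⟩
  · exact ⟨[3, 9, 1], mem_reps (l := reps1) (by simp [repLists]) (by decide), (f280 H)⟩
  · exact ⟨[3], mem_reps (l := reps0) (by simp [repLists]) (by decide), (f81 H)⟩
  · exact ⟨[3, 6], mem_reps (l := reps0) (by simp [repLists]) (by decide), (f84 H)⟩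
  · exact ⟨[4, 8, 1], mem_reps (l := reps1) (by simp [repLists]) (by decide), (f342 H)⟩
  · exact ⟨[4, 2], mem_reps (l := reps0) (by simp [repLists]) (by decide), (f100 H)⟩
  · exact ⟨[9, 8, 2, 1], mem_reps (l := reps1) (by simp [repLists]) (by decide), (f386 H)⟩
  · exact ⟨[9, 8], mem_reps (l := reps0) (by simp [repLists]) (by decide), (f113 H)⟩
  · exact ⟨[9, 8, 6], mem_reps (l := reps0) (by simp [repLists]) (by decide), (f118 H)⟩
  · exact ⟨[9, 2, 9], mem_reps (l := reps0) (by simp [repLists]) (by decide), (f124 H)⟩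
  · exact ⟨[9, 2, 8, 1], mem_reps (l := reps2) (by simp [repLists]) (by decide), (f476 H)⟩
  · exact ⟨[9, 2, 5, 1], mem_reps (l := reps2) (by simp [repLists]) (by decide), (f506 H)⟩
  · exact ⟨[9, 2, 3, 1], mem_reps (l := reps2) (by simp [repLists]) (by decide), (f538 H)⟩
  · exact ⟨[9, 2, 4], mem_reps (l := reps0) (by simp [repLists]) (by decide), (f141 H)⟩
  · exact ⟨[9, 8, 2, 3], mem_reps (l := reps1) (by simp [repLists]) (by decide), (f1603 H)⟩
  · exact ⟨[9, 3, 2, 1], mem_reps (l := reps2) (by simp [repLists]) (by decide), (f598 H)⟩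
  · exact ⟨[9, 3, 5, 1], mem_reps (l := reps2) (by simp [repLists]) (by decide), (f622 H)⟩
  · exact ⟨[9, 3], mem_reps (l := reps0) (by simp [repLists]) (by decide), (f159 H)⟩
  · exact ⟨[9, 3, 6], mem_reps (l := reps0) (by simp [repLists]) (by decide), (f162 H)⟩
  · exact ⟨[8, 9, 2, 1], mem_reps (l := reps3) (by simp [repLists]) (by decide), (f664 H)⟩
  · exact ⟨[8, 9], mem_reps (l := reps0) (by simp [repLists]) (by decide), (f175 H)⟩
  · exact ⟨[8, 9, 6], mem_reps (l := reps0) (by simp [repLists]) (by decide), (f182 H)⟩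

theorem step2_0 : ∀ w ∈ reps0, ∃ w' ∈ reps, g 2 • path g w p = path g w' p := by
  intro w hw
  simp only [reps0, List.mem_cons, List.not_mem_nil, or_false] at hw
  rcases hw with rfl | rfl | rfl | rfl | rfl | rfl | rfl | rfl | rfl | rfl | rfl | rfl | rfl | rfl | rfl | rfl | rfl | rfl | rfl | rfl | rfl | rfl | rfl | rfl | rfl | rfl | rfl | rfl | rfl | rfl | rfl | rfl | rfl
  · exact ⟨[], mem_reps (l := reps0) (by simp [repLists]) (by decide), (f4 H)⟩
  · exact ⟨[9, 2], mem_reps (l := reps0) (by simp [repLists]) (by decide), (f32 H)⟩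
  · exact ⟨[8], mem_reps (l := reps0) (by simp [repLists]) (by decide), (f14 H)⟩
  · exact ⟨[3], mem_reps (l := reps0) (by simp [repLists]) (by decide), (f62 H)⟩
  · exact ⟨[4, 2], mem_reps (l := reps0) (by simp [repLists]) (by decide), (f96 H)⟩
  · exact ⟨[9, 8, 2], mem_reps (l := reps0) (by simp [repLists]) (by decide), (f102 H)⟩
  · exact ⟨[9], mem_reps (l := reps0) (by simp [repLists]) (by decide), (f34 H)⟩
  · exact ⟨[9, 3, 2], mem_reps (l := reps0) (by simp [repLists]) (by decide), (f150 H)⟩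
  · exact ⟨[8, 9, 2], mem_reps (l := reps0) (by simp [repLists]) (by decide), (f164 H)⟩
  · exact ⟨[8, 1], mem_reps (l := reps0) (by simp [repLists]) (by decide), (f64 H)⟩
  · exact ⟨[8, 6], mem_reps (l := reps0) (by simp [repLists]) (by decide), (f58 H)⟩
  · exact ⟨[8, 4, 2], mem_reps (l := reps1) (by simp [repLists]) (by decide), (f256 H)⟩
  · exact ⟨[3, 9, 2], mem_reps (l := reps1) (by simp [repLists]) (by decide), (f260 H)⟩
  · exact ⟨[3, 1], mem_reps (l := reps0) (by simp [repLists]) (by decide), (f88 H)⟩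
  · exact ⟨[3, 6], mem_reps (l := reps0) (by simp [repLists]) (by decide), (f86 H)⟩
  · exact ⟨[4, 8, 2], mem_reps (l := reps1) (by simp [repLists]) (by decide), (f328 H)⟩
  · exact ⟨[4], mem_reps (l := reps0) (by simp [repLists]) (by decide), (f98 H)⟩
  · exact ⟨[9, 8], mem_reps (l := reps0) (by simp [repLists]) (by decide), (f104 H)⟩
  · exact ⟨[9, 8, 2, 1], mem_reps (l := reps1) (by simp [repLists]) (by decide), (f392 H)⟩
  · exact ⟨[9, 8, 2, 6], mem_reps (l := reps1) (by simp [repLists]) (by decide), (f383 H)⟩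
  · exact ⟨[9, 2, 9], mem_reps (l := reps0) (by simp [repLists]) (by decide), (f9280 H)⟩
  · exact ⟨[9, 2, 8, 2], mem_reps (l := reps2) (by simp [repLists]) (by decide), (f466 H)⟩
  · exact ⟨[9, 2, 5, 2], mem_reps (l := reps2) (by simp [repLists]) (by decide), (f486 H)⟩
  · exact ⟨[9, 2, 3, 2], mem_reps (l := reps2) (by simp [repLists]) (by decide), (f528 H)⟩
  · exact ⟨[4, 2, 9], mem_reps (l := reps1) (by simp [repLists]) (by decide), (f11401 H)⟩
  · exact ⟨[9, 3, 9, 2], mem_reps (l := reps2) (by simp [repLists]) (by decide), (f554 H)⟩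
  · exact ⟨[9, 3], mem_reps (l := reps0) (by simp [repLists]) (by decide), (f152 H)⟩
  · exact ⟨[9, 3, 5, 2], mem_reps (l := reps2) (by simp [repLists]) (by decide), (f612 H)⟩
  · exact ⟨[9, 3, 2, 1], mem_reps (l := reps2) (by simp [repLists]) (by decide), (f604 H)⟩
  · exact ⟨[9, 3, 2, 6], mem_reps (l := reps2) (by simp [repLists]) (by decide), (f595 H)⟩
  · exact ⟨[8, 9], mem_reps (l := reps0) (by simp [repLists]) (by decide), (f166 H)⟩
  · exact ⟨[8, 9, 2, 1], mem_reps (l := reps3) (by simp [repLists]) (by decide), (f670 H)⟩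
  · exact ⟨[8, 9, 2, 6], mem_reps (l := reps3) (by simp [repLists]) (by decide), (f661 H)⟩

theorem step3_0 : ∀ w ∈ reps0, ∃ w' ∈ reps, g 3 • path g w p = path g w' p := by
  intro w hw
  simp only [reps0, List.mem_cons, List.not_mem_nil, or_false] at hw
  rcases hw with rfl | rfl | rfl | rfl | rfl | rfl | rfl | rfl | rfl | rfl | rfl | rfl | rfl | rfl | rfl | rfl | rfl | rfl | rfl | rfl | rfl | rfl | rfl | rfl | rfl | rfl | rfl | rfl | rfl | rfl | rfl | rfl | rfl
  · exact ⟨[3], mem_reps (l := reps0) (by simp [repLists]) (by decide), (f16 H)⟩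
  · exact ⟨[9, 3], mem_reps (l := reps0) (by simp [repLists]) (by decide), (f38 H)⟩
  · exact ⟨[], mem_reps (l := reps0) (by simp [repLists]) (by decide), (f13 H)⟩
  · exact ⟨[8], mem_reps (l := reps0) (by simp [repLists]) (by decide), (f18 H)⟩
  · exact ⟨[8, 9], mem_reps (l := reps0) (by simp [repLists]) (by decide), (f45 H)⟩
  · exact ⟨[9], mem_reps (l := reps0) (by simp [repLists]) (by decide), (f29 H)⟩
  · exact ⟨[9, 2, 3], mem_reps (l := reps0) (by simp [repLists]) (by decide), (f132 H)⟩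
  · exact ⟨[9, 8], mem_reps (l := reps0) (by simp [repLists]) (by decide), (f40 H)⟩
  · exact ⟨[4, 8], mem_reps (l := reps0) (by simp [repLists]) (by decide), (f93 H)⟩
  · exact ⟨[8, 6, 3], mem_reps (l := reps1) (by simp [repLists]) (by decide), (f228 H)⟩
  · exact ⟨[8, 1, 3], mem_reps (l := reps1) (by simp [repLists]) (by decide), (f244 H)⟩
  · exact ⟨[3, 9], mem_reps (l := reps0) (by simp [repLists]) (by decide), (f75 H)⟩
  · exact ⟨[9, 3, 9], mem_reps (l := reps0) (by simp [repLists]) (by decide), (f147 H)⟩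
  · exact ⟨[3, 6, 3], mem_reps (l := reps1) (by simp [repLists]) (by decide), (f316 H)⟩
  · exact ⟨[3, 1, 3], mem_reps (l := reps1) (by simp [repLists]) (by decide), (f324 H)⟩
  · exact ⟨[4], mem_reps (l := reps0) (by simp [repLists]) (by decide), (f91 H)⟩
  · exact ⟨[4, 2, 3], mem_reps (l := reps1) (by simp [repLists]) (by decide), (f358 H)⟩
  · exact ⟨[9, 8, 2, 3], mem_reps (l := reps1) (by simp [repLists]) (by decide), (f376 H)⟩
  · exact ⟨[9, 8, 6, 3], mem_reps (l := reps1) (by simp [repLists]) (by decide), (f428 H)⟩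
  · exact ⟨[9, 8, 1, 3], mem_reps (l := reps2) (by simp [repLists]) (by decide), (f436 H)⟩
  · exact ⟨[9, 2, 9, 3], mem_reps (l := reps2) (by simp [repLists]) (by decide), (f458 H)⟩
  · exact ⟨[9, 2], mem_reps (l := reps0) (by simp [repLists]) (by decide), (f127 H)⟩
  · exact ⟨[8, 4, 2], mem_reps (l := reps1) (by simp [repLists]) (by decide), (f3288 H)⟩
  · exact ⟨[9, 2, 8], mem_reps (l := reps0) (by simp [repLists]) (by decide), (f134 H)⟩
  · exact ⟨[9, 2, 8, 9], mem_reps (l := reps2) (by simp [repLists]) (by decide), (f465 H)⟩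
  · exact ⟨[8, 4], mem_reps (l := reps0) (by simp [repLists]) (by decide), (f149 H)⟩
  · exact ⟨[9, 3, 2, 3], mem_reps (l := reps2) (by simp [repLists]) (by decide), (f588 H)⟩
  · exact ⟨[9, 3, 9, 5], mem_reps (l := reps2) (by simp [repLists]) (by decide), (f3209 H)⟩
  · exact ⟨[9, 3, 6, 3], mem_reps (l := reps2) (by simp [repLists]) (by decide), (f632 H)⟩
  · exact ⟨[9, 8, 2, 9], mem_reps (l := reps1) (by simp [repLists]) (by decide), (f1657 H)⟩
  · exact ⟨[9, 2, 8, 2], mem_reps (l := reps2) (by simp [repLists]) (by decide), (f3242 H)⟩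
  · exact ⟨[8, 9, 6, 3], mem_reps (l := reps3) (by simp [repLists]) (by decide), (f708 H)⟩
  · exact ⟨[8, 9, 1, 3], mem_reps (l := reps3) (by simp [repLists]) (by decide), (f716 H)⟩

theorem step4_0 : ∀ w ∈ reps0, ∃ w' ∈ reps, g 4 • path g w p = path g w' p := by
  intro w hw
  simp only [reps0, List.mem_cons, List.not_mem_nil, or_false] at hw
  rcases hw with rfl | rfl | rfl | rfl | rfl | rfl | rfl | rfl | rfl | rfl | rfl | rfl | rfl | rfl | rfl | rfl | rfl | rfl | rfl | rfl | rfl | rfl | rfl | rfl | rfl | rfl | rfl | rfl | rfl | rfl | rfl | rfl | rfl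
  · exact ⟨[4], mem_reps (l := reps0) (by simp [repLists]) (by decide), (f20 H)⟩
  · exact ⟨[], mem_reps (l := reps0) (by simp [repLists]) (by decide), (f7 H)⟩
  · exact ⟨[8, 4], mem_reps (l := reps0) (by simp [repLists]) (by decide), (f66 H)⟩
  · exact ⟨[9, 8], mem_reps (l := reps0) (by simp [repLists]) (by decide), (f31 H)⟩
  · exact ⟨[9], mem_reps (l := reps0) (by simp [repLists]) (by decide), (f22 H)⟩
  · exact ⟨[3, 9], mem_reps (l := reps0) (by simp [repLists]) (by decide), (f73 H)⟩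
  · exact ⟨[9, 2, 4], mem_reps (l := reps0) (by simp [repLists]) (by decide), (f136 H)⟩
  · exact ⟨[4, 8], mem_reps (l := reps0) (by simp [repLists]) (by decide), (f95 H)⟩
  · exact ⟨[8], mem_reps (l := reps0) (by simp [repLists]) (by decide), (f43 H)⟩
  · exact ⟨[8, 6, 4], mem_reps (l := reps1) (by simp [repLists]) (by decide), (f232 H)⟩
  · exact ⟨[8, 1, 4], mem_reps (l := reps1) (by simp [repLists]) (by decide), (f248 H)⟩
  · exact ⟨[8, 9], mem_reps (l := reps0) (by simp [repLists]) (by decide), (f68 H)⟩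
  · exact ⟨[3], mem_reps (l := reps0) (by simp [repLists]) (by decide), (f71 H)⟩
  · exact ⟨[9, 8, 6], mem_reps (l := reps0) (by simp [repLists]) (by decide), (f115 H)⟩
  · exact ⟨[9, 8, 1], mem_reps (l := reps0) (by simp [repLists]) (by decide), (f121 H)⟩
  · exact ⟨[9, 3, 9], mem_reps (l := reps0) (by simp [repLists]) (by decide), (f145 H)⟩
  · exact ⟨[4, 2, 4], mem_reps (l := reps1) (by simp [repLists]) (by decide), (f362 H)⟩
  · exact ⟨[9, 8, 2, 4], mem_reps (l := reps1) (by simp [repLists]) (by decide), (f394 H)⟩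
  · exact ⟨[3, 9, 6], mem_reps (l := reps1) (by simp [repLists]) (by decide), (f275 H)⟩
  · exact ⟨[3, 9, 1], mem_reps (l := reps1) (by simp [repLists]) (by decide), (f287 H)⟩
  · exact ⟨[9, 2], mem_reps (l := reps0) (by simp [repLists]) (by decide), (f123 H)⟩
  · exact ⟨[9, 2, 8, 4], mem_reps (l := reps2) (by simp [repLists]) (by decide), (f480 H)⟩
  · exact ⟨[9, 2, 5, 4], mem_reps (l := reps2) (by simp [repLists]) (by decide), (f514 H)⟩
  · exact ⟨[9, 2, 9, 8], mem_reps (l := reps2) (by simp [repLists]) (by decide), (f445 H)⟩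
  · exact ⟨[9, 2, 9], mem_reps (l := reps0) (by simp [repLists]) (by decide), (f138 H)⟩
  · exact ⟨[9, 3], mem_reps (l := reps0) (by simp [repLists]) (by decide), (f143 H)⟩
  · exact ⟨[9, 3, 2, 4], mem_reps (l := reps2) (by simp [repLists]) (by decide), (f606 H)⟩
  · exact ⟨[4, 8, 5], mem_reps (l := reps1) (by simp [repLists]) (by decide), (f337 H)⟩
  · exact ⟨[4, 8, 6], mem_reps (l := reps1) (by simp [repLists]) (by decide), (f341 H)⟩
  · exact ⟨[4, 8, 1], mem_reps (l := reps1) (by simp [repLists]) (by decide), (f347 H)⟩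
  · exact ⟨[8, 9, 2, 4], mem_reps (l := reps3) (by simp [repLists]) (by decide), (f672 H)⟩
  · exact ⟨[8, 6], mem_reps (l := reps0) (by simp [repLists]) (by decide), (f176 H)⟩
  · exact ⟨[8, 1], mem_reps (l := reps0) (by simp [repLists]) (by decide), (f184 H)⟩

theorem step0_1 : ∀ w ∈ reps1, ∃ w' ∈ reps, g 0 • path g w p = path g w' p := by
  intro w hw
  simp only [reps1, List.mem_cons, List.not_mem_nil, or_false] at hw
  rcases hw with rfl | rfl | rfl | rfl | rfl | rfl | rfl | rfl | rfl | rfl | rfl | rfl | rfl | rfl | rfl | rfl | rfl | rfl | rfl | rfl | rfl | rfl | rfl | rfl | rfl | rfl | rfl | rfl | rfl | rfl | rfl | rfl | rfl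
  · exact ⟨[8, 6, 3], mem_reps (l := reps1) (by simp [repLists]) (by decide), (f7185 H)⟩
  · exact ⟨[8, 6, 8], mem_reps (l := reps1) (by simp [repLists]) (by decide), (f7129 H)⟩
  · exact ⟨[8, 6, 4], mem_reps (l := reps1) (by simp [repLists]) (by decide), (f237 H)⟩
  · exact ⟨[3, 1, 3], mem_reps (l := reps1) (by simp [repLists]) (by decide), (f7186 H)⟩
  · exact ⟨[3, 1, 8], mem_reps (l := reps1) (by simp [repLists]) (by decide), (f7332 H)⟩
  · exact ⟨[9, 8, 1], mem_reps (l := reps0) (by simp [repLists]) (by decide), (f2495 H)⟩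
  · exact ⟨[8, 4, 2, 5], mem_reps (l := reps3) (by simp [repLists]) (by decide), (f935 H)⟩
  · exact ⟨[9, 8, 2, 8], mem_reps (l := reps1) (by simp [repLists]) (by decide), (f3390 H)⟩
  · exact ⟨[3, 9, 6], mem_reps (l := reps1) (by simp [repLists]) (by decide), (f278 H)⟩
  · exact ⟨[8, 9, 1], mem_reps (l := reps0) (by simp [repLists]) (by decide), (f2073 H)⟩
  · exact ⟨[3, 6, 3], mem_reps (l := reps1) (by simp [repLists]) (by decide), (f7331 H)⟩
  · exact ⟨[3, 6, 8], mem_reps (l := reps1) (by simp [repLists]) (by decide), (f6902 H)⟩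
  · exact ⟨[8, 1, 3], mem_reps (l := reps1) (by simp [repLists]) (by decide), (f6986 H)⟩
  · exact ⟨[8, 1, 8], mem_reps (l := reps1) (by simp [repLists]) (by decide), (f6708 H)⟩
  · exact ⟨[9, 2, 3, 2], mem_reps (l := reps2) (by simp [repLists]) (by decide), (f3124 H)⟩
  · exact ⟨[4, 8], mem_reps (l := reps0) (by simp [repLists]) (by decide), (f333 H)⟩
  · exact ⟨[4, 8, 6], mem_reps (l := reps1) (by simp [repLists]) (by decide), (f1640 H)⟩
  · exact ⟨[4, 8, 5, 1], mem_reps (l := reps4) (by simp [repLists]) (by decide), (f1628 H)⟩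
  · exact ⟨[4, 2, 9, 5], mem_reps (l := reps4) (by simp [repLists]) (by decide), (f1259 H)⟩
  · exact ⟨[8, 9, 2], mem_reps (l := reps0) (by simp [repLists]) (by decide), (f2853 H)⟩
  · exact ⟨[4, 2], mem_reps (l := reps0) (by simp [repLists]) (by decide), (f355 H)⟩
  · exact ⟨[9, 3, 2, 3], mem_reps (l := reps2) (by simp [repLists]) (by decide), (f2843 H)⟩
  · exact ⟨[4, 2, 5, 4], mem_reps (l := reps5) (by simp [repLists]) (by decide), (f1309 H)⟩
  · exact ⟨[9, 8, 2, 9, 5], mem_reps (l := reps5) (by simp [repLists]) (by decide), (f1363 H)⟩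
  · exact ⟨[3, 9, 2], mem_reps (l := reps1) (by simp [repLists]) (by decide), (f3397 H)⟩
  · exact ⟨[9, 8, 2], mem_reps (l := reps0) (by simp [repLists]) (by decide), (f373 H)⟩
  · exact ⟨[9, 2, 5, 2], mem_reps (l := reps2) (by simp [repLists]) (by decide), (f490 H)⟩
  · exact ⟨[4, 8, 2, 6], mem_reps (l := reps4) (by simp [repLists]) (by decide), (f1754 H)⟩
  · exact ⟨[9, 8, 2, 1, 5], mem_reps (l := reps5) (by simp [repLists]) (by decide), (f1689 H)⟩
  · exact ⟨[9, 8, 2, 5, 4], mem_reps (l := reps5) (by simp [repLists]) (by decide), (f1435 H)⟩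
  · exact ⟨[9, 8, 6, 8, 5], mem_reps (l := reps5) (by simp [repLists]) (by decide), (f2868 H)⟩
  · exact ⟨[3, 6, 3, 9], mem_reps (l := reps4) (by simp [repLists]) (by decide), (f6889 H)⟩
  · exact ⟨[9, 8, 1, 8, 5], mem_reps (l := reps6) (by simp [repLists]) (by decide), (f2914 H)⟩

theorem step1_1 : ∀ w ∈ reps1, ∃ w' ∈ reps, g 1 • path g w p = path g w' p := by
  intro w hw
  simp only [reps1, List.mem_cons, List.not_mem_nil, or_false] at hw
  rcases hw with rfl | rfl | rfl | rfl | rfl | rfl | rfl | rfl | rfl | rfl | rfl | rfl | rfl | rfl | rfl | rfl | rfl | rfl | rfl | rfl | rfl | rfl | rfl | rfl | rfl | rfl | rfl | rfl | rfl | rfl | rfl | rfl | rfl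
  · exact ⟨[8, 6, 8, 1], mem_reps (l := reps3) (by simp [repLists]) (by decide), (f824 H)⟩
  · exact ⟨[8, 6, 3, 1], mem_reps (l := reps3) (by simp [repLists]) (by decide), (f852 H)⟩
  · exact ⟨[8, 4], mem_reps (l := reps0) (by simp [repLists]) (by decide), (f238 H)⟩
  · exact ⟨[8, 1, 8, 1], mem_reps (l := reps3) (by simp [repLists]) (by decide), (f882 H)⟩
  · exact ⟨[8, 1, 3, 1], mem_reps (l := reps3) (by simp [repLists]) (by decide), (f910 H)⟩
  · exact ⟨[8, 6, 4], mem_reps (l := reps1) (by simp [repLists]) (by decide), (f254 H)⟩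
  · exact ⟨[8, 6, 4, 2], mem_reps (l := reps3) (by simp [repLists]) (by decide), (f866 H)⟩
  · exact ⟨[3, 9, 2, 1], mem_reps (l := reps3) (by simp [repLists]) (by decide), (f962 H)⟩
  · exact ⟨[3, 9], mem_reps (l := reps0) (by simp [repLists]) (by decide), (f273 H)⟩
  · exact ⟨[3, 9, 6], mem_reps (l := reps1) (by simp [repLists]) (by decide), (f282 H)⟩
  · exact ⟨[3, 6, 8, 1], mem_reps (l := reps4) (by simp [repLists]) (by decide), (f1094 H)⟩
  · exact ⟨[3, 6, 3, 1], mem_reps (l := reps4) (by simp [repLists]) (by decide), (f1122 H)⟩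
  · exact ⟨[3, 1, 8, 1], mem_reps (l := reps4) (by simp [repLists]) (by decide), (f1136 H)⟩
  · exact ⟨[3, 1, 3, 1], mem_reps (l := reps4) (by simp [repLists]) (by decide), (f1164 H)⟩
  · exact ⟨[4, 8, 2, 1], mem_reps (l := reps4) (by simp [repLists]) (by decide), (f1184 H)⟩
  · exact ⟨[4, 8, 5, 1], mem_reps (l := reps4) (by simp [repLists]) (by decide), (f1212 H)⟩
  · exact ⟨[4, 8], mem_reps (l := reps0) (by simp [repLists]) (by decide), (f339 H)⟩
  · exact ⟨[4, 8, 6], mem_reps (l := reps1) (by simp [repLists]) (by decide), (f344 H)⟩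
  · exact ⟨[4, 2, 9], mem_reps (l := reps1) (by simp [repLists]) (by decide), (f350 H)⟩
  · exact ⟨[4, 2, 8, 1], mem_reps (l := reps5) (by simp [repLists]) (by decide), (f1280 H)⟩
  · exact ⟨[9, 3, 9, 2], mem_reps (l := reps2) (by simp [repLists]) (by decide), (f1533 H)⟩
  · exact ⟨[4, 2, 3, 1], mem_reps (l := reps5) (by simp [repLists]) (by decide), (f1336 H)⟩
  · exact ⟨[4, 2, 4], mem_reps (l := reps1) (by simp [repLists]) (by decide), (f367 H)⟩
  · exact ⟨[9, 8, 2, 9, 1], mem_reps (l := reps5) (by simp [repLists]) (by decide), (f1374 H)⟩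
  · exact ⟨[9, 8, 2, 8, 1], mem_reps (l := reps5) (by simp [repLists]) (by decide), (f1394 H)⟩
  · exact ⟨[9, 8, 2, 5, 1], mem_reps (l := reps5) (by simp [repLists]) (by decide), (f1426 H)⟩
  · exact ⟨[9, 3, 9, 6], mem_reps (l := reps2) (by simp [repLists]) (by decide), (f1553 H)⟩
  · exact ⟨[9, 8, 2], mem_reps (l := reps0) (by simp [repLists]) (by decide), (f381 H)⟩
  · exact ⟨[9, 8, 2, 6], mem_reps (l := reps1) (by simp [repLists]) (by decide), (f388 H)⟩
  · exact ⟨[9, 8, 2, 1, 4], mem_reps (l := reps5) (by simp [repLists]) (by decide), (f1699 H)⟩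
  · exact ⟨[9, 8, 6, 8, 1], mem_reps (l := reps5) (by simp [repLists]) (by decide), (f2871 H)⟩
  · exact ⟨[9, 8, 6, 3, 1], mem_reps (l := reps6) (by simp [repLists]) (by decide), (f2897 H)⟩
  · exact ⟨[9, 8, 1, 8, 2], mem_reps (l := reps6) (by simp [repLists]) (by decide), (f9391 H)⟩

theorem step2_1 : ∀ w ∈ reps1, ∃ w' ∈ reps, g 2 • path g w p = path g w' p := by
  intro w hw
  simp only [reps1, List.mem_cons, List.not_mem_nil, or_false] at hw
  rcases hw with rfl | rfl | rfl | rfl | rfl | rfl | rfl | rfl | rfl | rfl | rfl | rfl | rfl | rfl | rfl | rfl | rfl | rfl | rfl | rfl | rfl | rfl | rfl | rfl | rfl | rfl | rfl | rfl | rfl | rfl | rfl | rfl | rfl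
  · exact ⟨[8, 6, 8], mem_reps (l := reps1) (by simp [repLists]) (by decide), (f226 H)⟩
  · exact ⟨[3, 1, 3], mem_reps (l := reps1) (by simp [repLists]) (by decide), (f4072 H)⟩
  · exact ⟨[8, 6, 4, 2], mem_reps (l := reps3) (by simp [repLists]) (by decide), (f862 H)⟩
  · exact ⟨[8, 1, 8], mem_reps (l := reps1) (by simp [repLists]) (by decide), (f242 H)⟩
  · exact ⟨[3, 6, 3], mem_reps (l := reps1) (by simp [repLists]) (by decide), (f4087 H)⟩
  · exact ⟨[8, 1, 4, 2], mem_reps (l := reps3) (by simp [repLists]) (by decide), (f920 H)⟩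
  · exact ⟨[8, 4], mem_reps (l := reps0) (by simp [repLists]) (by decide), (f258 H)⟩
  · exact ⟨[3, 9], mem_reps (l := reps0) (by simp [repLists]) (by decide), (f262 H)⟩
  · exact ⟨[3, 9, 2, 1], mem_reps (l := reps3) (by simp [repLists]) (by decide), (f968 H)⟩
  · exact ⟨[3, 9, 2, 6], mem_reps (l := reps3) (by simp [repLists]) (by decide), (f959 H)⟩
  · exact ⟨[3, 6, 8], mem_reps (l := reps1) (by simp [repLists]) (by decide), (f314 H)⟩
  · exact ⟨[8, 1, 3], mem_reps (l := reps1) (by simp [repLists]) (by decide), (f4282 H)⟩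
  · exact ⟨[3, 1, 8], mem_reps (l := reps1) (by simp [repLists]) (by decide), (f322 H)⟩
  · exact ⟨[8, 6, 3], mem_reps (l := reps1) (by simp [repLists]) (by decide), (f4090 H)⟩
  · exact ⟨[4, 8], mem_reps (l := reps0) (by simp [repLists]) (by decide), (f330 H)⟩
  · exact ⟨[4, 8, 5, 2], mem_reps (l := reps4) (by simp [repLists]) (by decide), (f1198 H)⟩
  · exact ⟨[4, 8, 2, 1], mem_reps (l := reps4) (by simp [repLists]) (by decide), (f1190 H)⟩
  · exact ⟨[4, 8, 2, 6], mem_reps (l := reps4) (by simp [repLists]) (by decide), (f1181 H)⟩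
  · exact ⟨[9, 2, 4], mem_reps (l := reps0) (by simp [repLists]) (by decide), (f11335 H)⟩
  · exact ⟨[9, 3, 2, 3], mem_reps (l := reps2) (by simp [repLists]) (by decide), (f1466 H)⟩
  · exact ⟨[9, 8, 2, 3], mem_reps (l := reps1) (by simp [repLists]) (by decide), (f492 H)⟩
  · exact ⟨[9, 8, 2, 5], mem_reps (l := reps1) (by simp [repLists]) (by decide), (f2159 H)⟩
  · exact ⟨[4, 2, 4], mem_reps (l := reps1) (by simp [repLists]) (by decide), (f10238 H)⟩
  · exact ⟨[9, 8, 2, 9, 2], mem_reps (l := reps5) (by simp [repLists]) (by decide), (f1356 H)⟩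
  · exact ⟨[9, 8, 2, 8, 2], mem_reps (l := reps5) (by simp [repLists]) (by decide), (f1384 H)⟩
  · exact ⟨[4, 2, 3], mem_reps (l := reps1) (by simp [repLists]) (by decide), (f2841 H)⟩
  · exact ⟨[4, 2, 5], mem_reps (l := reps1) (by simp [repLists]) (by decide), (f494 H)⟩
  · exact ⟨[9, 8, 1], mem_reps (l := reps0) (by simp [repLists]) (by decide), (f385 H)⟩
  · exact ⟨[9, 8, 6], mem_reps (l := reps0) (by simp [repLists]) (by decide), (f390 H)⟩
  · exact ⟨[9, 8, 2, 1, 4], mem_reps (l := reps5) (by simp [repLists]) (by decide), (f10695 H)⟩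
  · exact ⟨[9, 8, 6, 8, 2], mem_reps (l := reps5) (by simp [repLists]) (by decide), (f2861 H)⟩
  · exact ⟨[9, 8, 6, 3, 2], mem_reps (l := reps5) (by simp [repLists]) (by decide), (f2883 H)⟩
  · exact ⟨[9, 8, 1, 8, 2], mem_reps (l := reps6) (by simp [repLists]) (by decide), (f2903 H)⟩

theorem step3_1 : ∀ w ∈ reps1, ∃ w' ∈ reps, g 3 • path g w p = path g w' p := by
  intro w hw
  simp only [reps1, List.mem_cons, List.not_mem_nil, or_false] at hw
  rcases hw with rfl | rfl | rfl | rfl | rfl | rfl | rfl | rfl | rfl | rfl | rfl | rfl | rfl | rfl | rfl | rfl | rfl | rfl | rfl | rfl | rfl | rfl | rfl | rfl | rfl | rfl | rfl | rfl | rfl | rfl | rfl | rfl | rfl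
  · exact ⟨[8, 6], mem_reps (l := reps0) (by simp [repLists]) (by decide), (f225 H)⟩
  · exact ⟨[8, 6, 8], mem_reps (l := reps1) (by simp [repLists]) (by decide), (f230 H)⟩
  · exact ⟨[8, 6, 8, 9], mem_reps (l := reps3) (by simp [repLists]) (by decide), (f817 H)⟩
  · exact ⟨[8, 1], mem_reps (l := reps0) (by simp [repLists]) (by decide), (f241 H)⟩
  · exact ⟨[8, 1, 8], mem_reps (l := reps1) (by simp [repLists]) (by decide), (f246 H)⟩
  · exact ⟨[8, 1, 8, 9], mem_reps (l := reps3) (by simp [repLists]) (by decide), (f871 H)⟩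
  · exact ⟨[9, 2, 5, 8], mem_reps (l := reps2) (by simp [repLists]) (by decide), (f3272 H)⟩
  · exact ⟨[9, 3, 9, 6], mem_reps (l := reps2) (by simp [repLists]) (by decide), (f1500 H)⟩
  · exact ⟨[3, 9, 6, 3], mem_reps (l := reps4) (by simp [repLists]) (by decide), (f1012 H)⟩
  · exact ⟨[3, 9, 1, 3], mem_reps (l := reps4) (by simp [repLists]) (by decide), (f1022 H)⟩
  · exact ⟨[3, 6], mem_reps (l := reps0) (by simp [repLists]) (by decide), (f313 H)⟩
  · exact ⟨[3, 6, 8], mem_reps (l := reps1) (by simp [repLists]) (by decide), (f318 H)⟩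
  · exact ⟨[3, 1], mem_reps (l := reps0) (by simp [repLists]) (by decide), (f321 H)⟩
  · exact ⟨[3, 1, 8], mem_reps (l := reps1) (by simp [repLists]) (by decide), (f326 H)⟩
  · exact ⟨[9, 2, 5, 2], mem_reps (l := reps2) (by simp [repLists]) (by decide), (f499 H)⟩
  · exact ⟨[9, 3, 5], mem_reps (l := reps0) (by simp [repLists]) (by decide), (f3184 H)⟩
  · exact ⟨[4, 8, 6, 3], mem_reps (l := reps4) (by simp [repLists]) (by decide), (f1226 H)⟩
  · exact ⟨[4, 8, 1, 3], mem_reps (l := reps4) (by simp [repLists]) (by decide), (f1240 H)⟩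
  · exact ⟨[4, 2, 9, 3], mem_reps (l := reps4) (by simp [repLists]) (by decide), (f1262 H)⟩
  · exact ⟨[4, 2], mem_reps (l := reps0) (by simp [repLists]) (by decide), (f353 H)⟩
  · exact ⟨[4, 8, 5, 2], mem_reps (l := reps4) (by simp [repLists]) (by decide), (f3577 H)⟩
  · exact ⟨[4, 2, 8], mem_reps (l := reps1) (by simp [repLists]) (by decide), (f360 H)⟩
  · exact ⟨[4, 2, 8, 9], mem_reps (l := reps4) (by simp [repLists]) (by decide), (f1269 H)⟩
  · exact ⟨[9, 3, 1, 8], mem_reps (l := reps2) (by simp [repLists]) (by decide), (f1597 H)⟩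
  · exact ⟨[9, 8, 2], mem_reps (l := reps0) (by simp [repLists]) (by decide), (f371 H)⟩
  · exact ⟨[9, 3, 5, 2], mem_reps (l := reps2) (by simp [repLists]) (by decide), (f3198 H)⟩
  · exact ⟨[9, 8, 2, 8], mem_reps (l := reps1) (by simp [repLists]) (by decide), (f378 H)⟩
  · exact ⟨[9, 8, 2, 9, 6], mem_reps (l := reps5) (by simp [repLists]) (by decide), (f8821 H)⟩
  · exact ⟨[9, 8, 2, 1, 3], mem_reps (l := reps5) (by simp [repLists]) (by decide), (f1690 H)⟩
  · exact ⟨[9, 8, 2, 8, 9], mem_reps (l := reps5) (by simp [repLists]) (by decide), (f1383 H)⟩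
  · exact ⟨[9, 8, 6], mem_reps (l := reps0) (by simp [repLists]) (by decide), (f427 H)⟩
  · exact ⟨[9, 8, 6, 8], mem_reps (l := reps1) (by simp [repLists]) (by decide), (f430 H)⟩
  · exact ⟨[9, 8, 1], mem_reps (l := reps0) (by simp [repLists]) (by decide), (f435 H)⟩

theorem step4_1 : ∀ w ∈ reps1, ∃ w' ∈ reps, g 4 • path g w p = path g w' p := by
  intro w hw
  simp only [reps1, List.mem_cons, List.not_mem_nil, or_false] at hw
  rcases hw with rfl | rfl | rfl | rfl | rfl | rfl | rfl | rfl | rfl | rfl | rfl | rfl | rfl | rfl | rfl | rfl | rfl | rfl | rfl | rfl | rfl | rfl | rfl | rfl | rfl | rfl | rfl | rfl | rfl | rfl | rfl | rfl | rfl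
  · exact ⟨[8, 6, 8, 4], mem_reps (l := reps3) (by simp [repLists]) (by decide), (f832 H)⟩
  · exact ⟨[8, 9, 6, 8], mem_reps (l := reps3) (by simp [repLists]) (by decide), (f707 H)⟩
  · exact ⟨[8, 9, 6], mem_reps (l := reps0) (by simp [repLists]) (by decide), (f234 H)⟩
  · exact ⟨[8, 1, 8, 4], mem_reps (l := reps3) (by simp [repLists]) (by decide), (f890 H)⟩
  · exact ⟨[8, 9, 1, 8], mem_reps (l := reps3) (by simp [repLists]) (by decide), (f715 H)⟩
  · exact ⟨[8, 9, 1], mem_reps (l := reps0) (by simp [repLists]) (by decide), (f250 H)⟩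
  · exact ⟨[8, 4, 2, 4], mem_reps (l := reps3) (by simp [repLists]) (by decide), (f940 H)⟩
  · exact ⟨[3, 9, 2, 4], mem_reps (l := reps3) (by simp [repLists]) (by decide), (f970 H)⟩
  · exact ⟨[3, 6], mem_reps (l := reps0) (by simp [repLists]) (by decide), (f276 H)⟩
  · exact ⟨[3, 1], mem_reps (l := reps0) (by simp [repLists]) (by decide), (f284 H)⟩
  · exact ⟨[3, 6, 8, 4], mem_reps (l := reps4) (by simp [repLists]) (by decide), (f1102 H)⟩
  · exact ⟨[3, 9, 6, 8], mem_reps (l := reps4) (by simp [repLists]) (by decide), (f1011 H)⟩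
  · exact ⟨[3, 1, 8, 4], mem_reps (l := reps4) (by simp [repLists]) (by decide), (f1144 H)⟩
  · exact ⟨[3, 9, 1, 8], mem_reps (l := reps4) (by simp [repLists]) (by decide), (f1021 H)⟩
  · exact ⟨[4, 8, 2, 4], mem_reps (l := reps4) (by simp [repLists]) (by decide), (f1192 H)⟩
  · exact ⟨[9, 3, 9, 5], mem_reps (l := reps2) (by simp [repLists]) (by decide), (f563 H)⟩
  · exact ⟨[9, 3, 9, 6], mem_reps (l := reps2) (by simp [repLists]) (by decide), (f569 H)⟩
  · exact ⟨[9, 8, 2, 3], mem_reps (l := reps1) (by simp [repLists]) (by decide), (f1560 H)⟩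
  · exact ⟨[4, 2], mem_reps (l := reps0) (by simp [repLists]) (by decide), (f349 H)⟩
  · exact ⟨[4, 2, 8, 4], mem_reps (l := reps5) (by simp [repLists]) (by decide), (f1284 H)⟩
  · exact ⟨[4, 2, 5, 4], mem_reps (l := reps5) (by simp [repLists]) (by decide), (f1304 H)⟩
  · exact ⟨[4, 2, 9, 8], mem_reps (l := reps4) (by simp [repLists]) (by decide), (f1249 H)⟩
  · exact ⟨[4, 2, 9], mem_reps (l := reps1) (by simp [repLists]) (by decide), (f364 H)⟩
  · exact ⟨[9, 8, 2], mem_reps (l := reps0) (by simp [repLists]) (by decide), (f369 H)⟩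
  · exact ⟨[4, 8, 1, 8], mem_reps (l := reps4) (by simp [repLists]) (by decide), (f1569 H)⟩
  · exact ⟨[9, 8, 2, 5, 4], mem_reps (l := reps5) (by simp [repLists]) (by decide), (f1430 H)⟩
  · exact ⟨[9, 3, 1], mem_reps (l := reps0) (by simp [repLists]) (by decide), (f1612 H)⟩
  · exact ⟨[9, 8, 2, 6, 4], mem_reps (l := reps5) (by simp [repLists]) (by decide), (f1678 H)⟩
  · exact ⟨[9, 8, 2, 1, 4], mem_reps (l := reps5) (by simp [repLists]) (by decide), (f1694 H)⟩
  · exact ⟨[9, 8, 2, 9], mem_reps (l := reps1) (by simp [repLists]) (by decide), (f396 H)⟩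
  · exact ⟨[9, 8, 6, 8, 4], mem_reps (l := reps5) (by simp [repLists]) (by decide), (f2875 H)⟩
  · exact ⟨[3, 6, 8], mem_reps (l := reps1) (by simp [repLists]) (by decide), (f432 H)⟩
  · exact ⟨[9, 8, 1, 8, 4], mem_reps (l := reps6) (by simp [repLists]) (by decide), (f2921 H)⟩

theorem step0_2 : ∀ w ∈ reps2, ∃ w' ∈ reps, g 0 • path g w p = path g w' p := by
  intro w hw
  simp only [reps2, List.mem_cons, List.not_mem_nil, or_false] at hw
  rcases hw with rfl | rfl | rfl | rfl | rfl | rfl | rfl | rfl | rfl | rfl | rfl | rfl | rfl | rfl | rfl | rfl | rfl | rfl | rfl | rfl | rfl | rfl | rfl | rfl | rfl | rfl | rfl | rfl | rfl | rfl | rfl | rfl | rfl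
  · exact ⟨[8, 1, 3, 9], mem_reps (l := reps3) (by simp [repLists]) (by decide), (f7199 H)⟩
  · exact ⟨[9, 2, 9, 8, 5], mem_reps (l := reps6) (by simp [repLists]) (by decide), (f2956 H)⟩
  · exact ⟨[9, 2, 9], mem_reps (l := reps0) (by simp [repLists]) (by decide), (f453 H)⟩
  · exact ⟨[9, 2, 9, 3, 5], mem_reps (l := reps6) (by simp [repLists]) (by decide), (f3032 H)⟩
  · exact ⟨[9, 3, 2, 9], mem_reps (l := reps2) (by simp [repLists]) (by decide), (f3092 H)⟩
  · exact ⟨[9, 2, 3], mem_reps (l := reps0) (by simp [repLists]) (by decide), (f3135 H)⟩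
  · exact ⟨[9, 2, 8, 6, 5], mem_reps (l := reps6) (by simp [repLists]) (by decide), (f3302 H)⟩
  · exact ⟨[8, 6, 4, 2], mem_reps (l := reps3) (by simp [repLists]) (by decide), (f3072 H)⟩
  · exact ⟨[9, 3, 2, 4], mem_reps (l := reps2) (by simp [repLists]) (by decide), (f3249 H)⟩
  · exact ⟨[9, 8, 2, 8, 2], mem_reps (l := reps5) (by simp [repLists]) (by decide), (f3379 H)⟩
  · exact ⟨[9, 8, 2, 3], mem_reps (l := reps1) (by simp [repLists]) (by decide), (f497 H)⟩
  · exact ⟨[9, 2, 5, 1], mem_reps (l := reps2) (by simp [repLists]) (by decide), (f512 H)⟩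
  · exact ⟨[9, 2, 5, 6], mem_reps (l := reps2) (by simp [repLists]) (by decide), (f510 H)⟩
  · exact ⟨[9, 2, 4], mem_reps (l := reps0) (by simp [repLists]) (by decide), (f520 H)⟩
  · exact ⟨[9, 8, 1, 8, 6], mem_reps (l := reps6) (by simp [repLists]) (by decide), (f5667 H)⟩
  · exact ⟨[4, 8, 2], mem_reps (l := reps1) (by simp [repLists]) (by decide), (f3119 H)⟩
  · exact ⟨[9, 8, 2, 4, 8], mem_reps (l := reps5) (by simp [repLists]) (by decide), (f8667 H)⟩
  · exact ⟨[9, 2, 3, 1, 5], mem_reps (l := reps7) (by simp [repLists]) (by decide), (f3511 H)⟩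
  · exact ⟨[9, 2, 4, 8, 5], mem_reps (l := reps7) (by simp [repLists]) (by decide), (f3525 H)⟩
  · exact ⟨[8, 9, 2, 8], mem_reps (l := reps3) (by simp [repLists]) (by decide), (f3225 H)⟩
  · exact ⟨[9, 3, 9], mem_reps (l := reps0) (by simp [repLists]) (by decide), (f559 H)⟩
  · exact ⟨[9, 3, 9, 6], mem_reps (l := reps2) (by simp [repLists]) (by decide), (f1512 H)⟩
  · exact ⟨[9, 2, 8, 9], mem_reps (l := reps2) (by simp [repLists]) (by decide), (f3087 H)⟩
  · exact ⟨[4, 2, 3], mem_reps (l := reps1) (by simp [repLists]) (by decide), (f2166 H)⟩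
  · exact ⟨[8, 1, 4, 2], mem_reps (l := reps3) (by simp [repLists]) (by decide), (f2521 H)⟩
  · exact ⟨[9, 3, 2, 1, 5], mem_reps (l := reps7) (by simp [repLists]) (by decide), (f3658 H)⟩
  · exact ⟨[9, 2, 8, 4], mem_reps (l := reps2) (by simp [repLists]) (by decide), (f3251 H)⟩
  · exact ⟨[4, 8, 2, 8], mem_reps (l := reps4) (by simp [repLists]) (by decide), (f3405 H)⟩
  · exact ⟨[9, 3, 5, 6], mem_reps (l := reps2) (by simp [repLists]) (by decide), (f1636 H)⟩
  · exact ⟨[9, 3, 1], mem_reps (l := reps0) (by simp [repLists]) (by decide), (f1614 H)⟩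
  · exact ⟨[9, 2, 3, 6, 3], mem_reps (l := reps7) (by simp [repLists]) (by decide), (f8685 H)⟩
  · exact ⟨[9, 8, 2, 8, 9], mem_reps (l := reps5) (by simp [repLists]) (by decide), (f3767 H)⟩
  · exact ⟨[9, 2, 3, 9, 6], mem_reps (l := reps7) (by simp [repLists]) (by decide), (f9002 H)⟩

theorem step1_2 : ∀ w ∈ reps2, ∃ w' ∈ reps, g 1 • path g w p = path g w' p := by
  intro w hw
  simp only [reps2, List.mem_cons, List.not_mem_nil, or_false] at hw
  rcases hw with rfl | rfl | rfl | rfl | rfl | rfl | rfl | rfl | rfl | rfl | rfl | rfl | rfl | rfl | rfl | rfl | rfl | rfl | rfl | rfl | rfl | rfl | rfl | rfl | rfl | rfl | rfl | rfl | rfl | rfl | rfl | rfl | rfl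
  · exact ⟨[9, 8, 1, 3, 1], mem_reps (l := reps6) (by simp [repLists]) (by decide), (f2943 H)⟩
  · exact ⟨[8, 9, 1, 3], mem_reps (l := reps3) (by simp [repLists]) (by decide), (f7312 H)⟩
  · exact ⟨[9, 2, 9, 5, 1], mem_reps (l := reps6) (by simp [repLists]) (by decide), (f3007 H)⟩
  · exact ⟨[9, 2, 9, 3, 1], mem_reps (l := reps6) (by simp [repLists]) (by decide), (f3035 H)⟩
  · exact ⟨[9, 2, 8, 9, 1], mem_reps (l := reps6) (by simp [repLists]) (by decide), (f3053 H)⟩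
  · exact ⟨[9, 8, 1, 8, 4], mem_reps (l := reps6) (by simp [repLists]) (by decide), (f5623 H)⟩
  · exact ⟨[9, 2, 8], mem_reps (l := reps0) (by simp [repLists]) (by decide), (f475 H)⟩
  · exact ⟨[9, 2, 8, 6], mem_reps (l := reps2) (by simp [repLists]) (by decide), (f478 H)⟩
  · exact ⟨[9, 2, 8, 1, 4], mem_reps (l := reps6) (by simp [repLists]) (by decide), (f3326 H)⟩
  · exact ⟨[9, 2, 5, 8, 1], mem_reps (l := reps6) (by simp [repLists]) (by decide), (f3350 H)⟩
  · exact ⟨[9, 8, 2, 5, 8], mem_reps (l := reps5) (by simp [repLists]) (by decide), (f1784 H)⟩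
  · exact ⟨[9, 2, 5], mem_reps (l := reps0) (by simp [repLists]) (by decide), (f505 H)⟩
  · exact ⟨[9, 2, 5, 6], mem_reps (l := reps2) (by simp [repLists]) (by decide), (f508 H)⟩
  · exact ⟨[9, 2, 5, 1, 4], mem_reps (l := reps7) (by simp [repLists]) (by decide), (f3441 H)⟩
  · exact ⟨[8, 1, 4, 8], mem_reps (l := reps3) (by simp [repLists]) (by decide), (f7303 H)⟩
  · exact ⟨[9, 8, 2, 1, 5], mem_reps (l := reps5) (by simp [repLists]) (by decide), (f3125 H)⟩
  · exact ⟨[9, 2, 3], mem_reps (l := reps0) (by simp [repLists]) (by decide), (f537 H)⟩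
  · exact ⟨[9, 2, 3, 6], mem_reps (l := reps2) (by simp [repLists]) (by decide), (f540 H)⟩
  · exact ⟨[9, 2, 4, 8, 1], mem_reps (l := reps7) (by simp [repLists]) (by decide), (f3532 H)⟩
  · exact ⟨[8, 9, 2, 8], mem_reps (l := reps3) (by simp [repLists]) (by decide), (f3222 H)⟩
  · exact ⟨[9, 2, 5, 2], mem_reps (l := reps2) (by simp [repLists]) (by decide), (f1602 H)⟩
  · exact ⟨[9, 3, 9], mem_reps (l := reps0) (by simp [repLists]) (by decide), (f567 H)⟩
  · exact ⟨[9, 3, 2, 9, 1], mem_reps (l := reps7) (by simp [repLists]) (by decide), (f3607 H)⟩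
  · exact ⟨[9, 3, 2, 3, 1], mem_reps (l := reps7) (by simp [repLists]) (by decide), (f3633 H)⟩
  · exact ⟨[9, 3, 2], mem_reps (l := reps0) (by simp [repLists]) (by decide), (f593 H)⟩
  · exact ⟨[9, 3, 2, 6], mem_reps (l := reps2) (by simp [repLists]) (by decide), (f600 H)⟩
  · exact ⟨[9, 2, 9, 3, 2], mem_reps (l := reps6) (by simp [repLists]) (by decide), (f9615 H)⟩
  · exact ⟨[9, 3, 5, 2, 1], mem_reps (l := reps8) (by simp [repLists]) (by decide), (f3707 H)⟩
  · exact ⟨[9, 3, 5], mem_reps (l := reps0) (by simp [repLists]) (by decide), (f621 H)⟩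
  · exact ⟨[9, 3, 5, 6], mem_reps (l := reps2) (by simp [repLists]) (by decide), (f624 H)⟩
  · exact ⟨[9, 3, 6, 8, 1], mem_reps (l := reps8) (by simp [repLists]) (by decide), (f3741 H)⟩
  · exact ⟨[9, 3, 6, 3, 2], mem_reps (l := reps8) (by simp [repLists]) (by decide), (f10769 H)⟩
  · exact ⟨[9, 3, 1, 8, 1], mem_reps (l := reps8) (by simp [repLists]) (by decide), (f3788 H)⟩

theorem step2_2 : ∀ w ∈ reps2, ∃ w' ∈ reps, g 2 • path g w p = path g w' p := by
  intro w hw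
  simp only [reps2, List.mem_cons, List.not_mem_nil, or_false] at hw
  rcases hw with rfl | rfl | rfl | rfl | rfl | rfl | rfl | rfl | rfl | rfl | rfl | rfl | rfl | rfl | rfl | rfl | rfl | rfl | rfl | rfl | rfl | rfl | rfl | rfl | rfl | rfl | rfl | rfl | rfl | rfl | rfl | rfl | rfl
  · exact ⟨[9, 8, 1, 3, 2], mem_reps (l := reps6) (by simp [repLists]) (by decide), (f2929 H)⟩
  · exact ⟨[9, 2, 9, 8, 2], mem_reps (l := reps6) (by simp [repLists]) (by decide), (f2949 H)⟩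
  · exact ⟨[9, 2, 9, 5, 2], mem_reps (l := reps6) (by simp [repLists]) (by decide), (f2993 H)⟩
  · exact ⟨[9, 2, 9, 3, 2], mem_reps (l := reps6) (by simp [repLists]) (by decide), (f3025 H)⟩
  · exact ⟨[9, 2, 8, 9, 2], mem_reps (l := reps6) (by simp [repLists]) (by decide), (f3039 H)⟩
  · exact ⟨[9, 2, 8], mem_reps (l := reps0) (by simp [repLists]) (by decide), (f468 H)⟩
  · exact ⟨[9, 8, 1, 8, 4], mem_reps (l := reps6) (by simp [repLists]) (by decide), (f5632 H)⟩
  · exact ⟨[9, 2, 8, 2, 6], mem_reps (l := reps6) (by simp [repLists]) (by decide), (f3256 H)⟩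
  · exact ⟨[9, 2, 8, 1, 4], mem_reps (l := reps6) (by simp [repLists]) (by decide), (f8315 H)⟩
  · exact ⟨[8, 4, 2, 5], mem_reps (l := reps3) (by simp [repLists]) (by decide), (f2565 H)⟩
  · exact ⟨[9, 2, 5], mem_reps (l := reps0) (by simp [repLists]) (by decide), (f488 H)⟩
  · exact ⟨[9, 8, 2, 5, 8], mem_reps (l := reps5) (by simp [repLists]) (by decide), (f1782 H)⟩
  · exact ⟨[9, 3, 9, 5], mem_reps (l := reps2) (by simp [repLists]) (by decide), (f1605 H)⟩
  · exact ⟨[9, 2, 5, 4, 2], mem_reps (l := reps7) (by simp [repLists]) (by decide), (f3450 H)⟩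
  · exact ⟨[9, 2, 3, 9, 2], mem_reps (l := reps7) (by simp [repLists]) (by decide), (f3454 H)⟩
  · exact ⟨[9, 2, 3], mem_reps (l := reps0) (by simp [repLists]) (by decide), (f530 H)⟩
  · exact ⟨[9, 8, 2, 1, 5], mem_reps (l := reps5) (by simp [repLists]) (by decide), (f3156 H)⟩
  · exact ⟨[9, 2, 3, 2, 6], mem_reps (l := reps7) (by simp [repLists]) (by decide), (f3487 H)⟩
  · exact ⟨[9, 2, 4, 8, 2], mem_reps (l := reps7) (by simp [repLists]) (by decide), (f3518 H)⟩
  · exact ⟨[9, 3, 9], mem_reps (l := reps0) (by simp [repLists]) (by decide), (f556 H)⟩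
  · exact ⟨[9, 2, 5, 1], mem_reps (l := reps2) (by simp [repLists]) (by decide), (f1606 H)⟩
  · exact ⟨[8, 9, 2, 8], mem_reps (l := reps3) (by simp [repLists]) (by decide), (f3231 H)⟩
  · exact ⟨[9, 3, 2, 9, 2], mem_reps (l := reps7) (by simp [repLists]) (by decide), (f3595 H)⟩
  · exact ⟨[4, 2, 8], mem_reps (l := reps1) (by simp [repLists]) (by decide), (f1467 H)⟩
  · exact ⟨[9, 3, 1], mem_reps (l := reps0) (by simp [repLists]) (by decide), (f597 H)⟩
  · exact ⟨[9, 3, 6], mem_reps (l := reps0) (by simp [repLists]) (by decide), (f602 H)⟩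
  · exact ⟨[9, 2, 9, 3, 1], mem_reps (l := reps6) (by simp [repLists]) (by decide), (f9644 H)⟩
  · exact ⟨[9, 3, 5], mem_reps (l := reps0) (by simp [repLists]) (by decide), (f614 H)⟩
  · exact ⟨[9, 3, 5, 2, 1], mem_reps (l := reps8) (by simp [repLists]) (by decide), (f3717 H)⟩
  · exact ⟨[9, 3, 5, 2, 6], mem_reps (l := reps8) (by simp [repLists]) (by decide), (f3696 H)⟩
  · exact ⟨[8, 6, 3, 9], mem_reps (l := reps3) (by simp [repLists]) (by decide), (f9891 H)⟩
  · exact ⟨[9, 3, 6, 3, 2], mem_reps (l := reps8) (by simp [repLists]) (by decide), (f3753 H)⟩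
  · exact ⟨[8, 9, 1, 8], mem_reps (l := reps3) (by simp [repLists]) (by decide), (f3701 H)⟩

theorem step3_2 : ∀ w ∈ reps2, ∃ w' ∈ reps, g 3 • path g w p = path g w' p := by
  intro w hw
  simp only [reps2, List.mem_cons, List.not_mem_nil, or_false] at hw
  rcases hw with rfl | rfl | rfl | rfl | rfl | rfl | rfl | rfl | rfl | rfl | rfl | rfl | rfl | rfl | rfl | rfl | rfl | rfl | rfl | rfl | rfl | rfl | rfl | rfl | rfl | rfl | rfl | rfl | rfl | rfl | rfl | rfl | rfl
  · exact ⟨[9, 8, 1, 8], mem_reps (l := reps1) (by simp [repLists]) (by decide), (f438 H)⟩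
  · exact ⟨[9, 2, 9], mem_reps (l := reps0) (by simp [repLists]) (by decide), (f443 H)⟩
  · exact ⟨[9, 2, 9, 5, 3], mem_reps (l := reps6) (by simp [repLists]) (by decide), (f2997 H)⟩
  · exact ⟨[9, 2, 9, 8], mem_reps (l := reps2) (by simp [repLists]) (by decide), (f460 H)⟩
  · exact ⟨[9, 2, 4, 8], mem_reps (l := reps2) (by simp [repLists]) (by decide), (f545 H)⟩
  · exact ⟨[8, 9, 2, 8], mem_reps (l := reps3) (by simp [repLists]) (by decide), (f3248 H)⟩
  · exact ⟨[9, 8, 2, 9, 2], mem_reps (l := reps5) (by simp [repLists]) (by decide), (f6070 H)⟩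
  · exact ⟨[9, 2, 8, 1, 3], mem_reps (l := reps6) (by simp [repLists]) (by decide), (f3317 H)⟩
  · exact ⟨[9, 2, 3, 9], mem_reps (l := reps2) (by simp [repLists]) (by decide), (f527 H)⟩
  · exact ⟨[9, 2, 5], mem_reps (l := reps0) (by simp [repLists]) (by decide), (f485 H)⟩
  · exact ⟨[4, 8, 2, 8], mem_reps (l := reps4) (by simp [repLists]) (by decide), (f1173 H)⟩
  · exact ⟨[9, 3, 2], mem_reps (l := reps0) (by simp [repLists]) (by decide), (f1412 H)⟩
  · exact ⟨[9, 2, 5, 1, 3], mem_reps (l := reps7) (by simp [repLists]) (by decide), (f3420 H)⟩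
  · exact ⟨[9, 8, 6, 8, 1], mem_reps (l := reps5) (by simp [repLists]) (by decide), (f10100 H)⟩
  · exact ⟨[9, 2, 9, 3, 9], mem_reps (l := reps6) (by simp [repLists]) (by decide), (f3022 H)⟩
  · exact ⟨[3, 9, 2], mem_reps (l := reps1) (by simp [repLists]) (by decide), (f3110 H)⟩
  · exact ⟨[9, 2, 3, 6, 3], mem_reps (l := reps7) (by simp [repLists]) (by decide), (f3502 H)⟩
  · exact ⟨[8, 1, 8, 4], mem_reps (l := reps3) (by simp [repLists]) (by decide), (f7263 H)⟩
  · exact ⟨[9, 2, 4], mem_reps (l := reps0) (by simp [repLists]) (by decide), (f543 H)⟩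
  · exact ⟨[9, 8, 2, 8, 2], mem_reps (l := reps5) (by simp [repLists]) (by decide), (f3382 H)⟩
  · exact ⟨[4, 8, 5], mem_reps (l := reps1) (by simp [repLists]) (by decide), (f1790 H)⟩
  · exact ⟨[9, 2, 3, 2], mem_reps (l := reps2) (by simp [repLists]) (by decide), (f3115 H)⟩
  · exact ⟨[9, 3, 2, 9, 3], mem_reps (l := reps7) (by simp [repLists]) (by decide), (f3599 H)⟩
  · exact ⟨[9, 2, 5, 6], mem_reps (l := reps2) (by simp [repLists]) (by decide), (f1417 H)⟩
  · exact ⟨[9, 3, 2, 6, 3], mem_reps (l := reps7) (by simp [repLists]) (by decide), (f3643 H)⟩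
  · exact ⟨[9, 8, 6, 3, 2], mem_reps (l := reps5) (by simp [repLists]) (by decide), (f10710 H)⟩
  · exact ⟨[9, 2, 9, 5, 6], mem_reps (l := reps6) (by simp [repLists]) (by decide), (f3005 H)⟩
  · exact ⟨[9, 8, 2, 5, 8], mem_reps (l := reps5) (by simp [repLists]) (by decide), (f3199 H)⟩
  · exact ⟨[9, 3, 5, 2, 9], mem_reps (l := reps7) (by simp [repLists]) (by decide), (f3692 H)⟩
  · exact ⟨[4, 8, 2, 9], mem_reps (l := reps4) (by simp [repLists]) (by decide), (f1633 H)⟩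
  · exact ⟨[9, 3, 6], mem_reps (l := reps0) (by simp [repLists]) (by decide), (f627 H)⟩
  · exact ⟨[9, 3, 6, 8], mem_reps (l := reps2) (by simp [repLists]) (by decide), (f634 H)⟩
  · exact ⟨[9, 3, 1], mem_reps (l := reps0) (by simp [repLists]) (by decide), (f637 H)⟩

theorem step4_2 : ∀ w ∈ reps2, ∃ w' ∈ reps, g 4 • path g w p = path g w' p := by
  intro w hw
  simp only [reps2, List.mem_cons, List.not_mem_nil, or_false] at hw
  rcases hw with rfl | rfl | rfl | rfl | rfl | rfl | rfl | rfl | rfl | rfl | rfl | rfl | rfl | rfl | rfl | rfl | rfl | rfl | rfl | rfl | rfl | rfl | rfl | rfl | rfl | rfl | rfl | rfl | rfl | rfl | rfl | rfl | rfl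
  · exact ⟨[3, 1, 8], mem_reps (l := reps1) (by simp [repLists]) (by decide), (f440 H)⟩
  · exact ⟨[9, 2, 3, 9], mem_reps (l := reps2) (by simp [repLists]) (by decide), (f525 H)⟩
  · exact ⟨[9, 2, 5], mem_reps (l := reps0) (by simp [repLists]) (by decide), (f456 H)⟩
  · exact ⟨[9, 2, 4, 8], mem_reps (l := reps2) (by simp [repLists]) (by decide), (f547 H)⟩
  · exact ⟨[9, 2, 8], mem_reps (l := reps0) (by simp [repLists]) (by decide), (f463 H)⟩
  · exact ⟨[9, 2, 9, 8, 5], mem_reps (l := reps6) (by simp [repLists]) (by decide), (f3140 H)⟩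
  · exact ⟨[9, 2, 8, 6, 4], mem_reps (l := reps6) (by simp [repLists]) (by decide), (f3309 H)⟩
  · exact ⟨[9, 2, 8, 1, 4], mem_reps (l := reps6) (by simp [repLists]) (by decide), (f3321 H)⟩
  · exact ⟨[9, 2, 8, 9], mem_reps (l := reps2) (by simp [repLists]) (by decide), (f482 H)⟩
  · exact ⟨[9, 2, 5, 8, 4], mem_reps (l := reps6) (by simp [repLists]) (by decide), (f3408 H)⟩
  · exact ⟨[9, 3, 5, 1], mem_reps (l := reps2) (by simp [repLists]) (by decide), (f1611 H)⟩
  · exact ⟨[9, 2, 5, 6, 4], mem_reps (l := reps6) (by simp [repLists]) (by decide), (f3414 H)⟩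
  · exact ⟨[9, 2, 5, 1, 4], mem_reps (l := reps7) (by simp [repLists]) (by decide), (f3432 H)⟩
  · exact ⟨[9, 2, 9, 5], mem_reps (l := reps2) (by simp [repLists]) (by decide), (f516 H)⟩
  · exact ⟨[9, 2, 3], mem_reps (l := reps0) (by simp [repLists]) (by decide), (f523 H)⟩
  · exact ⟨[4, 8, 6, 8], mem_reps (l := reps4) (by simp [repLists]) (by decide), (f3116 H)⟩
  · exact ⟨[9, 2, 9, 8, 6], mem_reps (l := reps6) (by simp [repLists]) (by decide), (f2962 H)⟩
  · exact ⟨[8, 9, 1, 3], mem_reps (l := reps3) (by simp [repLists]) (by decide), (f7377 H)⟩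
  · exact ⟨[9, 2, 9, 3, 9], mem_reps (l := reps6) (by simp [repLists]) (by decide), (f3020 H)⟩
  · exact ⟨[9, 3, 9, 2, 4], mem_reps (l := reps7) (by simp [repLists]) (by decide), (f3581 H)⟩
  · exact ⟨[9, 3, 5], mem_reps (l := reps0) (by simp [repLists]) (by decide), (f564 H)⟩
  · exact ⟨[9, 3, 6], mem_reps (l := reps0) (by simp [repLists]) (by decide), (f570 H)⟩
  · exact ⟨[9, 3, 2], mem_reps (l := reps0) (by simp [repLists]) (by decide), (f581 H)⟩
  · exact ⟨[9, 3, 2, 9, 8], mem_reps (l := reps7) (by simp [repLists]) (by decide), (f3590 H)⟩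
  · exact ⟨[9, 3, 2, 6, 4], mem_reps (l := reps7) (by simp [repLists]) (by decide), (f3647 H)⟩
  · exact ⟨[9, 2, 9, 3, 2], mem_reps (l := reps6) (by simp [repLists]) (by decide), (f9594 H)⟩
  · exact ⟨[9, 3, 2, 9], mem_reps (l := reps2) (by simp [repLists]) (by decide), (f608 H)⟩
  · exact ⟨[9, 3, 5, 2, 4], mem_reps (l := reps8) (by simp [repLists]) (by decide), (f3719 H)⟩
  · exact ⟨[4, 8, 5, 6], mem_reps (l := reps4) (by simp [repLists]) (by decide), (f1211 H)⟩
  · exact ⟨[4, 8, 5, 1], mem_reps (l := reps4) (by simp [repLists]) (by decide), (f1217 H)⟩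
  · exact ⟨[9, 3, 6, 8, 4], mem_reps (l := reps8) (by simp [repLists]) (by decide), (f3745 H)⟩
  · exact ⟨[3, 9, 2], mem_reps (l := reps1) (by simp [repLists]) (by decide), (f1661 H)⟩
  · exact ⟨[9, 8, 2, 4, 8], mem_reps (l := reps5) (by simp [repLists]) (by decide), (f1707 H)⟩

theorem step0_3 : ∀ w ∈ reps3, ∃ w' ∈ reps, g 0 • path g w p = path g w' p := by
  intro w hw
  simp only [reps3, List.mem_cons, List.not_mem_nil, or_false] at hw
  rcases hw with rfl | rfl | rfl | rfl | rfl | rfl | rfl | rfl | rfl | rfl | rfl | rfl | rfl | rfl | rfl | rfl | rfl | rfl | rfl | rfl | rfl | rfl | rfl | rfl | rfl | rfl | rfl | rfl | rfl | rfl | rfl | rfl | rfl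
  · exact ⟨[4, 2, 8, 9], mem_reps (l := reps4) (by simp [repLists]) (by decide), (f3812 H)⟩
  · exact ⟨[9, 3, 9, 2], mem_reps (l := reps2) (by simp [repLists]) (by decide), (f3226 H)⟩
  · exact ⟨[8, 9, 2, 6, 5], mem_reps (l := reps8) (by simp [repLists]) (by decide), (f3862 H)⟩
  · exact ⟨[8, 9, 2, 1, 5], mem_reps (l := reps8) (by simp [repLists]) (by decide), (f3892 H)⟩
  · exact ⟨[4, 2, 8, 4], mem_reps (l := reps5) (by simp [repLists]) (by decide), (f3816 H)⟩
  · exact ⟨[8, 6, 8, 4], mem_reps (l := reps3) (by simp [repLists]) (by decide), (f7207 H)⟩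
  · exact ⟨[8, 9, 6, 3, 5], mem_reps (l := reps8) (by simp [repLists]) (by decide), (f3952 H)⟩
  · exact ⟨[3, 1, 8, 4], mem_reps (l := reps4) (by simp [repLists]) (by decide), (f7349 H)⟩
  · exact ⟨[8, 9, 1, 3, 5], mem_reps (l := reps8) (by simp [repLists]) (by decide), (f3998 H)⟩
  · exact ⟨[8, 6, 3, 9], mem_reps (l := reps3) (by simp [repLists]) (by decide), (f6505 H)⟩
  · exact ⟨[3, 6, 8, 6], mem_reps (l := reps4) (by simp [repLists]) (by decide), (f4058 H)⟩
  · exact ⟨[3, 6, 3, 1], mem_reps (l := reps4) (by simp [repLists]) (by decide), (f7202 H)⟩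
  · exact ⟨[8, 9, 6, 8], mem_reps (l := reps3) (by simp [repLists]) (by decide), (f6494 H)⟩
  · exact ⟨[8, 6, 8, 9], mem_reps (l := reps3) (by simp [repLists]) (by decide), (f7204 H)⟩
  · exact ⟨[3, 6, 3, 6], mem_reps (l := reps4) (by simp [repLists]) (by decide), (f4303 H)⟩
  · exact ⟨[3, 6, 8, 1], mem_reps (l := reps4) (by simp [repLists]) (by decide), (f6448 H)⟩
  · exact ⟨[9, 3, 6, 8, 1], mem_reps (l := reps8) (by simp [repLists]) (by decide), (f9899 H)⟩
  · exact ⟨[9, 2, 8, 1], mem_reps (l := reps2) (by simp [repLists]) (by decide), (f3154 H)⟩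
  · exact ⟨[3, 1, 3, 9], mem_reps (l := reps4) (by simp [repLists]) (by decide), (f6756 H)⟩
  · exact ⟨[3, 1, 8, 6], mem_reps (l := reps4) (by simp [repLists]) (by decide), (f4325 H)⟩
  · exact ⟨[8, 1, 3, 1], mem_reps (l := reps3) (by simp [repLists]) (by decide), (f7193 H)⟩
  · exact ⟨[3, 9, 1, 8], mem_reps (l := reps4) (by simp [repLists]) (by decide), (f6744 H)⟩
  · exact ⟨[9, 8, 1, 3], mem_reps (l := reps2) (by simp [repLists]) (by decide), (f7050 H)⟩
  · exact ⟨[3, 1, 3, 6], mem_reps (l := reps4) (by simp [repLists]) (by decide), (f4431 H)⟩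
  · exact ⟨[8, 1, 8, 1], mem_reps (l := reps3) (by simp [repLists]) (by decide), (f6630 H)⟩
  · exact ⟨[8, 1, 4, 8, 5], mem_reps (l := reps9) (by simp [repLists]) (by decide), (f4485 H)⟩
  · exact ⟨[9, 3, 2, 6], mem_reps (l := reps2) (by simp [repLists]) (by decide), (f2516 H)⟩
  · exact ⟨[8, 4, 2, 9, 5], mem_reps (l := reps9) (by simp [repLists]) (by decide), (f4533 H)⟩
  · exact ⟨[8, 4, 2], mem_reps (l := reps1) (by simp [repLists]) (by decide), (f933 H)⟩
  · exact ⟨[8, 4, 2, 5, 4], mem_reps (l := reps10) (by simp [repLists]) (by decide), (f4551 H)⟩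
  · exact ⟨[9, 3, 5, 2, 6], mem_reps (l := reps8) (by simp [repLists]) (by decide), (f3698 H)⟩
  · exact ⟨[3, 9, 2, 1, 5], mem_reps (l := reps10) (by simp [repLists]) (by decide), (f4575 H)⟩
  · exact ⟨[4, 8, 1, 8], mem_reps (l := reps4) (by simp [repLists]) (by decide), (f3771 H)⟩

theorem step1_3 : ∀ w ∈ reps3, ∃ w' ∈ reps, g 1 • path g w p = path g w' p := by
  intro w hw
  simp only [reps3, List.mem_cons, List.not_mem_nil, or_false] at hw
  rcases hw with rfl | rfl | rfl | rfl | rfl | rfl | rfl | rfl | rfl | rfl | rfl | rfl | rfl | rfl | rfl | rfl | rfl | rfl | rfl | rfl | rfl | rfl | rfl | rfl | rfl | rfl | rfl | rfl | rfl | rfl | rfl | rfl | rfl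
  · exact ⟨[8, 9, 2, 9, 2], mem_reps (l := reps8) (by simp [repLists]) (by decide), (f9451 H)⟩
  · exact ⟨[4, 2, 5], mem_reps (l := reps1) (by simp [repLists]) (by decide), (f3217 H)⟩
  · exact ⟨[8, 9, 2], mem_reps (l := reps0) (by simp [repLists]) (by decide), (f659 H)⟩
  · exact ⟨[8, 9, 2, 6], mem_reps (l := reps3) (by simp [repLists]) (by decide), (f666 H)⟩
  · exact ⟨[8, 9, 2, 1, 4], mem_reps (l := reps8) (by simp [repLists]) (by decide), (f3904 H)⟩
  · exact ⟨[8, 9, 6, 8, 1], mem_reps (l := reps8) (by simp [repLists]) (by decide), (f3931 H)⟩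
  · exact ⟨[4, 2, 9, 8], mem_reps (l := reps4) (by simp [repLists]) (by decide), (f9845 H)⟩
  · exact ⟨[8, 9, 1, 8, 1], mem_reps (l := reps8) (by simp [repLists]) (by decide), (f3973 H)⟩
  · exact ⟨[9, 2, 9, 8, 6], mem_reps (l := reps6) (by simp [repLists]) (by decide), (f7459 H)⟩
  · exact ⟨[8, 6, 8, 9, 1], mem_reps (l := reps8) (by simp [repLists]) (by decide), (f4020 H)⟩
  · exact ⟨[8, 6, 8], mem_reps (l := reps1) (by simp [repLists]) (by decide), (f823 H)⟩
  · exact ⟨[8, 6, 8, 6], mem_reps (l := reps3) (by simp [repLists]) (by decide), (f826 H)⟩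
  · exact ⟨[8, 6, 8, 1, 4], mem_reps (l := reps9) (by simp [repLists]) (by decide), (f4118 H)⟩
  · exact ⟨[8, 6, 3, 9, 1], mem_reps (l := reps9) (by simp [repLists]) (by decide), (f4143 H)⟩
  · exact ⟨[8, 6, 3], mem_reps (l := reps1) (by simp [repLists]) (by decide), (f851 H)⟩
  · exact ⟨[8, 6, 3, 6], mem_reps (l := reps3) (by simp [repLists]) (by decide), (f854 H)⟩
  · exact ⟨[4, 2, 3, 9], mem_reps (l := reps5) (by simp [repLists]) (by decide), (f9806 H)⟩
  · exact ⟨[8, 1, 4, 2], mem_reps (l := reps3) (by simp [repLists]) (by decide), (f926 H)⟩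
  · exact ⟨[8, 1, 8, 9, 1], mem_reps (l := reps9) (by simp [repLists]) (by decide), (f4264 H)⟩
  · exact ⟨[8, 1, 8], mem_reps (l := reps1) (by simp [repLists]) (by decide), (f881 H)⟩
  · exact ⟨[8, 1, 8, 6], mem_reps (l := reps3) (by simp [repLists]) (by decide), (f884 H)⟩
  · exact ⟨[9, 2, 8, 6, 8], mem_reps (l := reps6) (by simp [repLists]) (by decide), (f8738 H)⟩
  · exact ⟨[8, 9, 1, 3, 2], mem_reps (l := reps8) (by simp [repLists]) (by decide), (f8949 H)⟩
  · exact ⟨[8, 1, 3], mem_reps (l := reps1) (by simp [repLists]) (by decide), (f909 H)⟩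
  · exact ⟨[8, 1, 3, 6], mem_reps (l := reps3) (by simp [repLists]) (by decide), (f912 H)⟩
  · exact ⟨[9, 2, 3, 9, 6], mem_reps (l := reps7) (by simp [repLists]) (by decide), (f7482 H)⟩
  · exact ⟨[8, 4, 2], mem_reps (l := reps1) (by simp [repLists]) (by decide), (f924 H)⟩
  · exact ⟨[8, 6, 4, 2, 9], mem_reps (l := reps9) (by simp [repLists]) (by decide), (f4233 H)⟩
  · exact ⟨[9, 3, 2, 1, 5], mem_reps (l := reps7) (by simp [repLists]) (by decide), (f3660 H)⟩
  · exact ⟨[8, 6, 4, 2, 4], mem_reps (l := reps9) (by simp [repLists]) (by decide), (f4249 H)⟩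
  · exact ⟨[3, 9, 2], mem_reps (l := reps1) (by simp [repLists]) (by decide), (f957 H)⟩
  · exact ⟨[3, 9, 2, 6], mem_reps (l := reps3) (by simp [repLists]) (by decide), (f964 H)⟩
  · exact ⟨[3, 9, 2, 1, 4], mem_reps (l := reps10) (by simp [repLists]) (by decide), (f4598 H)⟩

theorem step2_3 : ∀ w ∈ reps3, ∃ w' ∈ reps, g 2 • path g w p = path g w' p := by
  intro w hw
  simp only [reps3, List.mem_cons, List.not_mem_nil, or_false] at hw
  rcases hw with rfl | rfl | rfl | rfl | rfl | rfl | rfl | rfl | rfl | rfl | rfl | rfl | rfl | rfl | rfl | rfl | rfl | rfl | rfl | rfl | rfl | rfl | rfl | rfl | rfl | rfl | rfl | rfl | rfl | rfl | rfl | rfl | rfl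
  · exact ⟨[8, 9, 2, 9, 2], mem_reps (l := reps8) (by simp [repLists]) (by decide), (f3798 H)⟩
  · exact ⟨[9, 3, 9, 6], mem_reps (l := reps2) (by simp [repLists]) (by decide), (f3235 H)⟩
  · exact ⟨[8, 9, 1], mem_reps (l := reps0) (by simp [repLists]) (by decide), (f663 H)⟩
  · exact ⟨[8, 9, 6], mem_reps (l := reps0) (by simp [repLists]) (by decide), (f668 H)⟩
  · exact ⟨[8, 9, 2, 4, 2], mem_reps (l := reps8) (by simp [repLists]) (by decide), (f3913 H)⟩
  · exact ⟨[9, 2, 3, 6, 8], mem_reps (l := reps7) (by simp [repLists]) (by decide), (f4585 H)⟩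
  · exact ⟨[8, 9, 6, 8, 6], mem_reps (l := reps8) (by simp [repLists]) (by decide), (f9918 H)⟩
  · exact ⟨[9, 3, 1, 8], mem_reps (l := reps2) (by simp [repLists]) (by decide), (f3699 H)⟩
  · exact ⟨[8, 9, 1, 3, 2], mem_reps (l := reps8) (by simp [repLists]) (by decide), (f3991 H)⟩
  · exact ⟨[8, 6, 8, 9, 2], mem_reps (l := reps8) (by simp [repLists]) (by decide), (f4006 H)⟩
  · exact ⟨[8, 6, 8, 1], mem_reps (l := reps3) (by simp [repLists]) (by decide), (f830 H)⟩
  · exact ⟨[8, 6, 8, 6], mem_reps (l := reps3) (by simp [repLists]) (by decide), (f828 H)⟩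
  · exact ⟨[8, 6, 8, 4, 2], mem_reps (l := reps9) (by simp [repLists]) (by decide), (f4121 H)⟩
  · exact ⟨[9, 3, 6, 8], mem_reps (l := reps2) (by simp [repLists]) (by decide), (f10135 H)⟩
  · exact ⟨[3, 1, 3, 1], mem_reps (l := reps4) (by simp [repLists]) (by decide), (f4177 H)⟩
  · exact ⟨[3, 1, 3, 6], mem_reps (l := reps4) (by simp [repLists]) (by decide), (f4185 H)⟩
  · exact ⟨[9, 8, 2, 8, 9], mem_reps (l := reps5) (by simp [repLists]) (by decide), (f8729 H)⟩
  · exact ⟨[8, 6, 4], mem_reps (l := reps1) (by simp [repLists]) (by decide), (f864 H)⟩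
  · exact ⟨[8, 1, 8, 9, 2], mem_reps (l := reps9) (by simp [repLists]) (by decide), (f4250 H)⟩
  · exact ⟨[8, 1, 8, 1], mem_reps (l := reps3) (by simp [repLists]) (by decide), (f888 H)⟩
  · exact ⟨[8, 1, 8, 6], mem_reps (l := reps3) (by simp [repLists]) (by decide), (f886 H)⟩
  · exact ⟨[8, 1, 8, 4, 2], mem_reps (l := reps9) (by simp [repLists]) (by decide), (f4371 H)⟩
  · exact ⟨[9, 2, 9, 8, 6], mem_reps (l := reps6) (by simp [repLists]) (by decide), (f8108 H)⟩
  · exact ⟨[3, 6, 3, 1], mem_reps (l := reps4) (by simp [repLists]) (by decide), (f4427 H)⟩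
  · exact ⟨[3, 6, 3, 6], mem_reps (l := reps4) (by simp [repLists]) (by decide), (f4435 H)⟩
  · exact ⟨[8, 1, 4, 8, 2], mem_reps (l := reps9) (by simp [repLists]) (by decide), (f4470 H)⟩
  · exact ⟨[8, 1, 4], mem_reps (l := reps1) (by simp [repLists]) (by decide), (f922 H)⟩
  · exact ⟨[8, 9, 2, 6, 4], mem_reps (l := reps8) (by simp [repLists]) (by decide), (f11090 H)⟩
  · exact ⟨[9, 2, 5, 8], mem_reps (l := reps2) (by simp [repLists]) (by decide), (f2566 H)⟩
  · exact ⟨[8, 6, 4, 2, 4], mem_reps (l := reps9) (by simp [repLists]) (by decide), (f9436 H)⟩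
  · exact ⟨[3, 9, 1], mem_reps (l := reps1) (by simp [repLists]) (by decide), (f961 H)⟩
  · exact ⟨[3, 9, 6], mem_reps (l := reps1) (by simp [repLists]) (by decide), (f966 H)⟩
  · exact ⟨[9, 8, 2, 9, 6], mem_reps (l := reps5) (by simp [repLists]) (by decide), (f8218 H)⟩

theorem step3_3 : ∀ w ∈ reps3, ∃ w' ∈ reps, g 3 • path g w p = path g w' p := by
  intro w hw
  simp only [reps3, List.mem_cons, List.not_mem_nil, or_false] at hw
  rcases hw with rfl | rfl | rfl | rfl | rfl | rfl | rfl | rfl | rfl | rfl | rfl | rfl | rfl | rfl | rfl | rfl | rfl | rfl | rfl | rfl | rfl | rfl | rfl | rfl | rfl | rfl | rfl | rfl | rfl | rfl | rfl | rfl | rfl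
  · exact ⟨[8, 9, 2, 9, 3], mem_reps (l := reps8) (by simp [repLists]) (by decide), (f3817 H)⟩
  · exact ⟨[8, 9, 2], mem_reps (l := reps0) (by simp [repLists]) (by decide), (f649 H)⟩
  · exact ⟨[8, 9, 2, 6, 3], mem_reps (l := reps8) (by simp [repLists]) (by decide), (f3873 H)⟩
  · exact ⟨[8, 9, 2, 1, 3], mem_reps (l := reps8) (by simp [repLists]) (by decide), (f3895 H)⟩
  · exact ⟨[8, 9, 2, 8, 9], mem_reps (l := reps8) (by simp [repLists]) (by decide), (f3842 H)⟩
  · exact ⟨[8, 9, 6], mem_reps (l := reps0) (by simp [repLists]) (by decide), (f705 H)⟩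
  · exact ⟨[8, 9, 6, 8], mem_reps (l := reps3) (by simp [repLists]) (by decide), (f710 H)⟩
  · exact ⟨[8, 9, 1], mem_reps (l := reps0) (by simp [repLists]) (by decide), (f713 H)⟩
  · exact ⟨[8, 9, 1, 8], mem_reps (l := reps3) (by simp [repLists]) (by decide), (f718 H)⟩
  · exact ⟨[8, 6, 4, 8], mem_reps (l := reps3) (by simp [repLists]) (by decide), (f859 H)⟩
  · exact ⟨[8, 6, 8, 6, 3], mem_reps (l := reps9) (by simp [repLists]) (by decide), (f4091 H)⟩
  · exact ⟨[9, 3, 2, 6, 4], mem_reps (l := reps7) (by simp [repLists]) (by decide), (f10934 H)⟩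
  · exact ⟨[8, 6, 3, 9], mem_reps (l := reps3) (by simp [repLists]) (by decide), (f841 H)⟩
  · exact ⟨[4, 2, 3, 6], mem_reps (l := reps5) (by simp [repLists]) (by decide), (f9882 H)⟩
  · exact ⟨[9, 2, 8, 9, 1], mem_reps (l := reps6) (by simp [repLists]) (by decide), (f10944 H)⟩
  · exact ⟨[8, 6, 3, 1, 3], mem_reps (l := reps9) (by simp [repLists]) (by decide), (f4200 H)⟩
  · exact ⟨[8, 6, 4], mem_reps (l := reps1) (by simp [repLists]) (by decide), (f857 H)⟩
  · exact ⟨[8, 6, 4, 2, 3], mem_reps (l := reps9) (by simp [repLists]) (by decide), (f4236 H)⟩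
  · exact ⟨[8, 1, 4, 8], mem_reps (l := reps3) (by simp [repLists]) (by decide), (f917 H)⟩
  · exact ⟨[8, 1, 8, 6, 3], mem_reps (l := reps9) (by simp [repLists]) (by decide), (f4341 H)⟩
  · exact ⟨[8, 1, 8, 1, 3], mem_reps (l := reps9) (by simp [repLists]) (by decide), (f4359 H)⟩
  · exact ⟨[8, 1, 3, 9], mem_reps (l := reps3) (by simp [repLists]) (by decide), (f899 H)⟩
  · exact ⟨[9, 2, 3, 1], mem_reps (l := reps2) (by simp [repLists]) (by decide), (f7320 H)⟩
  · exact ⟨[8, 1, 3, 6, 3], mem_reps (l := reps9) (by simp [repLists]) (by decide), (f4454 H)⟩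
  · exact ⟨[8, 1, 3, 1, 3], mem_reps (l := reps9) (by simp [repLists]) (by decide), (f4466 H)⟩
  · exact ⟨[8, 1, 4], mem_reps (l := reps1) (by simp [repLists]) (by decide), (f915 H)⟩
  · exact ⟨[8, 1, 4, 2, 3], mem_reps (l := reps9) (by simp [repLists]) (by decide), (f4510 H)⟩
  · exact ⟨[8, 4, 2, 9, 3], mem_reps (l := reps10) (by simp [repLists]) (by decide), (f4538 H)⟩
  · exact ⟨[9, 2, 5, 1], mem_reps (l := reps2) (by simp [repLists]) (by decide), (f2560 H)⟩
  · exact ⟨[9, 2, 9, 5], mem_reps (l := reps2) (by simp [repLists]) (by decide), (f3277 H)⟩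
  · exact ⟨[3, 9, 2, 6, 3], mem_reps (l := reps10) (by simp [repLists]) (by decide), (f4560 H)⟩
  · exact ⟨[9, 3, 6, 3, 2], mem_reps (l := reps8) (by simp [repLists]) (by decide), (f10361 H)⟩
  · exact ⟨[9, 2, 3, 2, 9], mem_reps (l := reps7) (by simp [repLists]) (by decide), (f3481 H)⟩

theorem step4_3 : ∀ w ∈ reps3, ∃ w' ∈ reps, g 4 • path g w p = path g w' p := by
  intro w hw
  simp only [reps3, List.mem_cons, List.not_mem_nil, or_false] at hw
  rcases hw with rfl | rfl | rfl | rfl | rfl | rfl | rfl | rfl | rfl | rfl | rfl | rfl | rfl | rfl | rfl | rfl | rfl | rfl | rfl | rfl | rfl | rfl | rfl | rfl | rfl | rfl | rfl | rfl | rfl | rfl | rfl | rfl | rfl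
  · exact ⟨[8, 9, 2], mem_reps (l := reps0) (by simp [repLists]) (by decide), (f647 H)⟩
  · exact ⟨[8, 9, 2, 8, 4], mem_reps (l := reps8) (by simp [repLists]) (by decide), (f3843 H)⟩
  · exact ⟨[8, 9, 2, 6, 4], mem_reps (l := reps8) (by simp [repLists]) (by decide), (f3877 H)⟩
  · exact ⟨[8, 9, 2, 1, 4], mem_reps (l := reps8) (by simp [repLists]) (by decide), (f3899 H)⟩
  · exact ⟨[8, 9, 2, 9], mem_reps (l := reps3) (by simp [repLists]) (by decide), (f674 H)⟩
  · exact ⟨[8, 6, 3, 9], mem_reps (l := reps3) (by simp [repLists]) (by decide), (f839 H)⟩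
  · exact ⟨[8, 6, 4, 8], mem_reps (l := reps3) (by simp [repLists]) (by decide), (f861 H)⟩
  · exact ⟨[8, 1, 3, 9], mem_reps (l := reps3) (by simp [repLists]) (by decide), (f897 H)⟩
  · exact ⟨[8, 1, 4, 8], mem_reps (l := reps3) (by simp [repLists]) (by decide), (f919 H)⟩
  · exact ⟨[8, 6, 8], mem_reps (l := reps1) (by simp [repLists]) (by decide), (f815 H)⟩
  · exact ⟨[8, 6, 8, 6, 4], mem_reps (l := reps9) (by simp [repLists]) (by decide), (f4095 H)⟩
  · exact ⟨[8, 6, 8, 1, 4], mem_reps (l := reps9) (by simp [repLists]) (by decide), (f4113 H)⟩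
  · exact ⟨[8, 6, 8, 9], mem_reps (l := reps3) (by simp [repLists]) (by decide), (f834 H)⟩
  · exact ⟨[8, 6, 3], mem_reps (l := reps1) (by simp [repLists]) (by decide), (f837 H)⟩
  · exact ⟨[8, 9, 6, 8, 6], mem_reps (l := reps8) (by simp [repLists]) (by decide), (f3930 H)⟩
  · exact ⟨[8, 9, 6, 8, 1], mem_reps (l := reps8) (by simp [repLists]) (by decide), (f3936 H)⟩
  · exact ⟨[4, 2, 3, 6], mem_reps (l := reps5) (by simp [repLists]) (by decide), (f11582 H)⟩
  · exact ⟨[8, 6, 4, 2, 4], mem_reps (l := reps9) (by simp [repLists]) (by decide), (f4240 H)⟩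
  · exact ⟨[8, 1, 8], mem_reps (l := reps1) (by simp [repLists]) (by decide), (f869 H)⟩
  · exact ⟨[8, 1, 8, 6, 4], mem_reps (l := reps9) (by simp [repLists]) (by decide), (f4345 H)⟩
  · exact ⟨[9, 2, 8, 6, 8], mem_reps (l := reps6) (by simp [repLists]) (by decide), (f8942 H)⟩
  · exact ⟨[8, 1, 8, 9], mem_reps (l := reps3) (by simp [repLists]) (by decide), (f892 H)⟩
  · exact ⟨[8, 1, 3], mem_reps (l := reps1) (by simp [repLists]) (by decide), (f895 H)⟩
  · exact ⟨[8, 9, 1, 8, 6], mem_reps (l := reps8) (by simp [repLists]) (by decide), (f3970 H)⟩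
  · exact ⟨[8, 9, 1, 8, 1], mem_reps (l := reps8) (by simp [repLists]) (by decide), (f3980 H)⟩
  · exact ⟨[9, 2, 3, 1], mem_reps (l := reps2) (by simp [repLists]) (by decide), (f7270 H)⟩
  · exact ⟨[8, 1, 4, 2, 4], mem_reps (l := reps9) (by simp [repLists]) (by decide), (f4514 H)⟩
  · exact ⟨[8, 4, 2], mem_reps (l := reps1) (by simp [repLists]) (by decide), (f929 H)⟩
  · exact ⟨[8, 4, 2, 5, 4], mem_reps (l := reps10) (by simp [repLists]) (by decide), (f4546 H)⟩
  · exact ⟨[8, 4, 2, 9], mem_reps (l := reps3) (by simp [repLists]) (by decide), (f942 H)⟩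
  · exact ⟨[9, 8, 2, 9, 2], mem_reps (l := reps5) (by simp [repLists]) (by decide), (f8258 H)⟩
  · exact ⟨[3, 9, 2, 1, 4], mem_reps (l := reps10) (by simp [repLists]) (by decide), (f4593 H)⟩
  · exact ⟨[9, 3, 6, 3], mem_reps (l := reps2) (by simp [repLists]) (by decide), (f1666 H)⟩

theorem step0_4 : ∀ w ∈ reps4, ∃ w' ∈ reps, g 0 • path g w p = path g w' p := by
  intro w hw
  simp only [reps4, List.mem_cons, List.not_mem_nil, or_false] at hw
  rcases hw with rfl | rfl | rfl | rfl | rfl | rfl | rfl | rfl | rfl | rfl | rfl | rfl | rfl | rfl | rfl | rfl | rfl | rfl | rfl | rfl | rfl | rfl | rfl | rfl | rfl | rfl | rfl | rfl | rfl | rfl | rfl | rfl | rfl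
  · exact ⟨[3, 6, 8, 4], mem_reps (l := reps4) (by simp [repLists]) (by decide), (f7217 H)⟩
  · exact ⟨[3, 9, 6, 3, 5], mem_reps (l := reps10) (by simp [repLists]) (by decide), (f4636 H)⟩
  · exact ⟨[8, 1, 8, 4], mem_reps (l := reps3) (by simp [repLists]) (by decide), (f7190 H)⟩
  · exact ⟨[3, 9, 1, 3, 5], mem_reps (l := reps10) (by simp [repLists]) (by decide), (f4676 H)⟩
  · exact ⟨[8, 6, 8, 6], mem_reps (l := reps3) (by simp [repLists]) (by decide), (f4053 H)⟩
  · exact ⟨[8, 6, 3, 1], mem_reps (l := reps3) (by simp [repLists]) (by decide), (f7213 H)⟩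
  · exact ⟨[3, 9, 6, 8], mem_reps (l := reps4) (by simp [repLists]) (by decide), (f6877 H)⟩
  · exact ⟨[9, 8, 6, 3], mem_reps (l := reps1) (by simp [repLists]) (by decide), (f7214 H)⟩
  · exact ⟨[8, 6, 3, 6], mem_reps (l := reps3) (by simp [repLists]) (by decide), (f4298 H)⟩
  · exact ⟨[8, 6, 8, 1], mem_reps (l := reps3) (by simp [repLists]) (by decide), (f6574 H)⟩
  · exact ⟨[8, 1, 8, 6], mem_reps (l := reps3) (by simp [repLists]) (by decide), (f4323 H)⟩
  · exact ⟨[3, 1, 3, 1], mem_reps (l := reps4) (by simp [repLists]) (by decide), (f6272 H)⟩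
  · exact ⟨[8, 9, 1, 8], mem_reps (l := reps3) (by simp [repLists]) (by decide), (f6965 H)⟩
  · exact ⟨[8, 1, 8, 9], mem_reps (l := reps3) (by simp [repLists]) (by decide), (f7189 H)⟩
  · exact ⟨[8, 1, 3, 6], mem_reps (l := reps3) (by simp [repLists]) (by decide), (f4444 H)⟩
  · exact ⟨[3, 1, 8, 1], mem_reps (l := reps4) (by simp [repLists]) (by decide), (f7427 H)⟩
  · exact ⟨[9, 2, 3, 2, 9], mem_reps (l := reps7) (by simp [repLists]) (by decide), (f3479 H)⟩
  · exact ⟨[9, 3, 5, 2], mem_reps (l := reps2) (by simp [repLists]) (by decide), (f3403 H)⟩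
  · exact ⟨[9, 8, 2, 6], mem_reps (l := reps1) (by simp [repLists]) (by decide), (f1749 H)⟩
  · exact ⟨[9, 8, 2, 5, 1], mem_reps (l := reps5) (by simp [repLists]) (by decide), (f1759 H)⟩
  · exact ⟨[4, 8, 6, 8], mem_reps (l := reps4) (by simp [repLists]) (by decide), (f2849 H)⟩
  · exact ⟨[9, 3, 9, 2, 8], mem_reps (l := reps7) (by simp [repLists]) (by decide), (f3572 H)⟩
  · exact ⟨[4, 8, 5, 6], mem_reps (l := reps4) (by simp [repLists]) (by decide), (f1635 H)⟩
  · exact ⟨[4, 8, 1], mem_reps (l := reps1) (by simp [repLists]) (by decide), (f1623 H)⟩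
  · exact ⟨[4, 8, 2, 4], mem_reps (l := reps4) (by simp [repLists]) (by decide), (f2851 H)⟩
  · exact ⟨[9, 8, 6, 8, 2], mem_reps (l := reps5) (by simp [repLists]) (by decide), (f8049 H)⟩
  · exact ⟨[3, 9, 2, 4], mem_reps (l := reps3) (by simp [repLists]) (by decide), (f3769 H)⟩
  · exact ⟨[9, 2, 9, 8, 6], mem_reps (l := reps6) (by simp [repLists]) (by decide), (f8941 H)⟩
  · exact ⟨[9, 3, 2, 9, 8], mem_reps (l := reps7) (by simp [repLists]) (by decide), (f3593 H)⟩
  · exact ⟨[4, 2, 9], mem_reps (l := reps1) (by simp [repLists]) (by decide), (f1257 H)⟩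
  · exact ⟨[4, 2, 9, 3, 5], mem_reps (l := reps11) (by simp [repLists]) (by decide), (f5232 H)⟩
  · exact ⟨[8, 9, 2, 9], mem_reps (l := reps3) (by simp [repLists]) (by decide), (f3807 H)⟩
  · exact ⟨[4, 2, 8, 6, 5], mem_reps (l := reps11) (by simp [repLists]) (by decide), (f5271 H)⟩

theorem step1_4 : ∀ w ∈ reps4, ∃ w' ∈ reps, g 1 • path g w p = path g w' p := by
  intro w hw
  simp only [reps4, List.mem_cons, List.not_mem_nil, or_false] at hw
  rcases hw with rfl | rfl | rfl | rfl | rfl | rfl | rfl | rfl | rfl | rfl | rfl | rfl | rfl | rfl | rfl | rfl | rfl | rfl | rfl | rfl | rfl | rfl | rfl | rfl | rfl | rfl | rfl | rfl | rfl | rfl | rfl | rfl | rfl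
  · exact ⟨[3, 9, 6, 8, 1], mem_reps (l := reps10) (by simp [repLists]) (by decide), (f4623 H)⟩
  · exact ⟨[9, 2, 5, 8, 4], mem_reps (l := reps6) (by simp [repLists]) (by decide), (f10006 H)⟩
  · exact ⟨[8, 1, 4, 2, 8], mem_reps (l := reps9) (by simp [repLists]) (by decide), (f8877 H)⟩
  · exact ⟨[3, 9, 1, 3, 1], mem_reps (l := reps10) (by simp [repLists]) (by decide), (f4683 H)⟩
  · exact ⟨[3, 6, 8], mem_reps (l := reps1) (by simp [repLists]) (by decide), (f1093 H)⟩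
  · exact ⟨[3, 6, 8, 6], mem_reps (l := reps4) (by simp [repLists]) (by decide), (f1096 H)⟩
  · exact ⟨[3, 6, 8, 1, 4], mem_reps (l := reps10) (by simp [repLists]) (by decide), (f4753 H)⟩
  · exact ⟨[3, 6, 3, 9, 1], mem_reps (l := reps10) (by simp [repLists]) (by decide), (f4782 H)⟩
  · exact ⟨[3, 6, 3], mem_reps (l := reps1) (by simp [repLists]) (by decide), (f1121 H)⟩
  · exact ⟨[3, 6, 3, 6], mem_reps (l := reps4) (by simp [repLists]) (by decide), (f1124 H)⟩
  · exact ⟨[3, 1, 8], mem_reps (l := reps1) (by simp [repLists]) (by decide), (f1135 H)⟩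
  · exact ⟨[3, 1, 8, 6], mem_reps (l := reps4) (by simp [repLists]) (by decide), (f1138 H)⟩
  · exact ⟨[9, 8, 1, 3, 2], mem_reps (l := reps6) (by simp [repLists]) (by decide), (f9014 H)⟩
  · exact ⟨[3, 1, 3, 9, 1], mem_reps (l := reps10) (by simp [repLists]) (by decide), (f4928 H)⟩
  · exact ⟨[3, 1, 3], mem_reps (l := reps1) (by simp [repLists]) (by decide), (f1163 H)⟩
  · exact ⟨[3, 1, 3, 6], mem_reps (l := reps4) (by simp [repLists]) (by decide), (f1166 H)⟩
  · exact ⟨[4, 8, 2, 9, 1], mem_reps (l := reps11) (by simp [repLists]) (by decide), (f4990 H)⟩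
  · exact ⟨[3, 9, 2, 1, 5], mem_reps (l := reps10) (by simp [repLists]) (by decide), (f4577 H)⟩
  · exact ⟨[4, 8, 2], mem_reps (l := reps1) (by simp [repLists]) (by decide), (f1179 H)⟩
  · exact ⟨[4, 8, 2, 6], mem_reps (l := reps4) (by simp [repLists]) (by decide), (f1186 H)⟩
  · exact ⟨[4, 8, 2, 1, 8], mem_reps (l := reps11) (by simp [repLists]) (by decide), (f10322 H)⟩
  · exact ⟨[4, 8, 5, 2, 1], mem_reps (l := reps11) (by simp [repLists]) (by decide), (f5065 H)⟩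
  · exact ⟨[4, 8, 5], mem_reps (l := reps1) (by simp [repLists]) (by decide), (f1209 H)⟩
  · exact ⟨[4, 8, 5, 6], mem_reps (l := reps4) (by simp [repLists]) (by decide), (f1214 H)⟩
  · exact ⟨[4, 8, 6, 8, 1], mem_reps (l := reps11) (by simp [repLists]) (by decide), (f5107 H)⟩
  · exact ⟨[8, 9, 6, 3, 5], mem_reps (l := reps8) (by simp [repLists]) (by decide), (f9829 H)⟩
  · exact ⟨[4, 8, 1, 8, 1], mem_reps (l := reps11) (by simp [repLists]) (by decide), (f5145 H)⟩
  · exact ⟨[4, 8, 1, 3, 1], mem_reps (l := reps11) (by simp [repLists]) (by decide), (f5169 H)⟩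
  · exact ⟨[9, 2, 3, 6, 8], mem_reps (l := reps7) (by simp [repLists]) (by decide), (f8065 H)⟩
  · exact ⟨[9, 3, 9, 2, 9], mem_reps (l := reps7) (by simp [repLists]) (by decide), (f3561 H)⟩
  · exact ⟨[3, 1, 3, 1, 3], mem_reps (l := reps10) (by simp [repLists]) (by decide), (f9508 H)⟩
  · exact ⟨[4, 2, 8, 9, 1], mem_reps (l := reps11) (by simp [repLists]) (by decide), (f5247 H)⟩
  · exact ⟨[4, 2, 8], mem_reps (l := reps1) (by simp [repLists]) (by decide), (f1279 H)⟩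

theorem step2_4 : ∀ w ∈ reps4, ∃ w' ∈ reps, g 2 • path g w p = path g w' p := by
  intro w hw
  simp only [reps4, List.mem_cons, List.not_mem_nil, or_false] at hw
  rcases hw with rfl | rfl | rfl | rfl | rfl | rfl | rfl | rfl | rfl | rfl | rfl | rfl | rfl | rfl | rfl | rfl | rfl | rfl | rfl | rfl | rfl | rfl | rfl | rfl | rfl | rfl | rfl | rfl | rfl | rfl | rfl | rfl | rfl
  · exact ⟨[3, 9, 6, 8, 2], mem_reps (l := reps10) (by simp [repLists]) (by decide), (f4605 H)⟩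
  · exact ⟨[3, 9, 6, 3, 2], mem_reps (l := reps10) (by simp [repLists]) (by decide), (f4629 H)⟩
  · exact ⟨[4, 8, 1, 8], mem_reps (l := reps4) (by simp [repLists]) (by decide), (f3872 H)⟩
  · exact ⟨[3, 9, 1, 3, 2], mem_reps (l := reps10) (by simp [repLists]) (by decide), (f4669 H)⟩
  · exact ⟨[3, 6, 8, 1], mem_reps (l := reps4) (by simp [repLists]) (by decide), (f1100 H)⟩
  · exact ⟨[3, 6, 8, 6], mem_reps (l := reps4) (by simp [repLists]) (by decide), (f1098 H)⟩
  · exact ⟨[3, 6, 8, 6, 4], mem_reps (l := reps10) (by simp [repLists]) (by decide), (f10574 H)⟩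
  · exact ⟨[4, 8, 6, 8], mem_reps (l := reps4) (by simp [repLists]) (by decide), (f10553 H)⟩
  · exact ⟨[8, 1, 3, 1], mem_reps (l := reps3) (by simp [repLists]) (by decide), (f4433 H)⟩
  · exact ⟨[8, 1, 3, 6], mem_reps (l := reps3) (by simp [repLists]) (by decide), (f4428 H)⟩
  · exact ⟨[3, 1, 8, 1], mem_reps (l := reps4) (by simp [repLists]) (by decide), (f1142 H)⟩
  · exact ⟨[3, 1, 8, 6], mem_reps (l := reps4) (by simp [repLists]) (by decide), (f1140 H)⟩
  · exact ⟨[9, 8, 1, 3, 1], mem_reps (l := reps6) (by simp [repLists]) (by decide), (f8950 H)⟩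
  · exact ⟨[9, 8, 2, 9, 5], mem_reps (l := reps5) (by simp [repLists]) (by decide), (f5703 H)⟩
  · exact ⟨[8, 6, 3, 1], mem_reps (l := reps3) (by simp [repLists]) (by decide), (f4183 H)⟩
  · exact ⟨[8, 6, 3, 6], mem_reps (l := reps3) (by simp [repLists]) (by decide), (f4178 H)⟩
  · exact ⟨[4, 8, 2, 9, 2], mem_reps (l := reps10) (by simp [repLists]) (by decide), (f4978 H)⟩
  · exact ⟨[9, 2, 5, 1, 3], mem_reps (l := reps7) (by simp [repLists]) (by decide), (f3424 H)⟩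
  · exact ⟨[4, 8, 1], mem_reps (l := reps1) (by simp [repLists]) (by decide), (f1183 H)⟩
  · exact ⟨[4, 8, 6], mem_reps (l := reps1) (by simp [repLists]) (by decide), (f1188 H)⟩
  · exact ⟨[9, 2, 4, 8, 6], mem_reps (l := reps7) (by simp [repLists]) (by decide), (f10340 H)⟩
  · exact ⟨[4, 8, 5], mem_reps (l := reps1) (by simp [repLists]) (by decide), (f1200 H)⟩
  · exact ⟨[4, 8, 5, 2, 1], mem_reps (l := reps11) (by simp [repLists]) (by decide), (f5075 H)⟩
  · exact ⟨[8, 9, 2, 6, 5], mem_reps (l := reps8) (by simp [repLists]) (by decide), (f3864 H)⟩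
  · exact ⟨[3, 6, 3, 9], mem_reps (l := reps4) (by simp [repLists]) (by decide), (f9949 H)⟩
  · exact ⟨[8, 9, 2, 1, 3], mem_reps (l := reps8) (by simp [repLists]) (by decide), (f10854 H)⟩
  · exact ⟨[3, 9, 1, 8], mem_reps (l := reps4) (by simp [repLists]) (by decide), (f3865 H)⟩
  · exact ⟨[4, 8, 1, 3, 2], mem_reps (l := reps11) (by simp [repLists]) (by decide), (f5155 H)⟩
  · exact ⟨[8, 9, 6, 8, 1], mem_reps (l := reps8) (by simp [repLists]) (by decide), (f10145 H)⟩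
  · exact ⟨[4, 2, 9, 5, 2], mem_reps (l := reps11) (by simp [repLists]) (by decide), (f5209 H)⟩
  · exact ⟨[9, 3, 2, 9, 6], mem_reps (l := reps7) (by simp [repLists]) (by decide), (f11133 H)⟩
  · exact ⟨[4, 2, 8, 9, 2], mem_reps (l := reps11) (by simp [repLists]) (by decide), (f5239 H)⟩
  · exact ⟨[9, 3, 2, 3, 1], mem_reps (l := reps7) (by simp [repLists]) (by decide), (f3639 H)⟩

theorem step3_4 : ∀ w ∈ reps4, ∃ w' ∈ reps, g 3 • path g w p = path g w' p := by
  intro w hw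
  simp only [reps4, List.mem_cons, List.not_mem_nil, or_false] at hw
  rcases hw with rfl | rfl | rfl | rfl | rfl | rfl | rfl | rfl | rfl | rfl | rfl | rfl | rfl | rfl | rfl | rfl | rfl | rfl | rfl | rfl | rfl | rfl | rfl | rfl | rfl | rfl | rfl | rfl | rfl | rfl | rfl | rfl | rfl
  · exact ⟨[3, 9, 6], mem_reps (l := reps1) (by simp [repLists]) (by decide), (f1009 H)⟩
  · exact ⟨[3, 9, 6, 8], mem_reps (l := reps4) (by simp [repLists]) (by decide), (f1014 H)⟩
  · exact ⟨[3, 9, 1], mem_reps (l := reps1) (by simp [repLists]) (by decide), (f1019 H)⟩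
  · exact ⟨[3, 9, 1, 8], mem_reps (l := reps4) (by simp [repLists]) (by decide), (f1024 H)⟩
  · exact ⟨[9, 3, 2, 9, 1], mem_reps (l := reps7) (by simp [repLists]) (by decide), (f10720 H)⟩
  · exact ⟨[3, 6, 8, 1, 3], mem_reps (l := reps10) (by simp [repLists]) (by decide), (f4744 H)⟩
  · exact ⟨[3, 6, 3, 9], mem_reps (l := reps4) (by simp [repLists]) (by decide), (f1111 H)⟩
  · exact ⟨[9, 8, 6, 8, 4], mem_reps (l := reps5) (by simp [repLists]) (by decide), (f2881 H)⟩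
  · exact ⟨[9, 2, 9, 3, 6], mem_reps (l := reps6) (by simp [repLists]) (by decide), (f11034 H)⟩
  · exact ⟨[3, 6, 3, 1, 3], mem_reps (l := reps10) (by simp [repLists]) (by decide), (f4828 H)⟩
  · exact ⟨[3, 1, 8, 6, 3], mem_reps (l := reps10) (by simp [repLists]) (by decide), (f4872 H)⟩
  · exact ⟨[3, 1, 8, 1, 3], mem_reps (l := reps10) (by simp [repLists]) (by decide), (f4890 H)⟩
  · exact ⟨[3, 1, 3, 9], mem_reps (l := reps4) (by simp [repLists]) (by decide), (f1153 H)⟩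
  · exact ⟨[9, 8, 1, 8, 4], mem_reps (l := reps6) (by simp [repLists]) (by decide), (f2927 H)⟩
  · exact ⟨[3, 1, 3, 6, 3], mem_reps (l := reps10) (by simp [repLists]) (by decide), (f4966 H)⟩
  · exact ⟨[3, 1, 3, 1, 3], mem_reps (l := reps10) (by simp [repLists]) (by decide), (f4974 H)⟩
  · exact ⟨[9, 8, 1, 8, 2], mem_reps (l := reps6) (by simp [repLists]) (by decide), (f2909 H)⟩
  · exact ⟨[4, 8, 2], mem_reps (l := reps1) (by simp [repLists]) (by decide), (f1171 H)⟩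
  · exact ⟨[8, 9, 1, 8, 1], mem_reps (l := reps8) (by simp [repLists]) (by decide), (f9411 H)⟩
  · exact ⟨[8, 6, 8, 9, 2], mem_reps (l := reps8) (by simp [repLists]) (by decide), (f11464 H)⟩
  · exact ⟨[3, 9, 6, 8, 2], mem_reps (l := reps10) (by simp [repLists]) (by decide), (f10786 H)⟩
  · exact ⟨[4, 2, 5, 8], mem_reps (l := reps5) (by simp [repLists]) (by decide), (f3578 H)⟩
  · exact ⟨[3, 9, 6, 3, 6], mem_reps (l := reps10) (by simp [repLists]) (by decide), (f10056 H)⟩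
  · exact ⟨[3, 9, 1, 3, 1], mem_reps (l := reps10) (by simp [repLists]) (by decide), (f8470 H)⟩
  · exact ⟨[4, 8, 6], mem_reps (l := reps1) (by simp [repLists]) (by decide), (f1219 H)⟩
  · exact ⟨[4, 8, 6, 8], mem_reps (l := reps4) (by simp [repLists]) (by decide), (f1228 H)⟩
  · exact ⟨[4, 8, 1], mem_reps (l := reps1) (by simp [repLists]) (by decide), (f1233 H)⟩
  · exact ⟨[4, 8, 1, 8], mem_reps (l := reps4) (by simp [repLists]) (by decide), (f1242 H)⟩
  · exact ⟨[4, 2, 9], mem_reps (l := reps1) (by simp [repLists]) (by decide), (f1247 H)⟩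
  · exact ⟨[4, 2, 9, 5, 3], mem_reps (l := reps11) (by simp [repLists]) (by decide), (f5213 H)⟩
  · exact ⟨[4, 2, 9, 8], mem_reps (l := reps4) (by simp [repLists]) (by decide), (f1264 H)⟩
  · exact ⟨[4, 2, 4, 8], mem_reps (l := reps5) (by simp [repLists]) (by decide), (f1343 H)⟩
  · exact ⟨[8, 9, 1, 3, 2], mem_reps (l := reps8) (by simp [repLists]) (by decide), (f5264 H)⟩

theorem step4_4 : ∀ w ∈ reps4, ∃ w' ∈ reps, g 4 • path g w p = path g w' p := by
  intro w hw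
  simp only [reps4, List.mem_cons, List.not_mem_nil, or_false] at hw
  rcases hw with rfl | rfl | rfl | rfl | rfl | rfl | rfl | rfl | rfl | rfl | rfl | rfl | rfl | rfl | rfl | rfl | rfl | rfl | rfl | rfl | rfl | rfl | rfl | rfl | rfl | rfl | rfl | rfl | rfl | rfl | rfl | rfl | rfl
  · exact ⟨[3, 6, 3, 9], mem_reps (l := reps4) (by simp [repLists]) (by decide), (f1109 H)⟩
  · exact ⟨[9, 8, 6, 8], mem_reps (l := reps1) (by simp [repLists]) (by decide), (f1016 H)⟩
  · exact ⟨[3, 1, 3, 9], mem_reps (l := reps4) (by simp [repLists]) (by decide), (f1151 H)⟩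
  · exact ⟨[9, 8, 1, 8], mem_reps (l := reps1) (by simp [repLists]) (by decide), (f1026 H)⟩
  · exact ⟨[3, 6, 8, 6, 4], mem_reps (l := reps10) (by simp [repLists]) (by decide), (f4732 H)⟩
  · exact ⟨[3, 6, 8, 1, 4], mem_reps (l := reps10) (by simp [repLists]) (by decide), (f4748 H)⟩
  · exact ⟨[9, 8, 6, 3], mem_reps (l := reps1) (by simp [repLists]) (by decide), (f1104 H)⟩
  · exact ⟨[3, 6, 3], mem_reps (l := reps1) (by simp [repLists]) (by decide), (f1107 H)⟩
  · exact ⟨[8, 9, 2, 1, 8], mem_reps (l := reps8) (by simp [repLists]) (by decide), (f10836 H)⟩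
  · exact ⟨[3, 9, 6, 8, 1], mem_reps (l := reps10) (by simp [repLists]) (by decide), (f4628 H)⟩
  · exact ⟨[3, 1, 8, 6, 4], mem_reps (l := reps10) (by simp [repLists]) (by decide), (f4876 H)⟩
  · exact ⟨[9, 8, 1, 3, 2], mem_reps (l := reps6) (by simp [repLists]) (by decide), (f8922 H)⟩
  · exact ⟨[9, 8, 1, 3], mem_reps (l := reps2) (by simp [repLists]) (by decide), (f1146 H)⟩
  · exact ⟨[3, 1, 3], mem_reps (l := reps1) (by simp [repLists]) (by decide), (f1149 H)⟩
  · exact ⟨[3, 9, 1, 8, 6], mem_reps (l := reps10) (by simp [repLists]) (by decide), (f4658 H)⟩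
  · exact ⟨[8, 1, 4, 2, 8], mem_reps (l := reps9) (by simp [repLists]) (by decide), (f8883 H)⟩
  · exact ⟨[4, 8, 2], mem_reps (l := reps1) (by simp [repLists]) (by decide), (f1169 H)⟩
  · exact ⟨[8, 1, 4, 8, 2], mem_reps (l := reps9) (by simp [repLists]) (by decide), (f4476 H)⟩
  · exact ⟨[9, 2, 4, 8, 2], mem_reps (l := reps7) (by simp [repLists]) (by decide), (f10605 H)⟩
  · exact ⟨[4, 8, 2, 1, 8], mem_reps (l := reps11) (by simp [repLists]) (by decide), (f10316 H)⟩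
  · exact ⟨[4, 8, 2, 9], mem_reps (l := reps4) (by simp [repLists]) (by decide), (f1194 H)⟩
  · exact ⟨[4, 8, 5, 2, 4], mem_reps (l := reps11) (by simp [repLists]) (by decide), (f5077 H)⟩
  · exact ⟨[9, 8, 2, 5, 8], mem_reps (l := reps5) (by simp [repLists]) (by decide), (f2857 H)⟩
  · exact ⟨[9, 2, 5, 2], mem_reps (l := reps2) (by simp [repLists]) (by decide), (f1608 H)⟩
  · exact ⟨[9, 2, 3, 2, 9], mem_reps (l := reps7) (by simp [repLists]) (by decide), (f3475 H)⟩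
  · exact ⟨[9, 3, 6, 8], mem_reps (l := reps2) (by simp [repLists]) (by decide), (f1230 H)⟩
  · exact ⟨[9, 8, 2, 8, 9], mem_reps (l := reps5) (by simp [repLists]) (by decide), (f1570 H)⟩
  · exact ⟨[9, 3, 1, 8], mem_reps (l := reps2) (by simp [repLists]) (by decide), (f1244 H)⟩
  · exact ⟨[4, 2, 3, 9], mem_reps (l := reps5) (by simp [repLists]) (by decide), (f1315 H)⟩
  · exact ⟨[4, 2, 5], mem_reps (l := reps1) (by simp [repLists]) (by decide), (f1260 H)⟩
  · exact ⟨[4, 2, 4, 8], mem_reps (l := reps5) (by simp [repLists]) (by decide), (f1345 H)⟩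
  · exact ⟨[4, 2, 8], mem_reps (l := reps1) (by simp [repLists]) (by decide), (f1267 H)⟩
  · exact ⟨[4, 2, 8, 6, 4], mem_reps (l := reps11) (by simp [repLists]) (by decide), (f5280 H)⟩

theorem step0_5 : ∀ w ∈ reps5, ∃ w' ∈ reps, g 0 • path g w p = path g w' p := by
  intro w hw
  simp only [reps5, List.mem_cons, List.not_mem_nil, or_false] at hw
  rcases hw with rfl | rfl | rfl | rfl | rfl | rfl | rfl | rfl | rfl | rfl | rfl | rfl | rfl | rfl | rfl | rfl | rfl | rfl | rfl | rfl | rfl | rfl | rfl | rfl | rfl | rfl | rfl | rfl | rfl | rfl | rfl | rfl | rfl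
  · exact ⟨[4, 8, 5, 2, 1], mem_reps (l := reps11) (by simp [repLists]) (by decide), (f5072 H)⟩
  · exact ⟨[8, 9, 2, 4], mem_reps (l := reps3) (by simp [repLists]) (by decide), (f3814 H)⟩
  · exact ⟨[9, 2, 5, 1, 3], mem_reps (l := reps7) (by simp [repLists]) (by decide), (f3429 H)⟩
  · exact ⟨[4, 2, 4], mem_reps (l := reps1) (by simp [repLists]) (by decide), (f1310 H)⟩
  · exact ⟨[9, 3, 2, 3, 9], mem_reps (l := reps7) (by simp [repLists]) (by decide), (f3620 H)⟩
  · exact ⟨[4, 2, 3, 6, 5], mem_reps (l := reps11) (by simp [repLists]) (by decide), (f5361 H)⟩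
  · exact ⟨[9, 2, 5, 8, 1], mem_reps (l := reps6) (by simp [repLists]) (by decide), (f3359 H)⟩
  · exact ⟨[4, 2, 4, 8, 5], mem_reps (l := reps11) (by simp [repLists]) (by decide), (f5389 H)⟩
  · exact ⟨[9, 8, 2, 9, 2, 5], mem_reps (l := reps11) (by simp [repLists]) (by decide), (f5429 H)⟩
  · exact ⟨[9, 8, 2, 9], mem_reps (l := reps1) (by simp [repLists]) (by decide), (f1361 H)⟩
  · exact ⟨[4, 8, 2, 9, 6], mem_reps (l := reps10) (by simp [repLists]) (by decide), (f4987 H)⟩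
  · exact ⟨[9, 8, 2, 9, 1, 5], mem_reps (l := reps12) (by simp [repLists]) (by decide), (f5493 H)⟩
  · exact ⟨[9, 3, 6, 3], mem_reps (l := reps2) (by simp [repLists]) (by decide), (f3762 H)⟩
  · exact ⟨[9, 2, 5, 8], mem_reps (l := reps2) (by simp [repLists]) (by decide), (f3374 H)⟩
  · exact ⟨[4, 8, 2, 8, 6], mem_reps (l := reps11) (by simp [repLists]) (by decide), (f5013 H)⟩
  · exact ⟨[9, 3, 5, 2, 1], mem_reps (l := reps8) (by simp [repLists]) (by decide), (f3714 H)⟩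
  · exact ⟨[9, 8, 2, 5, 8], mem_reps (l := reps5) (by simp [repLists]) (by decide), (f1788 H)⟩
  · exact ⟨[9, 2, 3, 2, 6], mem_reps (l := reps7) (by simp [repLists]) (by decide), (f3491 H)⟩
  · exact ⟨[4, 8, 2, 1], mem_reps (l := reps4) (by simp [repLists]) (by decide), (f1757 H)⟩
  · exact ⟨[9, 8, 2, 4], mem_reps (l := reps1) (by simp [repLists]) (by decide), (f1436 H)⟩
  · exact ⟨[8, 1, 8, 9, 2], mem_reps (l := reps9) (by simp [repLists]) (by decide), (f6777 H)⟩
  · exact ⟨[9, 2, 4, 8, 2], mem_reps (l := reps7) (by simp [repLists]) (by decide), (f10913 H)⟩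
  · exact ⟨[9, 8, 6, 3, 2], mem_reps (l := reps5) (by simp [repLists]) (by decide), (f10386 H)⟩
  · exact ⟨[9, 8, 2, 1], mem_reps (l := reps1) (by simp [repLists]) (by decide), (f1687 H)⟩
  · exact ⟨[9, 8, 2, 1, 3, 5], mem_reps (l := reps12) (by simp [repLists]) (by decide), (f5797 H)⟩
  · exact ⟨[4, 8, 6, 8, 1], mem_reps (l := reps11) (by simp [repLists]) (by decide), (f5115 H)⟩
  · exact ⟨[9, 2, 3, 6], mem_reps (l := reps2) (by simp [repLists]) (by decide), (f9000 H)⟩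
  · exact ⟨[4, 8, 6, 3], mem_reps (l := reps4) (by simp [repLists]) (by decide), (f8054 H)⟩
  · exact ⟨[9, 8, 6, 8], mem_reps (l := reps1) (by simp [repLists]) (by decide), (f2866 H)⟩
  · exact ⟨[8, 6, 4, 8, 6], mem_reps (l := reps9) (by simp [repLists]) (by decide), (f10141 H)⟩
  · exact ⟨[9, 3, 6, 8, 6], mem_reps (l := reps8) (by simp [repLists]) (by decide), (f10124 H)⟩
  · exact ⟨[9, 3, 2, 3, 6], mem_reps (l := reps7) (by simp [repLists]) (by decide), (f10125 H)⟩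
  · exact ⟨[9, 8, 2, 1, 8], mem_reps (l := reps5) (by simp [repLists]) (by decide), (f10393 H)⟩

theorem step1_5 : ∀ w ∈ reps5, ∃ w' ∈ reps, g 1 • path g w p = path g w' p := by
  intro w hw
  simp only [reps5, List.mem_cons, List.not_mem_nil, or_false] at hw
  rcases hw with rfl | rfl | rfl | rfl | rfl | rfl | rfl | rfl | rfl | rfl | rfl | rfl | rfl | rfl | rfl | rfl | rfl | rfl | rfl | rfl | rfl | rfl | rfl | rfl | rfl | rfl | rfl | rfl | rfl | rfl | rfl | rfl | rfl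
  · exact ⟨[4, 2, 8, 6], mem_reps (l := reps4) (by simp [repLists]) (by decide), (f1282 H)⟩
  · exact ⟨[8, 6, 8, 6, 8], mem_reps (l := reps9) (by simp [repLists]) (by decide), (f10442 H)⟩
  · exact ⟨[9, 2, 3, 1, 5], mem_reps (l := reps7) (by simp [repLists]) (by decide), (f3513 H)⟩
  · exact ⟨[9, 3, 9, 2, 4], mem_reps (l := reps7) (by simp [repLists]) (by decide), (f3586 H)⟩
  · exact ⟨[8, 6, 4, 8, 6], mem_reps (l := reps9) (by simp [repLists]) (by decide), (f9800 H)⟩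
  · exact ⟨[4, 2, 3], mem_reps (l := reps1) (by simp [repLists]) (by decide), (f1335 H)⟩
  · exact ⟨[4, 2, 3, 6], mem_reps (l := reps5) (by simp [repLists]) (by decide), (f1338 H)⟩
  · exact ⟨[4, 8, 2, 9, 2], mem_reps (l := reps10) (by simp [repLists]) (by decide), (f9538 H)⟩
  · exact ⟨[3, 9, 2, 4], mem_reps (l := reps3) (by simp [repLists]) (by decide), (f8240 H)⟩
  · exact ⟨[9, 8, 2, 9, 5, 1], mem_reps (l := reps12) (by simp [repLists]) (by decide), (f5468 H)⟩
  · exact ⟨[9, 8, 2, 9], mem_reps (l := reps1) (by simp [repLists]) (by decide), (f1371 H)⟩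
  · exact ⟨[9, 8, 2, 9, 6], mem_reps (l := reps5) (by simp [repLists]) (by decide), (f1376 H)⟩
  · exact ⟨[9, 8, 2, 8, 9, 1], mem_reps (l := reps12) (by simp [repLists]) (by decide), (f5514 H)⟩
  · exact ⟨[9, 3, 6, 8, 4], mem_reps (l := reps8) (by simp [repLists]) (by decide), (f7360 H)⟩
  · exact ⟨[9, 8, 2, 8], mem_reps (l := reps1) (by simp [repLists]) (by decide), (f1393 H)⟩
  · exact ⟨[9, 8, 2, 8, 6], mem_reps (l := reps5) (by simp [repLists]) (by decide), (f1396 H)⟩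
  · exact ⟨[9, 3, 9, 5], mem_reps (l := reps2) (by simp [repLists]) (by decide), (f1785 H)⟩
  · exact ⟨[9, 8, 2, 5], mem_reps (l := reps1) (by simp [repLists]) (by decide), (f1425 H)⟩
  · exact ⟨[9, 8, 2, 5, 6], mem_reps (l := reps5) (by simp [repLists]) (by decide), (f1428 H)⟩
  · exact ⟨[8, 9, 2, 1, 3], mem_reps (l := reps8) (by simp [repLists]) (by decide), (f10872 H)⟩
  · exact ⟨[4, 2, 4, 8], mem_reps (l := reps5) (by simp [repLists]) (by decide), (f9529 H)⟩
  · exact ⟨[9, 8, 2, 4], mem_reps (l := reps1) (by simp [repLists]) (by decide), (f1682 H)⟩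
  · exact ⟨[8, 6, 8, 9], mem_reps (l := reps3) (by simp [repLists]) (by decide), (f10555 H)⟩
  · exact ⟨[9, 2, 3, 2, 6], mem_reps (l := reps7) (by simp [repLists]) (by decide), (f3485 H)⟩
  · exact ⟨[9, 8, 2, 1, 3, 1], mem_reps (l := reps12) (by simp [repLists]) (by decide), (f5800 H)⟩
  · exact ⟨[9, 8, 2, 6, 4], mem_reps (l := reps5) (by simp [repLists]) (by decide), (f1700 H)⟩
  · exact ⟨[9, 2, 5, 1, 3], mem_reps (l := reps7) (by simp [repLists]) (by decide), (f11584 H)⟩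
  · exact ⟨[3, 9, 6, 3, 5], mem_reps (l := reps10) (by simp [repLists]) (by decide), (f9970 H)⟩
  · exact ⟨[9, 3, 2, 3, 9], mem_reps (l := reps7) (by simp [repLists]) (by decide), (f10114 H)⟩
  · exact ⟨[9, 8, 6, 8], mem_reps (l := reps1) (by simp [repLists]) (by decide), (f2870 H)⟩
  · exact ⟨[9, 8, 6, 8, 6], mem_reps (l := reps5) (by simp [repLists]) (by decide), (f2873 H)⟩
  · exact ⟨[9, 2, 5, 8], mem_reps (l := reps2) (by simp [repLists]) (by decide), (f10132 H)⟩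
  · exact ⟨[9, 8, 6, 3], mem_reps (l := reps1) (by simp [repLists]) (by decide), (f11552 H)⟩

theorem step2_5 : ∀ w ∈ reps5, ∃ w' ∈ reps, g 2 • path g w p = path g w' p := by
  intro w hw
  simp only [reps5, List.mem_cons, List.not_mem_nil, or_false] at hw
  rcases hw with rfl | rfl | rfl | rfl | rfl | rfl | rfl | rfl | rfl | rfl | rfl | rfl | rfl | rfl | rfl | rfl | rfl | rfl | rfl | rfl | rfl | rfl | rfl | rfl | rfl | rfl | rfl | rfl | rfl | rfl | rfl | rfl | rfl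
  · exact ⟨[9, 3, 2, 3, 6], mem_reps (l := reps7) (by simp [repLists]) (by decide), (f3626 H)⟩
  · exact ⟨[4, 2, 8, 4, 2], mem_reps (l := reps11) (by simp [repLists]) (by decide), (f5300 H)⟩
  · exact ⟨[9, 3, 9, 2, 8], mem_reps (l := reps7) (by simp [repLists]) (by decide), (f3569 H)⟩
  · exact ⟨[4, 2, 5, 4, 2], mem_reps (l := reps11) (by simp [repLists]) (by decide), (f5336 H)⟩
  · exact ⟨[4, 2, 3, 9, 2], mem_reps (l := reps11) (by simp [repLists]) (by decide), (f5340 H)⟩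
  · exact ⟨[9, 8, 2, 5, 1], mem_reps (l := reps5) (by simp [repLists]) (by decide), (f3400 H)⟩
  · exact ⟨[9, 8, 2, 5, 6], mem_reps (l := reps5) (by simp [repLists]) (by decide), (f3363 H)⟩
  · exact ⟨[4, 8, 2, 9, 1], mem_reps (l := reps11) (by simp [repLists]) (by decide), (f9539 H)⟩
  · exact ⟨[9, 8, 2, 9], mem_reps (l := reps1) (by simp [repLists]) (by decide), (f1358 H)⟩
  · exact ⟨[3, 1, 3, 9], mem_reps (l := reps4) (by simp [repLists]) (by decide), (f5642 H)⟩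
  · exact ⟨[3, 9, 2, 4], mem_reps (l := reps3) (by simp [repLists]) (by decide), (f8760 H)⟩
  · exact ⟨[3, 9, 2, 1, 4], mem_reps (l := reps10) (by simp [repLists]) (by decide), (f8228 H)⟩
  · exact ⟨[8, 6, 4, 8], mem_reps (l := reps3) (by simp [repLists]) (by decide), (f10136 H)⟩
  · exact ⟨[9, 8, 2, 8], mem_reps (l := reps1) (by simp [repLists]) (by decide), (f1386 H)⟩
  · exact ⟨[9, 3, 6, 8, 4], mem_reps (l := reps8) (by simp [repLists]) (by decide), (f7375 H)⟩
  · exact ⟨[4, 2, 3, 6, 5], mem_reps (l := reps11) (by simp [repLists]) (by decide), (f5363 H)⟩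
  · exact ⟨[9, 2, 5, 6], mem_reps (l := reps2) (by simp [repLists]) (by decide), (f1780 H)⟩
  · exact ⟨[4, 2, 3, 1], mem_reps (l := reps5) (by simp [repLists]) (by decide), (f3361 H)⟩
  · exact ⟨[4, 2, 3, 6], mem_reps (l := reps5) (by simp [repLists]) (by decide), (f3402 H)⟩
  · exact ⟨[8, 9, 6, 3, 5], mem_reps (l := reps8) (by simp [repLists]) (by decide), (f9903 H)⟩
  · exact ⟨[4, 8, 2, 9, 6], mem_reps (l := reps10) (by simp [repLists]) (by decide), (f8191 H)⟩
  · exact ⟨[9, 8, 2, 6, 4], mem_reps (l := reps5) (by simp [repLists]) (by decide), (f10592 H)⟩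
  · exact ⟨[9, 8, 2, 1, 8, 2], mem_reps (l := reps12) (by simp [repLists]) (by decide), (f5750 H)⟩
  · exact ⟨[9, 2, 3, 6], mem_reps (l := reps2) (by simp [repLists]) (by decide), (f3152 H)⟩
  · exact ⟨[3, 9, 6, 3, 6], mem_reps (l := reps10) (by simp [repLists]) (by decide), (f10374 H)⟩
  · exact ⟨[9, 8, 2, 4], mem_reps (l := reps1) (by simp [repLists]) (by decide), (f10626 H)⟩
  · exact ⟨[3, 9, 2, 1, 5], mem_reps (l := reps10) (by simp [repLists]) (by decide), (f8999 H)⟩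
  · exact ⟨[9, 8, 6, 8], mem_reps (l := reps1) (by simp [repLists]) (by decide), (f2863 H)⟩
  · exact ⟨[9, 8, 2, 1, 5, 3], mem_reps (l := reps12) (by simp [repLists]) (by decide), (f11486 H)⟩
  · exact ⟨[3, 9, 6, 3, 5], mem_reps (l := reps10) (by simp [repLists]) (by decide), (f9979 H)⟩
  · exact ⟨[9, 3, 2, 9, 8], mem_reps (l := reps7) (by simp [repLists]) (by decide), (f8029 H)⟩
  · exact ⟨[9, 3, 2, 1, 5], mem_reps (l := reps7) (by simp [repLists]) (by decide), (f10157 H)⟩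
  · exact ⟨[9, 8, 6, 3], mem_reps (l := reps1) (by simp [repLists]) (by decide), (f2885 H)⟩

theorem step3_5 : ∀ w ∈ reps5, ∃ w' ∈ reps, g 3 • path g w p = path g w' p := by
  intro w hw
  simp only [reps5, List.mem_cons, List.not_mem_nil, or_false] at hw
  rcases hw with rfl | rfl | rfl | rfl | rfl | rfl | rfl | rfl | rfl | rfl | rfl | rfl | rfl | rfl | rfl | rfl | rfl | rfl | rfl | rfl | rfl | rfl | rfl | rfl | rfl | rfl | rfl | rfl | rfl | rfl | rfl | rfl | rfl
  · exact ⟨[9, 8, 2, 1, 4], mem_reps (l := reps5) (by simp [repLists]) (by decide), (f10220 H)⟩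
  · exact ⟨[4, 2, 3, 9], mem_reps (l := reps5) (by simp [repLists]) (by decide), (f1317 H)⟩
  · exact ⟨[4, 2, 5], mem_reps (l := reps1) (by simp [repLists]) (by decide), (f1289 H)⟩
  · exact ⟨[4, 2, 5, 8, 9], mem_reps (l := reps11) (by simp [repLists]) (by decide), (f5307 H)⟩
  · exact ⟨[4, 2, 9, 3, 9], mem_reps (l := reps11) (by simp [repLists]) (by decide), (f5222 H)⟩
  · exact ⟨[8, 6, 8, 4], mem_reps (l := reps3) (by simp [repLists]) (by decide), (f9913 H)⟩
  · exact ⟨[4, 2, 3, 1, 3], mem_reps (l := reps11) (by simp [repLists]) (by decide), (f5378 H)⟩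
  · exact ⟨[4, 2, 4], mem_reps (l := reps1) (by simp [repLists]) (by decide), (f1341 H)⟩
  · exact ⟨[9, 2, 8, 6, 8], mem_reps (l := reps6) (by simp [repLists]) (by decide), (f6077 H)⟩
  · exact ⟨[9, 2, 5, 8, 1], mem_reps (l := reps6) (by simp [repLists]) (by decide), (f5679 H)⟩
  · exact ⟨[9, 8, 2, 6, 8], mem_reps (l := reps5) (by simp [repLists]) (by decide), (f8940 H)⟩
  · exact ⟨[4, 2, 8, 9, 1], mem_reps (l := reps11) (by simp [repLists]) (by decide), (f10182 H)⟩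
  · exact ⟨[9, 8, 2, 4, 8], mem_reps (l := reps5) (by simp [repLists]) (by decide), (f1705 H)⟩
  · exact ⟨[9, 3, 9, 2, 8], mem_reps (l := reps7) (by simp [repLists]) (by decide), (f3565 H)⟩
  · exact ⟨[3, 9, 1, 3, 2], mem_reps (l := reps10) (by simp [repLists]) (by decide), (f7345 H)⟩
  · exact ⟨[9, 8, 2, 8, 9, 1], mem_reps (l := reps12) (by simp [repLists]) (by decide), (f10887 H)⟩
  · exact ⟨[9, 8, 2, 5], mem_reps (l := reps1) (by simp [repLists]) (by decide), (f1403 H)⟩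
  · exact ⟨[9, 8, 1, 3, 2], mem_reps (l := reps6) (by simp [repLists]) (by decide), (f7696 H)⟩
  · exact ⟨[9, 2, 4, 8, 6], mem_reps (l := reps7) (by simp [repLists]) (by decide), (f10750 H)⟩
  · exact ⟨[4, 8, 5, 6], mem_reps (l := reps4) (by simp [repLists]) (by decide), (f2859 H)⟩
  · exact ⟨[9, 8, 2, 6], mem_reps (l := reps1) (by simp [repLists]) (by decide), (f1669 H)⟩
  · exact ⟨[9, 3, 2, 9, 2], mem_reps (l := reps7) (by simp [repLists]) (by decide), (f10958 H)⟩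
  · exact ⟨[9, 8, 2, 1], mem_reps (l := reps1) (by simp [repLists]) (by decide), (f1685 H)⟩
  · exact ⟨[9, 8, 2, 1, 5, 3], mem_reps (l := reps12) (by simp [repLists]) (by decide), (f5780 H)⟩
  · exact ⟨[9, 8, 2, 1, 8], mem_reps (l := reps5) (by simp [repLists]) (by decide), (f1692 H)⟩
  · exact ⟨[8, 6, 8, 6, 4], mem_reps (l := reps9) (by simp [repLists]) (by decide), (f10416 H)⟩
  · exact ⟨[9, 8, 2, 4], mem_reps (l := reps1) (by simp [repLists]) (by decide), (f1703 H)⟩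
  · exact ⟨[4, 2, 5, 8, 6], mem_reps (l := reps11) (by simp [repLists]) (by decide), (f5322 H)⟩
  · exact ⟨[3, 9, 6, 3, 5], mem_reps (l := reps10) (by simp [repLists]) (by decide), (f10903 H)⟩
  · exact ⟨[9, 3, 5, 6], mem_reps (l := reps2) (by simp [repLists]) (by decide), (f10554 H)⟩
  · exact ⟨[9, 2, 5, 4, 8], mem_reps (l := reps7) (by simp [repLists]) (by decide), (f10732 H)⟩
  · exact ⟨[3, 6, 8, 4], mem_reps (l := reps4) (by simp [repLists]) (by decide), (f2879 H)⟩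
  · exact ⟨[9, 3, 2, 1, 8], mem_reps (l := reps7) (by simp [repLists]) (by decide), (f10755 H)⟩

theorem step4_5 : ∀ w ∈ reps5, ∃ w' ∈ reps, g 4 • path g w p = path g w' p := by
  intro w hw
  simp only [reps5, List.mem_cons, List.not_mem_nil, or_false] at hw
  rcases hw with rfl | rfl | rfl | rfl | rfl | rfl | rfl | rfl | rfl | rfl | rfl | rfl | rfl | rfl | rfl | rfl | rfl | rfl | rfl | rfl | rfl | rfl | rfl | rfl | rfl | rfl | rfl | rfl | rfl | rfl | rfl | rfl | rfl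
  · exact ⟨[8, 6, 8, 6, 8], mem_reps (l := reps9) (by simp [repLists]) (by decide), (f10436 H)⟩
  · exact ⟨[4, 2, 8, 9], mem_reps (l := reps4) (by simp [repLists]) (by decide), (f1286 H)⟩
  · exact ⟨[4, 2, 5, 8, 4], mem_reps (l := reps11) (by simp [repLists]) (by decide), (f5324 H)⟩
  · exact ⟨[4, 2, 9, 5], mem_reps (l := reps4) (by simp [repLists]) (by decide), (f1306 H)⟩
  · exact ⟨[4, 2, 3], mem_reps (l := reps1) (by simp [repLists]) (by decide), (f1313 H)⟩
  · exact ⟨[8, 9, 6, 3], mem_reps (l := reps3) (by simp [repLists]) (by decide), (f9862 H)⟩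
  · exact ⟨[9, 2, 3, 6, 8], mem_reps (l := reps7) (by simp [repLists]) (by decide), (f8085 H)⟩
  · exact ⟨[4, 2, 9, 3, 9], mem_reps (l := reps11) (by simp [repLists]) (by decide), (f5220 H)⟩
  · exact ⟨[9, 3, 6, 3, 6], mem_reps (l := reps8) (by simp [repLists]) (by decide), (f9009 H)⟩
  · exact ⟨[9, 8, 2, 5], mem_reps (l := reps1) (by simp [repLists]) (by decide), (f1364 H)⟩
  · exact ⟨[9, 8, 2, 6], mem_reps (l := reps1) (by simp [repLists]) (by decide), (f1372 H)⟩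
  · exact ⟨[9, 8, 2, 1], mem_reps (l := reps1) (by simp [repLists]) (by decide), (f1378 H)⟩
  · exact ⟨[9, 8, 2, 8], mem_reps (l := reps1) (by simp [repLists]) (by decide), (f1381 H)⟩
  · exact ⟨[4, 8, 6, 3, 6], mem_reps (l := reps11) (by simp [repLists]) (by decide), (f7398 H)⟩
  · exact ⟨[4, 8, 1, 8, 6], mem_reps (l := reps11) (by simp [repLists]) (by decide), (f5142 H)⟩
  · exact ⟨[4, 8, 1, 8, 1], mem_reps (l := reps11) (by simp [repLists]) (by decide), (f5152 H)⟩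
  · exact ⟨[9, 3, 5, 6], mem_reps (l := reps2) (by simp [repLists]) (by decide), (f2856 H)⟩
  · exact ⟨[9, 8, 2, 5, 6, 4], mem_reps (l := reps12) (by simp [repLists]) (by decide), (f5576 H)⟩
  · exact ⟨[8, 9, 2, 1, 3], mem_reps (l := reps8) (by simp [repLists]) (by decide), (f10860 H)⟩
  · exact ⟨[9, 8, 2, 9, 5], mem_reps (l := reps5) (by simp [repLists]) (by decide), (f1432 H)⟩
  · exact ⟨[9, 8, 2, 6, 8, 4], mem_reps (l := reps12) (by simp [repLists]) (by decide), (f5710 H)⟩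
  · exact ⟨[9, 8, 2, 9, 6], mem_reps (l := reps5) (by simp [repLists]) (by decide), (f1680 H)⟩
  · exact ⟨[8, 6, 8, 6], mem_reps (l := reps3) (by simp [repLists]) (by decide), (f11531 H)⟩
  · exact ⟨[4, 8, 6, 8, 1], mem_reps (l := reps11) (by simp [repLists]) (by decide), (f5112 H)⟩
  · exact ⟨[9, 8, 2, 9, 1, 8], mem_reps (l := reps12) (by simp [repLists]) (by decide), (f5489 H)⟩
  · exact ⟨[9, 8, 2, 9, 1], mem_reps (l := reps5) (by simp [repLists]) (by decide), (f1696 H)⟩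
  · exact ⟨[4, 8, 1, 3], mem_reps (l := reps4) (by simp [repLists]) (by decide), (f1710 H)⟩
  · exact ⟨[9, 2, 3, 6, 3], mem_reps (l := reps7) (by simp [repLists]) (by decide), (f8688 H)⟩
  · exact ⟨[9, 3, 2, 3, 6], mem_reps (l := reps7) (by simp [repLists]) (by decide), (f9959 H)⟩
  · exact ⟨[9, 2, 5, 8, 1], mem_reps (l := reps6) (by simp [repLists]) (by decide), (f10038 H)⟩
  · exact ⟨[9, 2, 5, 8], mem_reps (l := reps2) (by simp [repLists]) (by decide), (f10015 H)⟩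
  · exact ⟨[3, 9, 6, 3], mem_reps (l := reps4) (by simp [repLists]) (by decide), (f2877 H)⟩
  · exact ⟨[3, 6, 8, 6], mem_reps (l := reps4) (by simp [repLists]) (by decide), (f11583 H)⟩

theorem step0_6 : ∀ w ∈ reps6, ∃ w' ∈ reps, g 0 • path g w p = path g w' p := by
  intro w hw
  simp only [reps6, List.mem_cons, List.not_mem_nil, or_false] at hw
  rcases hw with rfl | rfl | rfl | rfl | rfl | rfl | rfl | rfl | rfl | rfl | rfl | rfl | rfl | rfl | rfl | rfl | rfl | rfl | rfl | rfl | rfl | rfl | rfl | rfl | rfl | rfl | rfl | rfl | rfl | rfl | rfl | rfl | rfl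
  · exact ⟨[8, 6, 3, 9, 1], mem_reps (l := reps9) (by simp [repLists]) (by decide), (f6465 H)⟩
  · exact ⟨[4, 2, 3, 1, 3], mem_reps (l := reps11) (by simp [repLists]) (by decide), (f7768 H)⟩
  · exact ⟨[9, 8, 1, 8], mem_reps (l := reps1) (by simp [repLists]) (by decide), (f2912 H)⟩
  · exact ⟨[9, 2, 3, 9], mem_reps (l := reps2) (by simp [repLists]) (by decide), (f5668 H)⟩
  · exact ⟨[9, 8, 2, 4, 8, 6], mem_reps (l := reps12) (by simp [repLists]) (by decide), (f8509 H)⟩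
  · exact ⟨[8, 1, 4, 2, 8], mem_reps (l := reps9) (by simp [repLists]) (by decide), (f7328 H)⟩
  · exact ⟨[8, 1, 8, 9, 6], mem_reps (l := reps9) (by simp [repLists]) (by decide), (f4328 H)⟩
  · exact ⟨[3, 1, 3, 9, 1], mem_reps (l := reps10) (by simp [repLists]) (by decide), (f6239 H)⟩
  · exact ⟨[3, 1, 3, 9, 6], mem_reps (l := reps10) (by simp [repLists]) (by decide), (f8976 H)⟩
  · exact ⟨[9, 2, 9, 8], mem_reps (l := reps2) (by simp [repLists]) (by decide), (f2954 H)⟩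
  · exact ⟨[4, 8, 1, 3], mem_reps (l := reps4) (by simp [repLists]) (by decide), (f8700 H)⟩
  · exact ⟨[9, 2, 9, 5, 2, 5], mem_reps (l := reps12) (by simp [repLists]) (by decide), (f7598 H)⟩
  · exact ⟨[9, 2, 9, 5, 3, 5], mem_reps (l := reps12) (by simp [repLists]) (by decide), (f7628 H)⟩
  · exact ⟨[9, 2, 9, 5, 1], mem_reps (l := reps6) (by simp [repLists]) (by decide), (f3015 H)⟩
  · exact ⟨[9, 2, 9, 5, 6], mem_reps (l := reps6) (by simp [repLists]) (by decide), (f3013 H)⟩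
  · exact ⟨[9, 2, 9, 3, 9, 5], mem_reps (l := reps12) (by simp [repLists]) (by decide), (f7785 H)⟩
  · exact ⟨[9, 2, 9, 5, 2, 8], mem_reps (l := reps12) (by simp [repLists]) (by decide), (f9725 H)⟩
  · exact ⟨[9, 2, 9, 3], mem_reps (l := reps2) (by simp [repLists]) (by decide), (f3030 H)⟩
  · exact ⟨[8, 1, 3, 6, 8], mem_reps (l := reps9) (by simp [repLists]) (by decide), (f9642 H)⟩
  · exact ⟨[4, 2, 8, 9, 2], mem_reps (l := reps11) (by simp [repLists]) (by decide), (f9735 H)⟩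
  · exact ⟨[9, 2, 8, 9, 2, 5], mem_reps (l := reps13) (by simp [repLists]) (by decide), (f7877 H)⟩
  · exact ⟨[4, 2, 8, 4, 2], mem_reps (l := reps11) (by simp [repLists]) (by decide), (f10987 H)⟩
  · exact ⟨[8, 6, 4, 2, 9], mem_reps (l := reps9) (by simp [repLists]) (by decide), (f4231 H)⟩
  · exact ⟨[4, 2, 5, 8, 6], mem_reps (l := reps11) (by simp [repLists]) (by decide), (f5317 H)⟩
  · exact ⟨[8, 9, 1, 8, 1], mem_reps (l := reps8) (by simp [repLists]) (by decide), (f9417 H)⟩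
  · exact ⟨[9, 2, 8, 6], mem_reps (l := reps2) (by simp [repLists]) (by decide), (f3300 H)⟩
  · exact ⟨[8, 6, 3, 1, 3], mem_reps (l := reps9) (by simp [repLists]) (by decide), (f11119 H)⟩
  · exact ⟨[9, 8, 2, 8, 9, 1], mem_reps (l := reps12) (by simp [repLists]) (by decide), (f9713 H)⟩
  · exact ⟨[3, 6, 3, 9, 6], mem_reps (l := reps10) (by simp [repLists]) (by decide), (f10801 H)⟩
  · exact ⟨[8, 6, 4, 2, 4], mem_reps (l := reps9) (by simp [repLists]) (by decide), (f4245 H)⟩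
  · exact ⟨[4, 2, 3, 1], mem_reps (l := reps5) (by simp [repLists]) (by decide), (f3356 H)⟩
  · exact ⟨[4, 8, 6, 3, 6], mem_reps (l := reps11) (by simp [repLists]) (by decide), (f7403 H)⟩
  · exact ⟨[9, 2, 5, 1, 4], mem_reps (l := reps7) (by simp [repLists]) (by decide), (f3437 H)⟩

theorem step1_6 : ∀ w ∈ reps6, ∃ w' ∈ reps, g 1 • path g w p = path g w' p := by
  intro w hw
  simp only [reps6, List.mem_cons, List.not_mem_nil, or_false] at hw
  rcases hw with rfl | rfl | rfl | rfl | rfl | rfl | rfl | rfl | rfl | rfl | rfl | rfl | rfl | rfl | rfl | rfl | rfl | rfl | rfl | rfl | rfl | rfl | rfl | rfl | rfl | rfl | rfl | rfl | rfl | rfl | rfl | rfl | rfl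
  · exact ⟨[9, 8, 6, 3, 2], mem_reps (l := reps5) (by simp [repLists]) (by decide), (f10518 H)⟩
  · exact ⟨[9, 8, 1, 8, 6], mem_reps (l := reps6) (by simp [repLists]) (by decide), (f8395 H)⟩
  · exact ⟨[9, 3, 1, 8], mem_reps (l := reps2) (by simp [repLists]) (by decide), (f9010 H)⟩
  · exact ⟨[9, 8, 1, 8], mem_reps (l := reps1) (by simp [repLists]) (by decide), (f2916 H)⟩
  · exact ⟨[9, 2, 8, 2, 6], mem_reps (l := reps6) (by simp [repLists]) (by decide), (f5624 H)⟩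
  · exact ⟨[3, 1, 8, 6, 4], mem_reps (l := reps10) (by simp [repLists]) (by decide), (f8868 H)⟩
  · exact ⟨[9, 8, 1, 3], mem_reps (l := reps2) (by simp [repLists]) (by decide), (f2940 H)⟩
  · exact ⟨[9, 8, 1, 3, 6], mem_reps (l := reps6) (by simp [repLists]) (by decide), (f2945 H)⟩
  · exact ⟨[8, 1, 3, 9], mem_reps (l := reps3) (by simp [repLists]) (by decide), (f8148 H)⟩
  · exact ⟨[3, 9, 1, 3], mem_reps (l := reps4) (by simp [repLists]) (by decide), (f5651 H)⟩
  · exact ⟨[9, 2, 9, 8], mem_reps (l := reps2) (by simp [repLists]) (by decide), (f2960 H)⟩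
  · exact ⟨[9, 2, 9, 5, 2, 1], mem_reps (l := reps12) (by simp [repLists]) (by decide), (f7609 H)⟩
  · exact ⟨[9, 2, 9, 5, 3, 1], mem_reps (l := reps12) (by simp [repLists]) (by decide), (f7631 H)⟩
  · exact ⟨[9, 2, 9, 5], mem_reps (l := reps2) (by simp [repLists]) (by decide), (f3002 H)⟩
  · exact ⟨[9, 2, 9, 5, 6], mem_reps (l := reps6) (by simp [repLists]) (by decide), (f3009 H)⟩
  · exact ⟨[4, 2, 5, 4, 2], mem_reps (l := reps11) (by simp [repLists]) (by decide), (f11564 H)⟩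
  · exact ⟨[9, 3, 2, 6, 4], mem_reps (l := reps7) (by simp [repLists]) (by decide), (f9585 H)⟩
  · exact ⟨[9, 2, 9, 3, 5, 1], mem_reps (l := reps13) (by simp [repLists]) (by decide), (f7846 H)⟩
  · exact ⟨[9, 2, 9, 3], mem_reps (l := reps2) (by simp [repLists]) (by decide), (f3034 H)⟩
  · exact ⟨[9, 2, 9, 3, 6], mem_reps (l := reps6) (by simp [repLists]) (by decide), (f3037 H)⟩
  · exact ⟨[9, 2, 5, 4, 8], mem_reps (l := reps7) (by simp [repLists]) (by decide), (f11253 H)⟩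
  · exact ⟨[9, 2, 8, 9], mem_reps (l := reps2) (by simp [repLists]) (by decide), (f3050 H)⟩
  · exact ⟨[9, 2, 8, 9, 6], mem_reps (l := reps6) (by simp [repLists]) (by decide), (f3055 H)⟩
  · exact ⟨[9, 2, 8, 2], mem_reps (l := reps2) (by simp [repLists]) (by decide), (f3254 H)⟩
  · exact ⟨[8, 1, 8, 6, 4], mem_reps (l := reps9) (by simp [repLists]) (by decide), (f9419 H)⟩
  · exact ⟨[8, 4, 2, 5], mem_reps (l := reps3) (by simp [repLists]) (by decide), (f3304 H)⟩
  · exact ⟨[9, 2, 8, 4], mem_reps (l := reps2) (by simp [repLists]) (by decide), (f3313 H)⟩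
  · exact ⟨[9, 2, 8, 1, 8, 1], mem_reps (l := reps13) (by simp [repLists]) (by decide), (f11652 H)⟩
  · exact ⟨[8, 6, 3, 9], mem_reps (l := reps3) (by simp [repLists]) (by decide), (f10790 H)⟩
  · exact ⟨[9, 2, 8, 6, 4], mem_reps (l := reps6) (by simp [repLists]) (by decide), (f3327 H)⟩
  · exact ⟨[9, 8, 6, 8, 4], mem_reps (l := reps5) (by simp [repLists]) (by decide), (f9988 H)⟩
  · exact ⟨[3, 9, 6, 3, 6], mem_reps (l := reps10) (by simp [repLists]) (by decide), (f10119 H)⟩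
  · exact ⟨[9, 2, 5, 4], mem_reps (l := reps2) (by simp [repLists]) (by decide), (f3418 H)⟩

theorem step2_6 : ∀ w ∈ reps6, ∃ w' ∈ reps, g 2 • path g w p = path g w' p := by
  intro w hw
  simp only [reps6, List.mem_cons, List.not_mem_nil, or_false] at hw
  rcases hw with rfl | rfl | rfl | rfl | rfl | rfl | rfl | rfl | rfl | rfl | rfl | rfl | rfl | rfl | rfl | rfl | rfl | rfl | rfl | rfl | rfl | rfl | rfl | rfl | rfl | rfl | rfl | rfl | rfl | rfl | rfl | rfl | rfl
  · exact ⟨[9, 8, 6, 3, 1], mem_reps (l := reps6) (by simp [repLists]) (by decide), (f10524 H)⟩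
  · exact ⟨[9, 8, 1, 8], mem_reps (l := reps1) (by simp [repLists]) (by decide), (f2905 H)⟩
  · exact ⟨[8, 9, 1, 8, 1], mem_reps (l := reps8) (by simp [repLists]) (by decide), (f8354 H)⟩
  · exact ⟨[9, 8, 1, 8, 6], mem_reps (l := reps6) (by simp [repLists]) (by decide), (f8386 H)⟩
  · exact ⟨[9, 2, 8, 6], mem_reps (l := reps2) (by simp [repLists]) (by decide), (f5627 H)⟩
  · exact ⟨[9, 8, 1, 3], mem_reps (l := reps2) (by simp [repLists]) (by decide), (f2931 H)⟩
  · exact ⟨[3, 1, 8, 6, 4], mem_reps (l := reps10) (by simp [repLists]) (by decide), (f8843 H)⟩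
  · exact ⟨[3, 1, 8, 4], mem_reps (l := reps4) (by simp [repLists]) (by decide), (f8858 H)⟩
  · exact ⟨[9, 2, 9, 8], mem_reps (l := reps2) (by simp [repLists]) (by decide), (f2951 H)⟩
  · exact ⟨[9, 2, 9, 5, 3], mem_reps (l := reps6) (by simp [repLists]) (by decide), (f9634 H)⟩
  · exact ⟨[8, 1, 3, 9], mem_reps (l := reps3) (by simp [repLists]) (by decide), (f8988 H)⟩
  · exact ⟨[9, 2, 9, 5], mem_reps (l := reps2) (by simp [repLists]) (by decide), (f2995 H)⟩
  · exact ⟨[9, 2, 9, 8, 5], mem_reps (l := reps6) (by simp [repLists]) (by decide), (f9678 H)⟩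
  · exact ⟨[9, 2, 9, 5, 2, 1], mem_reps (l := reps12) (by simp [repLists]) (by decide), (f7615 H)⟩
  · exact ⟨[9, 2, 9, 5, 2, 6], mem_reps (l := reps12) (by simp [repLists]) (by decide), (f7606 H)⟩
  · exact ⟨[9, 3, 9, 2, 4], mem_reps (l := reps7) (by simp [repLists]) (by decide), (f11577 H)⟩
  · exact ⟨[9, 2, 9, 3], mem_reps (l := reps2) (by simp [repLists]) (by decide), (f3027 H)⟩
  · exact ⟨[9, 2, 9, 3, 5, 2], mem_reps (l := reps12) (by simp [repLists]) (by decide), (f7836 H)⟩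
  · exact ⟨[9, 3, 2, 6, 4], mem_reps (l := reps7) (by simp [repLists]) (by decide), (f9576 H)⟩
  · exact ⟨[9, 3, 2, 4], mem_reps (l := reps2) (by simp [repLists]) (by decide), (f9603 H)⟩
  · exact ⟨[9, 2, 8, 9], mem_reps (l := reps2) (by simp [repLists]) (by decide), (f3041 H)⟩
  · exact ⟨[9, 2, 5, 4, 8], mem_reps (l := reps7) (by simp [repLists]) (by decide), (f11262 H)⟩
  · exact ⟨[3, 6, 8, 1, 3], mem_reps (l := reps10) (by simp [repLists]) (by decide), (f11223 H)⟩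
  · exact ⟨[9, 2, 8, 1], mem_reps (l := reps2) (by simp [repLists]) (by decide), (f3286 H)⟩
  · exact ⟨[4, 8, 2, 6, 8], mem_reps (l := reps11) (by simp [repLists]) (by decide), (f5020 H)⟩
  · exact ⟨[9, 2, 5, 8, 1], mem_reps (l := reps6) (by simp [repLists]) (by decide), (f3396 H)⟩
  · exact ⟨[9, 2, 8, 6, 4], mem_reps (l := reps6) (by simp [repLists]) (by decide), (f8308 H)⟩
  · exact ⟨[9, 2, 9, 5, 2, 4], mem_reps (l := reps12) (by simp [repLists]) (by decide), (f9740 H)⟩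
  · exact ⟨[9, 3, 6, 8, 1], mem_reps (l := reps8) (by simp [repLists]) (by decide), (f10807 H)⟩
  · exact ⟨[9, 2, 8, 4], mem_reps (l := reps2) (by simp [repLists]) (by decide), (f8316 H)⟩
  · exact ⟨[9, 2, 8, 6, 5], mem_reps (l := reps6) (by simp [repLists]) (by decide), (f3354 H)⟩
  · exact ⟨[9, 8, 2, 1, 3, 1], mem_reps (l := reps12) (by simp [repLists]) (by decide), (f10354 H)⟩
  · exact ⟨[9, 2, 5, 6, 4, 2], mem_reps (l := reps13) (by simp [repLists]) (by decide), (f11692 H)⟩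

theorem step3_6 : ∀ w ∈ reps6, ∃ w' ∈ reps, g 3 • path g w p = path g w' p := by
  intro w hw
  simp only [reps6, List.mem_cons, List.not_mem_nil, or_false] at hw
  rcases hw with rfl | rfl | rfl | rfl | rfl | rfl | rfl | rfl | rfl | rfl | rfl | rfl | rfl | rfl | rfl | rfl | rfl | rfl | rfl | rfl | rfl | rfl | rfl | rfl | rfl | rfl | rfl | rfl | rfl | rfl | rfl | rfl | rfl
  · exact ⟨[9, 8, 6, 3, 1, 3], mem_reps (l := reps12) (by simp [repLists]) (by decide), (f6024 H)⟩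
  · exact ⟨[9, 3, 5, 1], mem_reps (l := reps2) (by simp [repLists]) (by decide), (f2907 H)⟩
  · exact ⟨[3, 9, 1, 3, 5], mem_reps (l := reps10) (by simp [repLists]) (by decide), (f7740 H)⟩
  · exact ⟨[9, 8, 1, 8, 6, 3], mem_reps (l := reps12) (by simp [repLists]) (by decide), (f6120 H)⟩
  · exact ⟨[3, 1, 8, 4], mem_reps (l := reps4) (by simp [repLists]) (by decide), (f2925 H)⟩
  · exact ⟨[9, 8, 2, 5, 6, 8], mem_reps (l := reps12) (by simp [repLists]) (by decide), (f7703 H)⟩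
  · exact ⟨[9, 8, 1, 3, 6, 3], mem_reps (l := reps12) (by simp [repLists]) (by decide), (f6202 H)⟩
  · exact ⟨[9, 8, 2, 9, 5, 6], mem_reps (l := reps12) (by simp [repLists]) (by decide), (f8954 H)⟩
  · exact ⟨[9, 2, 9, 8, 2, 3], mem_reps (l := reps12) (by simp [repLists]) (by decide), (f7440 H)⟩
  · exact ⟨[8, 9, 2, 9], mem_reps (l := reps3) (by simp [repLists]) (by decide), (f3795 H)⟩
  · exact ⟨[4, 2, 3, 1], mem_reps (l := reps5) (by simp [repLists]) (by decide), (f8098 H)⟩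
  · exact ⟨[3, 1, 8, 6, 4], mem_reps (l := reps10) (by simp [repLists]) (by decide), (f9668 H)⟩
  · exact ⟨[8, 4, 2, 4], mem_reps (l := reps3) (by simp [repLists]) (by decide), (f3285 H)⟩
  · exact ⟨[9, 3, 2, 4, 8], mem_reps (l := reps7) (by simp [repLists]) (by decide), (f3682 H)⟩
  · exact ⟨[9, 2, 9, 5, 1, 3], mem_reps (l := reps12) (by simp [repLists]) (by decide), (f7774 H)⟩
  · exact ⟨[9, 2, 8, 4], mem_reps (l := reps2) (by simp [repLists]) (by decide), (f3024 H)⟩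
  · exact ⟨[9, 2, 3, 9, 2], mem_reps (l := reps7) (by simp [repLists]) (by decide), (f9382 H)⟩
  · exact ⟨[9, 2, 9, 3, 5, 3], mem_reps (l := reps13) (by simp [repLists]) (by decide), (f7840 H)⟩
  · exact ⟨[8, 9, 2, 1, 4], mem_reps (l := reps8) (by simp [repLists]) (by decide), (f11004 H)⟩
  · exact ⟨[4, 2, 5, 4, 2], mem_reps (l := reps11) (by simp [repLists]) (by decide), (f10224 H)⟩
  · exact ⟨[4, 2, 3, 9, 2], mem_reps (l := reps11) (by simp [repLists]) (by decide), (f11520 H)⟩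
  · exact ⟨[9, 2, 8, 9, 6, 3], mem_reps (l := reps13) (by simp [repLists]) (by decide), (f7915 H)⟩
  · exact ⟨[8, 6, 3, 6, 8], mem_reps (l := reps9) (by simp [repLists]) (by decide), (f10827 H)⟩
  · exact ⟨[4, 8, 2, 4], mem_reps (l := reps4) (by simp [repLists]) (by decide), (f8457 H)⟩
  · exact ⟨[9, 2, 8, 6], mem_reps (l := reps2) (by simp [repLists]) (by decide), (f3298 H)⟩
  · exact ⟨[8, 1, 8, 9, 2], mem_reps (l := reps9) (by simp [repLists]) (by decide), (f7969 H)⟩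
  · exact ⟨[8, 1, 8, 1], mem_reps (l := reps3) (by simp [repLists]) (by decide), (f8293 H)⟩
  · exact ⟨[9, 2, 8, 1], mem_reps (l := reps2) (by simp [repLists]) (by decide), (f3316 H)⟩
  · exact ⟨[9, 2, 8, 1, 8], mem_reps (l := reps6) (by simp [repLists]) (by decide), (f3319 H)⟩
  · exact ⟨[9, 2, 8, 1, 8, 9], mem_reps (l := reps13) (by simp [repLists]) (by decide), (f7996 H)⟩
  · exact ⟨[9, 3, 5, 2, 4], mem_reps (l := reps8) (by simp [repLists]) (by decide), (f5680 H)⟩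
  · exact ⟨[8, 4, 2, 9], mem_reps (l := reps3) (by simp [repLists]) (by decide), (f3412 H)⟩
  · exact ⟨[9, 3, 2, 3, 9], mem_reps (l := reps7) (by simp [repLists]) (by decide), (f3622 H)⟩

theorem step4_6 : ∀ w ∈ reps6, ∃ w' ∈ reps, g 4 • path g w p = path g w' p := by
  intro w hw
  simp only [reps6, List.mem_cons, List.not_mem_nil, or_false] at hw
  rcases hw with rfl | rfl | rfl | rfl | rfl | rfl | rfl | rfl | rfl | rfl | rfl | rfl | rfl | rfl | rfl | rfl | rfl | rfl | rfl | rfl | rfl | rfl | rfl | rfl | rfl | rfl | rfl | rfl | rfl | rfl | rfl | rfl | rfl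
  · exact ⟨[3, 6, 8, 1], mem_reps (l := reps4) (by simp [repLists]) (by decide), (f2901 H)⟩
  · exact ⟨[9, 2, 8, 2, 6], mem_reps (l := reps6) (by simp [repLists]) (by decide), (f8936 H)⟩
  · exact ⟨[9, 8, 2, 4, 8, 6], mem_reps (l := reps12) (by simp [repLists]) (by decide), (f8938 H)⟩
  · exact ⟨[9, 2, 8, 2], mem_reps (l := reps2) (by simp [repLists]) (by decide), (f5659 H)⟩
  · exact ⟨[3, 9, 1, 3], mem_reps (l := reps4) (by simp [repLists]) (by decide), (f2923 H)⟩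
  · exact ⟨[9, 8, 1, 3, 1], mem_reps (l := reps6) (by simp [repLists]) (by decide), (f9389 H)⟩
  · exact ⟨[3, 1, 8, 6], mem_reps (l := reps4) (by simp [repLists]) (by decide), (f2941 H)⟩
  · exact ⟨[3, 1, 8, 1], mem_reps (l := reps4) (by simp [repLists]) (by decide), (f2947 H)⟩
  · exact ⟨[8, 1, 3, 6], mem_reps (l := reps3) (by simp [repLists]) (by decide), (f8971 H)⟩
  · exact ⟨[9, 8, 1, 8, 6], mem_reps (l := reps6) (by simp [repLists]) (by decide), (f5674 H)⟩
  · exact ⟨[9, 2, 3, 9, 6], mem_reps (l := reps7) (by simp [repLists]) (by decide), (f3461 H)⟩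
  · exact ⟨[9, 2, 9, 5, 2, 4], mem_reps (l := reps12) (by simp [repLists]) (by decide), (f7617 H)⟩
  · exact ⟨[9, 2, 5, 4, 8], mem_reps (l := reps7) (by simp [repLists]) (by decide), (f3449 H)⟩
  · exact ⟨[9, 2, 5, 6], mem_reps (l := reps2) (by simp [repLists]) (by decide), (f3003 H)⟩
  · exact ⟨[9, 2, 5, 1], mem_reps (l := reps2) (by simp [repLists]) (by decide), (f3011 H)⟩
  · exact ⟨[9, 2, 9, 3], mem_reps (l := reps2) (by simp [repLists]) (by decide), (f3018 H)⟩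
  · exact ⟨[9, 3, 2, 9, 1], mem_reps (l := reps7) (by simp [repLists]) (by decide), (f9729 H)⟩
  · exact ⟨[9, 2, 4, 8, 5], mem_reps (l := reps7) (by simp [repLists]) (by decide), (f3527 H)⟩
  · exact ⟨[9, 2, 4, 8, 6], mem_reps (l := reps7) (by simp [repLists]) (by decide), (f3531 H)⟩
  · exact ⟨[9, 2, 4, 8, 1], mem_reps (l := reps7) (by simp [repLists]) (by decide), (f3537 H)⟩
  · exact ⟨[9, 2, 8, 9, 2, 8], mem_reps (l := reps13) (by simp [repLists]) (by decide), (f11424 H)⟩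
  · exact ⟨[9, 2, 8, 6], mem_reps (l := reps2) (by simp [repLists]) (by decide), (f3051 H)⟩
  · exact ⟨[9, 2, 8, 1], mem_reps (l := reps2) (by simp [repLists]) (by decide), (f3057 H)⟩
  · exact ⟨[3, 9, 1, 3, 1], mem_reps (l := reps10) (by simp [repLists]) (by decide), (f5645 H)⟩
  · exact ⟨[8, 1, 8, 9, 1], mem_reps (l := reps9) (by simp [repLists]) (by decide), (f8326 H)⟩
  · exact ⟨[8, 6, 3, 1, 3], mem_reps (l := reps9) (by simp [repLists]) (by decide), (f11113 H)⟩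
  · exact ⟨[9, 2, 8, 9, 6], mem_reps (l := reps6) (by simp [repLists]) (by decide), (f3311 H)⟩
  · exact ⟨[9, 3, 5, 2, 1], mem_reps (l := reps8) (by simp [repLists]) (by decide), (f9704 H)⟩
  · exact ⟨[8, 6, 3, 6], mem_reps (l := reps3) (by simp [repLists]) (by decide), (f11581 H)⟩
  · exact ⟨[9, 2, 8, 9, 1], mem_reps (l := reps6) (by simp [repLists]) (by decide), (f3323 H)⟩
  · exact ⟨[3, 9, 6, 3, 6], mem_reps (l := reps10) (by simp [repLists]) (by decide), (f10139 H)⟩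
  · exact ⟨[9, 8, 6, 8, 1], mem_reps (l := reps5) (by simp [repLists]) (by decide), (f10128 H)⟩
  · exact ⟨[9, 2, 9, 5, 6], mem_reps (l := reps6) (by simp [repLists]) (by decide), (f3416 H)⟩

theorem step0_7 : ∀ w ∈ reps7, ∃ w' ∈ reps, g 0 • path g w p = path g w' p := by
  intro w hw
  simp only [reps7, List.mem_cons, List.not_mem_nil, or_false] at hw
  rcases hw with rfl | rfl | rfl | rfl | rfl | rfl | rfl | rfl | rfl | rfl | rfl | rfl | rfl | rfl | rfl | rfl | rfl | rfl | rfl | rfl | rfl | rfl | rfl | rfl | rfl | rfl | rfl | rfl | rfl | rfl | rfl | rfl | rfl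
  · exact ⟨[4, 2, 5, 8], mem_reps (l := reps5) (by simp [repLists]) (by decide), (f3431 H)⟩
  · exact ⟨[9, 2, 5, 6, 4], mem_reps (l := reps6) (by simp [repLists]) (by decide), (f3438 H)⟩
  · exact ⟨[9, 2, 5, 4, 8, 5], mem_reps (l := reps13) (by simp [repLists]) (by decide), (f11741 H)⟩
  · exact ⟨[9, 2, 5, 4, 2, 5], mem_reps (l := reps13) (by simp [repLists]) (by decide), (f11753 H)⟩
  · exact ⟨[3, 9, 2, 1, 4], mem_reps (l := reps10) (by simp [repLists]) (by decide), (f7705 H)⟩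
  · exact ⟨[9, 3, 1, 8], mem_reps (l := reps2) (by simp [repLists]) (by decide), (f8647 H)⟩
  · exact ⟨[4, 8, 2, 9], mem_reps (l := reps4) (by simp [repLists]) (by decide), (f3476 H)⟩
  · exact ⟨[9, 8, 2, 5, 6], mem_reps (l := reps5) (by simp [repLists]) (by decide), (f3488 H)⟩
  · exact ⟨[3, 9, 6, 3, 6], mem_reps (l := reps10) (by simp [repLists]) (by decide), (f10071 H)⟩
  · exact ⟨[9, 3, 6, 8], mem_reps (l := reps2) (by simp [repLists]) (by decide), (f8680 H)⟩
  · exact ⟨[9, 2, 3, 1], mem_reps (l := reps2) (by simp [repLists]) (by decide), (f3509 H)⟩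
  · exact ⟨[9, 8, 2, 6, 4], mem_reps (l := reps5) (by simp [repLists]) (by decide), (f10613 H)⟩
  · exact ⟨[9, 2, 4, 8], mem_reps (l := reps2) (by simp [repLists]) (by decide), (f3523 H)⟩
  · exact ⟨[9, 2, 4, 8, 6, 5], mem_reps (l := reps13) (by simp [repLists]) (by decide), (f11859 H)⟩
  · exact ⟨[3, 9, 6, 3, 2], mem_reps (l := reps10) (by simp [repLists]) (by decide), (f10333 H)⟩
  · exact ⟨[8, 9, 2, 8, 9], mem_reps (l := reps8) (by simp [repLists]) (by decide), (f3836 H)⟩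
  · exact ⟨[4, 8, 5, 2], mem_reps (l := reps4) (by simp [repLists]) (by decide), (f3570 H)⟩
  · exact ⟨[8, 9, 2, 8, 4], mem_reps (l := reps8) (by simp [repLists]) (by decide), (f3848 H)⟩
  · exact ⟨[4, 2, 9, 8], mem_reps (l := reps4) (by simp [repLists]) (by decide), (f3592 H)⟩
  · exact ⟨[9, 3, 2, 9, 2, 5], mem_reps (l := reps13) (by simp [repLists]) (by decide), (f11927 H)⟩
  · exact ⟨[9, 3, 2, 9, 3, 5], mem_reps (l := reps13) (by simp [repLists]) (by decide), (f11963 H)⟩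
  · exact ⟨[8, 9, 2, 4, 2], mem_reps (l := reps8) (by simp [repLists]) (by decide), (f11059 H)⟩
  · exact ⟨[3, 1, 8, 6, 8], mem_reps (l := reps10) (by simp [repLists]) (by decide), (f10972 H)⟩
  · exact ⟨[4, 2, 3, 9], mem_reps (l := reps5) (by simp [repLists]) (by decide), (f3617 H)⟩
  · exact ⟨[9, 8, 6, 8, 4], mem_reps (l := reps5) (by simp [repLists]) (by decide), (f9966 H)⟩
  · exact ⟨[9, 3, 6, 8, 4], mem_reps (l := reps8) (by simp [repLists]) (by decide), (f7372 H)⟩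
  · exact ⟨[4, 8, 2, 9, 2], mem_reps (l := reps10) (by simp [repLists]) (by decide), (f7749 H)⟩
  · exact ⟨[9, 2, 3, 2, 6, 8], mem_reps (l := reps13) (by simp [repLists]) (by decide), (f11823 H)⟩
  · exact ⟨[8, 1, 4, 2, 4], mem_reps (l := reps9) (by simp [repLists]) (by decide), (f4519 H)⟩
  · exact ⟨[9, 3, 6, 3, 2], mem_reps (l := reps8) (by simp [repLists]) (by decide), (f10784 H)⟩
  · exact ⟨[9, 3, 2, 1], mem_reps (l := reps2) (by simp [repLists]) (by decide), (f3656 H)⟩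
  · exact ⟨[9, 3, 2, 4, 8, 5], mem_reps (l := reps14) (by simp [repLists]) (by decide), (f12045 H)⟩
  · exact ⟨[3, 9, 6, 8, 2], mem_reps (l := reps10) (by simp [repLists]) (by decide), (f8449 H)⟩

theorem step1_7 : ∀ w ∈ reps7, ∃ w' ∈ reps, g 1 • path g w p = path g w' p := by
  intro w hw
  simp only [reps7, List.mem_cons, List.not_mem_nil, or_false] at hw
  rcases hw with rfl | rfl | rfl | rfl | rfl | rfl | rfl | rfl | rfl | rfl | rfl | rfl | rfl | rfl | rfl | rfl | rfl | rfl | rfl | rfl | rfl | rfl | rfl | rfl | rfl | rfl | rfl | rfl | rfl | rfl | rfl | rfl | rfl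
  · exact ⟨[9, 8, 2, 4, 8, 6], mem_reps (l := reps12) (by simp [repLists]) (by decide), (f8621 H)⟩
  · exact ⟨[9, 2, 5, 6, 4], mem_reps (l := reps6) (by simp [repLists]) (by decide), (f3442 H)⟩
  · exact ⟨[3, 6, 8, 1, 3], mem_reps (l := reps10) (by simp [repLists]) (by decide), (f11254 H)⟩
  · exact ⟨[9, 2, 5, 6, 4, 2], mem_reps (l := reps13) (by simp [repLists]) (by decide), (f11696 H)⟩
  · exact ⟨[8, 1, 4, 2, 3], mem_reps (l := reps9) (by simp [repLists]) (by decide), (f9004 H)⟩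
  · exact ⟨[9, 2, 3, 9], mem_reps (l := reps2) (by simp [repLists]) (by decide), (f3459 H)⟩
  · exact ⟨[9, 8, 2, 9, 1, 5], mem_reps (l := reps12) (by simp [repLists]) (by decide), (f5499 H)⟩
  · exact ⟨[9, 2, 3, 2], mem_reps (l := reps2) (by simp [repLists]) (by decide), (f3483 H)⟩
  · exact ⟨[8, 9, 6, 3], mem_reps (l := reps3) (by simp [repLists]) (by decide), (f9898 H)⟩
  · exact ⟨[9, 8, 6, 8, 5], mem_reps (l := reps5) (by simp [repLists]) (by decide), (f10106 H)⟩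
  · exact ⟨[4, 2, 5, 8, 6], mem_reps (l := reps11) (by simp [repLists]) (by decide), (f5311 H)⟩
  · exact ⟨[4, 8, 2, 4], mem_reps (l := reps4) (by simp [repLists]) (by decide), (f10615 H)⟩
  · exact ⟨[9, 8, 2, 8, 1, 8], mem_reps (l := reps12) (by simp [repLists]) (by decide), (f10907 H)⟩
  · exact ⟨[9, 2, 4, 8], mem_reps (l := reps2) (by simp [repLists]) (by decide), (f3529 H)⟩
  · exact ⟨[9, 2, 4, 8, 6], mem_reps (l := reps7) (by simp [repLists]) (by decide), (f3534 H)⟩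
  · exact ⟨[8, 9, 2, 8, 9], mem_reps (l := reps8) (by simp [repLists]) (by decide), (f3840 H)⟩
  · exact ⟨[8, 9, 2, 1, 5], mem_reps (l := reps8) (by simp [repLists]) (by decide), (f3894 H)⟩
  · exact ⟨[8, 9, 2, 8, 4], mem_reps (l := reps8) (by simp [repLists]) (by decide), (f3852 H)⟩
  · exact ⟨[9, 8, 6, 8, 2], mem_reps (l := reps5) (by simp [repLists]) (by decide), (f8025 H)⟩
  · exact ⟨[4, 2, 9, 3], mem_reps (l := reps4) (by simp [repLists]) (by decide), (f10947 H)⟩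
  · exact ⟨[9, 2, 5, 4, 2, 5], mem_reps (l := reps13) (by simp [repLists]) (by decide), (f11763 H)⟩
  · exact ⟨[9, 3, 2, 9], mem_reps (l := reps2) (by simp [repLists]) (by decide), (f3604 H)⟩
  · exact ⟨[9, 3, 2, 9, 6], mem_reps (l := reps7) (by simp [repLists]) (by decide), (f3609 H)⟩
  · exact ⟨[9, 2, 3, 6, 3], mem_reps (l := reps7) (by simp [repLists]) (by decide), (f8694 H)⟩
  · exact ⟨[9, 3, 2, 3], mem_reps (l := reps2) (by simp [repLists]) (by decide), (f3624 H)⟩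
  · exact ⟨[9, 3, 2, 3, 6], mem_reps (l := reps7) (by simp [repLists]) (by decide), (f3635 H)⟩
  · exact ⟨[9, 2, 3, 2, 6, 8], mem_reps (l := reps13) (by simp [repLists]) (by decide), (f11821 H)⟩
  · exact ⟨[4, 2, 4, 8, 5], mem_reps (l := reps11) (by simp [repLists]) (by decide), (f9478 H)⟩
  · exact ⟨[9, 3, 2, 4], mem_reps (l := reps2) (by simp [repLists]) (by decide), (f3651 H)⟩
  · exact ⟨[9, 3, 2, 1, 8, 1], mem_reps (l := reps13) (by simp [repLists]) (by decide), (f12022 H)⟩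
  · exact ⟨[9, 2, 8, 6, 5], mem_reps (l := reps6) (by simp [repLists]) (by decide), (f3661 H)⟩
  · exact ⟨[9, 8, 2, 5, 6, 8], mem_reps (l := reps12) (by simp [repLists]) (by decide), (f11205 H)⟩
  · exact ⟨[9, 2, 8, 1, 8], mem_reps (l := reps6) (by simp [repLists]) (by decide), (f10153 H)⟩

theorem step2_7 : ∀ w ∈ reps7, ∃ w' ∈ reps, g 2 • path g w p = path g w' p := by
  intro w hw
  simp only [reps7, List.mem_cons, List.not_mem_nil, or_false] at hw
  rcases hw with rfl | rfl | rfl | rfl | rfl | rfl | rfl | rfl | rfl | rfl | rfl | rfl | rfl | rfl | rfl | rfl | rfl | rfl | rfl | rfl | rfl | rfl | rfl | rfl | rfl | rfl | rfl | rfl | rfl | rfl | rfl | rfl | rfl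
  · exact ⟨[4, 8, 2, 8], mem_reps (l := reps4) (by simp [repLists]) (by decide), (f3427 H)⟩
  · exact ⟨[9, 2, 5, 1, 4, 2], mem_reps (l := reps13) (by simp [repLists]) (by decide), (f11724 H)⟩
  · exact ⟨[9, 2, 8, 9, 6], mem_reps (l := reps6) (by simp [repLists]) (by decide), (f11257 H)⟩
  · exact ⟨[9, 2, 5, 4], mem_reps (l := reps2) (by simp [repLists]) (by decide), (f3452 H)⟩
  · exact ⟨[9, 2, 3, 9], mem_reps (l := reps2) (by simp [repLists]) (by decide), (f3456 H)⟩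
  · exact ⟨[8, 1, 4, 2, 3], mem_reps (l := reps9) (by simp [repLists]) (by decide), (f8656 H)⟩
  · exact ⟨[3, 9, 1, 3, 5], mem_reps (l := reps10) (by simp [repLists]) (by decide), (f7666 H)⟩
  · exact ⟨[9, 2, 3, 1], mem_reps (l := reps2) (by simp [repLists]) (by decide), (f3493 H)⟩
  · exact ⟨[8, 9, 6, 8], mem_reps (l := reps3) (by simp [repLists]) (by decide), (f4586 H)⟩
  · exact ⟨[9, 2, 3, 6, 3, 2], mem_reps (l := reps13) (by simp [repLists]) (by decide), (f11824 H)⟩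
  · exact ⟨[4, 2, 8, 6, 5], mem_reps (l := reps11) (by simp [repLists]) (by decide), (f5277 H)⟩
  · exact ⟨[9, 2, 4, 8], mem_reps (l := reps2) (by simp [repLists]) (by decide), (f3520 H)⟩
  · exact ⟨[4, 2, 9, 5, 3], mem_reps (l := reps11) (by simp [repLists]) (by decide), (f11588 H)⟩
  · exact ⟨[4, 8, 2, 4], mem_reps (l := reps4) (by simp [repLists]) (by decide), (f10341 H)⟩
  · exact ⟨[4, 8, 2, 1, 8], mem_reps (l := reps11) (by simp [repLists]) (by decide), (f10306 H)⟩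
  · exact ⟨[4, 2, 9, 3, 9], mem_reps (l := reps11) (by simp [repLists]) (by decide), (f11772 H)⟩
  · exact ⟨[4, 2, 5, 8], mem_reps (l := reps5) (by simp [repLists]) (by decide), (f3566 H)⟩
  · exact ⟨[9, 2, 9, 3, 9], mem_reps (l := reps6) (by simp [repLists]) (by decide), (f11578 H)⟩
  · exact ⟨[9, 8, 6, 8, 1], mem_reps (l := reps5) (by simp [repLists]) (by decide), (f8030 H)⟩
  · exact ⟨[9, 3, 2, 9], mem_reps (l := reps2) (by simp [repLists]) (by decide), (f3597 H)⟩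
  · exact ⟨[9, 3, 2, 9, 3, 2], mem_reps (l := reps13) (by simp [repLists]) (by decide), (f11940 H)⟩
  · exact ⟨[4, 2, 9, 3], mem_reps (l := reps4) (by simp [repLists]) (by decide), (f11134 H)⟩
  · exact ⟨[3, 1, 3, 1, 3], mem_reps (l := reps10) (by simp [repLists]) (by decide), (f10966 H)⟩
  · exact ⟨[8, 9, 2, 4, 8], mem_reps (l := reps8) (by simp [repLists]) (by decide), (f11523 H)⟩
  · exact ⟨[4, 2, 8, 1], mem_reps (l := reps5) (by simp [repLists]) (by decide), (f3632 H)⟩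
  · exact ⟨[4, 2, 8, 6], mem_reps (l := reps4) (by simp [repLists]) (by decide), (f3637 H)⟩
  · exact ⟨[9, 2, 3, 2, 6, 8], mem_reps (l := reps13) (by simp [repLists]) (by decide), (f11817 H)⟩
  · exact ⟨[8, 1, 4, 8, 5], mem_reps (l := reps9) (by simp [repLists]) (by decide), (f7757 H)⟩
  · exact ⟨[9, 2, 9, 3, 6], mem_reps (l := reps6) (by simp [repLists]) (by decide), (f9571 H)⟩
  · exact ⟨[8, 9, 2, 1, 8], mem_reps (l := reps8) (by simp [repLists]) (by decide), (f3886 H)⟩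
  · exact ⟨[9, 8, 6, 8, 4], mem_reps (l := reps5) (by simp [repLists]) (by decide), (f9955 H)⟩
  · exact ⟨[9, 3, 2, 4, 8], mem_reps (l := reps7) (by simp [repLists]) (by decide), (f9441 H)⟩
  · exact ⟨[8, 6, 4, 2, 3], mem_reps (l := reps9) (by simp [repLists]) (by decide), (f11631 H)⟩

theorem step3_7 : ∀ w ∈ reps7, ∃ w' ∈ reps, g 3 • path g w p = path g w' p := by
  intro w hw
  simp only [reps7, List.mem_cons, List.not_mem_nil, or_false] at hw
  rcases hw with rfl | rfl | rfl | rfl | rfl | rfl | rfl | rfl | rfl | rfl | rfl | rfl | rfl | rfl | rfl | rfl | rfl | rfl | rfl | rfl | rfl | rfl | rfl | rfl | rfl | rfl | rfl | rfl | rfl | rfl | rfl | rfl | rfl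
  · exact ⟨[8, 4, 2, 5], mem_reps (l := reps3) (by simp [repLists]) (by decide), (f3422 H)⟩
  · exact ⟨[8, 4, 2, 9, 5], mem_reps (l := reps9) (by simp [repLists]) (by decide), (f4536 H)⟩
  · exact ⟨[9, 2, 5, 4], mem_reps (l := reps2) (by simp [repLists]) (by decide), (f3445 H)⟩
  · exact ⟨[3, 6, 3, 9, 1], mem_reps (l := reps10) (by simp [repLists]) (by decide), (f10728 H)⟩
  · exact ⟨[9, 2, 9, 3, 2, 8], mem_reps (l := reps12) (by simp [repLists]) (by decide), (f9383 H)⟩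
  · exact ⟨[9, 2, 3, 9, 6, 3], mem_reps (l := reps13) (by simp [repLists]) (by decide), (f11782 H)⟩
  · exact ⟨[9, 3, 6, 8, 4], mem_reps (l := reps8) (by simp [repLists]) (by decide), (f3751 H)⟩
  · exact ⟨[4, 8, 1, 3, 2], mem_reps (l := reps11) (by simp [repLists]) (by decide), (f8990 H)⟩
  · exact ⟨[9, 2, 3, 6], mem_reps (l := reps2) (by simp [repLists]) (by decide), (f3495 H)⟩
  · exact ⟨[9, 2, 3, 6, 8], mem_reps (l := reps7) (by simp [repLists]) (by decide), (f3504 H)⟩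
  · exact ⟨[8, 1, 4, 8, 5], mem_reps (l := reps9) (by simp [repLists]) (by decide), (f7709 H)⟩
  · exact ⟨[9, 2, 4, 8, 2, 3], mem_reps (l := reps13) (by simp [repLists]) (by decide), (f11840 H)⟩
  · exact ⟨[4, 2, 9, 3, 5], mem_reps (l := reps11) (by simp [repLists]) (by decide), (f11611 H)⟩
  · exact ⟨[3, 6, 3, 9, 6], mem_reps (l := reps10) (by simp [repLists]) (by decide), (f10730 H)⟩
  · exact ⟨[3, 9, 2, 1], mem_reps (l := reps3) (by simp [repLists]) (by decide), (f10300 H)⟩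
  · exact ⟨[9, 3, 9, 2, 9, 3], mem_reps (l := reps13) (by simp [repLists]) (by decide), (f11876 H)⟩
  · exact ⟨[9, 3, 9, 2], mem_reps (l := reps2) (by simp [repLists]) (by decide), (f3563 H)⟩
  · exact ⟨[9, 3, 9, 2, 8, 9], mem_reps (l := reps13) (by simp [repLists]) (by decide), (f11891 H)⟩
  · exact ⟨[9, 3, 2, 9], mem_reps (l := reps2) (by simp [repLists]) (by decide), (f3588 H)⟩
  · exact ⟨[9, 8, 2, 6, 8, 4], mem_reps (l := reps12) (by simp [repLists]) (by decide), (f10962 H)⟩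
  · exact ⟨[9, 3, 2, 9, 8], mem_reps (l := reps7) (by simp [repLists]) (by decide), (f3601 H)⟩
  · exact ⟨[8, 6, 8, 9, 1], mem_reps (l := reps8) (by simp [repLists]) (by decide), (f11537 H)⟩
  · exact ⟨[3, 6, 8, 6, 8], mem_reps (l := reps10) (by simp [repLists]) (by decide), (f10721 H)⟩
  · exact ⟨[9, 2, 5, 6, 4, 8], mem_reps (l := reps13) (by simp [repLists]) (by decide), (f11679 H)⟩
  · exact ⟨[9, 8, 6, 8, 5], mem_reps (l := reps5) (by simp [repLists]) (by decide), (f10161 H)⟩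
  · exact ⟨[9, 2, 3, 9, 6], mem_reps (l := reps7) (by simp [repLists]) (by decide), (f8664 H)⟩
  · exact ⟨[9, 3, 2, 6], mem_reps (l := reps2) (by simp [repLists]) (by decide), (f3642 H)⟩
  · exact ⟨[9, 3, 2, 6, 8], mem_reps (l := reps7) (by simp [repLists]) (by decide), (f3645 H)⟩
  · exact ⟨[8, 6, 8, 1, 8], mem_reps (l := reps9) (by simp [repLists]) (by decide), (f10935 H)⟩
  · exact ⟨[9, 3, 2, 1], mem_reps (l := reps2) (by simp [repLists]) (by decide), (f3654 H)⟩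
  · exact ⟨[9, 2, 3, 6, 3, 2], mem_reps (l := reps13) (by simp [repLists]) (by decide), (f11832 H)⟩
  · exact ⟨[9, 3, 2, 4], mem_reps (l := reps2) (by simp [repLists]) (by decide), (f3680 H)⟩
  · exact ⟨[9, 8, 6, 8, 6], mem_reps (l := reps5) (by simp [repLists]) (by decide), (f10076 H)⟩

theorem step4_7 : ∀ w ∈ reps7, ∃ w' ∈ reps, g 4 • path g w p = path g w' p := by
  intro w hw
  simp only [reps7, List.mem_cons, List.not_mem_nil, or_false] at hw
  rcases hw with rfl | rfl | rfl | rfl | rfl | rfl | rfl | rfl | rfl | rfl | rfl | rfl | rfl | rfl | rfl | rfl | rfl | rfl | rfl | rfl | rfl | rfl | rfl | rfl | rfl | rfl | rfl | rfl | rfl | rfl | rfl | rfl | rfl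
  · exact ⟨[4, 8, 1, 3, 1], mem_reps (l := reps11) (by simp [repLists]) (by decide), (f8624 H)⟩
  · exact ⟨[9, 2, 9, 5, 1], mem_reps (l := reps6) (by simp [repLists]) (by decide), (f3434 H)⟩
  · exact ⟨[8, 4, 2, 9, 3], mem_reps (l := reps10) (by simp [repLists]) (by decide), (f4544 H)⟩
  · exact ⟨[8, 9, 2, 6, 3], mem_reps (l := reps8) (by simp [repLists]) (by decide), (f11441 H)⟩
  · exact ⟨[9, 3, 2, 1, 8], mem_reps (l := reps7) (by simp [repLists]) (by decide), (f10764 H)⟩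
  · exact ⟨[9, 2, 3, 6], mem_reps (l := reps2) (by simp [repLists]) (by decide), (f3462 H)⟩
  · exact ⟨[9, 2, 3, 2], mem_reps (l := reps2) (by simp [repLists]) (by decide), (f3473 H)⟩
  · exact ⟨[4, 8, 6, 8, 6], mem_reps (l := reps11) (by simp [repLists]) (by decide), (f5106 H)⟩
  · exact ⟨[8, 6, 4, 8, 6], mem_reps (l := reps9) (by simp [repLists]) (by decide), (f9786 H)⟩
  · exact ⟨[9, 3, 2, 3, 1], mem_reps (l := reps7) (by simp [repLists]) (by decide), (f8689 H)⟩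
  · exact ⟨[8, 9, 1, 3, 5], mem_reps (l := reps8) (by simp [repLists]) (by decide), (f7655 H)⟩
  · exact ⟨[4, 8, 2, 9, 6], mem_reps (l := reps10) (by simp [repLists]) (by decide), (f10606 H)⟩
  · exact ⟨[9, 2, 9, 3, 9, 5], mem_reps (l := reps12) (by simp [repLists]) (by decide), (f7787 H)⟩
  · exact ⟨[9, 2, 9, 3, 9, 6], mem_reps (l := reps12) (by simp [repLists]) (by decide), (f7793 H)⟩
  · exact ⟨[4, 2, 5, 4, 2], mem_reps (l := reps11) (by simp [repLists]) (by decide), (f11573 H)⟩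
  · exact ⟨[9, 3, 9, 2], mem_reps (l := reps2) (by simp [repLists]) (by decide), (f3559 H)⟩
  · exact ⟨[9, 3, 9, 2, 8, 4], mem_reps (l := reps13) (by simp [repLists]) (by decide), (f11896 H)⟩
  · exact ⟨[9, 3, 9, 2, 9], mem_reps (l := reps7) (by simp [repLists]) (by decide), (f3583 H)⟩
  · exact ⟨[9, 3, 2, 3, 9], mem_reps (l := reps7) (by simp [repLists]) (by decide), (f3616 H)⟩
  · exact ⟨[9, 8, 2, 6, 8], mem_reps (l := reps5) (by simp [repLists]) (by decide), (f10953 H)⟩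
  · exact ⟨[9, 3, 2, 4, 8], mem_reps (l := reps7) (by simp [repLists]) (by decide), (f3684 H)⟩
  · exact ⟨[9, 3, 2, 6], mem_reps (l := reps2) (by simp [repLists]) (by decide), (f3605 H)⟩
  · exact ⟨[9, 3, 2, 1], mem_reps (l := reps2) (by simp [repLists]) (by decide), (f3611 H)⟩
  · exact ⟨[9, 3, 2, 3], mem_reps (l := reps2) (by simp [repLists]) (by decide), (f3614 H)⟩
  · exact ⟨[3, 9, 6, 3, 5], mem_reps (l := reps10) (by simp [repLists]) (by decide), (f10122 H)⟩
  · exact ⟨[9, 8, 6, 8, 2], mem_reps (l := reps5) (by simp [repLists]) (by decide), (f8037 H)⟩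
  · exact ⟨[9, 3, 2, 6, 8, 4], mem_reps (l := reps13) (by simp [repLists]) (by decide), (f11992 H)⟩
  · exact ⟨[9, 3, 2, 9, 6, 8], mem_reps (l := reps13) (by simp [repLists]) (by decide), (f11973 H)⟩
  · exact ⟨[9, 3, 2, 9, 6], mem_reps (l := reps7) (by simp [repLists]) (by decide), (f3649 H)⟩
  · exact ⟨[3, 9, 2, 1, 5], mem_reps (l := reps10) (by simp [repLists]) (by decide), (f10761 H)⟩
  · exact ⟨[9, 2, 9, 5, 2, 8], mem_reps (l := reps12) (by simp [repLists]) (by decide), (f9727 H)⟩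
  · exact ⟨[9, 2, 5, 6, 4, 8], mem_reps (l := reps13) (by simp [repLists]) (by decide), (f11681 H)⟩
  · exact ⟨[9, 3, 5, 2], mem_reps (l := reps2) (by simp [repLists]) (by decide), (f3690 H)⟩

theorem step0_8 : ∀ w ∈ reps8, ∃ w' ∈ reps, g 0 • path g w p = path g w' p := by
  intro w hw
  simp only [reps8, List.mem_cons, List.not_mem_nil, or_false] at hw
  rcases hw with rfl | rfl | rfl | rfl | rfl | rfl | rfl | rfl | rfl | rfl | rfl | rfl | rfl | rfl | rfl | rfl | rfl | rfl | rfl | rfl | rfl | rfl | rfl | rfl | rfl | rfl | rfl | rfl | rfl | rfl | rfl | rfl | rfl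
  · exact ⟨[3, 9, 2, 6], mem_reps (l := reps3) (by simp [repLists]) (by decide), (f3704 H)⟩
  · exact ⟨[9, 8, 2, 8, 1], mem_reps (l := reps5) (by simp [repLists]) (by decide), (f3715 H)⟩
  · exact ⟨[8, 1, 4, 8, 2], mem_reps (l := reps9) (by simp [repLists]) (by decide), (f4479 H)⟩
  · exact ⟨[9, 8, 6, 8, 1], mem_reps (l := reps5) (by simp [repLists]) (by decide), (f10088 H)⟩
  · exact ⟨[8, 6, 4, 8], mem_reps (l := reps3) (by simp [repLists]) (by decide), (f9820 H)⟩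
  · exact ⟨[9, 3, 2, 3, 1], mem_reps (l := reps7) (by simp [repLists]) (by decide), (f7367 H)⟩
  · exact ⟨[9, 3, 2, 1, 8], mem_reps (l := reps7) (by simp [repLists]) (by decide), (f10779 H)⟩
  · exact ⟨[9, 2, 8, 1, 8, 1], mem_reps (l := reps13) (by simp [repLists]) (by decide), (f11663 H)⟩
  · exact ⟨[4, 2, 5, 8, 9], mem_reps (l := reps11) (by simp [repLists]) (by decide), (f8608 H)⟩
  · exact ⟨[9, 2, 9, 8, 2, 8], mem_reps (l := reps12) (by simp [repLists]) (by decide), (f11547 H)⟩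
  · exact ⟨[8, 9, 2, 9, 3, 5], mem_reps (l := reps14) (by simp [repLists]) (by decide), (f12091 H)⟩
  · exact ⟨[3, 1, 8, 1, 3], mem_reps (l := reps10) (by simp [repLists]) (by decide), (f9395 H)⟩
  · exact ⟨[9, 3, 9, 2, 9], mem_reps (l := reps7) (by simp [repLists]) (by decide), (f3833 H)⟩
  · exact ⟨[9, 3, 9, 2, 4], mem_reps (l := reps7) (by simp [repLists]) (by decide), (f3849 H)⟩
  · exact ⟨[3, 9, 1, 3, 2], mem_reps (l := reps10) (by simp [repLists]) (by decide), (f7670 H)⟩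
  · exact ⟨[8, 9, 2, 6], mem_reps (l := reps3) (by simp [repLists]) (by decide), (f3860 H)⟩
  · exact ⟨[9, 8, 2, 5, 6, 8], mem_reps (l := reps12) (by simp [repLists]) (by decide), (f7674 H)⟩
  · exact ⟨[8, 9, 2, 6, 5, 4], mem_reps (l := reps14) (by simp [repLists]) (by decide), (f12103 H)⟩
  · exact ⟨[8, 9, 6, 8, 6], mem_reps (l := reps8) (by simp [repLists]) (by decide), (f10840 H)⟩
  · exact ⟨[8, 9, 2, 1], mem_reps (l := reps3) (by simp [repLists]) (by decide), (f3890 H)⟩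
  · exact ⟨[4, 8, 2, 1, 8], mem_reps (l := reps11) (by simp [repLists]) (by decide), (f10867 H)⟩
  · exact ⟨[8, 1, 3, 6, 3], mem_reps (l := reps9) (by simp [repLists]) (by decide), (f11044 H)⟩
  · exact ⟨[8, 9, 2, 4, 8, 5], mem_reps (l := reps14) (by simp [repLists]) (by decide), (f12141 H)⟩
  · exact ⟨[9, 3, 2, 9, 6], mem_reps (l := reps7) (by simp [repLists]) (by decide), (f11054 H)⟩
  · exact ⟨[8, 9, 2, 1, 8], mem_reps (l := reps8) (by simp [repLists]) (by decide), (f10839 H)⟩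
  · exact ⟨[3, 6, 8, 1, 4], mem_reps (l := reps10) (by simp [repLists]) (by decide), (f7215 H)⟩
  · exact ⟨[8, 9, 6, 3], mem_reps (l := reps3) (by simp [repLists]) (by decide), (f3950 H)⟩
  · exact ⟨[3, 9, 1, 8, 6], mem_reps (l := reps10) (by simp [repLists]) (by decide), (f4660 H)⟩
  · exact ⟨[9, 2, 8, 6, 8], mem_reps (l := reps6) (by simp [repLists]) (by decide), (f8341 H)⟩
  · exact ⟨[8, 1, 8, 9, 1], mem_reps (l := reps9) (by simp [repLists]) (by decide), (f8743 H)⟩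
  · exact ⟨[8, 9, 1, 3], mem_reps (l := reps3) (by simp [repLists]) (by decide), (f3996 H)⟩
  · exact ⟨[8, 6, 4, 2, 8], mem_reps (l := reps9) (by simp [repLists]) (by decide), (f10394 H)⟩
  · exact ⟨[3, 6, 3, 9, 1], mem_reps (l := reps10) (by simp [repLists]) (by decide), (f6602 H)⟩

theorem step1_8 : ∀ w ∈ reps8, ∃ w' ∈ reps, g 1 • path g w p = path g w' p := by
  intro w hw
  simp only [reps8, List.mem_cons, List.not_mem_nil, or_false] at hw
  rcases hw with rfl | rfl | rfl | rfl | rfl | rfl | rfl | rfl | rfl | rfl | rfl | rfl | rfl | rfl | rfl | rfl | rfl | rfl | rfl | rfl | rfl | rfl | rfl | rfl | rfl | rfl | rfl | rfl | rfl | rfl | rfl | rfl | rfl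
  · exact ⟨[9, 3, 5, 2], mem_reps (l := reps2) (by simp [repLists]) (by decide), (f3694 H)⟩
  · exact ⟨[9, 3, 5, 2, 6], mem_reps (l := reps8) (by simp [repLists]) (by decide), (f3709 H)⟩
  · exact ⟨[9, 2, 8, 1, 8, 9], mem_reps (l := reps13) (by simp [repLists]) (by decide), (f9677 H)⟩
  · exact ⟨[9, 3, 6, 8], mem_reps (l := reps2) (by simp [repLists]) (by decide), (f3740 H)⟩
  · exact ⟨[9, 3, 6, 8, 6], mem_reps (l := reps8) (by simp [repLists]) (by decide), (f3743 H)⟩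
  · exact ⟨[4, 2, 3, 6, 5], mem_reps (l := reps11) (by simp [repLists]) (by decide), (f7361 H)⟩
  · exact ⟨[9, 3, 6, 3, 6], mem_reps (l := reps8) (by simp [repLists]) (by decide), (f10770 H)⟩
  · exact ⟨[9, 3, 6, 3], mem_reps (l := reps2) (by simp [repLists]) (by decide), (f3773 H)⟩
  · exact ⟨[9, 8, 1, 8, 5], mem_reps (l := reps6) (by simp [repLists]) (by decide), (f8599 H)⟩
  · exact ⟨[8, 9, 2, 9, 6], mem_reps (l := reps8) (by simp [repLists]) (by decide), (f9452 H)⟩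
  · exact ⟨[9, 2, 9, 5, 2, 5], mem_reps (l := reps12) (by simp [repLists]) (by decide), (f9447 H)⟩
  · exact ⟨[8, 9, 2, 9], mem_reps (l := reps3) (by simp [repLists]) (by decide), (f3822 H)⟩
  · exact ⟨[4, 2, 9, 5], mem_reps (l := reps4) (by simp [repLists]) (by decide), (f3837 H)⟩
  · exact ⟨[4, 2, 5, 4], mem_reps (l := reps5) (by simp [repLists]) (by decide), (f3853 H)⟩
  · exact ⟨[9, 3, 2, 4, 8], mem_reps (l := reps7) (by simp [repLists]) (by decide), (f11203 H)⟩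
  · exact ⟨[4, 8, 5, 2], mem_reps (l := reps4) (by simp [repLists]) (by decide), (f3869 H)⟩
  · exact ⟨[8, 9, 2, 6, 3, 1], mem_reps (l := reps14) (by simp [repLists]) (by decide), (f12118 H)⟩
  · exact ⟨[8, 9, 2, 4], mem_reps (l := reps3) (by simp [repLists]) (by decide), (f3881 H)⟩
  · exact ⟨[3, 9, 6, 8], mem_reps (l := reps4) (by simp [repLists]) (by decide), (f10831 H)⟩
  · exact ⟨[4, 2, 8, 6, 5], mem_reps (l := reps11) (by simp [repLists]) (by decide), (f5273 H)⟩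
  · exact ⟨[9, 8, 2, 5, 6, 4], mem_reps (l := reps12) (by simp [repLists]) (by decide), (f10873 H)⟩
  · exact ⟨[8, 9, 2, 6, 4], mem_reps (l := reps8) (by simp [repLists]) (by decide), (f3905 H)⟩
  · exact ⟨[9, 8, 2, 1, 5, 3], mem_reps (l := reps12) (by simp [repLists]) (by decide), (f11521 H)⟩
  · exact ⟨[8, 4, 2, 9], mem_reps (l := reps3) (by simp [repLists]) (by decide), (f11060 H)⟩
  · exact ⟨[8, 9, 6, 8], mem_reps (l := reps3) (by simp [repLists]) (by decide), (f3928 H)⟩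
  · exact ⟨[8, 9, 6, 8, 6], mem_reps (l := reps8) (by simp [repLists]) (by decide), (f3933 H)⟩
  · exact ⟨[4, 8, 6, 3, 6], mem_reps (l := reps11) (by simp [repLists]) (by decide), (f9830 H)⟩
  · exact ⟨[8, 9, 1, 8], mem_reps (l := reps3) (by simp [repLists]) (by decide), (f3966 H)⟩
  · exact ⟨[8, 9, 1, 8, 6], mem_reps (l := reps8) (by simp [repLists]) (by decide), (f3975 H)⟩
  · exact ⟨[9, 2, 9, 8, 2], mem_reps (l := reps6) (by simp [repLists]) (by decide), (f7447 H)⟩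
  · exact ⟨[9, 2, 3, 9, 6, 3], mem_reps (l := reps13) (by simp [repLists]) (by decide), (f11789 H)⟩
  · exact ⟨[9, 8, 2, 1, 8, 2], mem_reps (l := reps12) (by simp [repLists]) (by decide), (f10556 H)⟩
  · exact ⟨[9, 8, 2, 1, 8], mem_reps (l := reps5) (by simp [repLists]) (by decide), (f10542 H)⟩

theorem step2_8 : ∀ w ∈ reps8, ∃ w' ∈ reps, g 2 • path g w p = path g w' p := by
  intro w hw
  simp only [reps8, List.mem_cons, List.not_mem_nil, or_false] at hw
  rcases hw with rfl | rfl | rfl | rfl | rfl | rfl | rfl | rfl | rfl | rfl | rfl | rfl | rfl | rfl | rfl | rfl | rfl | rfl | rfl | rfl | rfl | rfl | rfl | rfl | rfl | rfl | rfl | rfl | rfl | rfl | rfl | rfl | rfl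
  · exact ⟨[9, 3, 5, 1], mem_reps (l := reps2) (by simp [repLists]) (by decide), (f3706 H)⟩
  · exact ⟨[9, 3, 5, 6], mem_reps (l := reps2) (by simp [repLists]) (by decide), (f3711 H)⟩
  · exact ⟨[8, 9, 2, 6, 3], mem_reps (l := reps8) (by simp [repLists]) (by decide), (f7676 H)⟩
  · exact ⟨[8, 6, 3, 9, 1], mem_reps (l := reps9) (by simp [repLists]) (by decide), (f10694 H)⟩
  · exact ⟨[9, 2, 8, 1, 3], mem_reps (l := reps6) (by simp [repLists]) (by decide), (f10159 H)⟩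
  · exact ⟨[9, 8, 2, 8, 6], mem_reps (l := reps5) (by simp [repLists]) (by decide), (f7364 H)⟩
  · exact ⟨[9, 3, 6, 3], mem_reps (l := reps2) (by simp [repLists]) (by decide), (f3755 H)⟩
  · exact ⟨[9, 3, 6, 3, 6], mem_reps (l := reps8) (by simp [repLists]) (by decide), (f11540 H)⟩
  · exact ⟨[8, 9, 1, 8, 6], mem_reps (l := reps8) (by simp [repLists]) (by decide), (f3968 H)⟩
  · exact ⟨[8, 9, 2, 9], mem_reps (l := reps3) (by simp [repLists]) (by decide), (f3800 H)⟩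
  · exact ⟨[9, 8, 2, 9, 1, 8], mem_reps (l := reps12) (by simp [repLists]) (by decide), (f11805 H)⟩
  · exact ⟨[8, 9, 2, 9, 6], mem_reps (l := reps8) (by simp [repLists]) (by decide), (f9461 H)⟩
  · exact ⟨[9, 8, 2, 6, 8, 4], mem_reps (l := reps12) (by simp [repLists]) (by decide), (f11776 H)⟩
  · exact ⟨[9, 2, 9, 3, 9, 6], mem_reps (l := reps12) (by simp [repLists]) (by decide), (f11557 H)⟩
  · exact ⟨[9, 8, 2, 5, 6, 8], mem_reps (l := reps12) (by simp [repLists]) (by decide), (f5571 H)⟩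
  · exact ⟨[4, 8, 5, 1], mem_reps (l := reps4) (by simp [repLists]) (by decide), (f3868 H)⟩
  · exact ⟨[9, 3, 5, 2, 4], mem_reps (l := reps8) (by simp [repLists]) (by decide), (f7678 H)⟩
  · exact ⟨[8, 4, 2, 9], mem_reps (l := reps3) (by simp [repLists]) (by decide), (f11091 H)⟩
  · exact ⟨[9, 3, 2, 1, 8], mem_reps (l := reps7) (by simp [repLists]) (by decide), (f3888 H)⟩
  · exact ⟨[4, 2, 5, 8, 6], mem_reps (l := reps11) (by simp [repLists]) (by decide), (f5313 H)⟩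
  · exact ⟨[4, 8, 6, 3], mem_reps (l := reps4) (by simp [repLists]) (by decide), (f10855 H)⟩
  · exact ⟨[8, 6, 4, 2, 9], mem_reps (l := reps9) (by simp [repLists]) (by decide), (f11076 H)⟩
  · exact ⟨[9, 3, 2, 3, 9], mem_reps (l := reps7) (by simp [repLists]) (by decide), (f11525 H)⟩
  · exact ⟨[8, 9, 2, 4], mem_reps (l := reps3) (by simp [repLists]) (by decide), (f3915 H)⟩
  · exact ⟨[8, 9, 6, 3], mem_reps (l := reps3) (by simp [repLists]) (by decide), (f9919 H)⟩
  · exact ⟨[4, 2, 9, 8], mem_reps (l := reps4) (by simp [repLists]) (by decide), (f10146 H)⟩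
  · exact ⟨[9, 8, 2, 5, 4], mem_reps (l := reps5) (by simp [repLists]) (by decide), (f9904 H)⟩
  · exact ⟨[9, 3, 1, 8, 1], mem_reps (l := reps8) (by simp [repLists]) (by decide), (f3972 H)⟩
  · exact ⟨[9, 8, 1, 8, 5], mem_reps (l := reps6) (by simp [repLists]) (by decide), (f9018 H)⟩
  · exact ⟨[8, 9, 1, 3], mem_reps (l := reps3) (by simp [repLists]) (by decide), (f3993 H)⟩
  · exact ⟨[9, 2, 3, 9, 6, 3], mem_reps (l := reps13) (by simp [repLists]) (by decide), (f11796 H)⟩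
  · exact ⟨[8, 6, 8, 9], mem_reps (l := reps3) (by simp [repLists]) (by decide), (f4008 H)⟩
  · exact ⟨[8, 9, 2, 4, 8, 5], mem_reps (l := reps14) (by simp [repLists]) (by decide), (f12149 H)⟩

theorem step3_8 : ∀ w ∈ reps8, ∃ w' ∈ reps, g 3 • path g w p = path g w' p := by
  intro w hw
  simp only [reps8, List.mem_cons, List.not_mem_nil, or_false] at hw
  rcases hw with rfl | rfl | rfl | rfl | rfl | rfl | rfl | rfl | rfl | rfl | rfl | rfl | rfl | rfl | rfl | rfl | rfl | rfl | rfl | rfl | rfl | rfl | rfl | rfl | rfl | rfl | rfl | rfl | rfl | rfl | rfl | rfl | rfl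
  · exact ⟨[8, 1, 8, 4, 2], mem_reps (l := reps9) (by simp [repLists]) (by decide), (f7351 H)⟩
  · exact ⟨[8, 9, 6, 8, 6], mem_reps (l := reps8) (by simp [repLists]) (by decide), (f10562 H)⟩
  · exact ⟨[9, 8, 2, 9, 5], mem_reps (l := reps5) (by simp [repLists]) (by decide), (f3723 H)⟩
  · exact ⟨[9, 3, 6, 8, 6, 3], mem_reps (l := reps14) (by simp [repLists]) (by decide), (f12056 H)⟩
  · exact ⟨[8, 9, 6, 3, 5], mem_reps (l := reps8) (by simp [repLists]) (by decide), (f10152 H)⟩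
  · exact ⟨[3, 9, 2, 4], mem_reps (l := reps3) (by simp [repLists]) (by decide), (f3749 H)⟩
  · exact ⟨[9, 2, 4, 8, 1], mem_reps (l := reps7) (by simp [repLists]) (by decide), (f10362 H)⟩
  · exact ⟨[9, 2, 8, 9, 6], mem_reps (l := reps6) (by simp [repLists]) (by decide), (f8250 H)⟩
  · exact ⟨[9, 3, 1, 8, 1, 3], mem_reps (l := reps14) (by simp [repLists]) (by decide), (f12072 H)⟩
  · exact ⟨[9, 2, 9, 3, 9, 6], mem_reps (l := reps12) (by simp [repLists]) (by decide), (f11036 H)⟩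
  · exact ⟨[9, 2, 9, 8, 5], mem_reps (l := reps6) (by simp [repLists]) (by decide), (f3819 H)⟩
  · exact ⟨[3, 6, 3, 1], mem_reps (l := reps4) (by simp [repLists]) (by decide), (f11142 H)⟩
  · exact ⟨[8, 9, 2, 4, 8], mem_reps (l := reps8) (by simp [repLists]) (by decide), (f3910 H)⟩
  · exact ⟨[9, 8, 1, 8, 6], mem_reps (l := reps6) (by simp [repLists]) (by decide), (f5673 H)⟩
  · exact ⟨[8, 9, 2, 6], mem_reps (l := reps3) (by simp [repLists]) (by decide), (f3858 H)⟩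
  · exact ⟨[9, 8, 1, 3, 1], mem_reps (l := reps6) (by simp [repLists]) (by decide), (f8961 H)⟩
  · exact ⟨[8, 9, 2, 6, 8], mem_reps (l := reps8) (by simp [repLists]) (by decide), (f3875 H)⟩
  · exact ⟨[9, 3, 2, 9, 3, 2], mem_reps (l := reps13) (by simp [repLists]) (by decide), (f11958 H)⟩
  · exact ⟨[8, 9, 2, 1], mem_reps (l := reps3) (by simp [repLists]) (by decide), (f3884 H)⟩
  · exact ⟨[8, 6, 8, 4, 2], mem_reps (l := reps9) (by simp [repLists]) (by decide), (f10912 H)⟩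
  · exact ⟨[8, 9, 2, 1, 8], mem_reps (l := reps8) (by simp [repLists]) (by decide), (f3897 H)⟩
  · exact ⟨[3, 6, 3, 6], mem_reps (l := reps4) (by simp [repLists]) (by decide), (f11014 H)⟩
  · exact ⟨[8, 9, 2, 4], mem_reps (l := reps3) (by simp [repLists]) (by decide), (f3908 H)⟩
  · exact ⟨[4, 2, 9, 5, 2], mem_reps (l := reps11) (by simp [repLists]) (by decide), (f11780 H)⟩
  · exact ⟨[9, 8, 2, 1, 8, 2], mem_reps (l := reps12) (by simp [repLists]) (by decide), (f10560 H)⟩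
  · exact ⟨[8, 9, 6, 8, 1, 3], mem_reps (l := reps14) (by simp [repLists]) (by decide), (f12154 H)⟩
  · exact ⟨[4, 2, 3, 6, 5], mem_reps (l := reps11) (by simp [repLists]) (by decide), (f9907 H)⟩
  · exact ⟨[8, 9, 1, 8, 6, 3], mem_reps (l := reps14) (by simp [repLists]) (by decide), (f12182 H)⟩
  · exact ⟨[4, 8, 2, 6, 8], mem_reps (l := reps11) (by simp [repLists]) (by decide), (f9412 H)⟩
  · exact ⟨[4, 8, 2, 9, 6], mem_reps (l := reps10) (by simp [repLists]) (by decide), (f8198 H)⟩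
  · exact ⟨[9, 2, 3, 1, 5], mem_reps (l := reps7) (by simp [repLists]) (by decide), (f7753 H)⟩
  · exact ⟨[4, 8, 2, 1, 8], mem_reps (l := reps11) (by simp [repLists]) (by decide), (f11465 H)⟩
  · exact ⟨[9, 3, 2, 9, 6, 8], mem_reps (l := reps13) (by simp [repLists]) (by decide), (f11971 H)⟩

theorem step4_8 : ∀ w ∈ reps8, ∃ w' ∈ reps, g 4 • path g w p = path g w' p := by
  intro w hw
  simp only [reps8, List.mem_cons, List.not_mem_nil, or_false] at hw
  rcases hw with rfl | rfl | rfl | rfl | rfl | rfl | rfl | rfl | rfl | rfl | rfl | rfl | rfl | rfl | rfl | rfl | rfl | rfl | rfl | rfl | rfl | rfl | rfl | rfl | rfl | rfl | rfl | rfl | rfl | rfl | rfl | rfl | rfl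
  · exact ⟨[9, 8, 2, 9, 2, 5], mem_reps (l := reps11) (by simp [repLists]) (by decide), (f9020 H)⟩
  · exact ⟨[9, 2, 8, 1, 8, 9], mem_reps (l := reps13) (by simp [repLists]) (by decide), (f9702 H)⟩
  · exact ⟨[9, 3, 5, 2, 9], mem_reps (l := reps7) (by simp [repLists]) (by decide), (f3721 H)⟩
  · exact ⟨[9, 8, 2, 8, 2], mem_reps (l := reps5) (by simp [repLists]) (by decide), (f7411 H)⟩
  · exact ⟨[4, 2, 3, 6, 5], mem_reps (l := reps11) (by simp [repLists]) (by decide), (f7425 H)⟩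
  · exact ⟨[4, 8, 6, 3], mem_reps (l := reps4) (by simp [repLists]) (by decide), (f3747 H)⟩
  · exact ⟨[3, 9, 2, 1], mem_reps (l := reps3) (by simp [repLists]) (by decide), (f10773 H)⟩
  · exact ⟨[3, 9, 2, 6], mem_reps (l := reps3) (by simp [repLists]) (by decide), (f3774 H)⟩
  · exact ⟨[9, 2, 5, 1, 3], mem_reps (l := reps7) (by simp [repLists]) (by decide), (f9550 H)⟩
  · exact ⟨[8, 9, 2, 1], mem_reps (l := reps3) (by simp [repLists]) (by decide), (f9455 H)⟩
  · exact ⟨[8, 9, 2, 4, 8], mem_reps (l := reps8) (by simp [repLists]) (by decide), (f3912 H)⟩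
  · exact ⟨[8, 9, 2, 6], mem_reps (l := reps3) (by simp [repLists]) (by decide), (f3823 H)⟩
  · exact ⟨[8, 9, 2, 8], mem_reps (l := reps3) (by simp [repLists]) (by decide), (f3832 H)⟩
  · exact ⟨[8, 9, 2, 8, 9], mem_reps (l := reps8) (by simp [repLists]) (by decide), (f3845 H)⟩
  · exact ⟨[9, 2, 8, 9, 2, 5], mem_reps (l := reps13) (by simp [repLists]) (by decide), (f11415 H)⟩
  · exact ⟨[8, 9, 2, 6, 5, 4], mem_reps (l := reps14) (by simp [repLists]) (by decide), (f12098 H)⟩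
  · exact ⟨[3, 6, 3, 1, 3], mem_reps (l := reps10) (by simp [repLists]) (by decide), (f11156 H)⟩
  · exact ⟨[8, 9, 2, 9, 6], mem_reps (l := reps8) (by simp [repLists]) (by decide), (f3879 H)⟩
  · exact ⟨[3, 6, 3, 9, 6], mem_reps (l := reps10) (by simp [repLists]) (by decide), (f10846 H)⟩
  · exact ⟨[8, 1, 3, 6, 3], mem_reps (l := reps9) (by simp [repLists]) (by decide), (f11047 H)⟩
  · exact ⟨[9, 8, 2, 9, 5, 1], mem_reps (l := reps12) (by simp [repLists]) (by decide), (f10861 H)⟩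
  · exact ⟨[8, 9, 2, 9, 2], mem_reps (l := reps8) (by simp [repLists]) (by decide), (f9460 H)⟩
  · exact ⟨[9, 8, 1, 8, 6, 3], mem_reps (l := reps12) (by simp [repLists]) (by decide), (f6126 H)⟩
  · exact ⟨[8, 1, 4, 2], mem_reps (l := reps3) (by simp [repLists]) (by decide), (f11051 H)⟩
  · exact ⟨[9, 2, 8, 1, 3], mem_reps (l := reps6) (by simp [repLists]) (by decide), (f10795 H)⟩
  · exact ⟨[8, 6, 3, 9, 1], mem_reps (l := reps9) (by simp [repLists]) (by decide), (f4150 H)⟩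
  · exact ⟨[9, 3, 6, 8, 1], mem_reps (l := reps8) (by simp [repLists]) (by decide), (f9834 H)⟩
  · exact ⟨[9, 2, 9, 8, 2], mem_reps (l := reps6) (by simp [repLists]) (by decide), (f8174 H)⟩
  · exact ⟨[8, 9, 1, 3, 2], mem_reps (l := reps8) (by simp [repLists]) (by decide), (f8123 H)⟩
  · exact ⟨[8, 1, 3, 1], mem_reps (l := reps3) (by simp [repLists]) (by decide), (f8118 H)⟩
  · exact ⟨[8, 1, 4, 8, 5], mem_reps (l := reps9) (by simp [repLists]) (by decide), (f4487 H)⟩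
  · exact ⟨[8, 6, 8, 9, 2, 4], mem_reps (l := reps14) (by simp [repLists]) (by decide), (f12214 H)⟩
  · exact ⟨[8, 6, 8, 1], mem_reps (l := reps3) (by simp [repLists]) (by decide), (f4024 H)⟩

theorem step0_9 : ∀ w ∈ reps9, ∃ w' ∈ reps, g 0 • path g w p = path g w' p := by
  intro w hw
  simp only [reps9, List.mem_cons, List.not_mem_nil, or_false] at hw
  rcases hw with rfl | rfl | rfl | rfl | rfl | rfl | rfl | rfl | rfl | rfl | rfl | rfl | rfl | rfl | rfl | rfl | rfl | rfl | rfl | rfl | rfl | rfl | rfl | rfl | rfl | rfl | rfl | rfl | rfl | rfl | rfl | rfl | rfl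
  · exact ⟨[8, 1, 8, 6, 3], mem_reps (l := reps9) (by simp [repLists]) (by decide), (f11042 H)⟩
  · exact ⟨[8, 1, 8, 6, 8], mem_reps (l := reps9) (by simp [repLists]) (by decide), (f11183 H)⟩
  · exact ⟨[3, 6, 8, 6, 4], mem_reps (l := reps10) (by simp [repLists]) (by decide), (f4737 H)⟩
  · exact ⟨[3, 1, 3, 1, 3], mem_reps (l := reps10) (by simp [repLists]) (by decide), (f10943 H)⟩
  · exact ⟨[3, 9, 6, 8, 1], mem_reps (l := reps10) (by simp [repLists]) (by decide), (f7200 H)⟩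
  · exact ⟨[9, 8, 2, 8, 1, 8], mem_reps (l := reps12) (by simp [repLists]) (by decide), (f7747 H)⟩
  · exact ⟨[9, 8, 6, 3, 1], mem_reps (l := reps6) (by simp [repLists]) (by decide), (f6460 H)⟩
  · exact ⟨[3, 1, 3, 6, 3], mem_reps (l := reps10) (by simp [repLists]) (by decide), (f11108 H)⟩
  · exact ⟨[8, 1, 8, 1, 3], mem_reps (l := reps9) (by simp [repLists]) (by decide), (f11086 H)⟩
  · exact ⟨[9, 2, 8, 6, 4], mem_reps (l := reps6) (by simp [repLists]) (by decide), (f11120 H)⟩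
  · exact ⟨[9, 8, 6, 8, 6], mem_reps (l := reps5) (by simp [repLists]) (by decide), (f10048 H)⟩
  · exact ⟨[9, 2, 8, 9, 1], mem_reps (l := reps6) (by simp [repLists]) (by decide), (f4228 H)⟩
  · exact ⟨[8, 6, 8, 9, 2], mem_reps (l := reps8) (by simp [repLists]) (by decide), (f10391 H)⟩
  · exact ⟨[9, 8, 2, 1, 8, 2], mem_reps (l := reps12) (by simp [repLists]) (by decide), (f10567 H)⟩
  · exact ⟨[9, 2, 8, 1, 4], mem_reps (l := reps6) (by simp [repLists]) (by decide), (f4246 H)⟩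
  · exact ⟨[9, 8, 2, 6, 8], mem_reps (l := reps5) (by simp [repLists]) (by decide), (f6772 H)⟩
  · exact ⟨[9, 8, 1, 3, 6], mem_reps (l := reps6) (by simp [repLists]) (by decide), (f4330 H)⟩
  · exact ⟨[8, 9, 1, 3, 2], mem_reps (l := reps8) (by simp [repLists]) (by decide), (f8144 H)⟩
  · exact ⟨[8, 6, 8, 6, 3], mem_reps (l := reps9) (by simp [repLists]) (by decide), (f11184 H)⟩
  · exact ⟨[8, 6, 8, 6, 8], mem_reps (l := reps9) (by simp [repLists]) (by decide), (f11169 H)⟩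
  · exact ⟨[3, 1, 8, 6, 4], mem_reps (l := reps10) (by simp [repLists]) (by decide), (f4881 H)⟩
  · exact ⟨[8, 6, 3, 1, 8], mem_reps (l := reps9) (by simp [repLists]) (by decide), (f11084 H)⟩
  · exact ⟨[8, 9, 2, 6, 3, 1], mem_reps (l := reps14) (by simp [repLists]) (by decide), (f12131 H)⟩
  · exact ⟨[9, 2, 9, 3, 6], mem_reps (l := reps6) (by simp [repLists]) (by decide), (f9637 H)⟩
  · exact ⟨[8, 9, 2, 1, 4], mem_reps (l := reps8) (by simp [repLists]) (by decide), (f11046 H)⟩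
  · exact ⟨[3, 6, 8, 1, 3], mem_reps (l := reps10) (by simp [repLists]) (by decide), (f11235 H)⟩
  · exact ⟨[3, 6, 8, 1, 8], mem_reps (l := reps10) (by simp [repLists]) (by decide), (f11187 H)⟩
  · exact ⟨[9, 3, 5, 2, 4], mem_reps (l := reps8) (by simp [repLists]) (by decide), (f4480 H)⟩
  · exact ⟨[8, 1, 4, 8], mem_reps (l := reps3) (by simp [repLists]) (by decide), (f4483 H)⟩
  · exact ⟨[9, 8, 1, 3, 2], mem_reps (l := reps6) (by simp [repLists]) (by decide), (f7323 H)⟩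
  · exact ⟨[4, 8, 1, 8, 6], mem_reps (l := reps11) (by simp [repLists]) (by decide), (f8911 H)⟩
  · exact ⟨[9, 3, 2, 6, 4], mem_reps (l := reps7) (by simp [repLists]) (by decide), (f4520 H)⟩
  · exact ⟨[8, 4, 2, 9], mem_reps (l := reps3) (by simp [repLists]) (by decide), (f4531 H)⟩

theorem step1_9 : ∀ w ∈ reps9, ∃ w' ∈ reps, g 1 • path g w p = path g w' p := by
  intro w hw
  simp only [reps9, List.mem_cons, List.not_mem_nil, or_false] at hw
  rcases hw with rfl | rfl | rfl | rfl | rfl | rfl | rfl | rfl | rfl | rfl | rfl | rfl | rfl | rfl | rfl | rfl | rfl | rfl | rfl | rfl | rfl | rfl | rfl | rfl | rfl | rfl | rfl | rfl | rfl | rfl | rfl | rfl | rfl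
  · exact ⟨[4, 2, 8, 6, 4], mem_reps (l := reps11) (by simp [repLists]) (by decide), (f10443 H)⟩
  · exact ⟨[8, 6, 8, 6, 3, 1], mem_reps (l := reps14) (by simp [repLists]) (by decide), (f12232 H)⟩
  · exact ⟨[8, 6, 8, 4], mem_reps (l := reps3) (by simp [repLists]) (by decide), (f4099 H)⟩
  · exact ⟨[8, 6, 8, 1, 8, 1], mem_reps (l := reps14) (by simp [repLists]) (by decide), (f12264 H)⟩
  · exact ⟨[8, 6, 8, 6, 4], mem_reps (l := reps9) (by simp [repLists]) (by decide), (f4119 H)⟩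
  · exact ⟨[9, 2, 4, 8, 6, 5], mem_reps (l := reps13) (by simp [repLists]) (by decide), (f11863 H)⟩
  · exact ⟨[9, 2, 8, 1, 3], mem_reps (l := reps6) (by simp [repLists]) (by decide), (f10800 H)⟩
  · exact ⟨[8, 6, 3, 6, 8, 1], mem_reps (l := reps14) (by simp [repLists]) (by decide), (f12301 H)⟩
  · exact ⟨[9, 3, 2, 9, 2, 5], mem_reps (l := reps13) (by simp [repLists]) (by decide), (f11933 H)⟩
  · exact ⟨[8, 4, 2, 5, 4], mem_reps (l := reps10) (by simp [repLists]) (by decide), (f11123 H)⟩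
  · exact ⟨[8, 6, 4, 8], mem_reps (l := reps3) (by simp [repLists]) (by decide), (f4217 H)⟩
  · exact ⟨[8, 9, 2, 4, 2], mem_reps (l := reps8) (by simp [repLists]) (by decide), (f11081 H)⟩
  · exact ⟨[8, 6, 4, 2, 8, 1], mem_reps (l := reps14) (by simp [repLists]) (by decide), (f12341 H)⟩
  · exact ⟨[8, 6, 4, 2, 3, 1], mem_reps (l := reps14) (by simp [repLists]) (by decide), (f12361 H)⟩
  · exact ⟨[8, 1, 4, 2, 4], mem_reps (l := reps9) (by simp [repLists]) (by decide), (f4523 H)⟩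
  · exact ⟨[9, 3, 9, 2, 4, 8], mem_reps (l := reps13) (by simp [repLists]) (by decide), (f11914 H)⟩
  · exact ⟨[8, 1, 8, 9], mem_reps (l := reps3) (by simp [repLists]) (by decide), (f4261 H)⟩
  · exact ⟨[8, 1, 8, 9, 6], mem_reps (l := reps9) (by simp [repLists]) (by decide), (f4266 H)⟩
  · exact ⟨[9, 2, 9, 3, 5], mem_reps (l := reps6) (by simp [repLists]) (by decide), (f11172 H)⟩
  · exact ⟨[8, 9, 2, 6, 5, 4], mem_reps (l := reps14) (by simp [repLists]) (by decide), (f12107 H)⟩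
  · exact ⟨[8, 1, 8, 4], mem_reps (l := reps3) (by simp [repLists]) (by decide), (f4349 H)⟩
  · exact ⟨[9, 3, 2, 6, 3, 9], mem_reps (l := reps13) (by simp [repLists]) (by decide), (f12013 H)⟩
  · exact ⟨[9, 3, 2, 4, 8, 5], mem_reps (l := reps14) (by simp [repLists]) (by decide), (f12051 H)⟩
  · exact ⟨[9, 2, 9, 5, 1, 3], mem_reps (l := reps12) (by simp [repLists]) (by decide), (f11875 H)⟩
  · exact ⟨[8, 1, 3, 6, 3, 1], mem_reps (l := reps14) (by simp [repLists]) (by decide), (f12462 H)⟩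
  · exact ⟨[8, 1, 8, 4, 2, 4], mem_reps (l := reps14) (by simp [repLists]) (by decide), (f12456 H)⟩
  · exact ⟨[4, 2, 8, 9], mem_reps (l := reps4) (by simp [repLists]) (by decide), (f9465 H)⟩
  · exact ⟨[9, 2, 3, 9, 2], mem_reps (l := reps7) (by simp [repLists]) (by decide), (f7682 H)⟩
  · exact ⟨[4, 2, 3, 1, 3], mem_reps (l := reps11) (by simp [repLists]) (by decide), (f8495 H)⟩
  · exact ⟨[3, 9, 1, 8, 6], mem_reps (l := reps10) (by simp [repLists]) (by decide), (f8878 H)⟩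
  · exact ⟨[8, 1, 4, 8, 2], mem_reps (l := reps9) (by simp [repLists]) (by decide), (f9005 H)⟩
  · exact ⟨[8, 4, 2, 4], mem_reps (l := reps3) (by simp [repLists]) (by decide), (f4524 H)⟩
  · exact ⟨[3, 1, 8, 6, 8], mem_reps (l := reps10) (by simp [repLists]) (by decide), (f10978 H)⟩

theorem step2_9 : ∀ w ∈ reps9, ∃ w' ∈ reps, g 2 • path g w p = path g w' p := by
  intro w hw
  simp only [reps9, List.mem_cons, List.not_mem_nil, or_false] at hw
  rcases hw with rfl | rfl | rfl | rfl | rfl | rfl | rfl | rfl | rfl | rfl | rfl | rfl | rfl | rfl | rfl | rfl | rfl | rfl | rfl | rfl | rfl | rfl | rfl | rfl | rfl | rfl | rfl | rfl | rfl | rfl | rfl | rfl | rfl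
  · exact ⟨[3, 1, 8, 6, 8], mem_reps (l := reps10) (by simp [repLists]) (by decide), (f4871 H)⟩
  · exact ⟨[8, 1, 3, 1, 3], mem_reps (l := reps9) (by simp [repLists]) (by decide), (f10923 H)⟩
  · exact ⟨[9, 2, 4, 8, 6, 5], mem_reps (l := reps13) (by simp [repLists]) (by decide), (f11867 H)⟩
  · exact ⟨[8, 6, 8, 1, 8], mem_reps (l := reps9) (by simp [repLists]) (by decide), (f4857 H)⟩
  · exact ⟨[9, 2, 5, 1, 4, 8], mem_reps (l := reps13) (by simp [repLists]) (by decide), (f11719 H)⟩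
  · exact ⟨[8, 6, 8, 4], mem_reps (l := reps3) (by simp [repLists]) (by decide), (f4123 H)⟩
  · exact ⟨[9, 3, 6, 8, 6], mem_reps (l := reps8) (by simp [repLists]) (by decide), (f10396 H)⟩
  · exact ⟨[8, 1, 3, 6, 8], mem_reps (l := reps9) (by simp [repLists]) (by decide), (f4811 H)⟩
  · exact ⟨[8, 6, 3, 1, 8], mem_reps (l := reps9) (by simp [repLists]) (by decide), (f4813 H)⟩
  · exact ⟨[3, 1, 8, 6, 3], mem_reps (l := reps10) (by simp [repLists]) (by decide), (f11095 H)⟩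
  · exact ⟨[9, 8, 2, 8, 9, 1], mem_reps (l := reps12) (by simp [repLists]) (by decide), (f9775 H)⟩
  · exact ⟨[8, 9, 2, 1, 4], mem_reps (l := reps8) (by simp [repLists]) (by decide), (f11071 H)⟩
  · exact ⟨[9, 8, 2, 1, 3, 5], mem_reps (l := reps12) (by simp [repLists]) (by decide), (f11458 H)⟩
  · exact ⟨[9, 3, 5, 2, 9], mem_reps (l := reps7) (by simp [repLists]) (by decide), (f10155 H)⟩
  · exact ⟨[8, 4, 2, 4], mem_reps (l := reps3) (by simp [repLists]) (by decide), (f9437 H)⟩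
  · exact ⟨[8, 1, 8, 9], mem_reps (l := reps3) (by simp [repLists]) (by decide), (f4252 H)⟩
  · exact ⟨[9, 3, 9, 2, 4, 8], mem_reps (l := reps13) (by simp [repLists]) (by decide), (f11920 H)⟩
  · exact ⟨[9, 2, 8, 6, 5, 8], mem_reps (l := reps13) (by simp [repLists]) (by decide), (f8137 H)⟩
  · exact ⟨[3, 6, 8, 6, 8], mem_reps (l := reps10) (by simp [repLists]) (by decide), (f4727 H)⟩
  · exact ⟨[3, 6, 3, 1, 3], mem_reps (l := reps10) (by simp [repLists]) (by decide), (f11450 H)⟩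
  · exact ⟨[9, 3, 2, 4, 8, 5], mem_reps (l := reps14) (by simp [repLists]) (by decide), (f12049 H)⟩
  · exact ⟨[8, 1, 3, 6, 3], mem_reps (l := reps9) (by simp [repLists]) (by decide), (f9649 H)⟩
  · exact ⟨[8, 1, 8, 4], mem_reps (l := reps3) (by simp [repLists]) (by decide), (f4373 H)⟩
  · exact ⟨[8, 6, 3, 6, 8], mem_reps (l := reps9) (by simp [repLists]) (by decide), (f4809 H)⟩
  · exact ⟨[8, 1, 8, 1, 3], mem_reps (l := reps9) (by simp [repLists]) (by decide), (f9646 H)⟩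
  · exact ⟨[8, 1, 3, 1, 8], mem_reps (l := reps9) (by simp [repLists]) (by decide), (f4959 H)⟩
  · exact ⟨[8, 6, 8, 6, 3], mem_reps (l := reps9) (by simp [repLists]) (by decide), (f10925 H)⟩
  · exact ⟨[8, 1, 4, 8], mem_reps (l := reps3) (by simp [repLists]) (by decide), (f4472 H)⟩
  · exact ⟨[9, 3, 2, 6, 3], mem_reps (l := reps7) (by simp [repLists]) (by decide), (f7759 H)⟩
  · exact ⟨[4, 8, 1, 8, 6], mem_reps (l := reps11) (by simp [repLists]) (by decide), (f9001 H)⟩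
  · exact ⟨[9, 2, 3, 9, 6], mem_reps (l := reps7) (by simp [repLists]) (by decide), (f8661 H)⟩
  · exact ⟨[8, 1, 4, 2, 4], mem_reps (l := reps9) (by simp [repLists]) (by decide), (f9425 H)⟩
  · exact ⟨[4, 2, 8, 6, 4], mem_reps (l := reps11) (by simp [repLists]) (by decide), (f11037 H)⟩

theorem step3_9 : ∀ w ∈ reps9, ∃ w' ∈ reps, g 3 • path g w p = path g w' p := by
  intro w hw
  simp only [reps9, List.mem_cons, List.not_mem_nil, or_false] at hw
  rcases hw with rfl | rfl | rfl | rfl | rfl | rfl | rfl | rfl | rfl | rfl | rfl | rfl | rfl | rfl | rfl | rfl | rfl | rfl | rfl | rfl | rfl | rfl | rfl | rfl | rfl | rfl | rfl | rfl | rfl | rfl | rfl | rfl | rfl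
  · exact ⟨[8, 6, 8, 6], mem_reps (l := reps3) (by simp [repLists]) (by decide), (f4047 H)⟩
  · exact ⟨[8, 6, 8, 6, 8], mem_reps (l := reps9) (by simp [repLists]) (by decide), (f4093 H)⟩
  · exact ⟨[4, 2, 8, 1], mem_reps (l := reps5) (by simp [repLists]) (by decide), (f10411 H)⟩
  · exact ⟨[8, 6, 8, 1], mem_reps (l := reps3) (by simp [repLists]) (by decide), (f4102 H)⟩
  · exact ⟨[9, 3, 2, 6, 8, 4], mem_reps (l := reps13) (by simp [repLists]) (by decide), (f12004 H)⟩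
  · exact ⟨[9, 2, 4, 8, 6, 5], mem_reps (l := reps13) (by simp [repLists]) (by decide), (f11869 H)⟩
  · exact ⟨[8, 6, 3, 9, 1, 3], mem_reps (l := reps14) (by simp [repLists]) (by decide), (f12280 H)⟩
  · exact ⟨[8, 6, 3, 6], mem_reps (l := reps3) (by simp [repLists]) (by decide), (f4168 H)⟩
  · exact ⟨[8, 6, 3, 1], mem_reps (l := reps3) (by simp [repLists]) (by decide), (f4195 H)⟩
  · exact ⟨[8, 6, 3, 1, 8], mem_reps (l := reps9) (by simp [repLists]) (by decide), (f4202 H)⟩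
  · exact ⟨[9, 8, 6, 8, 2], mem_reps (l := reps5) (by simp [repLists]) (by decide), (f10893 H)⟩
  · exact ⟨[3, 1, 3, 6], mem_reps (l := reps4) (by simp [repLists]) (by decide), (f11068 H)⟩
  · exact ⟨[8, 6, 4, 2], mem_reps (l := reps3) (by simp [repLists]) (by decide), (f4235 H)⟩
  · exact ⟨[8, 6, 4, 2, 8], mem_reps (l := reps9) (by simp [repLists]) (by decide), (f4238 H)⟩
  · exact ⟨[8, 6, 4, 2, 8, 9], mem_reps (l := reps14) (by simp [repLists]) (by decide), (f12332 H)⟩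
  · exact ⟨[9, 2, 8, 6, 5, 8], mem_reps (l := reps13) (by simp [repLists]) (by decide), (f7967 H)⟩
  · exact ⟨[8, 1, 8, 9, 6, 3], mem_reps (l := reps14) (by simp [repLists]) (by decide), (f12393 H)⟩
  · exact ⟨[3, 9, 2, 6], mem_reps (l := reps3) (by simp [repLists]) (by decide), (f8128 H)⟩
  · exact ⟨[8, 1, 8, 6], mem_reps (l := reps3) (by simp [repLists]) (by decide), (f4340 H)⟩
  · exact ⟨[8, 1, 8, 6, 8], mem_reps (l := reps9) (by simp [repLists]) (by decide), (f4343 H)⟩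
  · exact ⟨[8, 1, 8, 6, 8, 9], mem_reps (l := reps14) (by simp [repLists]) (by decide), (f12424 H)⟩
  · exact ⟨[9, 2, 8, 6, 4], mem_reps (l := reps6) (by simp [repLists]) (by decide), (f9650 H)⟩
  · exact ⟨[9, 8, 2, 9, 2, 5], mem_reps (l := reps11) (by simp [repLists]) (by decide), (f7225 H)⟩
  · exact ⟨[8, 1, 3, 6], mem_reps (l := reps3) (by simp [repLists]) (by decide), (f4418 H)⟩
  · exact ⟨[8, 1, 3, 6, 8], mem_reps (l := reps9) (by simp [repLists]) (by decide), (f4456 H)⟩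
  · exact ⟨[8, 1, 3, 1], mem_reps (l := reps3) (by simp [repLists]) (by decide), (f4459 H)⟩
  · exact ⟨[8, 1, 3, 1, 8], mem_reps (l := reps9) (by simp [repLists]) (by decide), (f4468 H)⟩
  · exact ⟨[4, 8, 5, 1], mem_reps (l := reps4) (by simp [repLists]) (by decide), (f4474 H)⟩
  · exact ⟨[8, 9, 1, 3, 5], mem_reps (l := reps8) (by simp [repLists]) (by decide), (f7755 H)⟩
  · exact ⟨[8, 1, 4, 2], mem_reps (l := reps3) (by simp [repLists]) (by decide), (f4509 H)⟩
  · exact ⟨[8, 1, 4, 2, 8], mem_reps (l := reps9) (by simp [repLists]) (by decide), (f4512 H)⟩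
  · exact ⟨[3, 1, 3, 1], mem_reps (l := reps4) (by simp [repLists]) (by decide), (f9421 H)⟩
  · exact ⟨[9, 2, 5, 1, 4, 8], mem_reps (l := reps13) (by simp [repLists]) (by decide), (f11711 H)⟩

theorem step4_9 : ∀ w ∈ reps9, ∃ w' ∈ reps, g 4 • path g w p = path g w' p := by
  intro w hw
  simp only [reps9, List.mem_cons, List.not_mem_nil, or_false] at hw
  rcases hw with rfl | rfl | rfl | rfl | rfl | rfl | rfl | rfl | rfl | rfl | rfl | rfl | rfl | rfl | rfl | rfl | rfl | rfl | rfl | rfl | rfl | rfl | rfl | rfl | rfl | rfl | rfl | rfl | rfl | rfl | rfl | rfl | rfl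
  · exact ⟨[4, 2, 8, 9, 1], mem_reps (l := reps11) (by simp [repLists]) (by decide), (f10437 H)⟩
  · exact ⟨[9, 8, 2, 1, 3], mem_reps (l := reps5) (by simp [repLists]) (by decide), (f10452 H)⟩
  · exact ⟨[9, 8, 2, 1, 8], mem_reps (l := reps5) (by simp [repLists]) (by decide), (f10418 H)⟩
  · exact ⟨[9, 3, 2, 6, 8], mem_reps (l := reps7) (by simp [repLists]) (by decide), (f10938 H)⟩
  · exact ⟨[8, 6, 8, 9, 1], mem_reps (l := reps8) (by simp [repLists]) (by decide), (f4115 H)⟩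
  · exact ⟨[9, 2, 9, 8, 2, 3], mem_reps (l := reps12) (by simp [repLists]) (by decide), (f11550 H)⟩
  · exact ⟨[8, 6, 3, 1], mem_reps (l := reps3) (by simp [repLists]) (by decide), (f4147 H)⟩
  · exact ⟨[9, 2, 8, 1, 4, 8], mem_reps (l := reps13) (by simp [repLists]) (by decide), (f11669 H)⟩
  · exact ⟨[9, 2, 8, 6, 5, 8], mem_reps (l := reps13) (by simp [repLists]) (by decide), (f11533 H)⟩
  · exact ⟨[4, 2, 8, 4, 2], mem_reps (l := reps11) (by simp [repLists]) (by decide), (f11114 H)⟩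
  · exact ⟨[4, 2, 3, 1], mem_reps (l := reps5) (by simp [repLists]) (by decide), (f9764 H)⟩
  · exact ⟨[8, 6, 4, 2], mem_reps (l := reps3) (by simp [repLists]) (by decide), (f4227 H)⟩
  · exact ⟨[9, 2, 9, 3, 5, 2], mem_reps (l := reps12) (by simp [repLists]) (by decide), (f11211 H)⟩
  · exact ⟨[3, 1, 3, 6, 3], mem_reps (l := reps10) (by simp [repLists]) (by decide), (f11099 H)⟩
  · exact ⟨[8, 6, 4, 2, 9], mem_reps (l := reps9) (by simp [repLists]) (by decide), (f4242 H)⟩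
  · exact ⟨[8, 6, 3, 9, 1, 3], mem_reps (l := reps14) (by simp [repLists]) (by decide), (f12290 H)⟩
  · exact ⟨[8, 1, 8, 6], mem_reps (l := reps3) (by simp [repLists]) (by decide), (f4262 H)⟩
  · exact ⟨[8, 1, 8, 1], mem_reps (l := reps3) (by simp [repLists]) (by decide), (f4268 H)⟩
  · exact ⟨[9, 8, 2, 1, 3, 5], mem_reps (l := reps12) (by simp [repLists]) (by decide), (f11178 H)⟩
  · exact ⟨[8, 1, 8, 9, 6, 8], mem_reps (l := reps14) (by simp [repLists]) (by decide), (f12382 H)⟩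
  · exact ⟨[8, 1, 8, 9, 6], mem_reps (l := reps9) (by simp [repLists]) (by decide), (f4347 H)⟩
  · exact ⟨[3, 9, 2, 6, 3], mem_reps (l := reps10) (by simp [repLists]) (by decide), (f11167 H)⟩
  · exact ⟨[8, 1, 8, 4, 2, 4], mem_reps (l := reps14) (by simp [repLists]) (by decide), (f12447 H)⟩
  · exact ⟨[9, 2, 4, 8, 6, 5], mem_reps (l := reps13) (by simp [repLists]) (by decide), (f11861 H)⟩
  · exact ⟨[9, 2, 9, 8, 2, 8], mem_reps (l := reps12) (by simp [repLists]) (by decide), (f11542 H)⟩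
  · exact ⟨[9, 2, 4, 8, 2, 3], mem_reps (l := reps13) (by simp [repLists]) (by decide), (f11850 H)⟩
  · exact ⟨[4, 2, 8, 6], mem_reps (l := reps4) (by simp [repLists]) (by decide), (f9468 H)⟩
  · exact ⟨[3, 9, 6, 8, 2], mem_reps (l := reps10) (by simp [repLists]) (by decide), (f8443 H)⟩
  · exact ⟨[9, 2, 3, 1, 5], mem_reps (l := reps7) (by simp [repLists]) (by decide), (f7657 H)⟩
  · exact ⟨[3, 1, 3, 9, 1], mem_reps (l := reps10) (by simp [repLists]) (by decide), (f8884 H)⟩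
  · exact ⟨[9, 3, 2, 1, 8, 1], mem_reps (l := reps13) (by simp [repLists]) (by decide), (f12031 H)⟩
  · exact ⟨[8, 9, 2, 4, 2], mem_reps (l := reps8) (by simp [repLists]) (by decide), (f11067 H)⟩
  · exact ⟨[8, 4, 2, 5], mem_reps (l := reps3) (by simp [repLists]) (by decide), (f4534 H)⟩

theorem step0_10 : ∀ w ∈ reps10, ∃ w' ∈ reps, g 0 • path g w p = path g w' p := by
  intro w hw
  simp only [reps10, List.mem_cons, List.not_mem_nil, or_false] at hw
  rcases hw with rfl | rfl | rfl | rfl | rfl | rfl | rfl | rfl | rfl | rfl | rfl | rfl | rfl | rfl | rfl | rfl | rfl | rfl | rfl | rfl | rfl | rfl | rfl | rfl | rfl | rfl | rfl | rfl | rfl | rfl | rfl | rfl | rfl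
  · exact ⟨[9, 2, 5, 1, 4, 2], mem_reps (l := reps13) (by simp [repLists]) (by decide), (f11732 H)⟩
  · exact ⟨[8, 4, 2, 4], mem_reps (l := reps3) (by simp [repLists]) (by decide), (f4552 H)⟩
  · exact ⟨[9, 2, 8, 6, 5, 8], mem_reps (l := reps13) (by simp [repLists]) (by decide), (f7963 H)⟩
  · exact ⟨[3, 9, 2, 1], mem_reps (l := reps3) (by simp [repLists]) (by decide), (f4573 H)⟩
  · exact ⟨[9, 2, 3, 9, 2], mem_reps (l := reps7) (by simp [repLists]) (by decide), (f7706 H)⟩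
  · exact ⟨[9, 3, 5, 2, 9], mem_reps (l := reps7) (by simp [repLists]) (by decide), (f8444 H)⟩
  · exact ⟨[8, 6, 8, 1, 4], mem_reps (l := reps9) (by simp [repLists]) (by decide), (f7205 H)⟩
  · exact ⟨[9, 2, 4, 8, 1], mem_reps (l := reps7) (by simp [repLists]) (by decide), (f10334 H)⟩
  · exact ⟨[3, 9, 6, 3], mem_reps (l := reps4) (by simp [repLists]) (by decide), (f4634 H)⟩
  · exact ⟨[9, 2, 3, 6, 8], mem_reps (l := reps7) (by simp [repLists]) (by decide), (f10072 H)⟩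
  · exact ⟨[8, 9, 1, 8, 6], mem_reps (l := reps8) (by simp [repLists]) (by decide), (f4662 H)⟩
  · exact ⟨[8, 9, 2, 6, 8], mem_reps (l := reps8) (by simp [repLists]) (by decide), (f7672 H)⟩
  · exact ⟨[3, 9, 1, 3], mem_reps (l := reps4) (by simp [repLists]) (by decide), (f4674 H)⟩
  · exact ⟨[9, 2, 3, 9, 6, 3], mem_reps (l := reps13) (by simp [repLists]) (by decide), (f11793 H)⟩
  · exact ⟨[3, 1, 8, 6, 3], mem_reps (l := reps10) (by simp [repLists]) (by decide), (f11195 H)⟩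
  · exact ⟨[8, 6, 8, 6, 4], mem_reps (l := reps9) (by simp [repLists]) (by decide), (f4738 H)⟩
  · exact ⟨[8, 1, 3, 1, 3], mem_reps (l := reps9) (by simp [repLists]) (by decide), (f11189 H)⟩
  · exact ⟨[8, 1, 3, 1, 8], mem_reps (l := reps9) (by simp [repLists]) (by decide), (f11230 H)⟩
  · exact ⟨[8, 9, 6, 8, 1], mem_reps (l := reps8) (by simp [repLists]) (by decide), (f7211 H)⟩
  · exact ⟨[9, 2, 8, 1, 3], mem_reps (l := reps6) (by simp [repLists]) (by decide), (f10806 H)⟩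
  · exact ⟨[8, 6, 8, 9, 1], mem_reps (l := reps8) (by simp [repLists]) (by decide), (f6597 H)⟩
  · exact ⟨[3, 1, 8, 1, 8], mem_reps (l := reps10) (by simp [repLists]) (by decide), (f11445 H)⟩
  · exact ⟨[9, 3, 2, 9, 1], mem_reps (l := reps7) (by simp [repLists]) (by decide), (f10970 H)⟩
  · exact ⟨[3, 6, 8, 6, 8], mem_reps (l := reps10) (by simp [repLists]) (by decide), (f11193 H)⟩
  · exact ⟨[8, 1, 8, 6, 4], mem_reps (l := reps9) (by simp [repLists]) (by decide), (f4882 H)⟩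
  · exact ⟨[3, 6, 3, 1, 3], mem_reps (l := reps10) (by simp [repLists]) (by decide), (f11446 H)⟩
  · exact ⟨[8, 9, 2, 9, 6], mem_reps (l := reps8) (by simp [repLists]) (by decide), (f9392 H)⟩
  · exact ⟨[9, 2, 9, 8, 2], mem_reps (l := reps6) (by simp [repLists]) (by decide), (f8162 H)⟩
  · exact ⟨[9, 8, 1, 3, 1], mem_reps (l := reps6) (by simp [repLists]) (by decide), (f6234 H)⟩
  · exact ⟨[8, 6, 3, 6, 8], mem_reps (l := reps9) (by simp [repLists]) (by decide), (f11103 H)⟩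
  · exact ⟨[8, 6, 8, 1, 8], mem_reps (l := reps9) (by simp [repLists]) (by decide), (f10940 H)⟩
  · exact ⟨[9, 3, 2, 6, 8], mem_reps (l := reps7) (by simp [repLists]) (by decide), (f7751 H)⟩
  · exact ⟨[9, 8, 2, 9, 6], mem_reps (l := reps5) (by simp [repLists]) (by decide), (f4989 H)⟩

theorem step1_10 : ∀ w ∈ reps10, ∃ w' ∈ reps, g 1 • path g w p = path g w' p := by
  intro w hw
  simp only [reps10, List.mem_cons, List.not_mem_nil, or_false] at hw
  rcases hw with rfl | rfl | rfl | rfl | rfl | rfl | rfl | rfl | rfl | rfl | rfl | rfl | rfl | rfl | rfl | rfl | rfl | rfl | rfl | rfl | rfl | rfl | rfl | rfl | rfl | rfl | rfl | rfl | rfl | rfl | rfl | rfl | rfl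
  · exact ⟨[9, 8, 6, 3, 1, 8], mem_reps (l := reps12) (by simp [repLists]) (by decide), (f11403 H)⟩
  · exact ⟨[9, 2, 9, 5, 2, 8], mem_reps (l := reps12) (by simp [repLists]) (by decide), (f9732 H)⟩
  · exact ⟨[9, 3, 2, 6, 3], mem_reps (l := reps7) (by simp [repLists]) (by decide), (f8181 H)⟩
  · exact ⟨[4, 8, 2, 8, 6], mem_reps (l := reps11) (by simp [repLists]) (by decide), (f5009 H)⟩
  · exact ⟨[9, 8, 2, 9, 2], mem_reps (l := reps5) (by simp [repLists]) (by decide), (f9008 H)⟩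
  · exact ⟨[9, 3, 2, 1, 8], mem_reps (l := reps7) (by simp [repLists]) (by decide), (f10788 H)⟩
  · exact ⟨[8, 9, 2, 1, 8], mem_reps (l := reps8) (by simp [repLists]) (by decide), (f10845 H)⟩
  · exact ⟨[9, 8, 2, 1, 3], mem_reps (l := reps5) (by simp [repLists]) (by decide), (f10346 H)⟩
  · exact ⟨[9, 3, 2, 9, 8], mem_reps (l := reps7) (by simp [repLists]) (by decide), (f9971 H)⟩
  · exact ⟨[3, 9, 6, 3], mem_reps (l := reps4) (by simp [repLists]) (by decide), (f4640 H)⟩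
  · exact ⟨[3, 9, 1, 8], mem_reps (l := reps4) (by simp [repLists]) (by decide), (f4656 H)⟩
  · exact ⟨[9, 2, 9, 5, 3], mem_reps (l := reps6) (by simp [repLists]) (by decide), (f9625 H)⟩
  · exact ⟨[4, 8, 1, 3], mem_reps (l := reps4) (by simp [repLists]) (by decide), (f8586 H)⟩
  · exact ⟨[9, 2, 9, 8, 5], mem_reps (l := reps6) (by simp [repLists]) (by decide), (f5658 H)⟩
  · exact ⟨[4, 2, 5, 4, 8], mem_reps (l := reps11) (by simp [repLists]) (by decide), (f11593 H)⟩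
  · exact ⟨[3, 6, 8, 4], mem_reps (l := reps4) (by simp [repLists]) (by decide), (f4740 H)⟩
  · exact ⟨[9, 3, 9, 2, 8, 9], mem_reps (l := reps13) (by simp [repLists]) (by decide), (f11889 H)⟩
  · exact ⟨[9, 2, 8, 9, 2], mem_reps (l := reps6) (by simp [repLists]) (by decide), (f11218 H)⟩
  · exact ⟨[3, 6, 8, 6, 4], mem_reps (l := reps10) (by simp [repLists]) (by decide), (f4754 H)⟩
  · exact ⟨[3, 6, 3, 9], mem_reps (l := reps4) (by simp [repLists]) (by decide), (f4773 H)⟩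
  · exact ⟨[3, 6, 3, 9, 6], mem_reps (l := reps10) (by simp [repLists]) (by decide), (f4784 H)⟩
  · exact ⟨[9, 8, 6, 3, 1, 3], mem_reps (l := reps12) (by simp [repLists]) (by decide), (f11703 H)⟩
  · exact ⟨[4, 2, 8, 4, 2], mem_reps (l := reps11) (by simp [repLists]) (by decide), (f10999 H)⟩
  · exact ⟨[9, 8, 1, 8, 6, 3], mem_reps (l := reps12) (by simp [repLists]) (by decide), (f11623 H)⟩
  · exact ⟨[3, 1, 8, 4], mem_reps (l := reps4) (by simp [repLists]) (by decide), (f4884 H)⟩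
  · exact ⟨[9, 2, 8, 9, 2, 5], mem_reps (l := reps13) (by simp [repLists]) (by decide), (f11165 H)⟩
  · exact ⟨[4, 8, 5, 2, 9], mem_reps (l := reps11) (by simp [repLists]) (by decide), (f9396 H)⟩
  · exact ⟨[3, 1, 3, 9], mem_reps (l := reps4) (by simp [repLists]) (by decide), (f4919 H)⟩
  · exact ⟨[3, 1, 3, 9, 6], mem_reps (l := reps10) (by simp [repLists]) (by decide), (f4930 H)⟩
  · exact ⟨[3, 1, 3, 6, 3, 1], mem_reps (l := reps14) (by simp [repLists]) (by decide), (f12522 H)⟩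
  · exact ⟨[9, 3, 2, 9, 2], mem_reps (l := reps7) (by simp [repLists]) (by decide), (f10952 H)⟩
  · exact ⟨[9, 8, 2, 6, 8], mem_reps (l := reps5) (by simp [repLists]) (by decide), (f8930 H)⟩
  · exact ⟨[4, 8, 2, 9], mem_reps (l := reps4) (by simp [repLists]) (by decide), (f4983 H)⟩

theorem step2_10 : ∀ w ∈ reps10, ∃ w' ∈ reps, g 2 • path g w p = path g w' p := by
  intro w hw
  simp only [reps10, List.mem_cons, List.not_mem_nil, or_false] at hw
  rcases hw with rfl | rfl | rfl | rfl | rfl | rfl | rfl | rfl | rfl | rfl | rfl | rfl | rfl | rfl | rfl | rfl | rfl | rfl | rfl | rfl | rfl | rfl | rfl | rfl | rfl | rfl | rfl | rfl | rfl | rfl | rfl | rfl | rfl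
  · exact ⟨[9, 8, 6, 3, 1, 8], mem_reps (l := reps12) (by simp [repLists]) (by decide), (f11476 H)⟩
  · exact ⟨[8, 4, 2, 5, 4, 2], mem_reps (l := reps14) (by simp [repLists]) (by decide), (f12502 H)⟩
  · exact ⟨[4, 2, 3, 1, 3], mem_reps (l := reps11) (by simp [repLists]) (by decide), (f7961 H)⟩
  · exact ⟨[9, 8, 2, 4, 8], mem_reps (l := reps5) (by simp [repLists]) (by decide), (f8715 H)⟩
  · exact ⟨[9, 8, 2, 9, 1], mem_reps (l := reps5) (by simp [repLists]) (by decide), (f8229 H)⟩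
  · exact ⟨[3, 9, 6, 8], mem_reps (l := reps4) (by simp [repLists]) (by decide), (f4607 H)⟩
  · exact ⟨[9, 3, 2, 1, 8, 1], mem_reps (l := reps13) (by simp [repLists]) (by decide), (f12040 H)⟩
  · exact ⟨[3, 9, 6, 3], mem_reps (l := reps4) (by simp [repLists]) (by decide), (f4631 H)⟩
  · exact ⟨[9, 8, 6, 8, 6], mem_reps (l := reps5) (by simp [repLists]) (by decide), (f9974 H)⟩
  · exact ⟨[9, 8, 2, 1, 3], mem_reps (l := reps5) (by simp [repLists]) (by decide), (f10375 H)⟩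
  · exact ⟨[4, 8, 1, 8, 1], mem_reps (l := reps11) (by simp [repLists]) (by decide), (f5153 H)⟩
  · exact ⟨[3, 9, 1, 3], mem_reps (l := reps4) (by simp [repLists]) (by decide), (f4671 H)⟩
  · exact ⟨[9, 2, 3, 2, 9], mem_reps (l := reps7) (by simp [repLists]) (by decide), (f7664 H)⟩
  · exact ⟨[9, 2, 9, 5, 3, 1], mem_reps (l := reps12) (by simp [repLists]) (by decide), (f9654 H)⟩
  · exact ⟨[8, 1, 8, 6, 8], mem_reps (l := reps9) (by simp [repLists]) (by decide), (f4724 H)⟩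
  · exact ⟨[3, 6, 8, 4], mem_reps (l := reps4) (by simp [repLists]) (by decide), (f10575 H)⟩
  · exact ⟨[3, 6, 8, 1, 8], mem_reps (l := reps10) (by simp [repLists]) (by decide), (f4852 H)⟩
  · exact ⟨[9, 2, 8, 9, 1], mem_reps (l := reps6) (by simp [repLists]) (by decide), (f11224 H)⟩
  · exact ⟨[3, 6, 8, 1, 4], mem_reps (l := reps10) (by simp [repLists]) (by decide), (f10568 H)⟩
  · exact ⟨[4, 8, 6, 8, 1], mem_reps (l := reps11) (by simp [repLists]) (by decide), (f10744 H)⟩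
  · exact ⟨[4, 8, 6, 8, 6], mem_reps (l := reps11) (by simp [repLists]) (by decide), (f10734 H)⟩
  · exact ⟨[8, 1, 8, 6, 3], mem_reps (l := reps9) (by simp [repLists]) (by decide), (f11448 H)⟩
  · exact ⟨[8, 6, 8, 6, 8], mem_reps (l := reps9) (by simp [repLists]) (by decide), (f4868 H)⟩
  · exact ⟨[8, 6, 3, 1, 3], mem_reps (l := reps9) (by simp [repLists]) (by decide), (f11097 H)⟩
  · exact ⟨[9, 8, 1, 3, 6], mem_reps (l := reps6) (by simp [repLists]) (by decide), (f8838 H)⟩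
  · exact ⟨[3, 1, 8, 1, 8], mem_reps (l := reps10) (by simp [repLists]) (by decide), (f4888 H)⟩
  · exact ⟨[3, 1, 3, 6, 3], mem_reps (l := reps10) (by simp [repLists]) (by decide), (f11140 H)⟩
  · exact ⟨[9, 8, 2, 9, 5, 1], mem_reps (l := reps12) (by simp [repLists]) (by decide), (f7221 H)⟩
  · exact ⟨[9, 8, 2, 9, 5, 6], mem_reps (l := reps12) (by simp [repLists]) (by decide), (f6245 H)⟩
  · exact ⟨[3, 1, 8, 1, 3], mem_reps (l := reps10) (by simp [repLists]) (by decide), (f11159 H)⟩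
  · exact ⟨[9, 3, 2, 9, 1], mem_reps (l := reps7) (by simp [repLists]) (by decide), (f10968 H)⟩
  · exact ⟨[4, 8, 2, 9], mem_reps (l := reps4) (by simp [repLists]) (by decide), (f4980 H)⟩
  · exact ⟨[9, 8, 2, 6, 8], mem_reps (l := reps5) (by simp [repLists]) (by decide), (f8199 H)⟩

theorem step3_10 : ∀ w ∈ reps10, ∃ w' ∈ reps, g 3 • path g w p = path g w' p := by
  intro w hw
  simp only [reps10, List.mem_cons, List.not_mem_nil, or_false] at hw
  rcases hw with rfl | rfl | rfl | rfl | rfl | rfl | rfl | rfl | rfl | rfl | rfl | rfl | rfl | rfl | rfl | rfl | rfl | rfl | rfl | rfl | rfl | rfl | rfl | rfl | rfl | rfl | rfl | rfl | rfl | rfl | rfl | rfl | rfl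
  · exact ⟨[9, 2, 5, 8, 4], mem_reps (l := reps6) (by simp [repLists]) (by decide), (f4540 H)⟩
  · exact ⟨[9, 3, 1, 8, 1], mem_reps (l := reps8) (by simp [repLists]) (by decide), (f8613 H)⟩
  · exact ⟨[8, 1, 8, 9, 1], mem_reps (l := reps9) (by simp [repLists]) (by decide), (f8133 H)⟩
  · exact ⟨[3, 6, 8, 6, 4], mem_reps (l := reps10) (by simp [repLists]) (by decide), (f10880 H)⟩
  · exact ⟨[9, 2, 9, 3, 1], mem_reps (l := reps6) (by simp [repLists]) (by decide), (f10214 H)⟩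
  · exact ⟨[9, 2, 8, 2, 6], mem_reps (l := reps6) (by simp [repLists]) (by decide), (f5320 H)⟩
  · exact ⟨[8, 9, 2, 6, 4], mem_reps (l := reps8) (by simp [repLists]) (by decide), (f11157 H)⟩
  · exact ⟨[9, 8, 2, 1, 3, 5], mem_reps (l := reps12) (by simp [repLists]) (by decide), (f11500 H)⟩
  · exact ⟨[9, 3, 2, 3, 6], mem_reps (l := reps7) (by simp [repLists]) (by decide), (f10904 H)⟩
  · exact ⟨[9, 8, 2, 5, 4], mem_reps (l := reps5) (by simp [repLists]) (by decide), (f10057 H)⟩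
  · exact ⟨[8, 6, 4, 2, 4], mem_reps (l := reps9) (by simp [repLists]) (by decide), (f9718 H)⟩
  · exact ⟨[4, 8, 1, 8, 6], mem_reps (l := reps11) (by simp [repLists]) (by decide), (f8908 H)⟩
  · exact ⟨[9, 8, 2, 4, 8, 6], mem_reps (l := reps12) (by simp [repLists]) (by decide), (f8501 H)⟩
  · exact ⟨[8, 1, 4, 8, 2], mem_reps (l := reps9) (by simp [repLists]) (by decide), (f8471 H)⟩
  · exact ⟨[3, 6, 8, 6], mem_reps (l := reps4) (by simp [repLists]) (by decide), (f4723 H)⟩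
  · exact ⟨[8, 6, 4, 2, 8, 1], mem_reps (l := reps14) (by simp [repLists]) (by decide), (f12354 H)⟩
  · exact ⟨[3, 6, 8, 1], mem_reps (l := reps4) (by simp [repLists]) (by decide), (f4743 H)⟩
  · exact ⟨[3, 6, 8, 1, 8], mem_reps (l := reps10) (by simp [repLists]) (by decide), (f4746 H)⟩
  · exact ⟨[8, 1, 3, 6, 3, 1], mem_reps (l := reps14) (by simp [repLists]) (by decide), (f12476 H)⟩
  · exact ⟨[9, 8, 2, 5, 1], mem_reps (l := reps5) (by simp [repLists]) (by decide), (f10736 H)⟩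
  · exact ⟨[9, 2, 8, 9, 2, 5], mem_reps (l := reps13) (by simp [repLists]) (by decide), (f11405 H)⟩
  · exact ⟨[8, 9, 2, 9, 6], mem_reps (l := reps8) (by simp [repLists]) (by decide), (f11153 H)⟩
  · exact ⟨[3, 1, 8, 6], mem_reps (l := reps4) (by simp [repLists]) (by decide), (f4867 H)⟩
  · exact ⟨[3, 1, 8, 6, 8], mem_reps (l := reps10) (by simp [repLists]) (by decide), (f4874 H)⟩
  · exact ⟨[9, 2, 9, 5, 2, 8], mem_reps (l := reps12) (by simp [repLists]) (by decide), (f9669 H)⟩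
  · exact ⟨[3, 1, 8, 1], mem_reps (l := reps4) (by simp [repLists]) (by decide), (f4887 H)⟩
  · exact ⟨[3, 1, 8, 1, 8], mem_reps (l := reps10) (by simp [repLists]) (by decide), (f4892 H)⟩
  · exact ⟨[9, 2, 9, 3, 5, 2], mem_reps (l := reps12) (by simp [repLists]) (by decide), (f11202 H)⟩
  · exact ⟨[4, 8, 2, 8, 6], mem_reps (l := reps11) (by simp [repLists]) (by decide), (f8972 H)⟩
  · exact ⟨[8, 6, 4, 2, 9], mem_reps (l := reps9) (by simp [repLists]) (by decide), (f11079 H)⟩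
  · exact ⟨[8, 1, 4, 2, 4], mem_reps (l := reps9) (by simp [repLists]) (by decide), (f9432 H)⟩
  · exact ⟨[3, 1, 3, 9, 1], mem_reps (l := reps10) (by simp [repLists]) (by decide), (f9401 H)⟩
  · exact ⟨[4, 2, 8, 6], mem_reps (l := reps4) (by simp [repLists]) (by decide), (f8186 H)⟩

theorem step4_10 : ∀ w ∈ reps10, ∃ w' ∈ reps, g 4 • path g w p = path g w' p := by
  intro w hw
  simp only [reps10, List.mem_cons, List.not_mem_nil, or_false] at hw
  rcases hw with rfl | rfl | rfl | rfl | rfl | rfl | rfl | rfl | rfl | rfl | rfl | rfl | rfl | rfl | rfl | rfl | rfl | rfl | rfl | rfl | rfl | rfl | rfl | rfl | rfl | rfl | rfl | rfl | rfl | rfl | rfl | rfl | rfl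
  · exact ⟨[9, 2, 9, 5, 3], mem_reps (l := reps6) (by simp [repLists]) (by decide), (f4542 H)⟩
  · exact ⟨[8, 4, 2, 9, 5], mem_reps (l := reps9) (by simp [repLists]) (by decide), (f4548 H)⟩
  · exact ⟨[9, 2, 8, 9, 6, 3], mem_reps (l := reps13) (by simp [repLists]) (by decide), (f11534 H)⟩
  · exact ⟨[9, 2, 3, 9, 2], mem_reps (l := reps7) (by simp [repLists]) (by decide), (f7702 H)⟩
  · exact ⟨[9, 3, 6, 3, 2], mem_reps (l := reps8) (by simp [repLists]) (by decide), (f10778 H)⟩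
  · exact ⟨[4, 8, 2, 8], mem_reps (l := reps4) (by simp [repLists]) (by decide), (f8438 H)⟩
  · exact ⟨[3, 6, 3, 9, 1], mem_reps (l := reps10) (by simp [repLists]) (by decide), (f4789 H)⟩
  · exact ⟨[8, 1, 8, 9, 6, 3], mem_reps (l := reps14) (by simp [repLists]) (by decide), (f12405 H)⟩
  · exact ⟨[9, 8, 6, 8, 5], mem_reps (l := reps5) (by simp [repLists]) (by decide), (f4637 H)⟩
  · exact ⟨[9, 8, 6, 8, 6], mem_reps (l := reps5) (by simp [repLists]) (by decide), (f4641 H)⟩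
  · exact ⟨[3, 1, 3, 9, 6], mem_reps (l := reps10) (by simp [repLists]) (by decide), (f4921 H)⟩
  · exact ⟨[9, 2, 8, 9, 2], mem_reps (l := reps6) (by simp [repLists]) (by decide), (f11243 H)⟩
  · exact ⟨[9, 8, 1, 8, 5], mem_reps (l := reps6) (by simp [repLists]) (by decide), (f4677 H)⟩
  · exact ⟨[9, 8, 1, 8, 2], mem_reps (l := reps6) (by simp [repLists]) (by decide), (f8475 H)⟩
  · exact ⟨[9, 2, 9, 3, 2, 8], mem_reps (l := reps12) (by simp [repLists]) (by decide), (f11613 H)⟩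
  · exact ⟨[9, 8, 6, 3, 2], mem_reps (l := reps5) (by simp [repLists]) (by decide), (f10530 H)⟩
  · exact ⟨[4, 2, 8, 6, 5], mem_reps (l := reps11) (by simp [repLists]) (by decide), (f11191 H)⟩
  · exact ⟨[9, 8, 6, 3, 1, 8], mem_reps (l := reps12) (by simp [repLists]) (by decide), (f6015 H)⟩
  · exact ⟨[9, 8, 6, 3, 1], mem_reps (l := reps6) (by simp [repLists]) (by decide), (f4750 H)⟩
  · exact ⟨[3, 6, 3, 6], mem_reps (l := reps4) (by simp [repLists]) (by decide), (f4776 H)⟩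
  · exact ⟨[3, 6, 3, 1], mem_reps (l := reps4) (by simp [repLists]) (by decide), (f4786 H)⟩
  · exact ⟨[9, 2, 5, 4, 2], mem_reps (l := reps7) (by simp [repLists]) (by decide), (f11443 H)⟩
  · exact ⟨[9, 3, 2, 1, 5], mem_reps (l := reps7) (by simp [repLists]) (by decide), (f10975 H)⟩
  · exact ⟨[9, 8, 1, 3, 6, 8], mem_reps (l := reps12) (by simp [repLists]) (by decide), (f6201 H)⟩
  · exact ⟨[9, 8, 1, 3, 6], mem_reps (l := reps6) (by simp [repLists]) (by decide), (f4878 H)⟩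
  · exact ⟨[9, 2, 5, 4, 2, 5], mem_reps (l := reps13) (by simp [repLists]) (by decide), (f11755 H)⟩
  · exact ⟨[8, 9, 2, 6, 5], mem_reps (l := reps8) (by simp [repLists]) (by decide), (f8966 H)⟩
  · exact ⟨[3, 1, 3, 6], mem_reps (l := reps4) (by simp [repLists]) (by decide), (f4922 H)⟩
  · exact ⟨[3, 1, 3, 1], mem_reps (l := reps4) (by simp [repLists]) (by decide), (f4932 H)⟩
  · exact ⟨[9, 2, 9, 5, 2, 1], mem_reps (l := reps12) (by simp [repLists]) (by decide), (f11101 H)⟩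
  · exact ⟨[4, 8, 2, 9, 2], mem_reps (l := reps10) (by simp [repLists]) (by decide), (f9405 H)⟩
  · exact ⟨[4, 2, 9, 5, 2], mem_reps (l := reps11) (by simp [repLists]) (by decide), (f11767 H)⟩
  · exact ⟨[4, 8, 2, 6], mem_reps (l := reps4) (by simp [repLists]) (by decide), (f4984 H)⟩

theorem step0_11 : ∀ w ∈ reps11, ∃ w' ∈ reps, g 0 • path g w p = path g w' p := by
  intro w hw
  simp only [reps11, List.mem_cons, List.not_mem_nil, or_false] at hw
  rcases hw with rfl | rfl | rfl | rfl | rfl | rfl | rfl | rfl | rfl | rfl | rfl | rfl | rfl | rfl | rfl | rfl | rfl | rfl | rfl | rfl | rfl | rfl | rfl | rfl | rfl | rfl | rfl | rfl | rfl | rfl | rfl | rfl | rfl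
  · exact ⟨[9, 8, 2, 9, 5, 1], mem_reps (l := reps12) (by simp [repLists]) (by decide), (f5476 H)⟩
  · exact ⟨[9, 8, 2, 8, 6], mem_reps (l := reps5) (by simp [repLists]) (by decide), (f5010 H)⟩
  · exact ⟨[9, 2, 9, 5, 3, 1], mem_reps (l := reps12) (by simp [repLists]) (by decide), (f9658 H)⟩
  · exact ⟨[8, 9, 2, 1, 3], mem_reps (l := reps8) (by simp [repLists]) (by decide), (f10866 H)⟩
  · exact ⟨[9, 3, 9, 2, 8, 9], mem_reps (l := reps13) (by simp [repLists]) (by decide), (f11885 H)⟩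
  · exact ⟨[4, 2, 8, 1], mem_reps (l := reps5) (by simp [repLists]) (by decide), (f5073 H)⟩
  · exact ⟨[9, 3, 9, 2, 8, 4], mem_reps (l := reps13) (by simp [repLists]) (by decide), (f11901 H)⟩
  · exact ⟨[9, 8, 2, 5, 6, 4], mem_reps (l := reps12) (by simp [repLists]) (by decide), (f5581 H)⟩
  · exact ⟨[9, 8, 2, 1, 4], mem_reps (l := reps5) (by simp [repLists]) (by decide), (f5113 H)⟩
  · exact ⟨[9, 2, 5, 8, 4], mem_reps (l := reps6) (by simp [repLists]) (by decide), (f7404 H)⟩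
  · exact ⟨[8, 1, 4, 2, 3], mem_reps (l := reps9) (by simp [repLists]) (by decide), (f8912 H)⟩
  · exact ⟨[9, 2, 8, 1, 8, 9], mem_reps (l := reps13) (by simp [repLists]) (by decide), (f9554 H)⟩
  · exact ⟨[9, 8, 2, 9, 5, 6], mem_reps (l := reps12) (by simp [repLists]) (by decide), (f8978 H)⟩
  · exact ⟨[4, 2, 5, 8, 4], mem_reps (l := reps11) (by simp [repLists]) (by decide), (f8565 H)⟩
  · exact ⟨[9, 3, 2, 6, 8, 4], mem_reps (l := reps13) (by simp [repLists]) (by decide), (f11997 H)⟩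
  · exact ⟨[8, 6, 4, 2, 3, 1], mem_reps (l := reps14) (by simp [repLists]) (by decide), (f12372 H)⟩
  · exact ⟨[4, 2, 9, 3, 9, 5], mem_reps (l := reps14) (by simp [repLists]) (by decide), (f12601 H)⟩
  · exact ⟨[4, 2, 9, 3], mem_reps (l := reps4) (by simp [repLists]) (by decide), (f5230 H)⟩
  · exact ⟨[9, 2, 9, 3, 1], mem_reps (l := reps6) (by simp [repLists]) (by decide), (f9610 H)⟩
  · exact ⟨[8, 1, 8, 9, 6, 8], mem_reps (l := reps14) (by simp [repLists]) (by decide), (f12385 H)⟩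
  · exact ⟨[4, 2, 8, 6], mem_reps (l := reps4) (by simp [repLists]) (by decide), (f5269 H)⟩
  · exact ⟨[8, 1, 3, 6, 3, 1], mem_reps (l := reps14) (by simp [repLists]) (by decide), (f12475 H)⟩
  · exact ⟨[9, 2, 8, 9, 6], mem_reps (l := reps6) (by simp [repLists]) (by decide), (f10982 H)⟩
  · exact ⟨[9, 3, 1, 8, 1], mem_reps (l := reps8) (by simp [repLists]) (by decide), (f8607 H)⟩
  · exact ⟨[9, 2, 8, 2, 6], mem_reps (l := reps6) (by simp [repLists]) (by decide), (f5314 H)⟩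
  · exact ⟨[4, 8, 1, 3, 1], mem_reps (l := reps11) (by simp [repLists]) (by decide), (f8570 H)⟩
  · exact ⟨[3, 1, 3, 6, 3, 1], mem_reps (l := reps14) (by simp [repLists]) (by decide), (f12535 H)⟩
  · exact ⟨[8, 1, 8, 9, 6, 3], mem_reps (l := reps14) (by simp [repLists]) (by decide), (f12404 H)⟩
  · exact ⟨[9, 3, 2, 1, 8, 1], mem_reps (l := reps13) (by simp [repLists]) (by decide), (f12035 H)⟩
  · exact ⟨[4, 2, 3, 6], mem_reps (l := reps5) (by simp [repLists]) (by decide), (f5359 H)⟩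
  · exact ⟨[9, 8, 1, 8, 2], mem_reps (l := reps6) (by simp [repLists]) (by decide), (f7763 H)⟩
  · exact ⟨[4, 2, 4, 8], mem_reps (l := reps5) (by simp [repLists]) (by decide), (f5387 H)⟩
  · exact ⟨[9, 8, 2, 9, 2], mem_reps (l := reps5) (by simp [repLists]) (by decide), (f5427 H)⟩

theorem step1_11 : ∀ w ∈ reps11, ∃ w' ∈ reps, g 1 • path g w p = path g w' p := by
  intro w hw
  simp only [reps11, List.mem_cons, List.not_mem_nil, or_false] at hw
  rcases hw with rfl | rfl | rfl | rfl | rfl | rfl | rfl | rfl | rfl | rfl | rfl | rfl | rfl | rfl | rfl | rfl | rfl | rfl | rfl | rfl | rfl | rfl | rfl | rfl | rfl | rfl | rfl | rfl | rfl | rfl | rfl | rfl | rfl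
  · exact ⟨[4, 8, 2, 9, 6], mem_reps (l := reps10) (by simp [repLists]) (by decide), (f4992 H)⟩
  · exact ⟨[4, 8, 2, 8], mem_reps (l := reps4) (by simp [repLists]) (by decide), (f5007 H)⟩
  · exact ⟨[8, 1, 8, 4, 2], mem_reps (l := reps9) (by simp [repLists]) (by decide), (f9664 H)⟩
  · exact ⟨[9, 2, 4, 8, 2], mem_reps (l := reps7) (by simp [repLists]) (by decide), (f10620 H)⟩
  · exact ⟨[8, 1, 8, 9, 6, 8], mem_reps (l := reps14) (by simp [repLists]) (by decide), (f12389 H)⟩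
  · exact ⟨[8, 9, 2, 6, 5], mem_reps (l := reps8) (by simp [repLists]) (by decide), (f5067 H)⟩
  · exact ⟨[8, 1, 8, 6, 3], mem_reps (l := reps9) (by simp [repLists]) (by decide), (f11455 H)⟩
  · exact ⟨[4, 8, 6, 8], mem_reps (l := reps4) (by simp [repLists]) (by decide), (f5104 H)⟩
  · exact ⟨[4, 8, 6, 8, 6], mem_reps (l := reps11) (by simp [repLists]) (by decide), (f5109 H)⟩
  · exact ⟨[4, 8, 6, 3], mem_reps (l := reps4) (by simp [repLists]) (by decide), (f5128 H)⟩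
  · exact ⟨[4, 8, 1, 8], mem_reps (l := reps4) (by simp [repLists]) (by decide), (f5138 H)⟩
  · exact ⟨[4, 8, 1, 8, 6], mem_reps (l := reps11) (by simp [repLists]) (by decide), (f5147 H)⟩
  · exact ⟨[9, 2, 3, 2, 9], mem_reps (l := reps7) (by simp [repLists]) (by decide), (f8928 H)⟩
  · exact ⟨[3, 9, 1, 3, 5], mem_reps (l := reps10) (by simp [repLists]) (by decide), (f9022 H)⟩
  · exact ⟨[9, 8, 2, 6, 8, 4], mem_reps (l := reps12) (by simp [repLists]) (by decide), (f11769 H)⟩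
  · exact ⟨[8, 6, 4, 2, 8], mem_reps (l := reps9) (by simp [repLists]) (by decide), (f11586 H)⟩
  · exact ⟨[4, 2, 9, 5, 2], mem_reps (l := reps11) (by simp [repLists]) (by decide), (f11770 H)⟩
  · exact ⟨[8, 1, 8, 1, 3], mem_reps (l := reps9) (by simp [repLists]) (by decide), (f11137 H)⟩
  · exact ⟨[8, 6, 8, 6, 3], mem_reps (l := reps9) (by simp [repLists]) (by decide), (f10927 H)⟩
  · exact ⟨[8, 1, 3, 1, 3], mem_reps (l := reps9) (by simp [repLists]) (by decide), (f9473 H)⟩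
  · exact ⟨[9, 3, 9, 2, 8], mem_reps (l := reps7) (by simp [repLists]) (by decide), (f5274 H)⟩
  · exact ⟨[4, 2, 8, 4], mem_reps (l := reps5) (by simp [repLists]) (by decide), (f5284 H)⟩
  · exact ⟨[8, 4, 2, 9, 5], mem_reps (l := reps9) (by simp [repLists]) (by decide), (f10991 H)⟩
  · exact ⟨[8, 1, 4, 8, 5], mem_reps (l := reps9) (by simp [repLists]) (by decide), (f7652 H)⟩
  · exact ⟨[4, 2, 5, 8], mem_reps (l := reps5) (by simp [repLists]) (by decide), (f5309 H)⟩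
  · exact ⟨[8, 9, 1, 3, 5], mem_reps (l := reps8) (by simp [repLists]) (by decide), (f7649 H)⟩
  · exact ⟨[9, 2, 9, 3, 5, 2], mem_reps (l := reps12) (by simp [repLists]) (by decide), (f11589 H)⟩
  · exact ⟨[9, 2, 9, 3, 9, 6], mem_reps (l := reps12) (by simp [repLists]) (by decide), (f11565 H)⟩
  · exact ⟨[9, 8, 2, 8, 9], mem_reps (l := reps5) (by simp [repLists]) (by decide), (f11503 H)⟩
  · exact ⟨[9, 8, 2, 8, 2], mem_reps (l := reps5) (by simp [repLists]) (by decide), (f5367 H)⟩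
  · exact ⟨[4, 2, 5, 8, 9], mem_reps (l := reps11) (by simp [repLists]) (by decide), (f8490 H)⟩
  · exact ⟨[3, 9, 2, 6, 3], mem_reps (l := reps10) (by simp [repLists]) (by decide), (f9480 H)⟩
  · exact ⟨[9, 3, 5, 2, 4], mem_reps (l := reps8) (by simp [repLists]) (by decide), (f8994 H)⟩

theorem step2_11 : ∀ w ∈ reps11, ∃ w' ∈ reps, g 2 • path g w p = path g w' p := by
  intro w hw
  simp only [reps11, List.mem_cons, List.not_mem_nil, or_false] at hw
  rcases hw with rfl | rfl | rfl | rfl | rfl | rfl | rfl | rfl | rfl | rfl | rfl | rfl | rfl | rfl | rfl | rfl | rfl | rfl | rfl | rfl | rfl | rfl | rfl | rfl | rfl | rfl | rfl | rfl | rfl | rfl | rfl | rfl | rfl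
  · exact ⟨[4, 2, 4, 8], mem_reps (l := reps5) (by simp [repLists]) (by decide), (f9496 H)⟩
  · exact ⟨[9, 8, 2, 4, 8, 6], mem_reps (l := reps12) (by simp [repLists]) (by decide), (f8519 H)⟩
  · exact ⟨[9, 2, 8, 6, 8], mem_reps (l := reps6) (by simp [repLists]) (by decide), (f5017 H)⟩
  · exact ⟨[9, 2, 4, 8, 1], mem_reps (l := reps7) (by simp [repLists]) (by decide), (f10311 H)⟩
  · exact ⟨[9, 8, 1, 3, 6, 3], mem_reps (l := reps12) (by simp [repLists]) (by decide), (f11645 H)⟩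
  · exact ⟨[4, 8, 5, 6], mem_reps (l := reps4) (by simp [repLists]) (by decide), (f5069 H)⟩
  · exact ⟨[9, 8, 6, 3, 1, 3], mem_reps (l := reps12) (by simp [repLists]) (by decide), (f11707 H)⟩
  · exact ⟨[3, 6, 3, 9, 1], mem_reps (l := reps10) (by simp [repLists]) (by decide), (f11468 H)⟩
  · exact ⟨[3, 6, 3, 9, 6], mem_reps (l := reps10) (by simp [repLists]) (by decide), (f10743 H)⟩
  · exact ⟨[9, 8, 2, 5, 6, 4], mem_reps (l := reps12) (by simp [repLists]) (by decide), (f11470 H)⟩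
  · exact ⟨[8, 1, 4, 2, 8], mem_reps (l := reps9) (by simp [repLists]) (by decide), (f8904 H)⟩
  · exact ⟨[3, 9, 1, 8, 6], mem_reps (l := reps10) (by simp [repLists]) (by decide), (f5149 H)⟩
  · exact ⟨[4, 8, 1, 3], mem_reps (l := reps4) (by simp [repLists]) (by decide), (f5157 H)⟩
  · exact ⟨[9, 8, 2, 9, 1, 5], mem_reps (l := reps12) (by simp [repLists]) (by decide), (f8579 H)⟩
  · exact ⟨[4, 2, 9, 5], mem_reps (l := reps4) (by simp [repLists]) (by decide), (f5211 H)⟩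
  · exact ⟨[9, 2, 4, 8, 5], mem_reps (l := reps7) (by simp [repLists]) (by decide), (f11591 H)⟩
  · exact ⟨[9, 3, 9, 2, 9], mem_reps (l := reps7) (by simp [repLists]) (by decide), (f11774 H)⟩
  · exact ⟨[8, 1, 3, 6, 3, 1], mem_reps (l := reps14) (by simp [repLists]) (by decide), (f12480 H)⟩
  · exact ⟨[4, 2, 8, 9], mem_reps (l := reps4) (by simp [repLists]) (by decide), (f5241 H)⟩
  · exact ⟨[8, 6, 8, 6, 3, 1], mem_reps (l := reps14) (by simp [repLists]) (by decide), (f12250 H)⟩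
  · exact ⟨[9, 2, 3, 1, 5], mem_reps (l := reps7) (by simp [repLists]) (by decide), (f5279 H)⟩
  · exact ⟨[8, 4, 2, 9, 5], mem_reps (l := reps9) (by simp [repLists]) (by decide), (f11039 H)⟩
  · exact ⟨[4, 2, 8, 4], mem_reps (l := reps5) (by simp [repLists]) (by decide), (f5302 H)⟩
  · exact ⟨[4, 2, 4, 8, 5], mem_reps (l := reps11) (by simp [repLists]) (by decide), (f9547 H)⟩
  · exact ⟨[8, 9, 2, 1, 5], mem_reps (l := reps8) (by simp [repLists]) (by decide), (f5318 H)⟩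
  · exact ⟨[4, 2, 5, 8, 4], mem_reps (l := reps11) (by simp [repLists]) (by decide), (f8991 H)⟩
  · exact ⟨[9, 2, 9, 3, 5, 1], mem_reps (l := reps13) (by simp [repLists]) (by decide), (f11597 H)⟩
  · exact ⟨[4, 2, 5, 4], mem_reps (l := reps5) (by simp [repLists]) (by decide), (f5338 H)⟩
  · exact ⟨[4, 2, 3, 9], mem_reps (l := reps5) (by simp [repLists]) (by decide), (f5342 H)⟩
  · exact ⟨[9, 8, 2, 8, 1], mem_reps (l := reps5) (by simp [repLists]) (by decide), (f5365 H)⟩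
  · exact ⟨[3, 9, 2, 6, 3], mem_reps (l := reps10) (by simp [repLists]) (by decide), (f7959 H)⟩
  · exact ⟨[4, 2, 5, 8, 9], mem_reps (l := reps11) (by simp [repLists]) (by decide), (f9482 H)⟩
  · exact ⟨[8, 9, 2, 6, 3, 1], mem_reps (l := reps14) (by simp [repLists]) (by decide), (f12136 H)⟩

theorem step3_11 : ∀ w ∈ reps11, ∃ w' ∈ reps, g 3 • path g w p = path g w' p := by
  intro w hw
  simp only [reps11, List.mem_cons, List.not_mem_nil, or_false] at hw
  rcases hw with rfl | rfl | rfl | rfl | rfl | rfl | rfl | rfl | rfl | rfl | rfl | rfl | rfl | rfl | rfl | rfl | rfl | rfl | rfl | rfl | rfl | rfl | rfl | rfl | rfl | rfl | rfl | rfl | rfl | rfl | rfl | rfl | rfl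
  · exact ⟨[8, 6, 8, 9, 2, 9], mem_reps (l := reps14) (by simp [repLists]) (by decide), (f12209 H)⟩
  · exact ⟨[4, 8, 2, 9, 2], mem_reps (l := reps10) (by simp [repLists]) (by decide), (f9399 H)⟩
  · exact ⟨[4, 8, 2, 6], mem_reps (l := reps4) (by simp [repLists]) (by decide), (f5016 H)⟩
  · exact ⟨[4, 8, 2, 1], mem_reps (l := reps4) (by simp [repLists]) (by decide), (f5036 H)⟩
  · exact ⟨[4, 8, 5, 2, 9, 3], mem_reps (l := reps14) (by simp [repLists]) (by decide), (f12542 H)⟩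
  · exact ⟨[3, 9, 6, 3, 2], mem_reps (l := reps10) (by simp [repLists]) (by decide), (f11481 H)⟩
  · exact ⟨[4, 2, 9, 5], mem_reps (l := reps4) (by simp [repLists]) (by decide), (f5081 H)⟩
  · exact ⟨[8, 6, 8, 1, 8, 1], mem_reps (l := reps14) (by simp [repLists]) (by decide), (f12277 H)⟩
  · exact ⟨[9, 8, 2, 1, 5], mem_reps (l := reps5) (by simp [repLists]) (by decide), (f10673 H)⟩
  · exact ⟨[9, 3, 9, 2, 9], mem_reps (l := reps7) (by simp [repLists]) (by decide), (f7407 H)⟩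
  · exact ⟨[9, 8, 2, 8, 6], mem_reps (l := reps5) (by simp [repLists]) (by decide), (f8897 H)⟩
  · exact ⟨[9, 2, 9, 3, 5, 1], mem_reps (l := reps13) (by simp [repLists]) (by decide), (f10917 H)⟩
  · exact ⟨[9, 2, 3, 2, 6, 8], mem_reps (l := reps13) (by simp [repLists]) (by decide), (f11813 H)⟩
  · exact ⟨[9, 2, 9, 5, 1], mem_reps (l := reps6) (by simp [repLists]) (by decide), (f8558 H)⟩
  · exact ⟨[9, 3, 2, 1, 8, 1], mem_reps (l := reps13) (by simp [repLists]) (by decide), (f12036 H)⟩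
  · exact ⟨[4, 8, 5, 2, 4], mem_reps (l := reps11) (by simp [repLists]) (by decide), (f5215 H)⟩
  · exact ⟨[4, 2, 8, 4], mem_reps (l := reps5) (by simp [repLists]) (by decide), (f5224 H)⟩
  · exact ⟨[9, 2, 4, 8, 5, 8], mem_reps (l := reps13) (by simp [repLists]) (by decide), (f11855 H)⟩
  · exact ⟨[8, 1, 8, 6, 4], mem_reps (l := reps9) (by simp [repLists]) (by decide), (f9548 H)⟩
  · exact ⟨[9, 8, 2, 9, 1, 8], mem_reps (l := reps12) (by simp [repLists]) (by decide), (f10183 H)⟩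
  · exact ⟨[9, 2, 9, 5, 3, 1], mem_reps (l := reps12) (by simp [repLists]) (by decide), (f9660 H)⟩
  · exact ⟨[9, 2, 4, 8, 2], mem_reps (l := reps7) (by simp [repLists]) (by decide), (f11629 H)⟩
  · exact ⟨[8, 6, 3, 9, 1], mem_reps (l := reps9) (by simp [repLists]) (by decide), (f11538 H)⟩
  · exact ⟨[4, 2, 5, 4, 8], mem_reps (l := reps11) (by simp [repLists]) (by decide), (f5333 H)⟩
  · exact ⟨[8, 6, 4, 8, 6], mem_reps (l := reps9) (by simp [repLists]) (by decide), (f10898 H)⟩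
  · exact ⟨[4, 8, 5, 2, 9], mem_reps (l := reps11) (by simp [repLists]) (by decide), (f5328 H)⟩
  · exact ⟨[4, 2, 5, 4], mem_reps (l := reps5) (by simp [repLists]) (by decide), (f5331 H)⟩
  · exact ⟨[3, 9, 2, 1, 4], mem_reps (l := reps10) (by simp [repLists]) (by decide), (f10225 H)⟩
  · exact ⟨[9, 2, 8, 9, 2, 8], mem_reps (l := reps13) (by simp [repLists]) (by decide), (f11515 H)⟩
  · exact ⟨[9, 3, 6, 8, 1], mem_reps (l := reps8) (by simp [repLists]) (by decide), (f10150 H)⟩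
  · exact ⟨[9, 2, 9, 8, 6], mem_reps (l := reps6) (by simp [repLists]) (by decide), (f8183 H)⟩
  · exact ⟨[9, 2, 9, 3, 5], mem_reps (l := reps6) (by simp [repLists]) (by decide), (f11601 H)⟩
  · exact ⟨[9, 3, 5, 2, 6], mem_reps (l := reps8) (by simp [repLists]) (by decide), (f6119 H)⟩

theorem step4_11 : ∀ w ∈ reps11, ∃ w' ∈ reps, g 4 • path g w p = path g w' p := by
  intro w hw
  simp only [reps11, List.mem_cons, List.not_mem_nil, or_false] at hw
  rcases hw with rfl | rfl | rfl | rfl | rfl | rfl | rfl | rfl | rfl | rfl | rfl | rfl | rfl | rfl | rfl | rfl | rfl | rfl | rfl | rfl | rfl | rfl | rfl | rfl | rfl | rfl | rfl | rfl | rfl | rfl | rfl | rfl | rfl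
  · exact ⟨[4, 8, 2, 1], mem_reps (l := reps4) (by simp [repLists]) (by decide), (f4994 H)⟩
  · exact ⟨[8, 1, 4, 2, 3], mem_reps (l := reps9) (by simp [repLists]) (by decide), (f8996 H)⟩
  · exact ⟨[8, 1, 3, 1, 8], mem_reps (l := reps9) (by simp [repLists]) (by decide), (f9415 H)⟩
  · exact ⟨[4, 8, 2, 9, 1], mem_reps (l := reps11) (by simp [repLists]) (by decide), (f10317 H)⟩
  · exact ⟨[4, 8, 5, 2], mem_reps (l := reps4) (by simp [repLists]) (by decide), (f5064 H)⟩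
  · exact ⟨[8, 1, 8, 6, 3], mem_reps (l := reps9) (by simp [repLists]) (by decide), (f11452 H)⟩
  · exact ⟨[4, 8, 5, 2, 9], mem_reps (l := reps11) (by simp [repLists]) (by decide), (f5079 H)⟩
  · exact ⟨[4, 8, 1, 3, 2], mem_reps (l := reps11) (by simp [repLists]) (by decide), (f8983 H)⟩
  · exact ⟨[9, 8, 2, 9, 1, 5], mem_reps (l := reps12) (by simp [repLists]) (by decide), (f5495 H)⟩
  · exact ⟨[9, 3, 6, 8, 6], mem_reps (l := reps8) (by simp [repLists]) (by decide), (f5129 H)⟩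
  · exact ⟨[4, 2, 3, 9, 2], mem_reps (l := reps11) (by simp [repLists]) (by decide), (f11508 H)⟩
  · exact ⟨[9, 8, 2, 8, 9, 1], mem_reps (l := reps12) (by simp [repLists]) (by decide), (f5521 H)⟩
  · exact ⟨[9, 2, 3, 2, 6], mem_reps (l := reps7) (by simp [repLists]) (by decide), (f8980 H)⟩
  · exact ⟨[9, 3, 1, 8, 1], mem_reps (l := reps8) (by simp [repLists]) (by decide), (f5173 H)⟩
  · exact ⟨[3, 1, 3, 1, 3], mem_reps (l := reps10) (by simp [repLists]) (by decide), (f11764 H)⟩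
  · exact ⟨[4, 2, 5, 4, 8], mem_reps (l := reps11) (by simp [repLists]) (by decide), (f5335 H)⟩
  · exact ⟨[4, 2, 9, 3], mem_reps (l := reps4) (by simp [repLists]) (by decide), (f5218 H)⟩
  · exact ⟨[4, 2, 4, 8, 5], mem_reps (l := reps11) (by simp [repLists]) (by decide), (f5391 H)⟩
  · exact ⟨[3, 9, 6, 3, 2], mem_reps (l := reps10) (by simp [repLists]) (by decide), (f10928 H)⟩
  · exact ⟨[4, 2, 8, 1], mem_reps (l := reps5) (by simp [repLists]) (by decide), (f5251 H)⟩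
  · exact ⟨[8, 1, 3, 6, 3, 1], mem_reps (l := reps14) (by simp [repLists]) (by decide), (f12471 H)⟩
  · exact ⟨[8, 1, 3, 1, 3], mem_reps (l := reps9) (by simp [repLists]) (by decide), (f9476 H)⟩
  · exact ⟨[9, 2, 8, 6, 5], mem_reps (l := reps6) (by simp [repLists]) (by decide), (f10988 H)⟩
  · exact ⟨[4, 2, 5, 8], mem_reps (l := reps5) (by simp [repLists]) (by decide), (f5305 H)⟩
  · exact ⟨[9, 2, 3, 9, 6, 3], mem_reps (l := reps13) (by simp [repLists]) (by decide), (f11798 H)⟩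
  · exact ⟨[4, 2, 5, 8, 9], mem_reps (l := reps11) (by simp [repLists]) (by decide), (f5326 H)⟩
  · exact ⟨[4, 8, 5, 2, 9, 3], mem_reps (l := reps14) (by simp [repLists]) (by decide), (f12556 H)⟩
  · exact ⟨[9, 2, 9, 3, 1], mem_reps (l := reps6) (by simp [repLists]) (by decide), (f11568 H)⟩
  · exact ⟨[9, 8, 2, 8, 6], mem_reps (l := reps5) (by simp [repLists]) (by decide), (f11509 H)⟩
  · exact ⟨[8, 9, 6, 3, 5], mem_reps (l := reps8) (by simp [repLists]) (by decide), (f9842 H)⟩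
  · exact ⟨[4, 2, 5, 8, 6], mem_reps (l := reps11) (by simp [repLists]) (by decide), (f8487 H)⟩
  · exact ⟨[4, 2, 9, 3, 9, 5], mem_reps (l := reps14) (by simp [repLists]) (by decide), (f12603 H)⟩
  · exact ⟨[9, 2, 8, 1, 8, 1], mem_reps (l := reps13) (by simp [repLists]) (by decide), (f11659 H)⟩

theorem step0_12 : ∀ w ∈ reps12, ∃ w' ∈ reps, g 0 • path g w p = path g w' p := by
  intro w hw
  simp only [reps12, List.mem_cons, List.not_mem_nil, or_false] at hw
  rcases hw with rfl | rfl | rfl | rfl | rfl | rfl | rfl | rfl | rfl | rfl | rfl | rfl | rfl | rfl | rfl | rfl | rfl | rfl | rfl | rfl | rfl | rfl | rfl | rfl | rfl | rfl | rfl | rfl | rfl | rfl | rfl | rfl | rfl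
  · exact ⟨[4, 8, 1, 3, 2], mem_reps (l := reps11) (by simp [repLists]) (by decide), (f8974 H)⟩
  · exact ⟨[4, 8, 2, 9, 1], mem_reps (l := reps11) (by simp [repLists]) (by decide), (f5474 H)⟩
  · exact ⟨[8, 1, 8, 6, 8, 9], mem_reps (l := reps14) (by simp [repLists]) (by decide), (f12420 H)⟩
  · exact ⟨[9, 8, 2, 9, 1], mem_reps (l := reps5) (by simp [repLists]) (by decide), (f5491 H)⟩
  · exact ⟨[9, 2, 8, 1, 8], mem_reps (l := reps6) (by simp [repLists]) (by decide), (f9708 H)⟩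
  · exact ⟨[8, 6, 8, 4, 2], mem_reps (l := reps9) (by simp [repLists]) (by decide), (f7745 H)⟩
  · exact ⟨[8, 9, 2, 6, 3], mem_reps (l := reps8) (by simp [repLists]) (by decide), (f7680 H)⟩
  · exact ⟨[4, 8, 6, 8, 6], mem_reps (l := reps11) (by simp [repLists]) (by decide), (f5582 H)⟩
  · exact ⟨[8, 6, 3, 9, 1, 3], mem_reps (l := reps14) (by simp [repLists]) (by decide), (f12287 H)⟩
  · exact ⟨[8, 6, 4, 2, 3], mem_reps (l := reps9) (by simp [repLists]) (by decide), (f11528 H)⟩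
  · exact ⟨[9, 2, 9, 5, 2, 4], mem_reps (l := reps12) (by simp [repLists]) (by decide), (f11493 H)⟩
  · exact ⟨[9, 8, 2, 1, 3], mem_reps (l := reps5) (by simp [repLists]) (by decide), (f5795 H)⟩
  · exact ⟨[9, 2, 5, 1, 4, 8], mem_reps (l := reps13) (by simp [repLists]) (by decide), (f11717 H)⟩
  · exact ⟨[9, 8, 1, 8, 4], mem_reps (l := reps6) (by simp [repLists]) (by decide), (f8510 H)⟩
  · exact ⟨[9, 2, 4, 8, 2, 3], mem_reps (l := reps13) (by simp [repLists]) (by decide), (f11849 H)⟩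
  · exact ⟨[8, 1, 8, 4, 2, 4], mem_reps (l := reps14) (by simp [repLists]) (by decide), (f12452 H)⟩
  · exact ⟨[8, 6, 3, 6, 8, 1], mem_reps (l := reps14) (by simp [repLists]) (by decide), (f12312 H)⟩
  · exact ⟨[9, 2, 9, 3, 2, 8], mem_reps (l := reps12) (by simp [repLists]) (by decide), (f11616 H)⟩
  · exact ⟨[8, 4, 2, 5, 4, 2], mem_reps (l := reps14) (by simp [repLists]) (by decide), (f12512 H)⟩
  · exact ⟨[8, 9, 2, 9, 2], mem_reps (l := reps8) (by simp [repLists]) (by decide), (f9552 H)⟩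
  · exact ⟨[4, 8, 1, 8, 1, 8], mem_reps (l := reps14) (by simp [repLists]) (by decide), (f12596 H)⟩
  · exact ⟨[9, 2, 9, 3, 2], mem_reps (l := reps6) (by simp [repLists]) (by decide), (f9720 H)⟩
  · exact ⟨[9, 2, 9, 5, 2], mem_reps (l := reps6) (by simp [repLists]) (by decide), (f7596 H)⟩
  · exact ⟨[4, 8, 5, 2, 9, 3], mem_reps (l := reps14) (by simp [repLists]) (by decide), (f12553 H)⟩
  · exact ⟨[9, 2, 8, 1, 4, 8], mem_reps (l := reps13) (by simp [repLists]) (by decide), (f11674 H)⟩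
  · exact ⟨[9, 8, 2, 1, 5, 3], mem_reps (l := reps12) (by simp [repLists]) (by decide), (f11492 H)⟩
  · exact ⟨[9, 2, 9, 5, 3], mem_reps (l := reps6) (by simp [repLists]) (by decide), (f7626 H)⟩
  · exact ⟨[4, 8, 2, 6, 8], mem_reps (l := reps11) (by simp [repLists]) (by decide), (f9662 H)⟩
  · exact ⟨[8, 6, 8, 6, 3, 1], mem_reps (l := reps14) (by simp [repLists]) (by decide), (f12245 H)⟩
  · exact ⟨[9, 2, 9, 3, 9], mem_reps (l := reps6) (by simp [repLists]) (by decide), (f7783 H)⟩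
  · exact ⟨[8, 9, 1, 8, 6, 3], mem_reps (l := reps14) (by simp [repLists]) (by decide), (f12189 H)⟩
  · exact ⟨[9, 8, 1, 3, 6, 8], mem_reps (l := reps12) (by simp [repLists]) (by decide), (f11617 H)⟩
  · exact ⟨[8, 6, 8, 9, 2, 4], mem_reps (l := reps14) (by simp [repLists]) (by decide), (f12219 H)⟩

theorem step1_12 : ∀ w ∈ reps12, ∃ w' ∈ reps, g 1 • path g w p = path g w' p := by
  intro w hw
  simp only [reps12, List.mem_cons, List.not_mem_nil, or_false] at hw
  rcases hw with rfl | rfl | rfl | rfl | rfl | rfl | rfl | rfl | rfl | rfl | rfl | rfl | rfl | rfl | rfl | rfl | rfl | rfl | rfl | rfl | rfl | rfl | rfl | rfl | rfl | rfl | rfl | rfl | rfl | rfl | rfl | rfl | rfl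
  · exact ⟨[9, 8, 2, 9, 5], mem_reps (l := reps5) (by simp [repLists]) (by decide), (f5465 H)⟩
  · exact ⟨[9, 8, 2, 9, 5, 6], mem_reps (l := reps12) (by simp [repLists]) (by decide), (f5470 H)⟩
  · exact ⟨[9, 2, 9, 3, 5, 3], mem_reps (l := reps13) (by simp [repLists]) (by decide), (f11807 H)⟩
  · exact ⟨[4, 8, 1, 3, 2], mem_reps (l := reps11) (by simp [repLists]) (by decide), (f8985 H)⟩
  · exact ⟨[4, 2, 3, 9, 2], mem_reps (l := reps11) (by simp [repLists]) (by decide), (f11514 H)⟩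
  · exact ⟨[9, 8, 2, 1, 3, 5], mem_reps (l := reps12) (by simp [repLists]) (by decide), (f10558 H)⟩
  · exact ⟨[8, 9, 2, 6, 8], mem_reps (l := reps8) (by simp [repLists]) (by decide), (f9013 H)⟩
  · exact ⟨[9, 8, 2, 5, 4], mem_reps (l := reps5) (by simp [repLists]) (by decide), (f5584 H)⟩
  · exact ⟨[4, 2, 9, 3, 9], mem_reps (l := reps11) (by simp [repLists]) (by decide), (f9542 H)⟩
  · exact ⟨[8, 9, 2, 4, 8, 5], mem_reps (l := reps14) (by simp [repLists]) (by decide), (f12147 H)⟩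
  · exact ⟨[9, 2, 3, 6, 3, 2], mem_reps (l := reps13) (by simp [repLists]) (by decide), (f11839 H)⟩
  · exact ⟨[9, 2, 4, 8, 5], mem_reps (l := reps7) (by simp [repLists]) (by decide), (f10355 H)⟩
  · exact ⟨[3, 9, 6, 3, 2], mem_reps (l := reps10) (by simp [repLists]) (by decide), (f10351 H)⟩
  · exact ⟨[9, 8, 2, 4, 8], mem_reps (l := reps5) (by simp [repLists]) (by decide), (f5831 H)⟩
  · exact ⟨[9, 2, 8, 9, 2, 8], mem_reps (l := reps13) (by simp [repLists]) (by decide), (f11433 H)⟩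
  · exact ⟨[9, 2, 5, 4, 8, 5], mem_reps (l := reps13) (by simp [repLists]) (by decide), (f11747 H)⟩
  · exact ⟨[8, 4, 2, 5, 4, 2], mem_reps (l := reps14) (by simp [repLists]) (by decide), (f12518 H)⟩
  · exact ⟨[8, 9, 2, 9, 3], mem_reps (l := reps8) (by simp [repLists]) (by decide), (f11622 H)⟩
  · exact ⟨[3, 1, 3, 6, 3], mem_reps (l := reps10) (by simp [repLists]) (by decide), (f11640 H)⟩
  · exact ⟨[3, 6, 8, 1, 8], mem_reps (l := reps10) (by simp [repLists]) (by decide), (f11549 H)⟩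
  · exact ⟨[8, 9, 1, 8, 6, 3], mem_reps (l := reps14) (by simp [repLists]) (by decide), (f12199 H)⟩
  · exact ⟨[8, 6, 3, 1, 3], mem_reps (l := reps9) (by simp [repLists]) (by decide), (f11128 H)⟩
  · exact ⟨[9, 8, 1, 3, 6, 8], mem_reps (l := reps12) (by simp [repLists]) (by decide), (f11620 H)⟩
  · exact ⟨[9, 2, 9, 5, 2], mem_reps (l := reps6) (by simp [repLists]) (by decide), (f7604 H)⟩
  · exact ⟨[9, 2, 9, 5, 2, 6], mem_reps (l := reps12) (by simp [repLists]) (by decide), (f7611 H)⟩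
  · exact ⟨[8, 6, 4, 2, 3], mem_reps (l := reps9) (by simp [repLists]) (by decide), (f10129 H)⟩
  · exact ⟨[8, 9, 2, 6, 3], mem_reps (l := reps8) (by simp [repLists]) (by decide), (f9655 H)⟩
  · exact ⟨[3, 9, 1, 3, 2], mem_reps (l := reps10) (by simp [repLists]) (by decide), (f9629 H)⟩
  · exact ⟨[8, 9, 1, 8, 6, 8], mem_reps (l := reps14) (by simp [repLists]) (by decide), (f12174 H)⟩
  · exact ⟨[4, 8, 1, 8, 1, 8], mem_reps (l := reps14) (by simp [repLists]) (by decide), (f12591 H)⟩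
  · exact ⟨[9, 2, 9, 3, 9], mem_reps (l := reps6) (by simp [repLists]) (by decide), (f7791 H)⟩
  · exact ⟨[4, 8, 5, 2, 9, 3], mem_reps (l := reps14) (by simp [repLists]) (by decide), (f12549 H)⟩
  · exact ⟨[3, 6, 8, 6, 8], mem_reps (l := reps10) (by simp [repLists]) (by decide), (f11200 H)⟩

theorem step2_12 : ∀ w ∈ reps12, ∃ w' ∈ reps, g 2 • path g w p = path g w' p := by
  intro w hw
  simp only [reps12, List.mem_cons, List.not_mem_nil, or_false] at hw
  rcases hw with rfl | rfl | rfl | rfl | rfl | rfl | rfl | rfl | rfl | rfl | rfl | rfl | rfl | rfl | rfl | rfl | rfl | rfl | rfl | rfl | rfl | rfl | rfl | rfl | rfl | rfl | rfl | rfl | rfl | rfl | rfl | rfl | rfl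
  · exact ⟨[3, 1, 3, 9, 1], mem_reps (l := reps10) (by simp [repLists]) (by decide), (f6250 H)⟩
  · exact ⟨[3, 1, 3, 9, 6], mem_reps (l := reps10) (by simp [repLists]) (by decide), (f7223 H)⟩
  · exact ⟨[8, 9, 2, 9, 3], mem_reps (l := reps8) (by simp [repLists]) (by decide), (f11803 H)⟩
  · exact ⟨[4, 8, 1, 3, 1], mem_reps (l := reps11) (by simp [repLists]) (by decide), (f8578 H)⟩
  · exact ⟨[8, 6, 4, 8, 6], mem_reps (l := reps9) (by simp [repLists]) (by decide), (f9780 H)⟩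
  · exact ⟨[8, 6, 4, 2, 8, 1], mem_reps (l := reps14) (by simp [repLists]) (by decide), (f12359 H)⟩
  · exact ⟨[8, 9, 2, 6, 8], mem_reps (l := reps8) (by simp [repLists]) (by decide), (f5568 H)⟩
  · exact ⟨[4, 8, 6, 3, 6], mem_reps (l := reps11) (by simp [repLists]) (by decide), (f11473 H)⟩
  · exact ⟨[8, 9, 2, 8, 9], mem_reps (l := reps8) (by simp [repLists]) (by decide), (f11778 H)⟩
  · exact ⟨[9, 8, 2, 1, 8], mem_reps (l := reps5) (by simp [repLists]) (by decide), (f5752 H)⟩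
  · exact ⟨[9, 8, 6, 8, 5], mem_reps (l := reps5) (by simp [repLists]) (by decide), (f11487 H)⟩
  · exact ⟨[8, 6, 4, 2, 8], mem_reps (l := reps9) (by simp [repLists]) (by decide), (f10378 H)⟩
  · exact ⟨[9, 2, 5, 8, 4], mem_reps (l := reps6) (by simp [repLists]) (by decide), (f10370 H)⟩
  · exact ⟨[4, 8, 2, 8, 6], mem_reps (l := reps11) (by simp [repLists]) (by decide), (f8520 H)⟩
  · exact ⟨[8, 4, 2, 9, 3], mem_reps (l := reps10) (by simp [repLists]) (by decide), (f11478 H)⟩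
  · exact ⟨[4, 8, 5, 2, 4], mem_reps (l := reps11) (by simp [repLists]) (by decide), (f11705 H)⟩
  · exact ⟨[9, 2, 9, 5, 2, 8], mem_reps (l := reps12) (by simp [repLists]) (by decide), (f11625 H)⟩
  · exact ⟨[9, 2, 9, 3, 5, 3], mem_reps (l := reps13) (by simp [repLists]) (by decide), (f11609 H)⟩
  · exact ⟨[4, 8, 5, 2, 9], mem_reps (l := reps11) (by simp [repLists]) (by decide), (f11646 H)⟩
  · exact ⟨[9, 3, 9, 2, 8, 9], mem_reps (l := reps13) (by simp [repLists]) (by decide), (f11894 H)⟩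
  · exact ⟨[8, 9, 1, 8, 6, 3], mem_reps (l := reps14) (by simp [repLists]) (by decide), (f12197 H)⟩
  · exact ⟨[9, 8, 1, 8, 6, 3], mem_reps (l := reps12) (by simp [repLists]) (by decide), (f11627 H)⟩
  · exact ⟨[8, 1, 8, 9, 6, 3], mem_reps (l := reps14) (by simp [repLists]) (by decide), (f12412 H)⟩
  · exact ⟨[9, 2, 9, 5, 1], mem_reps (l := reps6) (by simp [repLists]) (by decide), (f7608 H)⟩
  · exact ⟨[9, 2, 9, 5, 6], mem_reps (l := reps6) (by simp [repLists]) (by decide), (f7613 H)⟩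
  · exact ⟨[9, 2, 8, 1, 8], mem_reps (l := reps6) (by simp [repLists]) (by decide), (f9741 H)⟩
  · exact ⟨[9, 2, 8, 1, 8, 9], mem_reps (l := reps13) (by simp [repLists]) (by decide), (f9675 H)⟩
  · exact ⟨[3, 9, 1, 3, 1], mem_reps (l := reps10) (by simp [repLists]) (by decide), (f11650 H)⟩
  · exact ⟨[8, 6, 8, 9, 2, 4], mem_reps (l := reps14) (by simp [repLists]) (by decide), (f12228 H)⟩
  · exact ⟨[8, 6, 4, 2, 8, 9], mem_reps (l := reps14) (by simp [repLists]) (by decide), (f12338 H)⟩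
  · exact ⟨[8, 9, 2, 8, 4], mem_reps (l := reps8) (by simp [repLists]) (by decide), (f11560 H)⟩
  · exact ⟨[8, 1, 8, 6, 8, 9], mem_reps (l := reps14) (by simp [repLists]) (by decide), (f12428 H)⟩
  · exact ⟨[9, 2, 9, 3, 5], mem_reps (l := reps6) (by simp [repLists]) (by decide), (f7838 H)⟩

theorem step3_12 : ∀ w ∈ reps12, ∃ w' ∈ reps, g 3 • path g w p = path g w' p := by
  intro w hw
  simp only [reps12, List.mem_cons, List.not_mem_nil, or_false] at hw
  rcases hw with rfl | rfl | rfl | rfl | rfl | rfl | rfl | rfl | rfl | rfl | rfl | rfl | rfl | rfl | rfl | rfl | rfl | rfl | rfl | rfl | rfl | rfl | rfl | rfl | rfl | rfl | rfl | rfl | rfl | rfl | rfl | rfl | rfl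
  · exact ⟨[8, 9, 2, 6, 5], mem_reps (l := reps8) (by simp [repLists]) (by decide), (f8969 H)⟩
  · exact ⟨[8, 9, 2, 9, 2], mem_reps (l := reps8) (by simp [repLists]) (by decide), (f11553 H)⟩
  · exact ⟨[9, 8, 2, 9, 1], mem_reps (l := reps5) (by simp [repLists]) (by decide), (f5487 H)⟩
  · exact ⟨[9, 2, 9, 5, 2, 5], mem_reps (l := reps12) (by simp [repLists]) (by decide), (f9023 H)⟩
  · exact ⟨[9, 8, 2, 8, 1, 8], mem_reps (l := reps12) (by simp [repLists]) (by decide), (f10888 H)⟩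
  · exact ⟨[9, 8, 2, 8, 1], mem_reps (l := reps5) (by simp [repLists]) (by decide), (f5561 H)⟩
  · exact ⟨[9, 8, 2, 5, 6], mem_reps (l := reps5) (by simp [repLists]) (by decide), (f5567 H)⟩
  · exact ⟨[9, 2, 5, 4, 2, 5], mem_reps (l := reps13) (by simp [repLists]) (by decide), (f11761 H)⟩
  · exact ⟨[9, 8, 2, 6, 4], mem_reps (l := reps5) (by simp [repLists]) (by decide), (f8803 H)⟩
  · exact ⟨[9, 3, 5, 2, 1], mem_reps (l := reps8) (by simp [repLists]) (by decide), (f5754 H)⟩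
  · exact ⟨[4, 8, 6, 8, 1], mem_reps (l := reps11) (by simp [repLists]) (by decide), (f10690 H)⟩
  · exact ⟨[4, 8, 5, 2, 1], mem_reps (l := reps11) (by simp [repLists]) (by decide), (f11456 H)⟩
  · exact ⟨[8, 6, 8, 1, 8, 6], mem_reps (l := reps14) (by simp [repLists]) (by decide), (f12261 H)⟩
  · exact ⟨[9, 8, 1, 8, 5], mem_reps (l := reps6) (by simp [repLists]) (by decide), (f8496 H)⟩
  · exact ⟨[9, 8, 6, 3, 1], mem_reps (l := reps6) (by simp [repLists]) (by decide), (f6013 H)⟩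
  · exact ⟨[9, 8, 6, 3, 1, 8], mem_reps (l := reps12) (by simp [repLists]) (by decide), (f6026 H)⟩
  · exact ⟨[8, 9, 2, 8, 4], mem_reps (l := reps8) (by simp [repLists]) (by decide), (f6122 H)⟩
  · exact ⟨[9, 8, 1, 3, 6], mem_reps (l := reps6) (by simp [repLists]) (by decide), (f6199 H)⟩
  · exact ⟨[9, 8, 1, 3, 6, 8], mem_reps (l := reps12) (by simp [repLists]) (by decide), (f6204 H)⟩
  · exact ⟨[9, 2, 9, 8, 2], mem_reps (l := reps6) (by simp [repLists]) (by decide), (f7435 H)⟩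
  · exact ⟨[9, 2, 9, 8, 2, 8], mem_reps (l := reps12) (by simp [repLists]) (by decide), (f7442 H)⟩
  · exact ⟨[9, 2, 9, 5, 2], mem_reps (l := reps6) (by simp [repLists]) (by decide), (f7594 H)⟩
  · exact ⟨[8, 4, 2, 5, 4, 2], mem_reps (l := reps14) (by simp [repLists]) (by decide), (f12520 H)⟩
  · exact ⟨[8, 6, 3, 6, 8, 1], mem_reps (l := reps14) (by simp [repLists]) (by decide), (f12315 H)⟩
  · exact ⟨[3, 1, 3, 9, 6], mem_reps (l := reps10) (by simp [repLists]) (by decide), (f11207 H)⟩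
  · exact ⟨[9, 3, 2, 1, 5], mem_reps (l := reps7) (by simp [repLists]) (by decide), (f9744 H)⟩
  · exact ⟨[8, 9, 2, 9, 3, 5], mem_reps (l := reps14) (by simp [repLists]) (by decide), (f12096 H)⟩
  · exact ⟨[8, 9, 2, 6, 3, 1], mem_reps (l := reps14) (by simp [repLists]) (by decide), (f12133 H)⟩
  · exact ⟨[4, 8, 1, 3, 1], mem_reps (l := reps11) (by simp [repLists]) (by decide), (f8584 H)⟩
  · exact ⟨[9, 3, 2, 6, 8, 6], mem_reps (l := reps13) (by simp [repLists]) (by decide), (f11989 H)⟩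
  · exact ⟨[9, 8, 2, 9, 5, 1], mem_reps (l := reps12) (by simp [repLists]) (by decide), (f11555 H)⟩
  · exact ⟨[9, 2, 9, 3, 2], mem_reps (l := reps6) (by simp [repLists]) (by decide), (f7807 H)⟩
  · exact ⟨[9, 2, 9, 5, 2, 1], mem_reps (l := reps12) (by simp [repLists]) (by decide), (f11209 H)⟩

theorem step4_12 : ∀ w ∈ reps12, ∃ w' ∈ reps, g 4 • path g w p = path g w' p := by
  intro w hw
  simp only [reps12, List.mem_cons, List.not_mem_nil, or_false] at hw
  rcases hw with rfl | rfl | rfl | rfl | rfl | rfl | rfl | rfl | rfl | rfl | rfl | rfl | rfl | rfl | rfl | rfl | rfl | rfl | rfl | rfl | rfl | rfl | rfl | rfl | rfl | rfl | rfl | rfl | rfl | rfl | rfl | rfl | rfl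
  · exact ⟨[9, 8, 2, 5, 6], mem_reps (l := reps5) (by simp [repLists]) (by decide), (f5466 H)⟩
  · exact ⟨[9, 8, 2, 5, 1], mem_reps (l := reps5) (by simp [repLists]) (by decide), (f5472 H)⟩
  · exact ⟨[8, 6, 8, 6, 3], mem_reps (l := reps9) (by simp [repLists]) (by decide), (f10457 H)⟩
  · exact ⟨[9, 8, 2, 1, 5], mem_reps (l := reps5) (by simp [repLists]) (by decide), (f5496 H)⟩
  · exact ⟨[9, 8, 2, 8, 1], mem_reps (l := reps5) (by simp [repLists]) (by decide), (f5518 H)⟩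
  · exact ⟨[4, 8, 1, 8, 1, 8], mem_reps (l := reps14) (by simp [repLists]) (by decide), (f12583 H)⟩
  · exact ⟨[3, 1, 8, 1, 8], mem_reps (l := reps10) (by simp [repLists]) (by decide), (f11438 H)⟩
  · exact ⟨[9, 8, 2, 9, 5, 6], mem_reps (l := reps12) (by simp [repLists]) (by decide), (f5578 H)⟩
  · exact ⟨[9, 3, 2, 9, 2], mem_reps (l := reps7) (by simp [repLists]) (by decide), (f10961 H)⟩
  · exact ⟨[8, 6, 3, 6, 8], mem_reps (l := reps9) (by simp [repLists]) (by decide), (f10564 H)⟩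
  · exact ⟨[8, 4, 2, 5, 4, 2], mem_reps (l := reps14) (by simp [repLists]) (by decide), (f12516 H)⟩
  · exact ⟨[8, 1, 8, 6, 8, 9], mem_reps (l := reps14) (by simp [repLists]) (by decide), (f12416 H)⟩
  · exact ⟨[9, 2, 9, 3, 5, 3], mem_reps (l := reps13) (by simp [repLists]) (by decide), (f11808 H)⟩
  · exact ⟨[3, 9, 1, 3, 5], mem_reps (l := reps10) (by simp [repLists]) (by decide), (f11651 H)⟩
  · exact ⟨[9, 2, 9, 5, 3, 1], mem_reps (l := reps12) (by simp [repLists]) (by decide), (f11240 H)⟩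
  · exact ⟨[9, 2, 5, 6, 4, 2], mem_reps (l := reps13) (by simp [repLists]) (by decide), (f11701 H)⟩
  · exact ⟨[8, 9, 2, 9, 3], mem_reps (l := reps8) (by simp [repLists]) (by decide), (f6124 H)⟩
  · exact ⟨[9, 2, 3, 6, 3, 2], mem_reps (l := reps13) (by simp [repLists]) (by decide), (f11834 H)⟩
  · exact ⟨[9, 2, 9, 5, 2], mem_reps (l := reps6) (by simp [repLists]) (by decide), (f11634 H)⟩
  · exact ⟨[8, 9, 2, 1, 5], mem_reps (l := reps8) (by simp [repLists]) (by decide), (f11544 H)⟩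
  · exact ⟨[8, 9, 1, 8, 6, 8], mem_reps (l := reps14) (by simp [repLists]) (by decide), (f12171 H)⟩
  · exact ⟨[3, 1, 8, 6, 8], mem_reps (l := reps10) (by simp [repLists]) (by decide), (f10974 H)⟩
  · exact ⟨[9, 8, 2, 1, 5, 3], mem_reps (l := reps12) (by simp [repLists]) (by decide), (f11498 H)⟩
  · exact ⟨[8, 6, 4, 2, 3, 1], mem_reps (l := reps14) (by simp [repLists]) (by decide), (f12368 H)⟩
  · exact ⟨[8, 6, 4, 2, 3], mem_reps (l := reps9) (by simp [repLists]) (by decide), (f10134 H)⟩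
  · exact ⟨[9, 8, 1, 3, 6, 3], mem_reps (l := reps12) (by simp [repLists]) (by decide), (f11639 H)⟩
  · exact ⟨[9, 2, 5, 4, 8, 5], mem_reps (l := reps13) (by simp [repLists]) (by decide), (f11743 H)⟩
  · exact ⟨[3, 6, 8, 1, 3], mem_reps (l := reps10) (by simp [repLists]) (by decide), (f11238 H)⟩
  · exact ⟨[9, 2, 5, 1, 4, 8], mem_reps (l := reps13) (by simp [repLists]) (by decide), (f11713 H)⟩
  · exact ⟨[9, 2, 9, 3, 5], mem_reps (l := reps6) (by simp [repLists]) (by decide), (f7788 H)⟩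
  · exact ⟨[9, 2, 9, 3, 6], mem_reps (l := reps6) (by simp [repLists]) (by decide), (f7794 H)⟩
  · exact ⟨[8, 6, 4, 2, 8, 1], mem_reps (l := reps14) (by simp [repLists]) (by decide), (f12350 H)⟩
  · exact ⟨[8, 6, 4, 2, 8, 9], mem_reps (l := reps14) (by simp [repLists]) (by decide), (f12326 H)⟩

theorem step0_13 : ∀ w ∈ reps13, ∃ w' ∈ reps, g 0 • path g w p = path g w' p := by
  intro w hw
  simp only [reps13, List.mem_cons, List.not_mem_nil, or_false] at hw
  rcases hw with rfl | rfl | rfl | rfl | rfl | rfl | rfl | rfl | rfl | rfl | rfl | rfl | rfl | rfl | rfl | rfl | rfl | rfl | rfl | rfl | rfl | rfl | rfl | rfl | rfl | rfl | rfl | rfl | rfl | rfl | rfl | rfl | rfl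
  · exact ⟨[9, 3, 1, 8, 1, 3], mem_reps (l := reps14) (by simp [repLists]) (by decide), (f12081 H)⟩
  · exact ⟨[8, 9, 1, 8, 6, 8], mem_reps (l := reps14) (by simp [repLists]) (by decide), (f12179 H)⟩
  · exact ⟨[9, 3, 2, 9, 3, 2], mem_reps (l := reps13) (by simp [repLists]) (by decide), (f11948 H)⟩
  · exact ⟨[9, 2, 8, 9, 2], mem_reps (l := reps6) (by simp [repLists]) (by decide), (f7875 H)⟩
  · exact ⟨[8, 9, 6, 8, 1, 3], mem_reps (l := reps14) (by simp [repLists]) (by decide), (f12162 H)⟩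
  · exact ⟨[3, 9, 2, 6, 3], mem_reps (l := reps10) (by simp [repLists]) (by decide), (f7965 H)⟩
  · exact ⟨[4, 8, 1, 8, 1], mem_reps (l := reps11) (by simp [repLists]) (by decide), (f9706 H)⟩
  · exact ⟨[9, 3, 6, 3, 6], mem_reps (l := reps8) (by simp [repLists]) (by decide), (f11660 H)⟩
  · exact ⟨[9, 2, 9, 5, 2, 1], mem_reps (l := reps12) (by simp [repLists]) (by decide), (f11673 H)⟩
  · exact ⟨[8, 1, 3, 1, 8, 6], mem_reps (l := reps14) (by simp [repLists]) (by decide), (f12495 H)⟩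
  · exact ⟨[8, 1, 8, 4, 2, 9], mem_reps (l := reps14) (by simp [repLists]) (by decide), (f12436 H)⟩
  · exact ⟨[9, 8, 2, 1, 3, 1], mem_reps (l := reps12) (by simp [repLists]) (by decide), (f11715 H)⟩
  · exact ⟨[8, 4, 2, 9, 3], mem_reps (l := reps10) (by simp [repLists]) (by decide), (f11730 H)⟩
  · exact ⟨[9, 2, 5, 4, 8], mem_reps (l := reps7) (by simp [repLists]) (by decide), (f11739 H)⟩
  · exact ⟨[9, 2, 5, 4, 2], mem_reps (l := reps7) (by simp [repLists]) (by decide), (f11751 H)⟩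
  · exact ⟨[3, 9, 1, 3, 1], mem_reps (l := reps10) (by simp [repLists]) (by decide), (f11790 H)⟩
  · exact ⟨[9, 3, 2, 6, 3], mem_reps (l := reps7) (by simp [repLists]) (by decide), (f11818 H)⟩
  · exact ⟨[8, 6, 4, 2, 8, 1], mem_reps (l := reps14) (by simp [repLists]) (by decide), (f12356 H)⟩
  · exact ⟨[9, 8, 6, 3, 1, 8], mem_reps (l := reps12) (by simp [repLists]) (by decide), (f11846 H)⟩
  · exact ⟨[9, 3, 6, 8, 6, 3], mem_reps (l := reps14) (by simp [repLists]) (by decide), (f12065 H)⟩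
  · exact ⟨[9, 2, 4, 8, 6], mem_reps (l := reps7) (by simp [repLists]) (by decide), (f11857 H)⟩
  · exact ⟨[8, 6, 8, 1, 8, 6], mem_reps (l := reps14) (by simp [repLists]) (by decide), (f12259 H)⟩
  · exact ⟨[4, 8, 5, 2, 9], mem_reps (l := reps11) (by simp [repLists]) (by decide), (f11882 H)⟩
  · exact ⟨[4, 8, 5, 2, 4], mem_reps (l := reps11) (by simp [repLists]) (by decide), (f11902 H)⟩
  · exact ⟨[9, 3, 2, 6, 8, 6], mem_reps (l := reps13) (by simp [repLists]) (by decide), (f11987 H)⟩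
  · exact ⟨[9, 3, 2, 9, 2], mem_reps (l := reps7) (by simp [repLists]) (by decide), (f11925 H)⟩
  · exact ⟨[9, 2, 8, 9, 2, 8], mem_reps (l := reps13) (by simp [repLists]) (by decide), (f11946 H)⟩
  · exact ⟨[9, 3, 2, 9, 3], mem_reps (l := reps7) (by simp [repLists]) (by decide), (f11961 H)⟩
  · exact ⟨[4, 8, 6, 8, 6, 8], mem_reps (l := reps14) (by simp [repLists]) (by decide), (f12573 H)⟩
  · exact ⟨[9, 3, 9, 2, 4, 8], mem_reps (l := reps13) (by simp [repLists]) (by decide), (f11984 H)⟩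
  · exact ⟨[4, 2, 9, 5, 2], mem_reps (l := reps11) (by simp [repLists]) (by decide), (f11998 H)⟩
  · exact ⟨[8, 6, 8, 1, 8, 1], mem_reps (l := reps14) (by simp [repLists]) (by decide), (f12275 H)⟩
  · exact ⟨[4, 2, 3, 9, 2], mem_reps (l := reps11) (by simp [repLists]) (by decide), (f12032 H)⟩

theorem step1_13 : ∀ w ∈ reps13, ∃ w' ∈ reps, g 1 • path g w p = path g w' p := by
  intro w hw
  simp only [reps13, List.mem_cons, List.not_mem_nil, or_false] at hw
  rcases hw with rfl | rfl | rfl | rfl | rfl | rfl | rfl | rfl | rfl | rfl | rfl | rfl | rfl | rfl | rfl | rfl | rfl | rfl | rfl | rfl | rfl | rfl | rfl | rfl | rfl | rfl | rfl | rfl | rfl | rfl | rfl | rfl | rfl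
  · exact ⟨[8, 1, 8, 9, 6, 3], mem_reps (l := reps14) (by simp [repLists]) (by decide), (f12400 H)⟩
  · exact ⟨[8, 1, 8, 6, 8], mem_reps (l := reps9) (by simp [repLists]) (by decide), (f11177 H)⟩
  · exact ⟨[8, 4, 2, 9, 3], mem_reps (l := reps10) (by simp [repLists]) (by decide), (f11428 H)⟩
  · exact ⟨[9, 2, 5, 6, 4, 8], mem_reps (l := reps13) (by simp [repLists]) (by decide), (f11683 H)⟩
  · exact ⟨[9, 3, 2, 9, 6, 8], mem_reps (l := reps13) (by simp [repLists]) (by decide), (f11976 H)⟩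
  · exact ⟨[8, 1, 8, 9, 2], mem_reps (l := reps9) (by simp [repLists]) (by decide), (f8179 H)⟩
  · exact ⟨[9, 8, 2, 9, 2, 5], mem_reps (l := reps11) (by simp [repLists]) (by decide), (f9679 H)⟩
  · exact ⟨[9, 3, 5, 2, 9], mem_reps (l := reps7) (by simp [repLists]) (by decide), (f11654 H)⟩
  · exact ⟨[8, 9, 2, 9, 3, 5], mem_reps (l := reps14) (by simp [repLists]) (by decide), (f12093 H)⟩
  · exact ⟨[3, 1, 8, 1, 8], mem_reps (l := reps10) (by simp [repLists]) (by decide), (f11685 H)⟩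
  · exact ⟨[9, 2, 5, 1, 4, 2], mem_reps (l := reps13) (by simp [repLists]) (by decide), (f11736 H)⟩
  · exact ⟨[8, 6, 8, 4, 2], mem_reps (l := reps9) (by simp [repLists]) (by decide), (f11723 H)⟩
  · exact ⟨[9, 2, 5, 4, 2], mem_reps (l := reps7) (by simp [repLists]) (by decide), (f11728 H)⟩
  · exact ⟨[3, 6, 3, 1, 3], mem_reps (l := reps10) (by simp [repLists]) (by decide), (f11749 H)⟩
  · exact ⟨[9, 3, 2, 9, 3, 2], mem_reps (l := reps13) (by simp [repLists]) (by decide), (f11954 H)⟩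
  · exact ⟨[4, 2, 5, 8, 4], mem_reps (l := reps11) (by simp [repLists]) (by decide), (f11794 H)⟩
  · exact ⟨[9, 3, 2, 6, 8, 6], mem_reps (l := reps13) (by simp [repLists]) (by decide), (f11981 H)⟩
  · exact ⟨[8, 9, 2, 4, 8], mem_reps (l := reps8) (by simp [repLists]) (by decide), (f11828 H)⟩
  · exact ⟨[8, 1, 8, 4, 2, 9], mem_reps (l := reps14) (by simp [repLists]) (by decide), (f12440 H)⟩
  · exact ⟨[9, 3, 2, 6, 8, 4], mem_reps (l := reps13) (by simp [repLists]) (by decide), (f12001 H)⟩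
  · exact ⟨[9, 2, 5, 1, 4, 8], mem_reps (l := reps13) (by simp [repLists]) (by decide), (f11864 H)⟩
  · exact ⟨[8, 6, 3, 1, 8], mem_reps (l := reps9) (by simp [repLists]) (by decide), (f11923 H)⟩
  · exact ⟨[9, 2, 9, 8, 2, 8], mem_reps (l := reps12) (by simp [repLists]) (by decide), (f11886 H)⟩
  · exact ⟨[8, 1, 3, 6, 3], mem_reps (l := reps9) (by simp [repLists]) (by decide), (f11904 H)⟩
  · exact ⟨[9, 2, 8, 6, 5, 8], mem_reps (l := reps13) (by simp [repLists]) (by decide), (f11916 H)⟩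
  · exact ⟨[9, 3, 9, 2, 9, 3], mem_reps (l := reps13) (by simp [repLists]) (by decide), (f11930 H)⟩
  · exact ⟨[9, 3, 2, 9, 3], mem_reps (l := reps7) (by simp [repLists]) (by decide), (f11957 H)⟩
  · exact ⟨[9, 2, 4, 8, 2, 3], mem_reps (l := reps13) (by simp [repLists]) (by decide), (f11967 H)⟩
  · exact ⟨[4, 2, 9, 3, 9, 5], mem_reps (l := reps14) (by simp [repLists]) (by decide), (f12607 H)⟩
  · exact ⟨[9, 3, 2, 6, 8], mem_reps (l := reps7) (by simp [repLists]) (by decide), (f11979 H)⟩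
  · exact ⟨[4, 8, 6, 8, 6, 8], mem_reps (l := reps14) (by simp [repLists]) (by decide), (f12577 H)⟩
  · exact ⟨[4, 2, 9, 3, 5], mem_reps (l := reps11) (by simp [repLists]) (by decide), (f12010 H)⟩
  · exact ⟨[3, 9, 6, 8, 2], mem_reps (l := reps10) (by simp [repLists]) (by decide), (f12024 H)⟩

theorem step2_13 : ∀ w ∈ reps13, ∃ w' ∈ reps, g 2 • path g w p = path g w' p := by
  intro w hw
  simp only [reps13, List.mem_cons, List.not_mem_nil, or_false] at hw
  rcases hw with rfl | rfl | rfl | rfl | rfl | rfl | rfl | rfl | rfl | rfl | rfl | rfl | rfl | rfl | rfl | rfl | rfl | rfl | rfl | rfl | rfl | rfl | rfl | rfl | rfl | rfl | rfl | rfl | rfl | rfl | rfl | rfl | rfl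
  · exact ⟨[9, 8, 1, 3, 6, 8], mem_reps (l := reps12) (by simp [repLists]) (by decide), (f11607 H)⟩
  · exact ⟨[4, 2, 5, 4, 8], mem_reps (l := reps11) (by simp [repLists]) (by decide), (f11595 H)⟩
  · exact ⟨[9, 2, 8, 9, 2, 8], mem_reps (l := reps13) (by simp [repLists]) (by decide), (f11480 H)⟩
  · exact ⟨[9, 2, 5, 6, 4, 8], mem_reps (l := reps13) (by simp [repLists]) (by decide), (f11689 H)⟩
  · exact ⟨[4, 2, 9, 3, 9, 5], mem_reps (l := reps14) (by simp [repLists]) (by decide), (f12611 H)⟩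
  · exact ⟨[8, 1, 8, 9, 1], mem_reps (l := reps9) (by simp [repLists]) (by decide), (f8136 H)⟩
  · exact ⟨[9, 2, 9, 5, 3, 5], mem_reps (l := reps12) (by simp [repLists]) (by decide), (f9673 H)⟩
  · exact ⟨[8, 6, 4, 2, 3, 1], mem_reps (l := reps14) (by simp [repLists]) (by decide), (f12377 H)⟩
  · exact ⟨[8, 6, 8, 9, 2, 9], mem_reps (l := reps14) (by simp [repLists]) (by decide), (f12213 H)⟩
  · exact ⟨[9, 2, 8, 9, 2, 5], mem_reps (l := reps13) (by simp [repLists]) (by decide), (f11687 H)⟩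
  · exact ⟨[9, 2, 5, 6, 4], mem_reps (l := reps6) (by simp [repLists]) (by decide), (f11694 H)⟩
  · exact ⟨[8, 6, 8, 1, 4], mem_reps (l := reps9) (by simp [repLists]) (by decide), (f11721 H)⟩
  · exact ⟨[9, 2, 5, 1, 4], mem_reps (l := reps7) (by simp [repLists]) (by decide), (f11726 H)⟩
  · exact ⟨[8, 9, 2, 6, 5, 4], mem_reps (l := reps14) (by simp [repLists]) (by decide), (f12114 H)⟩
  · exact ⟨[9, 2, 5, 4, 2, 5], mem_reps (l := reps13) (by simp [repLists]) (by decide), (f11759 H)⟩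
  · exact ⟨[8, 9, 1, 3, 5], mem_reps (l := reps8) (by simp [repLists]) (by decide), (f11801 H)⟩
  · exact ⟨[9, 3, 2, 6, 8], mem_reps (l := reps7) (by simp [repLists]) (by decide), (f11814 H)⟩
  · exact ⟨[9, 2, 3, 6, 3], mem_reps (l := reps7) (by simp [repLists]) (by decide), (f11826 H)⟩
  · exact ⟨[8, 6, 3, 9, 1, 3], mem_reps (l := reps14) (by simp [repLists]) (by decide), (f12299 H)⟩
  · exact ⟨[4, 8, 6, 8, 6, 8], mem_reps (l := reps14) (by simp [repLists]) (by decide), (f12567 H)⟩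
  · exact ⟨[8, 6, 8, 6, 4], mem_reps (l := reps9) (by simp [repLists]) (by decide), (f11873 H)⟩
  · exact ⟨[9, 3, 2, 9, 2, 5], mem_reps (l := reps13) (by simp [repLists]) (by decide), (f11935 H)⟩
  · exact ⟨[9, 2, 9, 8, 2, 8], mem_reps (l := reps12) (by simp [repLists]) (by decide), (f11892 H)⟩
  · exact ⟨[9, 3, 2, 6, 3, 9], mem_reps (l := reps13) (by simp [repLists]) (by decide), (f12019 H)⟩
  · exact ⟨[8, 1, 8, 9, 6], mem_reps (l := reps9) (by simp [repLists]) (by decide), (f11918 H)⟩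
  · exact ⟨[9, 3, 9, 2, 9, 3], mem_reps (l := reps13) (by simp [repLists]) (by decide), (f11937 H)⟩
  · exact ⟨[9, 3, 2, 9, 3], mem_reps (l := reps7) (by simp [repLists]) (by decide), (f11942 H)⟩
  · exact ⟨[9, 3, 6, 8, 6, 3], mem_reps (l := reps14) (by simp [repLists]) (by decide), (f12070 H)⟩
  · exact ⟨[9, 3, 2, 9, 6, 8], mem_reps (l := reps13) (by simp [repLists]) (by decide), (f11974 H)⟩
  · exact ⟨[9, 3, 2, 6, 8, 6], mem_reps (l := reps13) (by simp [repLists]) (by decide), (f11983 H)⟩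
  · exact ⟨[9, 3, 2, 6, 8, 4], mem_reps (l := reps13) (by simp [repLists]) (by decide), (f12002 H)⟩
  · exact ⟨[9, 3, 9, 2, 8, 4], mem_reps (l := reps13) (by simp [repLists]) (by decide), (f12021 H)⟩
  · exact ⟨[3, 9, 6, 8, 1], mem_reps (l := reps10) (by simp [repLists]) (by decide), (f12026 H)⟩

theorem step3_13 : ∀ w ∈ reps13, ∃ w' ∈ reps, g 3 • path g w p = path g w' p := by
  intro w hw
  simp only [reps13, List.mem_cons, List.not_mem_nil, or_false] at hw
  rcases hw with rfl | rfl | rfl | rfl | rfl | rfl | rfl | rfl | rfl | rfl | rfl | rfl | rfl | rfl | rfl | rfl | rfl | rfl | rfl | rfl | rfl | rfl | rfl | rfl | rfl | rfl | rfl | rfl | rfl | rfl | rfl | rfl | rfl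
  · exact ⟨[4, 2, 4, 8, 5], mem_reps (l := reps11) (by simp [repLists]) (by decide), (f11606 H)⟩
  · exact ⟨[4, 8, 1, 8, 1, 8], mem_reps (l := reps14) (by simp [repLists]) (by decide), (f12581 H)⟩
  · exact ⟨[9, 2, 8, 9, 2], mem_reps (l := reps6) (by simp [repLists]) (by decide), (f7873 H)⟩
  · exact ⟨[9, 2, 5, 4, 2], mem_reps (l := reps7) (by simp [repLists]) (by decide), (f11407 H)⟩
  · exact ⟨[9, 3, 6, 3, 6], mem_reps (l := reps8) (by simp [repLists]) (by decide), (f8255 H)⟩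
  · exact ⟨[9, 2, 8, 6, 5], mem_reps (l := reps6) (by simp [repLists]) (by decide), (f7950 H)⟩
  · exact ⟨[9, 2, 8, 1, 4, 8], mem_reps (l := reps13) (by simp [repLists]) (by decide), (f11667 H)⟩
  · exact ⟨[8, 1, 8, 4, 2, 9], mem_reps (l := reps14) (by simp [repLists]) (by decide), (f12442 H)⟩
  · exact ⟨[9, 2, 8, 1, 4], mem_reps (l := reps6) (by simp [repLists]) (by decide), (f11665 H)⟩
  · exact ⟨[9, 2, 5, 6, 4], mem_reps (l := reps6) (by simp [repLists]) (by decide), (f11677 H)⟩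
  · exact ⟨[3, 6, 8, 1, 4], mem_reps (l := reps10) (by simp [repLists]) (by decide), (f11699 H)⟩
  · exact ⟨[9, 2, 5, 1, 4], mem_reps (l := reps7) (by simp [repLists]) (by decide), (f11709 H)⟩
  · exact ⟨[8, 1, 3, 1, 8, 6], mem_reps (l := reps14) (by simp [repLists]) (by decide), (f12497 H)⟩
  · exact ⟨[8, 6, 4, 2, 3, 1], mem_reps (l := reps14) (by simp [repLists]) (by decide), (f12374 H)⟩
  · exact ⟨[8, 9, 2, 6, 5, 4], mem_reps (l := reps14) (by simp [repLists]) (by decide), (f12116 H)⟩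
  · exact ⟨[9, 3, 2, 3, 1], mem_reps (l := reps7) (by simp [repLists]) (by decide), (f11784 H)⟩
  · exact ⟨[9, 2, 3, 2, 6], mem_reps (l := reps7) (by simp [repLists]) (by decide), (f11811 H)⟩
  · exact ⟨[9, 2, 9, 5, 2, 4], mem_reps (l := reps12) (by simp [repLists]) (by decide), (f11830 H)⟩
  · exact ⟨[4, 2, 8, 6, 4], mem_reps (l := reps11) (by simp [repLists]) (by decide), (f11842 H)⟩
  · exact ⟨[9, 2, 4, 8, 5], mem_reps (l := reps7) (by simp [repLists]) (by decide), (f11853 H)⟩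
  · exact ⟨[8, 9, 2, 1, 5], mem_reps (l := reps8) (by simp [repLists]) (by decide), (f11870 H)⟩
  · exact ⟨[4, 8, 6, 3, 6], mem_reps (l := reps11) (by simp [repLists]) (by decide), (f11878 H)⟩
  · exact ⟨[9, 3, 9, 2, 4, 8], mem_reps (l := reps13) (by simp [repLists]) (by decide), (f11911 H)⟩
  · exact ⟨[9, 3, 6, 8, 6], mem_reps (l := reps8) (by simp [repLists]) (by decide), (f11906 H)⟩
  · exact ⟨[9, 3, 9, 2, 4], mem_reps (l := reps7) (by simp [repLists]) (by decide), (f11909 H)⟩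
  · exact ⟨[8, 9, 6, 8, 1], mem_reps (l := reps8) (by simp [repLists]) (by decide), (f11939 H)⟩
  · exact ⟨[3, 9, 6, 8, 1], mem_reps (l := reps10) (by simp [repLists]) (by decide), (f11944 H)⟩
  · exact ⟨[9, 2, 5, 4, 8, 5], mem_reps (l := reps13) (by simp [repLists]) (by decide), (f11964 H)⟩
  · exact ⟨[9, 3, 2, 9, 6], mem_reps (l := reps7) (by simp [repLists]) (by decide), (f11969 H)⟩
  · exact ⟨[8, 6, 8, 6, 3, 1], mem_reps (l := reps14) (by simp [repLists]) (by decide), (f12246 H)⟩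
  · exact ⟨[9, 3, 2, 6, 3, 9], mem_reps (l := reps13) (by simp [repLists]) (by decide), (f12015 H)⟩
  · exact ⟨[8, 6, 8, 1, 4], mem_reps (l := reps9) (by simp [repLists]) (by decide), (f12017 H)⟩
  · exact ⟨[8, 9, 2, 4, 2], mem_reps (l := reps8) (by simp [repLists]) (by decide), (f12038 H)⟩

theorem step4_13 : ∀ w ∈ reps13, ∃ w' ∈ reps, g 4 • path g w p = path g w' p := by
  intro w hw
  simp only [reps13, List.mem_cons, List.not_mem_nil, or_false] at hw
  rcases hw with rfl | rfl | rfl | rfl | rfl | rfl | rfl | rfl | rfl | rfl | rfl | rfl | rfl | rfl | rfl | rfl | rfl | rfl | rfl | rfl | rfl | rfl | rfl | rfl | rfl | rfl | rfl | rfl | rfl | rfl | rfl | rfl | rfl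
  · exact ⟨[8, 6, 8, 6, 3, 1], mem_reps (l := reps14) (by simp [repLists]) (by decide), (f12241 H)⟩
  · exact ⟨[9, 8, 2, 8, 1, 8], mem_reps (l := reps12) (by simp [repLists]) (by decide), (f10910 H)⟩
  · exact ⟨[3, 9, 1, 3, 2], mem_reps (l := reps10) (by simp [repLists]) (by decide), (f11425 H)⟩
  · exact ⟨[9, 3, 2, 9, 3, 2], mem_reps (l := reps13) (by simp [repLists]) (by decide), (f11952 H)⟩
  · exact ⟨[8, 1, 8, 1, 3], mem_reps (l := reps9) (by simp [repLists]) (by decide), (f8291 H)⟩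
  · exact ⟨[8, 9, 6, 8, 1, 3], mem_reps (l := reps14) (by simp [repLists]) (by decide), (f12160 H)⟩
  · exact ⟨[9, 2, 8, 1, 8], mem_reps (l := reps6) (by simp [repLists]) (by decide), (f7994 H)⟩
  · exact ⟨[9, 3, 5, 2, 6], mem_reps (l := reps8) (by simp [repLists]) (by decide), (f11656 H)⟩
  · exact ⟨[9, 8, 2, 1, 8, 2], mem_reps (l := reps12) (by simp [repLists]) (by decide), (f11671 H)⟩
  · exact ⟨[9, 3, 2, 9, 3], mem_reps (l := reps7) (by simp [repLists]) (by decide), (f11691 H)⟩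
  · exact ⟨[8, 9, 2, 6, 3, 1], mem_reps (l := reps14) (by simp [repLists]) (by decide), (f12127 H)⟩
  · exact ⟨[9, 3, 1, 8, 1, 3], mem_reps (l := reps14) (by simp [repLists]) (by decide), (f12078 H)⟩
  · exact ⟨[9, 2, 9, 5, 3, 5], mem_reps (l := reps12) (by simp [repLists]) (by decide), (f11734 H)⟩
  · exact ⟨[9, 2, 5, 1, 4, 2], mem_reps (l := reps13) (by simp [repLists]) (by decide), (f11744 H)⟩
  · exact ⟨[9, 8, 2, 5, 6, 8], mem_reps (l := reps12) (by simp [repLists]) (by decide), (f11756 H)⟩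
  · exact ⟨[4, 2, 3, 1, 3], mem_reps (l := reps11) (by simp [repLists]) (by decide), (f11786 H)⟩
  · exact ⟨[4, 8, 6, 8, 6, 8], mem_reps (l := reps14) (by simp [repLists]) (by decide), (f12563 H)⟩
  · exact ⟨[3, 1, 8, 6, 3], mem_reps (l := reps10) (by simp [repLists]) (by decide), (f11836 H)⟩
  · exact ⟨[4, 8, 2, 6, 8], mem_reps (l := reps11) (by simp [repLists]) (by decide), (f11844 H)⟩
  · exact ⟨[8, 6, 8, 1, 8, 6], mem_reps (l := reps14) (by simp [repLists]) (by decide), (f12255 H)⟩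
  · exact ⟨[8, 9, 1, 8, 6, 3], mem_reps (l := reps14) (by simp [repLists]) (by decide), (f12195 H)⟩
  · exact ⟨[9, 3, 9, 2, 4, 8], mem_reps (l := reps13) (by simp [repLists]) (by decide), (f11913 H)⟩
  · exact ⟨[9, 3, 9, 2, 8], mem_reps (l := reps7) (by simp [repLists]) (by decide), (f11881 H)⟩
  · exact ⟨[9, 3, 9, 2, 8, 9], mem_reps (l := reps13) (by simp [repLists]) (by decide), (f11898 H)⟩
  · exact ⟨[9, 3, 6, 8, 6, 3], mem_reps (l := reps14) (by simp [repLists]) (by decide), (f12062 H)⟩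
  · exact ⟨[8, 1, 8, 9, 2], mem_reps (l := reps9) (by simp [repLists]) (by decide), (f11928 H)⟩
  · exact ⟨[8, 9, 2, 6, 8], mem_reps (l := reps8) (by simp [repLists]) (by decide), (f11951 H)⟩
  · exact ⟨[9, 3, 2, 4, 8, 5], mem_reps (l := reps14) (by simp [repLists]) (by decide), (f12047 H)⟩
  · exact ⟨[9, 3, 2, 6, 3, 9], mem_reps (l := reps13) (by simp [repLists]) (by decide), (f12009 H)⟩
  · exact ⟨[9, 2, 4, 8, 5, 8], mem_reps (l := reps13) (by simp [repLists]) (by decide), (f11991 H)⟩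
  · exact ⟨[8, 6, 8, 1, 8], mem_reps (l := reps9) (by simp [repLists]) (by decide), (f11994 H)⟩
  · exact ⟨[9, 3, 2, 6, 3], mem_reps (l := reps7) (by simp [repLists]) (by decide), (f12007 H)⟩
  · exact ⟨[4, 8, 2, 8, 6], mem_reps (l := reps11) (by simp [repLists]) (by decide), (f12028 H)⟩

theorem step0_14 : ∀ w ∈ reps14, ∃ w' ∈ reps, g 0 • path g w p = path g w' p := by
  intro w hw
  simp only [reps14, List.mem_cons, List.not_mem_nil, or_false] at hw
  rcases hw with rfl | rfl | rfl | rfl | rfl | rfl | rfl | rfl | rfl | rfl | rfl | rfl | rfl | rfl | rfl | rfl | rfl | rfl | rfl | rfl | rfl | rfl | rfl | rfl | rfl | rfl | rfl | rfl | rfl | rfl | rfl | rfl | rfl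
  · exact ⟨[9, 3, 2, 4, 8], mem_reps (l := reps7) (by simp [repLists]) (by decide), (f12043 H)⟩
  · exact ⟨[9, 2, 4, 8, 5, 8], mem_reps (l := reps13) (by simp [repLists]) (by decide), (f12066 H)⟩
  · exact ⟨[9, 2, 9, 3, 5, 3], mem_reps (l := reps13) (by simp [repLists]) (by decide), (f12082 H)⟩
  · exact ⟨[8, 9, 2, 9, 3], mem_reps (l := reps8) (by simp [repLists]) (by decide), (f12089 H)⟩
  · exact ⟨[8, 9, 2, 6, 4], mem_reps (l := reps8) (by simp [repLists]) (by decide), (f12104 H)⟩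
  · exact ⟨[8, 1, 8, 4, 2], mem_reps (l := reps9) (by simp [repLists]) (by decide), (f12128 H)⟩
  · exact ⟨[8, 9, 2, 4, 8], mem_reps (l := reps8) (by simp [repLists]) (by decide), (f12139 H)⟩
  · exact ⟨[9, 2, 8, 9, 6, 3], mem_reps (l := reps13) (by simp [repLists]) (by decide), (f12165 H)⟩
  · exact ⟨[9, 2, 9, 3, 5, 1], mem_reps (l := reps13) (by simp [repLists]) (by decide), (f12180 H)⟩
  · exact ⟨[9, 2, 9, 3, 9, 6], mem_reps (l := reps12) (by simp [repLists]) (by decide), (f12193 H)⟩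
  · exact ⟨[8, 6, 4, 2, 8, 9], mem_reps (l := reps14) (by simp [repLists]) (by decide), (f12330 H)⟩
  · exact ⟨[9, 2, 9, 3, 5, 2], mem_reps (l := reps12) (by simp [repLists]) (by decide), (f12220 H)⟩
  · exact ⟨[9, 2, 9, 5, 1, 3], mem_reps (l := reps12) (by simp [repLists]) (by decide), (f12242 H)⟩
  · exact ⟨[9, 3, 9, 2, 9, 3], mem_reps (l := reps13) (by simp [repLists]) (by decide), (f12263 H)⟩
  · exact ⟨[9, 3, 2, 6, 3, 9], mem_reps (l := reps13) (by simp [repLists]) (by decide), (f12272 H)⟩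
  · exact ⟨[9, 8, 2, 6, 8, 4], mem_reps (l := reps12) (by simp [repLists]) (by decide), (f12289 H)⟩
  · exact ⟨[9, 8, 1, 8, 6, 3], mem_reps (l := reps12) (by simp [repLists]) (by decide), (f12313 H)⟩
  · exact ⟨[8, 6, 8, 9, 2, 9], mem_reps (l := reps14) (by simp [repLists]) (by decide), (f12327 H)⟩
  · exact ⟨[9, 2, 3, 6, 3, 2], mem_reps (l := reps13) (by simp [repLists]) (by decide), (f12351 H)⟩
  · exact ⟨[4, 2, 9, 5, 3], mem_reps (l := reps11) (by simp [repLists]) (by decide), (f12369 H)⟩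
  · exact ⟨[4, 2, 8, 9, 1], mem_reps (l := reps11) (by simp [repLists]) (by decide), (f12383 H)⟩
  · exact ⟨[4, 2, 5, 4, 2], mem_reps (l := reps11) (by simp [repLists]) (by decide), (f12401 H)⟩
  · exact ⟨[9, 8, 2, 9, 1, 8], mem_reps (l := reps12) (by simp [repLists]) (by decide), (f12417 H)⟩
  · exact ⟨[9, 2, 5, 6, 4, 2], mem_reps (l := reps13) (by simp [repLists]) (by decide), (f12433 H)⟩
  · exact ⟨[9, 8, 6, 3, 1, 3], mem_reps (l := reps12) (by simp [repLists]) (by decide), (f12453 H)⟩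
  · exact ⟨[4, 2, 8, 6, 4], mem_reps (l := reps11) (by simp [repLists]) (by decide), (f12472 H)⟩
  · exact ⟨[9, 2, 5, 6, 4, 8], mem_reps (l := reps13) (by simp [repLists]) (by decide), (f12492 H)⟩
  · exact ⟨[9, 8, 1, 3, 6, 3], mem_reps (l := reps12) (by simp [repLists]) (by decide), (f12510 H)⟩
  · exact ⟨[4, 2, 5, 4, 8], mem_reps (l := reps11) (by simp [repLists]) (by decide), (f12532 H)⟩
  · exact ⟨[9, 2, 9, 5, 2, 6], mem_reps (l := reps12) (by simp [repLists]) (by decide), (f12550 H)⟩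
  · exact ⟨[9, 3, 2, 9, 6, 8], mem_reps (l := reps13) (by simp [repLists]) (by decide), (f12571 H)⟩
  · exact ⟨[9, 2, 9, 8, 2, 3], mem_reps (l := reps12) (by simp [repLists]) (by decide), (f12588 H)⟩
  · exact ⟨[4, 2, 9, 3, 9], mem_reps (l := reps11) (by simp [repLists]) (by decide), (f12599 H)⟩

theorem step1_14 : ∀ w ∈ reps14, ∃ w' ∈ reps, g 1 • path g w p = path g w' p := by
  intro w hw
  simp only [reps14, List.mem_cons, List.not_mem_nil, or_false] at hw
  rcases hw with rfl | rfl | rfl | rfl | rfl | rfl | rfl | rfl | rfl | rfl | rfl | rfl | rfl | rfl | rfl | rfl | rfl | rfl | rfl | rfl | rfl | rfl | rfl | rfl | rfl | rfl | rfl | rfl | rfl | rfl | rfl | rfl | rfl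
  · exact ⟨[4, 8, 2, 6, 8], mem_reps (l := reps11) (by simp [repLists]) (by decide), (f12053 H)⟩
  · exact ⟨[8, 9, 6, 8, 1, 3], mem_reps (l := reps14) (by simp [repLists]) (by decide), (f12166 H)⟩
  · exact ⟨[9, 2, 9, 8, 2, 3], mem_reps (l := reps12) (by simp [repLists]) (by decide), (f12084 H)⟩
  · exact ⟨[8, 6, 8, 9, 2, 9], mem_reps (l := reps14) (by simp [repLists]) (by decide), (f12207 H)⟩
  · exact ⟨[4, 8, 5, 2, 4], mem_reps (l := reps11) (by simp [repLists]) (by decide), (f12108 H)⟩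
  · exact ⟨[9, 2, 9, 5, 3, 5], mem_reps (l := reps12) (by simp [repLists]) (by decide), (f12120 H)⟩
  · exact ⟨[8, 6, 8, 9, 2], mem_reps (l := reps8) (by simp [repLists]) (by decide), (f12144 H)⟩
  · exact ⟨[8, 6, 3, 9, 1, 3], mem_reps (l := reps14) (by simp [repLists]) (by decide), (f12294 H)⟩
  · exact ⟨[8, 1, 3, 6, 8], mem_reps (l := reps9) (by simp [repLists]) (by decide), (f12176 H)⟩
  · exact ⟨[9, 3, 1, 8, 1, 3], mem_reps (l := reps14) (by simp [repLists]) (by decide), (f12190 H)⟩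
  · exact ⟨[9, 2, 8, 1, 4, 8], mem_reps (l := reps13) (by simp [repLists]) (by decide), (f12204 H)⟩
  · exact ⟨[8, 6, 3, 6, 8], mem_reps (l := reps9) (by simp [repLists]) (by decide), (f12222 H)⟩
  · exact ⟨[4, 2, 8, 9, 2], mem_reps (l := reps11) (by simp [repLists]) (by decide), (f12234 H)⟩
  · exact ⟨[8, 6, 8, 1, 8], mem_reps (l := reps9) (by simp [repLists]) (by decide), (f12253 H)⟩
  · exact ⟨[8, 6, 8, 1, 8, 6], mem_reps (l := reps14) (by simp [repLists]) (by decide), (f12266 H)⟩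
  · exact ⟨[9, 3, 6, 8, 6, 3], mem_reps (l := reps14) (by simp [repLists]) (by decide), (f12293 H)⟩
  · exact ⟨[8, 6, 8, 9, 2, 4], mem_reps (l := reps14) (by simp [repLists]) (by decide), (f12303 H)⟩
  · exact ⟨[9, 2, 9, 3, 2, 8], mem_reps (l := reps12) (by simp [repLists]) (by decide), (f12340 H)⟩
  · exact ⟨[4, 2, 9, 5, 3], mem_reps (l := reps11) (by simp [repLists]) (by decide), (f12343 H)⟩
  · exact ⟨[9, 2, 9, 5, 2, 4], mem_reps (l := reps12) (by simp [repLists]) (by decide), (f12363 H)⟩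
  · exact ⟨[3, 1, 8, 1, 3], mem_reps (l := reps10) (by simp [repLists]) (by decide), (f12392 H)⟩
  · exact ⟨[9, 8, 2, 9, 1, 8], mem_reps (l := reps12) (by simp [repLists]) (by decide), (f12408 H)⟩
  · exact ⟨[9, 2, 9, 3, 9, 5], mem_reps (l := reps12) (by simp [repLists]) (by decide), (f12421 H)⟩
  · exact ⟨[9, 3, 2, 9, 3, 5], mem_reps (l := reps13) (by simp [repLists]) (by decide), (f12437 H)⟩
  · exact ⟨[8, 1, 3, 1, 8, 6], mem_reps (l := reps14) (by simp [repLists]) (by decide), (f12485 H)⟩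
  · exact ⟨[9, 3, 9, 2, 8, 4], mem_reps (l := reps13) (by simp [repLists]) (by decide), (f12464 H)⟩
  · exact ⟨[8, 1, 3, 1, 8], mem_reps (l := reps9) (by simp [repLists]) (by decide), (f12483 H)⟩
  · exact ⟨[3, 1, 8, 6, 3], mem_reps (l := reps10) (by simp [repLists]) (by decide), (f12506 H)⟩
  · exact ⟨[9, 8, 1, 3, 6, 3], mem_reps (l := reps12) (by simp [repLists]) (by decide), (f12524 H)⟩
  · exact ⟨[8, 6, 4, 2, 8, 9], mem_reps (l := reps14) (by simp [repLists]) (by decide), (f12554 H)⟩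
  · exact ⟨[9, 2, 4, 8, 5, 8], mem_reps (l := reps13) (by simp [repLists]) (by decide), (f12569 H)⟩
  · exact ⟨[8, 1, 8, 6, 8, 9], mem_reps (l := reps14) (by simp [repLists]) (by decide), (f12593 H)⟩
  · exact ⟨[9, 2, 8, 9, 6, 3], mem_reps (l := reps13) (by simp [repLists]) (by decide), (f12608 H)⟩

theorem step2_14 : ∀ w ∈ reps14, ∃ w' ∈ reps, g 2 • path g w p = path g w' p := by
  intro w hw
  simp only [reps14, List.mem_cons, List.not_mem_nil, or_false] at hw
  rcases hw with rfl | rfl | rfl | rfl | rfl | rfl | rfl | rfl | rfl | rfl | rfl | rfl | rfl | rfl | rfl | rfl | rfl | rfl | rfl | rfl | rfl | rfl | rfl | rfl | rfl | rfl | rfl | rfl | rfl | rfl | rfl | rfl | rfl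
  · exact ⟨[8, 1, 8, 6, 4], mem_reps (l := reps9) (by simp [repLists]) (by decide), (f12055 H)⟩
  · exact ⟨[9, 3, 2, 9, 3, 5], mem_reps (l := reps13) (by simp [repLists]) (by decide), (f12068 H)⟩
  · exact ⟨[9, 3, 1, 8, 1, 3], mem_reps (l := reps14) (by simp [repLists]) (by decide), (f12086 H)⟩
  · exact ⟨[8, 9, 2, 9, 3, 5], mem_reps (l := reps14) (by simp [repLists]) (by decide), (f12095 H)⟩
  · exact ⟨[9, 2, 5, 4, 8, 5], mem_reps (l := reps13) (by simp [repLists]) (by decide), (f12112 H)⟩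
  · exact ⟨[9, 8, 2, 9, 2, 5], mem_reps (l := reps11) (by simp [repLists]) (by decide), (f12122 H)⟩
  · exact ⟨[8, 6, 8, 9, 1], mem_reps (l := reps8) (by simp [repLists]) (by decide), (f12153 H)⟩
  · exact ⟨[8, 1, 8, 4, 2, 9], mem_reps (l := reps14) (by simp [repLists]) (by decide), (f12446 H)⟩
  · exact ⟨[8, 6, 3, 6, 8, 1], mem_reps (l := reps14) (by simp [repLists]) (by decide), (f12319 H)⟩
  · exact ⟨[9, 2, 9, 8, 2, 3], mem_reps (l := reps12) (by simp [repLists]) (by decide), (f12201 H)⟩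
  · exact ⟨[9, 2, 8, 1, 4, 8], mem_reps (l := reps13) (by simp [repLists]) (by decide), (f12211 H)⟩
  · exact ⟨[9, 2, 9, 5, 1, 3], mem_reps (l := reps12) (by simp [repLists]) (by decide), (f12231 H)⟩
  · exact ⟨[4, 2, 8, 9, 1], mem_reps (l := reps11) (by simp [repLists]) (by decide), (f12236 H)⟩
  · exact ⟨[8, 6, 8, 1, 8, 1], mem_reps (l := reps14) (by simp [repLists]) (by decide), (f12279 H)⟩
  · exact ⟨[8, 6, 8, 1, 8, 6], mem_reps (l := reps14) (by simp [repLists]) (by decide), (f12268 H)⟩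
  · exact ⟨[9, 2, 4, 8, 2, 3], mem_reps (l := reps13) (by simp [repLists]) (by decide), (f12297 H)⟩
  · exact ⟨[8, 9, 1, 8, 6, 8], mem_reps (l := reps14) (by simp [repLists]) (by decide), (f12305 H)⟩
  · exact ⟨[9, 2, 9, 3, 9, 5], mem_reps (l := reps12) (by simp [repLists]) (by decide), (f12335 H)⟩
  · exact ⟨[9, 8, 2, 8, 1, 8], mem_reps (l := reps12) (by simp [repLists]) (by decide), (f12345 H)⟩
  · exact ⟨[9, 2, 8, 1, 8, 1], mem_reps (l := reps13) (by simp [repLists]) (by decide), (f12365 H)⟩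
  · exact ⟨[3, 1, 3, 6, 3, 1], mem_reps (l := reps14) (by simp [repLists]) (by decide), (f12540 H)⟩
  · exact ⟨[9, 2, 9, 5, 2, 5], mem_reps (l := reps12) (by simp [repLists]) (by decide), (f12410 H)⟩
  · exact ⟨[9, 2, 9, 3, 2, 8], mem_reps (l := reps12) (by simp [repLists]) (by decide), (f12425 H)⟩
  · exact ⟨[8, 9, 6, 8, 1, 3], mem_reps (l := reps14) (by simp [repLists]) (by decide), (f12444 H)⟩
  · exact ⟨[8, 1, 3, 1, 8, 6], mem_reps (l := reps14) (by simp [repLists]) (by decide), (f12487 H)⟩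
  · exact ⟨[4, 2, 9, 3, 5], mem_reps (l := reps11) (by simp [repLists]) (by decide), (f12466 H)⟩
  · exact ⟨[8, 1, 8, 4, 2, 4], mem_reps (l := reps14) (by simp [repLists]) (by decide), (f12498 H)⟩
  · exact ⟨[8, 4, 2, 5, 4], mem_reps (l := reps10) (by simp [repLists]) (by decide), (f12504 H)⟩
  · exact ⟨[8, 1, 8, 9, 6, 8], mem_reps (l := reps14) (by simp [repLists]) (by decide), (f12526 H)⟩
  · exact ⟨[4, 8, 1, 8, 1, 8], mem_reps (l := reps14) (by simp [repLists]) (by decide), (f12587 H)⟩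
  · exact ⟨[9, 2, 4, 8, 5, 8], mem_reps (l := reps13) (by simp [repLists]) (by decide), (f12564 H)⟩
  · exact ⟨[4, 8, 5, 2, 9, 3], mem_reps (l := reps14) (by simp [repLists]) (by decide), (f12584 H)⟩
  · exact ⟨[9, 2, 8, 9, 6, 3], mem_reps (l := reps13) (by simp [repLists]) (by decide), (f12617 H)⟩

theorem step3_14 : ∀ w ∈ reps14, ∃ w' ∈ reps, g 3 • path g w p = path g w' p := by
  intro w hw
  simp only [reps14, List.mem_cons, List.not_mem_nil, or_false] at hw
  rcases hw with rfl | rfl | rfl | rfl | rfl | rfl | rfl | rfl | rfl | rfl | rfl | rfl | rfl | rfl | rfl | rfl | rfl | rfl | rfl | rfl | rfl | rfl | rfl | rfl | rfl | rfl | rfl | rfl | rfl | rfl | rfl | rfl | rfl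
  · exact ⟨[9, 2, 9, 5, 2, 6], mem_reps (l := reps12) (by simp [repLists]) (by decide), (f12322 H)⟩
  · exact ⟨[9, 3, 9, 2, 8, 4], mem_reps (l := reps13) (by simp [repLists]) (by decide), (f12058 H)⟩
  · exact ⟨[8, 4, 2, 5, 4], mem_reps (l := reps10) (by simp [repLists]) (by decide), (f12074 H)⟩
  · exact ⟨[3, 1, 3, 6, 3, 1], mem_reps (l := reps14) (by simp [repLists]) (by decide), (f12536 H)⟩
  · exact ⟨[9, 8, 2, 5, 6, 4], mem_reps (l := reps12) (by simp [repLists]) (by decide), (f12110 H)⟩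
  · exact ⟨[4, 2, 8, 6, 5], mem_reps (l := reps11) (by simp [repLists]) (by decide), (f12134 H)⟩
  · exact ⟨[9, 2, 5, 1, 4, 2], mem_reps (l := reps13) (by simp [repLists]) (by decide), (f12150 H)⟩
  · exact ⟨[9, 3, 2, 9, 2, 5], mem_reps (l := reps13) (by simp [repLists]) (by decide), (f12156 H)⟩
  · exact ⟨[8, 9, 1, 8, 6], mem_reps (l := reps8) (by simp [repLists]) (by decide), (f12169 H)⟩
  · exact ⟨[8, 9, 1, 8, 6, 8], mem_reps (l := reps14) (by simp [repLists]) (by decide), (f12184 H)⟩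
  · exact ⟨[8, 6, 8, 9, 2, 4], mem_reps (l := reps14) (by simp [repLists]) (by decide), (f12226 H)⟩
  · exact ⟨[4, 8, 2, 9, 1], mem_reps (l := reps11) (by simp [repLists]) (by decide), (f12224 H)⟩
  · exact ⟨[9, 2, 9, 3, 9, 5], mem_reps (l := reps12) (by simp [repLists]) (by decide), (f12248 H)⟩
  · exact ⟨[4, 2, 9, 3, 9, 5], mem_reps (l := reps14) (by simp [repLists]) (by decide), (f12613 H)⟩
  · exact ⟨[4, 8, 6, 8, 6, 8], mem_reps (l := reps14) (by simp [repLists]) (by decide), (f12561 H)⟩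
  · exact ⟨[4, 2, 8, 4, 2], mem_reps (l := reps11) (by simp [repLists]) (by decide), (f12282 H)⟩
  · exact ⟨[9, 3, 2, 4, 8, 5], mem_reps (l := reps14) (by simp [repLists]) (by decide), (f12318 H)⟩
  · exact ⟨[3, 9, 1, 8, 6], mem_reps (l := reps10) (by simp [repLists]) (by decide), (f12334 H)⟩
  · exact ⟨[3, 9, 2, 1, 5], mem_reps (l := reps10) (by simp [repLists]) (by decide), (f12357 H)⟩
  · exact ⟨[9, 3, 2, 9, 3, 5], mem_reps (l := reps13) (by simp [repLists]) (by decide), (f12375 H)⟩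
  · exact ⟨[8, 1, 8, 9, 6], mem_reps (l := reps9) (by simp [repLists]) (by decide), (f12380 H)⟩
  · exact ⟨[8, 1, 8, 9, 6, 8], mem_reps (l := reps14) (by simp [repLists]) (by decide), (f12395 H)⟩
  · exact ⟨[4, 2, 8, 9, 2], mem_reps (l := reps11) (by simp [repLists]) (by decide), (f12430 H)⟩
  · exact ⟨[8, 1, 8, 4, 2, 4], mem_reps (l := reps14) (by simp [repLists]) (by decide), (f12459 H)⟩
  · exact ⟨[9, 2, 8, 1, 8, 1], mem_reps (l := reps13) (by simp [repLists]) (by decide), (f12457 H)⟩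
  · exact ⟨[9, 2, 5, 6, 4, 2], mem_reps (l := reps13) (by simp [repLists]) (by decide), (f12478 H)⟩
  · exact ⟨[8, 9, 2, 4, 8, 5], mem_reps (l := reps14) (by simp [repLists]) (by decide), (f12501 H)⟩
  · exact ⟨[9, 8, 2, 9, 1, 5], mem_reps (l := reps12) (by simp [repLists]) (by decide), (f12508 H)⟩
  · exact ⟨[9, 2, 9, 5, 3, 5], mem_reps (l := reps12) (by simp [repLists]) (by decide), (f12538 H)⟩
  · exact ⟨[4, 2, 5, 8, 4], mem_reps (l := reps11) (by simp [repLists]) (by decide), (f12544 H)⟩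
  · exact ⟨[4, 8, 6, 8, 6], mem_reps (l := reps11) (by simp [repLists]) (by decide), (f12559 H)⟩
  · exact ⟨[4, 8, 1, 8, 1], mem_reps (l := reps11) (by simp [repLists]) (by decide), (f12579 H)⟩
  · exact ⟨[9, 8, 2, 1, 3, 1], mem_reps (l := reps12) (by simp [repLists]) (by decide), (f12614 H)⟩

theorem step4_14 : ∀ w ∈ reps14, ∃ w' ∈ reps, g 4 • path g w p = path g w' p := by
  intro w hw
  simp only [reps14, List.mem_cons, List.not_mem_nil, or_false] at hw
  rcases hw with rfl | rfl | rfl | rfl | rfl | rfl | rfl | rfl | rfl | rfl | rfl | rfl | rfl | rfl | rfl | rfl | rfl | rfl | rfl | rfl | rfl | rfl | rfl | rfl | rfl | rfl | rfl | rfl | rfl | rfl | rfl | rfl | rfl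
  · exact ⟨[8, 1, 3, 1, 8, 6], mem_reps (l := reps14) (by simp [repLists]) (by decide), (f12489 H)⟩
  · exact ⟨[9, 3, 9, 2, 9, 3], mem_reps (l := reps13) (by simp [repLists]) (by decide), (f12060 H)⟩
  · exact ⟨[9, 2, 9, 5, 1, 3], mem_reps (l := reps12) (by simp [repLists]) (by decide), (f12076 H)⟩
  · exact ⟨[8, 9, 2, 4, 8, 5], mem_reps (l := reps14) (by simp [repLists]) (by decide), (f12143 H)⟩
  · exact ⟨[3, 1, 8, 1, 3], mem_reps (l := reps10) (by simp [repLists]) (by decide), (f12100 H)⟩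
  · exact ⟨[9, 8, 6, 3, 1, 3], mem_reps (l := reps12) (by simp [repLists]) (by decide), (f12124 H)⟩
  · exact ⟨[8, 6, 3, 6, 8, 1], mem_reps (l := reps14) (by simp [repLists]) (by decide), (f12310 H)⟩
  · exact ⟨[8, 6, 3, 1, 8], mem_reps (l := reps9) (by simp [repLists]) (by decide), (f12158 H)⟩
  · exact ⟨[8, 6, 8, 4, 2], mem_reps (l := reps9) (by simp [repLists]) (by decide), (f12173 H)⟩
  · exact ⟨[8, 1, 3, 6, 8], mem_reps (l := reps9) (by simp [repLists]) (by decide), (f12186 H)⟩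
  · exact ⟨[8, 6, 8, 9, 2], mem_reps (l := reps8) (by simp [repLists]) (by decide), (f12203 H)⟩
  · exact ⟨[8, 6, 8, 9, 2, 9], mem_reps (l := reps14) (by simp [repLists]) (by decide), (f12216 H)⟩
  · exact ⟨[9, 8, 2, 1, 3, 1], mem_reps (l := reps12) (by simp [repLists]) (by decide), (f12238 H)⟩
  · exact ⟨[9, 3, 2, 6, 8, 6], mem_reps (l := reps13) (by simp [repLists]) (by decide), (f12256 H)⟩
  · exact ⟨[9, 2, 3, 2, 6, 8], mem_reps (l := reps13) (by simp [repLists]) (by decide), (f12270 H)⟩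
  · exact ⟨[9, 3, 2, 9, 2, 5], mem_reps (l := reps13) (by simp [repLists]) (by decide), (f12284 H)⟩
  · exact ⟨[8, 9, 2, 9, 3, 5], mem_reps (l := reps14) (by simp [repLists]) (by decide), (f12307 H)⟩
  · exact ⟨[8, 6, 4, 2, 8], mem_reps (l := reps9) (by simp [repLists]) (by decide), (f12324 H)⟩
  · exact ⟨[3, 6, 8, 6, 8], mem_reps (l := reps10) (by simp [repLists]) (by decide), (f12347 H)⟩
  · exact ⟨[3, 1, 3, 6, 3, 1], mem_reps (l := reps14) (by simp [repLists]) (by decide), (f12531 H)⟩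
  · exact ⟨[4, 8, 5, 2, 1], mem_reps (l := reps11) (by simp [repLists]) (by decide), (f12388 H)⟩
  · exact ⟨[4, 2, 8, 9, 2], mem_reps (l := reps11) (by simp [repLists]) (by decide), (f12397 H)⟩
  · exact ⟨[8, 1, 8, 6, 8], mem_reps (l := reps9) (by simp [repLists]) (by decide), (f12414 H)⟩
  · exact ⟨[8, 1, 8, 4, 2], mem_reps (l := reps9) (by simp [repLists]) (by decide), (f12432 H)⟩
  · exact ⟨[8, 1, 8, 4, 2, 9], mem_reps (l := reps14) (by simp [repLists]) (by decide), (f12449 H)⟩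
  · exact ⟨[3, 6, 8, 1, 8], mem_reps (l := reps10) (by simp [repLists]) (by decide), (f12468 H)⟩
  · exact ⟨[9, 3, 2, 9, 3, 5], mem_reps (l := reps13) (by simp [repLists]) (by decide), (f12490 H)⟩
  · exact ⟨[9, 2, 9, 5, 2, 5], mem_reps (l := reps12) (by simp [repLists]) (by decide), (f12515 H)⟩
  · exact ⟨[9, 2, 9, 5, 2, 6], mem_reps (l := reps12) (by simp [repLists]) (by decide), (f12528 H)⟩
  · exact ⟨[4, 2, 9, 5, 3], mem_reps (l := reps11) (by simp [repLists]) (by decide), (f12546 H)⟩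
  · exact ⟨[8, 6, 8, 1, 8, 1], mem_reps (l := reps14) (by simp [repLists]) (by decide), (f12575 H)⟩
  · exact ⟨[9, 2, 9, 3, 5, 1], mem_reps (l := reps13) (by simp [repLists]) (by decide), (f12595 H)⟩
  · exact ⟨[4, 2, 9, 3, 5], mem_reps (l := reps11) (by simp [repLists]) (by decide), (f12604 H)⟩

theorem step_all : ∀ i < 5, ∀ w ∈ reps, ∃ w' ∈ reps, g i • path g w p = path g w' p := by
  intro i hi w hw
  simp only [reps, repLists, List.flatten_cons, List.flatten_nil, List.mem_append, List.not_mem_nil, or_false] at hw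
  rcases hw with h | h | h | h | h | h | h | h | h | h | h | h | h | h | h
  · interval_cases i
    exacts [step0_0 H w h, step1_0 H w h, step2_0 H w h, step3_0 H w h, step4_0 H w h]
  · interval_cases i
    exacts [step0_1 H w h, step1_1 H w h, step2_1 H w h, step3_1 H w h, step4_1 H w h]
  · interval_cases i
    exacts [step0_2 H w h, step1_2 H w h, step2_2 H w h, step3_2 H w h, step4_2 H w h]
  · interval_cases i
    exacts [step0_3 H w h, step1_3 H w h, step2_3 H w h, step3_3 H w h, step4_3 H w h]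
  · interval_cases i
    exacts [step0_4 H w h, step1_4 H w h, step2_4 H w h, step3_4 H w h, step4_4 H w h]
  · interval_cases i
    exacts [step0_5 H w h, step1_5 H w h, step2_5 H w h, step3_5 H w h, step4_5 H w h]
  · interval_cases i
    exacts [step0_6 H w h, step1_6 H w h, step2_6 H w h, step3_6 H w h, step4_6 H w h]
  · interval_cases i
    exacts [step0_7 H w h, step1_7 H w h, step2_7 H w h, step3_7 H w h, step4_7 H w h]
  · interval_cases i
    exacts [step0_8 H w h, step1_8 H w h, step2_8 H w h, step3_8 H w h, step4_8 H w h]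
  · interval_cases i
    exacts [step0_9 H w h, step1_9 H w h, step2_9 H w h, step3_9 H w h, step4_9 H w h]
  · interval_cases i
    exacts [step0_10 H w h, step1_10 H w h, step2_10 H w h, step3_10 H w h, step4_10 H w h]
  · interval_cases i
    exacts [step0_11 H w h, step1_11 H w h, step2_11 H w h, step3_11 H w h, step4_11 H w h]
  · interval_cases i
    exacts [step0_12 H w h, step1_12 H w h, step2_12 H w h, step3_12 H w h, step4_12 H w h]
  · interval_cases i
    exacts [step0_13 H w h, step1_13 H w h, step2_13 H w h, step3_13 H w h, step4_13 H w h]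
  · interval_cases i
    exacts [step0_14 H w h, step1_14 H w h, step2_14 H w h, step3_14 H w h, step4_14 H w h]

end CfsgQS3.Zero.CertA
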