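import Cfsg.Agent.Lib.QS3.Coset
import Cfsg.Agent.Lib.QS3.Zero.RelData

/-!
Groups with an involution centraliser `Q.S₃`: a certificate of coset enumeration for the type 0, case A, part 0.
-/

set_option autoImplicit false
set_option maxRecDepth 10000
set_option linter.unusedSectionVars false

namespace CfsgQS3.Zero.CertA

variable {M α : Type*} [Group M] [MulAction M α] {g : ℕ → M} {p : α} (H : CosetData relsA 3 g p)
include H

theorem r0_0_0 : ∀ x : α, path g [0, 0] x = x :=
  trivial_rot 0 (H.trivial_rev (i := 0) (by decide)) (by decide)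

theorem r0_1_0 : ∀ x : α, path g [5, 5] x = x :=
  trivial_rot 0 (H.trivial_inv (i := 0) (by decide) (by decide)) (by decide)

theorem r1_0_0 : ∀ x : α, path g [1, 1, 1] x = x :=
  trivial_rot 0 (H.trivial_rev (i := 1) (by decide)) (by decide)

theorem r2_0_0 : ∀ x : α, path g [2, 2] x = x :=
  trivial_rot 0 (H.trivial_rev (i := 2) (by decide)) (by decide)

theorem r2_1_0 : ∀ x : α, path g [7, 7] x = x :=
  trivial_rot 0 (H.trivial_inv (i := 2) (by decide) (by decide)) (by decide)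

theorem r3_0_0 : ∀ x : α, path g [1, 2, 1, 2] x = x :=
  trivial_rot 0 (H.trivial_rev (i := 3) (by decide)) (by decide)

theorem r3_0_1 : ∀ x : α, path g [2, 1, 2, 1] x = x :=
  trivial_rot 1 (H.trivial_rev (i := 3) (by decide)) (by decide)

theorem r3_1_0 : ∀ x : α, path g [7, 6, 7, 6] x = x :=
  trivial_rot 0 (H.trivial_inv (i := 3) (by decide) (by decide)) (by decide)

theorem r3_1_1 : ∀ x : α, path g [6, 7, 6, 7] x = x :=
  trivial_rot 1 (H.trivial_inv (i := 3) (by decide) (by decide)) (by decide)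

theorem r4_0_0 : ∀ x : α, path g [0, 6, 6, 0, 1, 0, 1] x = x :=
  trivial_rot 0 (H.trivial_rev (i := 4) (by decide)) (by decide)

theorem r4_0_4 : ∀ x : α, path g [1, 0, 1, 0, 6, 6, 0] x = x :=
  trivial_rot 4 (H.trivial_rev (i := 4) (by decide)) (by decide)

theorem r4_1_1 : ∀ x : α, path g [5, 6, 5, 1, 1, 5, 6] x = x :=
  trivial_rot 1 (H.trivial_inv (i := 4) (by decide) (by decide)) (by decide)

theorem r4_1_3 : ∀ x : α, path g [5, 1, 1, 5, 6, 5, 6] x = x :=
  trivial_rot 3 (H.trivial_inv (i := 4) (by decide) (by decide)) (by decide)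

theorem r4_1_4 : ∀ x : α, path g [1, 1, 5, 6, 5, 6, 5] x = x :=
  trivial_rot 4 (H.trivial_inv (i := 4) (by decide) (by decide)) (by decide)

theorem r5_0_1 : ∀ x : α, path g [6, 2, 0, 2, 1, 0, 2, 1, 0, 6, 2, 0] x = x :=
  trivial_rot 1 (H.trivial_rev (i := 5) (by decide)) (by decide)

theorem r5_0_5 : ∀ x : α, path g [1, 0, 2, 1, 0, 6, 2, 0, 6, 2, 0, 2] x = x :=
  trivial_rot 5 (H.trivial_rev (i := 5) (by decide)) (by decide)

theorem r5_0_6 : ∀ x : α, path g [0, 2, 1, 0, 6, 2, 0, 6, 2, 0, 2, 1] x = x :=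
  trivial_rot 6 (H.trivial_rev (i := 5) (by decide)) (by decide)

theorem r5_0_9 : ∀ x : α, path g [0, 6, 2, 0, 6, 2, 0, 2, 1, 0, 2, 1] x = x :=
  trivial_rot 9 (H.trivial_rev (i := 5) (by decide)) (by decide)

theorem r5_1_0 : ∀ x : α, path g [7, 1, 5, 6, 7, 5, 6, 7, 5, 7, 1, 5] x = x :=
  trivial_rot 0 (H.trivial_inv (i := 5) (by decide) (by decide)) (by decide)

theorem r5_1_4 : ∀ x : α, path g [7, 5, 6, 7, 5, 7, 1, 5, 7, 1, 5, 6] x = x :=
  trivial_rot 4 (H.trivial_inv (i := 5) (by decide) (by decide)) (by decide)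

theorem r5_1_8 : ∀ x : α, path g [5, 7, 1, 5, 7, 1, 5, 6, 7, 5, 6, 7] x = x :=
  trivial_rot 8 (H.trivial_inv (i := 5) (by decide) (by decide)) (by decide)

theorem r5_1_10 : ∀ x : α, path g [1, 5, 7, 1, 5, 6, 7, 5, 6, 7, 5, 7] x = x :=
  trivial_rot 10 (H.trivial_inv (i := 5) (by decide) (by decide)) (by decide)

theorem r6_0_0 : ∀ x : α, path g [3, 3, 3] x = x :=
  trivial_rot 0 (H.trivial_rev (i := 6) (by decide)) (by decide)

theorem r6_1_0 : ∀ x : α, path g [8, 8, 8] x = x :=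
  trivial_rot 0 (H.trivial_inv (i := 6) (by decide) (by decide)) (by decide)

theorem r7_0_0 : ∀ x : α, path g [2, 3, 6, 5, 7, 6, 5, 7, 5, 8] x = x :=
  trivial_rot 0 (H.trivial_rev (i := 7) (by decide)) (by decide)

theorem r7_0_1 : ∀ x : α, path g [3, 6, 5, 7, 6, 5, 7, 5, 8, 2] x = x :=
  trivial_rot 1 (H.trivial_rev (i := 7) (by decide)) (by decide)

theorem r7_0_4 : ∀ x : α, path g [7, 6, 5, 7, 5, 8, 2, 3, 6, 5] x = x :=
  trivial_rot 4 (H.trivial_rev (i := 7) (by decide)) (by decide)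

theorem r7_0_5 : ∀ x : α, path g [6, 5, 7, 5, 8, 2, 3, 6, 5, 7] x = x :=
  trivial_rot 5 (H.trivial_rev (i := 7) (by decide)) (by decide)

theorem r7_0_8 : ∀ x : α, path g [5, 8, 2, 3, 6, 5, 7, 6, 5, 7] x = x :=
  trivial_rot 8 (H.trivial_rev (i := 7) (by decide)) (by decide)

theorem r7_0_9 : ∀ x : α, path g [8, 2, 3, 6, 5, 7, 6, 5, 7, 5] x = x :=
  trivial_rot 9 (H.trivial_rev (i := 7) (by decide)) (by decide)

theorem r7_1_1 : ∀ x : α, path g [0, 2, 0, 1, 2, 0, 1, 8, 7, 3] x = x :=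
  trivial_rot 1 (H.trivial_inv (i := 7) (by decide) (by decide)) (by decide)

theorem r7_1_2 : ∀ x : α, path g [2, 0, 1, 2, 0, 1, 8, 7, 3, 0] x = x :=
  trivial_rot 2 (H.trivial_inv (i := 7) (by decide) (by decide)) (by decide)

theorem r7_1_3 : ∀ x : α, path g [0, 1, 2, 0, 1, 8, 7, 3, 0, 2] x = x :=
  trivial_rot 3 (H.trivial_inv (i := 7) (by decide) (by decide)) (by decide)

theorem r7_1_4 : ∀ x : α, path g [1, 2, 0, 1, 8, 7, 3, 0, 2, 0] x = x :=
  trivial_rot 4 (H.trivial_inv (i := 7) (by decide) (by decide)) (by decide)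

theorem r7_1_5 : ∀ x : α, path g [2, 0, 1, 8, 7, 3, 0, 2, 0, 1] x = x :=
  trivial_rot 5 (H.trivial_inv (i := 7) (by decide) (by decide)) (by decide)

theorem r8_0_0 : ∀ x : α, path g [2, 0, 2, 3, 5, 6, 7, 5, 6, 8, 0] x = x :=
  trivial_rot 0 (H.trivial_rev (i := 8) (by decide)) (by decide)

theorem r8_0_5 : ∀ x : α, path g [6, 7, 5, 6, 8, 0, 2, 0, 2, 3, 5] x = x :=
  trivial_rot 5 (H.trivial_rev (i := 8) (by decide)) (by decide)

theorem r8_0_8 : ∀ x : α, path g [6, 8, 0, 2, 0, 2, 3, 5, 6, 7, 5] x = x :=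
  trivial_rot 8 (H.trivial_rev (i := 8) (by decide)) (by decide)

theorem r8_1_0 : ∀ x : α, path g [5, 3, 1, 0, 2, 1, 0, 8, 7, 5, 7] x = x :=
  trivial_rot 0 (H.trivial_inv (i := 8) (by decide) (by decide)) (by decide)

theorem r8_1_1 : ∀ x : α, path g [3, 1, 0, 2, 1, 0, 8, 7, 5, 7, 5] x = x :=
  trivial_rot 1 (H.trivial_inv (i := 8) (by decide) (by decide)) (by decide)

theorem r8_1_2 : ∀ x : α, path g [1, 0, 2, 1, 0, 8, 7, 5, 7, 5, 3] x = x :=
  trivial_rot 2 (H.trivial_inv (i := 8) (by decide) (by decide)) (by decide)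

theorem r8_1_3 : ∀ x : α, path g [0, 2, 1, 0, 8, 7, 5, 7, 5, 3, 1] x = x :=
  trivial_rot 3 (H.trivial_inv (i := 8) (by decide) (by decide)) (by decide)

theorem r8_1_9 : ∀ x : α, path g [5, 7, 5, 3, 1, 0, 2, 1, 0, 8, 7] x = x :=
  trivial_rot 9 (H.trivial_inv (i := 8) (by decide) (by decide)) (by decide)

theorem r9_0_7 : ∀ x : α, path g [1, 2, 0, 1, 3, 5, 6, 5, 7, 5, 6, 8, 0, 2, 0] x = x :=
  trivial_rot 7 (H.trivial_rev (i := 9) (by decide)) (by decide)

theorem r9_1_9 : ∀ x : α, path g [7, 5, 3, 1, 0, 2, 0, 1, 0, 8, 6, 5, 7, 6, 5] x = x :=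
  trivial_rot 9 (H.trivial_inv (i := 9) (by decide) (by decide)) (by decide)

theorem r9_1_10 : ∀ x : α, path g [5, 3, 1, 0, 2, 0, 1, 0, 8, 6, 5, 7, 6, 5, 7] x = x :=
  trivial_rot 10 (H.trivial_inv (i := 9) (by decide) (by decide)) (by decide)

theorem r9_1_13 : ∀ x : α, path g [0, 2, 0, 1, 0, 8, 6, 5, 7, 6, 5, 7, 5, 3, 1] x = x :=
  trivial_rot 13 (H.trivial_inv (i := 9) (by decide) (by decide)) (by decide)

theorem r10_0_0 : ∀ x : α, path g [4, 4, 4] x = x :=
  trivial_rot 0 (H.trivial_rev (i := 10) (by decide)) (by decide)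

theorem r10_1_0 : ∀ x : α, path g [9, 9, 9] x = x :=
  trivial_rot 0 (H.trivial_inv (i := 10) (by decide) (by decide)) (by decide)

theorem r11_0_1 : ∀ x : α, path g [2, 0, 2, 0, 4, 5, 7, 5, 7, 5, 7, 5, 7, 4, 2, 0, 2, 0] x = x :=
  trivial_rot 1 (H.trivial_rev (i := 11) (by decide)) (by decide)

theorem r11_0_8 : ∀ x : α, path g [5, 7, 5, 7, 5, 7, 4, 2, 0, 2, 0, 2, 0, 2, 0, 4, 5, 7] x = x :=
  trivial_rot 8 (H.trivial_rev (i := 11) (by decide)) (by decide)

theorem r11_0_9 : ∀ x : α, path g [7, 5, 7, 5, 7, 4, 2, 0, 2, 0, 2, 0, 2, 0, 4, 5, 7, 5] x = x :=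
  trivial_rot 9 (H.trivial_rev (i := 11) (by decide)) (by decide)

theorem r11_0_10 : ∀ x : α, path g [5, 7, 5, 7, 4, 2, 0, 2, 0, 2, 0, 2, 0, 4, 5, 7, 5, 7] x = x :=
  trivial_rot 10 (H.trivial_rev (i := 11) (by decide)) (by decide)

theorem r11_1_6 : ∀ x : α, path g [2, 0, 2, 0, 2, 0, 9, 5, 7, 5, 7, 5, 7, 5, 7, 9, 2, 0] x = x :=
  trivial_rot 6 (H.trivial_inv (i := 11) (by decide) (by decide)) (by decide)

theorem r11_1_16 : ∀ x : α, path g [7, 5, 7, 5, 7, 9, 2, 0, 2, 0, 2, 0, 2, 0, 9, 5, 7, 5] x = x :=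
  trivial_rot 16 (H.trivial_inv (i := 11) (by decide) (by decide)) (by decide)

theorem r11_1_17 : ∀ x : α, path g [5, 7, 5, 7, 9, 2, 0, 2, 0, 2, 0, 2, 0, 9, 5, 7, 5, 7] x = x :=
  trivial_rot 17 (H.trivial_inv (i := 11) (by decide) (by decide)) (by decide)

theorem r12_0_0 : ∀ x : α, path g [1, 1, 0, 1, 4, 6, 5, 6, 6, 9] x = x :=
  trivial_rot 0 (H.trivial_rev (i := 12) (by decide)) (by decide)

theorem r13_0_0 : ∀ x : α, path g [5, 9, 0, 4] x = x :=
  trivial_rot 0 (H.trivial_rev (i := 13) (by decide)) (by decide)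

theorem r13_0_1 : ∀ x : α, path g [9, 0, 4, 5] x = x :=
  trivial_rot 1 (H.trivial_rev (i := 13) (by decide)) (by decide)

theorem r13_0_3 : ∀ x : α, path g [4, 5, 9, 0] x = x :=
  trivial_rot 3 (H.trivial_rev (i := 13) (by decide)) (by decide)

theorem r13_1_1 : ∀ x : α, path g [5, 4, 0, 9] x = x :=
  trivial_rot 1 (H.trivial_inv (i := 13) (by decide) (by decide)) (by decide)

theorem r13_1_2 : ∀ x : α, path g [4, 0, 9, 5] x = x :=
  trivial_rot 2 (H.trivial_inv (i := 13) (by decide) (by decide)) (by decide)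

theorem r14_0_0 : ∀ x : α, path g [1, 4, 6, 9] x = x :=
  trivial_rot 0 (H.trivial_rev (i := 14) (by decide)) (by decide)

theorem r14_0_1 : ∀ x : α, path g [4, 6, 9, 1] x = x :=
  trivial_rot 1 (H.trivial_rev (i := 14) (by decide)) (by decide)

theorem r14_0_2 : ∀ x : α, path g [6, 9, 1, 4] x = x :=
  trivial_rot 2 (H.trivial_rev (i := 14) (by decide)) (by decide)

theorem r14_0_3 : ∀ x : α, path g [9, 1, 4, 6] x = x :=
  trivial_rot 3 (H.trivial_rev (i := 14) (by decide)) (by decide)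

theorem r14_1_0 : ∀ x : α, path g [4, 1, 9, 6] x = x :=
  trivial_rot 0 (H.trivial_inv (i := 14) (by decide) (by decide)) (by decide)

theorem r14_1_1 : ∀ x : α, path g [1, 9, 6, 4] x = x :=
  trivial_rot 1 (H.trivial_inv (i := 14) (by decide) (by decide)) (by decide)

theorem r14_1_3 : ∀ x : α, path g [6, 4, 1, 9] x = x :=
  trivial_rot 3 (H.trivial_inv (i := 14) (by decide) (by decide)) (by decide)

theorem r15_0_0 : ∀ x : α, path g [4, 3, 4, 3] x = x :=
  trivial_rot 0 (H.trivial_rev (i := 15) (by decide)) (by decide)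

theorem r15_0_1 : ∀ x : α, path g [3, 4, 3, 4] x = x :=
  trivial_rot 1 (H.trivial_rev (i := 15) (by decide)) (by decide)

theorem r15_1_0 : ∀ x : α, path g [8, 9, 8, 9] x = x :=
  trivial_rot 0 (H.trivial_inv (i := 15) (by decide) (by decide)) (by decide)

theorem r15_1_1 : ∀ x : α, path g [9, 8, 9, 8] x = x :=
  trivial_rot 1 (H.trivial_inv (i := 15) (by decide) (by decide)) (by decide)

theorem f0 : g 0 • path g [] p = path g [] p :=
  H.base (i := 0) (by decide)

theorem f1 : g 5 • path g [] p = path g [] p :=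
  H.back (i := 0) (by decide) (f0 H)

theorem f2 : g 1 • path g [] p = path g [] p :=
  H.base (i := 1) (by decide)

theorem f3 : g 6 • path g [] p = path g [] p :=
  H.back (i := 1) (by decide) (f2 H)

theorem f4 : g 2 • path g [] p = path g [] p :=
  H.base (i := 2) (by decide)

theorem f5 : g 7 • path g [] p = path g [] p :=
  H.back (i := 2) (by decide) (f4 H)

theorem f6 : g 9 • path g [] p = path g [9] p :=
  rfl

theorem f7 : g 4 • path g [9] p = path g [] p :=
  H.back (i := 9) (by decide) (f6 H)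

theorem f8 : g 0 • path g [9] p = path g [9] p :=
  scan (u := [9]) (w := [4, 5]) (i := 0) (r13_0_1 H) (step (f6 H) rfl) (step (H.back (i := 9) (by decide) (f6 H)) (step (H.back (i := 0) (by decide) (f0 H)) rfl))

theorem f9 : g 5 • path g [9] p = path g [9] p :=
  H.back (i := 0) (by decide) (f8 H)

theorem f10 : g 1 • path g [9] p = path g [9] p :=
  scan (u := [9]) (w := [4, 6]) (i := 1) (r14_0_3 H) (step (f6 H) rfl) (step (H.back (i := 9) (by decide) (f6 H)) (step (H.back (i := 1) (by decide) (f2 H)) rfl))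

theorem f11 : g 6 • path g [9] p = path g [9] p :=
  H.back (i := 1) (by decide) (f10 H)

theorem f12 : g 8 • path g [] p = path g [8] p :=
  rfl

theorem f13 : g 3 • path g [8] p = path g [] p :=
  H.back (i := 8) (by decide) (f12 H)

theorem f14 : g 2 • path g [8] p = path g [8] p :=
  scan (u := [8]) (w := [3, 6, 5, 7, 6, 5, 7, 5]) (i := 2) (r7_0_9 H) (step (f12 H) rfl) (step (H.back (i := 8) (by decide) (f12 H)) (step (H.back (i := 1) (by decide) (f2 H)) (step (H.back (i := 0) (by decide) (f0 H)) (step (H.back (i := 2) (by decide) (f4 H)) (step (H.back (i := 1) (by decide) (f2 H)) (step (H.back (i := 0) (by decide) (f0 H)) (step (H.back (i := 2) (by decide) (f4 H)) (step (H.back (i := 0) (by decide) (f0 H)) rfl))))))))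

theorem f15 : g 7 • path g [8] p = path g [8] p :=
  H.back (i := 2) (by decide) (f14 H)

theorem f16 : g 3 • path g [] p = path g [3] p :=
  rfl

theorem f17 : g 8 • path g [3] p = path g [] p :=
  H.back (i := 3) (by decide) (f16 H)

theorem f18 : g 3 • path g [3] p = path g [8] p :=
  scan (u := [3]) (w := [3]) (i := 3) (r6_0_0 H) (step (f16 H) rfl) (step (H.back (i := 8) (by decide) (f12 H)) rfl)

theorem f19 : g 8 • path g [8] p = path g [3] p :=
  H.back (i := 3) (by decide) (f18 H)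

theorem f20 : g 4 • path g [] p = path g [4] p :=
  rfl

theorem f22 : g 4 • path g [4] p = path g [9] p :=
  scan (u := [4]) (w := [4]) (i := 4) (r10_0_0 H) (step (f20 H) rfl) (step (H.back (i := 9) (by decide) (f6 H)) rfl)

theorem f23 : g 9 • path g [9] p = path g [4] p :=
  H.back (i := 4) (by decide) (f22 H)

theorem f24 : g 5 • path g [4] p = path g [4] p :=
  scan (u := [4]) (w := [9, 0]) (i := 5) (r13_0_3 H) (step (f20 H) rfl) (step (H.back (i := 4) (by decide) (f20 H)) (step (H.back (i := 5) (by decide) (f1 H)) rfl))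

theorem f25 : g 0 • path g [4] p = path g [4] p :=
  H.back (i := 5) (by decide) (f24 H)

theorem f26 : g 6 • path g [4] p = path g [4] p :=
  scan (u := [4]) (w := [9, 1]) (i := 6) (r14_0_1 H) (step (f20 H) rfl) (step (H.back (i := 4) (by decide) (f20 H)) (step (H.back (i := 6) (by decide) (f3 H)) rfl))

theorem f27 : g 1 • path g [4] p = path g [4] p :=
  H.back (i := 6) (by decide) (f26 H)

theorem f28 : g 8 • path g [9] p = path g [9, 8] p :=
  rfl

theorem f29 : g 3 • path g [9, 8] p = path g [9] p :=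
  H.back (i := 8) (by decide) (f28 H)

theorem f30 : g 9 • path g [9, 8] p = path g [3] p :=
  scan (u := [8]) (w := [8, 9]) (i := 9) (r15_1_0 H) (step (f28 H) rfl) (step (H.back (i := 3) (by decide) (f16 H)) (step (H.back (i := 4) (by decide) (f7 H)) rfl))

theorem f31 : g 4 • path g [3] p = path g [9, 8] p :=
  H.back (i := 9) (by decide) (f30 H)

theorem f32 : g 2 • path g [9] p = path g [9, 2] p :=
  rfl

theorem f33 : g 7 • path g [9, 2] p = path g [9] p :=
  H.back (i := 2) (by decide) (f32 H)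

theorem f34 : g 2 • path g [9, 2] p = path g [9] p :=
  scan (u := [2]) (w := []) (i := 2) (r2_0_0 H) (step (f32 H) rfl) rfl

theorem f35 : g 7 • path g [9] p = path g [9, 2] p :=
  H.back (i := 2) (by decide) (f34 H)

theorem f36 : g 1 • path g [9, 2] p = path g [9, 2] p :=
  scan (u := [2]) (w := [2, 1]) (i := 1) (r3_0_1 H) (step (f32 H) rfl) (step (H.back (i := 7) (by decide) (f35 H)) (step (H.back (i := 6) (by decide) (f11 H)) rfl))

theorem f37 : g 6 • path g [9, 2] p = path g [9, 2] p :=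
  H.back (i := 1) (by decide) (f36 H)

theorem f38 : g 3 • path g [9] p = path g [9, 3] p :=
  rfl

theorem f39 : g 8 • path g [9, 3] p = path g [9] p :=
  H.back (i := 3) (by decide) (f38 H)

theorem f40 : g 3 • path g [9, 3] p = path g [9, 8] p :=
  scan (u := [3]) (w := [3]) (i := 3) (r6_0_0 H) (step (f38 H) rfl) (step (H.back (i := 8) (by decide) (f28 H)) rfl)

theorem f41 : g 8 • path g [9, 8] p = path g [9, 3] p :=
  H.back (i := 3) (by decide) (f40 H)

theorem f42 : g 9 • path g [8] p = path g [8, 9] p :=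
  rfl

theorem f43 : g 4 • path g [8, 9] p = path g [8] p :=
  H.back (i := 9) (by decide) (f42 H)

theorem f44 : g 8 • path g [8, 9] p = path g [4] p :=
  scan (u := [9]) (w := [9, 8]) (i := 8) (r15_1_1 H) (step (f42 H) rfl) (step (H.back (i := 4) (by decide) (f20 H)) (step (H.back (i := 3) (by decide) (f13 H)) rfl))

theorem f45 : g 3 • path g [4] p = path g [8, 9] p :=
  H.back (i := 8) (by decide) (f44 H)

theorem f46 : g 5 • path g [8] p = path g [8, 5] p :=
  rfl

theorem f47 : g 0 • path g [8, 5] p = path g [8] p :=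
  H.back (i := 5) (by decide) (f46 H)

theorem f48 : g 5 • path g [8, 5] p = path g [8] p :=
  scan (u := [5]) (w := []) (i := 5) (r0_1_0 H) (step (f46 H) rfl) rfl

theorem f49 : g 0 • path g [8] p = path g [8, 5] p :=
  H.back (i := 5) (by decide) (f48 H)

theorem f50 : g 7 • path g [8, 5] p = path g [8, 5] p :=
  scan (u := [5]) (w := [5, 3, 1, 0, 2, 1, 0, 8, 7]) (i := 7) (r8_1_9 H) (step (f46 H) rfl) (step (H.back (i := 0) (by decide) (f49 H)) (step (H.back (i := 8) (by decide) (f12 H)) (step (H.back (i := 6) (by decide) (f3 H)) (step (H.back (i := 5) (by decide) (f1 H)) (step (H.back (i := 7) (by decide) (f5 H)) (step (H.back (i := 6) (by decide) (f3 H)) (step (H.back (i := 5) (by decide) (f1 H)) (step (H.back (i := 3) (by decide) (f13 H)) (step (H.back (i := 2) (by decide) (f14 H)) rfl)))))))))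

theorem f51 : g 2 • path g [8, 5] p = path g [8, 5] p :=
  H.back (i := 7) (by decide) (f50 H)

theorem f52 : g 6 • path g [8] p = path g [8, 6] p :=
  rfl

theorem f53 : g 1 • path g [8, 6] p = path g [8] p :=
  H.back (i := 6) (by decide) (f52 H)

theorem f54 : g 1 • path g [8] p = path g [8, 1] p :=
  rfl

theorem f55 : g 6 • path g [8, 1] p = path g [8] p :=
  H.back (i := 1) (by decide) (f54 H)

theorem f56 : g 1 • path g [8, 1] p = path g [8, 6] p :=
  scan (u := [1]) (w := [1]) (i := 1) (r1_0_0 H) (step (f54 H) rfl) (step (H.back (i := 6) (by decide) (f52 H)) rfl)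

theorem f57 : g 6 • path g [8, 6] p = path g [8, 1] p :=
  H.back (i := 1) (by decide) (f56 H)

theorem f58 : g 2 • path g [8, 1] p = path g [8, 6] p :=
  scan (u := [1]) (w := [1, 2]) (i := 2) (r3_0_0 H) (step (f54 H) rfl) (step (H.back (i := 6) (by decide) (f52 H)) (step (H.back (i := 7) (by decide) (f15 H)) rfl))

theorem f59 : g 7 • path g [8, 6] p = path g [8, 1] p :=
  H.back (i := 2) (by decide) (f58 H)

theorem f60 : g 0 • path g [8, 6] p = path g [8, 6] p :=
  scan (u := [1, 2]) (w := [1, 3, 5, 6, 5, 7, 5, 6, 8, 0, 2, 0]) (i := 0) (r9_0_7 H) (step (f54 H) (step (f58 H) rfl)) (step (H.back (i := 6) (by decide) (f52 H)) (step (H.back (i := 8) (by decide) (f12 H)) (step (H.back (i := 0) (by decide) (f0 H)) (step (H.back (i := 1) (by decide) (f2 H)) (step (H.back (i := 0) (by decide) (f0 H)) (step (H.back (i := 2) (by decide) (f4 H)) (step (H.back (i := 0) (by decide) (f0 H)) (step (H.back (i := 1) (by decide) (f2 H)) (step (H.back (i := 3) (by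 decide) (f13 H)) (step (H.back (i := 5) (by decide) (f48 H)) (step (H.back (i := 7) (by decide) (f50 H)) (step (H.back (i := 5) (by decide) (f46 H)) rfl))))))))))))

theorem f61 : g 5 • path g [8, 6] p = path g [8, 6] p :=
  H.back (i := 0) (by decide) (f60 H)

theorem f62 : g 2 • path g [3] p = path g [3] p :=
  scan (u := [6, 5, 7, 5, 8]) (w := [3, 6, 5, 7]) (i := 2) (r7_0_5 H) (step (f55 H) (step (f46 H) (step (f50 H) (step (f48 H) (step (f19 H) rfl))))) (step (H.back (i := 8) (by decide) (f19 H)) (step (H.back (i := 1) (by decide) (f53 H)) (step (H.back (i := 0) (by decide) (f60 H)) (step (H.back (i := 2) (by decide) (f58 H)) rfl))))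

theorem f63 : g 7 • path g [3] p = path g [3] p :=
  H.back (i := 2) (by decide) (f62 H)

theorem f64 : g 2 • path g [8, 6] p = path g [8, 1] p :=
  scan (u := [2]) (w := []) (i := 2) (r2_0_0 H) (step (f58 H) rfl) rfl

theorem f65 : g 7 • path g [8, 1] p = path g [8, 6] p :=
  H.back (i := 2) (by decide) (f64 H)

theorem f66 : g 4 • path g [8] p = path g [8, 4] p :=
  rfl

theorem f67 : g 9 • path g [8, 4] p = path g [8] p :=
  H.back (i := 4) (by decide) (f66 H)

theorem f68 : g 4 • path g [8, 4] p = path g [8, 9] p :=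
  scan (u := [4]) (w := [4]) (i := 4) (r10_0_0 H) (step (f66 H) rfl) (step (H.back (i := 9) (by decide) (f42 H)) rfl)

theorem f70 : g 9 • path g [3] p = path g [3, 9] p :=
  rfl

theorem f71 : g 4 • path g [3, 9] p = path g [3] p :=
  H.back (i := 9) (by decide) (f70 H)

theorem f72 : g 9 • path g [3, 9] p = path g [9, 8] p :=
  scan (u := [9]) (w := [9]) (i := 9) (r10_1_0 H) (step (f70 H) rfl) (step (H.back (i := 4) (by decide) (f31 H)) rfl)

theorem f73 : g 4 • path g [9, 8] p = path g [3, 9] p :=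
  H.back (i := 9) (by decide) (f72 H)

theorem f74 : g 8 • path g [3, 9] p = path g [8, 4] p :=
  scan (u := [9]) (w := [9, 8]) (i := 8) (r15_1_1 H) (step (f70 H) rfl) (step (H.back (i := 4) (by decide) (f66 H)) (step (H.back (i := 3) (by decide) (f18 H)) rfl))

theorem f75 : g 3 • path g [8, 4] p = path g [3, 9] p :=
  H.back (i := 8) (by decide) (f74 H)

theorem f76 : g 5 • path g [3] p = path g [3, 5] p :=
  rfl

theorem f77 : g 0 • path g [3, 5] p = path g [3] p :=
  H.back (i := 5) (by decide) (f76 H)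

theorem f78 : g 5 • path g [3, 5] p = path g [3] p :=
  scan (u := [5]) (w := []) (i := 5) (r0_1_0 H) (step (f76 H) rfl) rfl

theorem f79 : g 0 • path g [3] p = path g [3, 5] p :=
  H.back (i := 5) (by decide) (f78 H)

theorem f80 : g 6 • path g [3] p = path g [3, 6] p :=
  rfl

theorem f81 : g 1 • path g [3, 6] p = path g [3] p :=
  H.back (i := 6) (by decide) (f80 H)

theorem f82 : g 1 • path g [3] p = path g [3, 1] p :=
  rfl

theorem f83 : g 6 • path g [3, 1] p = path g [3] p :=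
  H.back (i := 1) (by decide) (f82 H)

theorem f84 : g 1 • path g [3, 1] p = path g [3, 6] p :=
  scan (u := [1]) (w := [1]) (i := 1) (r1_0_0 H) (step (f82 H) rfl) (step (H.back (i := 6) (by decide) (f80 H)) rfl)

theorem f85 : g 6 • path g [3, 6] p = path g [3, 1] p :=
  H.back (i := 1) (by decide) (f84 H)

theorem f86 : g 2 • path g [3, 1] p = path g [3, 6] p :=
  scan (u := [1]) (w := [1, 2]) (i := 2) (r3_0_0 H) (step (f82 H) rfl) (step (H.back (i := 6) (by decide) (f80 H)) (step (H.back (i := 7) (by decide) (f63 H)) rfl))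

theorem f88 : g 2 • path g [3, 6] p = path g [3, 1] p :=
  scan (u := [2]) (w := []) (i := 2) (r2_0_0 H) (step (f86 H) rfl) rfl

theorem f89 : g 7 • path g [3, 1] p = path g [3, 6] p :=
  H.back (i := 2) (by decide) (f88 H)

theorem f90 : g 8 • path g [4] p = path g [4, 8] p :=
  rfl

theorem f91 : g 3 • path g [4, 8] p = path g [4] p :=
  H.back (i := 8) (by decide) (f90 H)

theorem f92 : g 8 • path g [4, 8] p = path g [8, 9] p :=
  scan (u := [8]) (w := [8]) (i := 8) (r6_1_0 H) (step (f90 H) rfl) (step (H.back (i := 3) (by decide) (f45 H)) rfl)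

theorem f93 : g 3 • path g [8, 9] p = path g [4, 8] p :=
  H.back (i := 8) (by decide) (f92 H)

theorem f94 : g 9 • path g [4, 8] p = path g [9, 3] p :=
  scan (u := [8]) (w := [8, 9]) (i := 9) (r15_1_0 H) (step (f90 H) rfl) (step (H.back (i := 3) (by decide) (f38 H)) (step (H.back (i := 4) (by decide) (f22 H)) rfl))

theorem f95 : g 4 • path g [9, 3] p = path g [4, 8] p :=
  H.back (i := 9) (by decide) (f94 H)

theorem f96 : g 2 • path g [4] p = path g [4, 2] p :=
  rfl

theorem f97 : g 7 • path g [4, 2] p = path g [4] p :=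
  H.back (i := 2) (by decide) (f96 H)

theorem f98 : g 2 • path g [4, 2] p = path g [4] p :=
  scan (u := [2]) (w := []) (i := 2) (r2_0_0 H) (step (f96 H) rfl) rfl

theorem f99 : g 7 • path g [4] p = path g [4, 2] p :=
  H.back (i := 2) (by decide) (f98 H)

theorem f100 : g 1 • path g [4, 2] p = path g [4, 2] p :=
  scan (u := [2]) (w := [2, 1]) (i := 1) (r3_0_1 H) (step (f96 H) rfl) (step (H.back (i := 7) (by decide) (f99 H)) (step (H.back (i := 6) (by decide) (f26 H)) rfl))

theorem f101 : g 6 • path g [4, 2] p = path g [4, 2] p :=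
  H.back (i := 1) (by decide) (f100 H)

theorem f102 : g 2 • path g [9, 8] p = path g [9, 8, 2] p :=
  rfl

theorem f103 : g 7 • path g [9, 8, 2] p = path g [9, 8] p :=
  H.back (i := 2) (by decide) (f102 H)

theorem f104 : g 2 • path g [9, 8, 2] p = path g [9, 8] p :=
  scan (u := [2]) (w := []) (i := 2) (r2_0_0 H) (step (f102 H) rfl) rfl

theorem f105 : g 7 • path g [9, 8] p = path g [9, 8, 2] p :=
  H.back (i := 2) (by decide) (f104 H)

theorem f106 : g 5 • path g [9, 8] p = path g [9, 8, 5] p :=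
  rfl

theorem f107 : g 0 • path g [9, 8, 5] p = path g [9, 8] p :=
  H.back (i := 5) (by decide) (f106 H)

theorem f108 : g 5 • path g [9, 8, 5] p = path g [9, 8] p :=
  scan (u := [5]) (w := []) (i := 5) (r0_1_0 H) (step (f106 H) rfl) rfl

theorem f109 : g 0 • path g [9, 8] p = path g [9, 8, 5] p :=
  H.back (i := 5) (by decide) (f108 H)

theorem f110 : g 9 • path g [9, 8, 5] p = path g [3, 5] p :=
  scan (u := [5]) (w := [0, 4]) (i := 9) (r13_0_0 H) (step (f106 H) rfl) (step (H.back (i := 5) (by decide) (f76 H)) (step (H.back (i := 9) (by decide) (f30 H)) rfl))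

theorem f112 : g 6 • path g [9, 8] p = path g [9, 8, 6] p :=
  rfl

theorem f113 : g 1 • path g [9, 8, 6] p = path g [9, 8] p :=
  H.back (i := 6) (by decide) (f112 H)

theorem f114 : g 9 • path g [9, 8, 6] p = path g [3, 6] p :=
  scan (u := [6]) (w := [1, 4]) (i := 9) (r14_0_2 H) (step (f112 H) rfl) (step (H.back (i := 6) (by decide) (f80 H)) (step (H.back (i := 9) (by decide) (f30 H)) rfl))

theorem f115 : g 4 • path g [3, 6] p = path g [9, 8, 6] p :=
  H.back (i := 9) (by decide) (f114 H)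

theorem f116 : g 1 • path g [9, 8] p = path g [9, 8, 1] p :=
  rfl

theorem f117 : g 6 • path g [9, 8, 1] p = path g [9, 8] p :=
  H.back (i := 1) (by decide) (f116 H)

theorem f118 : g 1 • path g [9, 8, 1] p = path g [9, 8, 6] p :=
  scan (u := [1]) (w := [1]) (i := 1) (r1_0_0 H) (step (f116 H) rfl) (step (H.back (i := 6) (by decide) (f112 H)) rfl)

theorem f119 : g 6 • path g [9, 8, 6] p = path g [9, 8, 1] p :=
  H.back (i := 1) (by decide) (f118 H)

theorem f120 : g 9 • path g [9, 8, 1] p = path g [3, 1] p :=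
  scan (u := [1]) (w := [6, 4]) (i := 9) (r14_1_1 H) (step (f116 H) rfl) (step (H.back (i := 1) (by decide) (f82 H)) (step (H.back (i := 9) (by decide) (f30 H)) rfl))

theorem f121 : g 4 • path g [3, 1] p = path g [9, 8, 1] p :=
  H.back (i := 9) (by decide) (f120 H)

theorem f122 : g 9 • path g [9, 2] p = path g [9, 2, 9] p :=
  rfl

theorem f123 : g 4 • path g [9, 2, 9] p = path g [9, 2] p :=
  H.back (i := 9) (by decide) (f122 H)

theorem f124 : g 1 • path g [9, 2, 9] p = path g [9, 2, 9] p :=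
  scan (u := [9]) (w := [4, 6]) (i := 1) (r14_0_3 H) (step (f122 H) rfl) (step (H.back (i := 9) (by decide) (f122 H)) (step (H.back (i := 1) (by decide) (f36 H)) rfl))

theorem f125 : g 6 • path g [9, 2, 9] p = path g [9, 2, 9] p :=
  H.back (i := 1) (by decide) (f124 H)

theorem f126 : g 8 • path g [9, 2] p = path g [9, 2, 8] p :=
  rfl

theorem f127 : g 3 • path g [9, 2, 8] p = path g [9, 2] p :=
  H.back (i := 8) (by decide) (f126 H)

theorem f128 : g 5 • path g [9, 2] p = path g [9, 2, 5] p :=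
  rfl

theorem f129 : g 0 • path g [9, 2, 5] p = path g [9, 2] p :=
  H.back (i := 5) (by decide) (f128 H)

theorem f130 : g 5 • path g [9, 2, 5] p = path g [9, 2] p :=
  scan (u := [5]) (w := []) (i := 5) (r0_1_0 H) (step (f128 H) rfl) rfl

theorem f131 : g 0 • path g [9, 2] p = path g [9, 2, 5] p :=
  H.back (i := 5) (by decide) (f130 H)

theorem f132 : g 3 • path g [9, 2] p = path g [9, 2, 3] p :=
  rfl

theorem f133 : g 8 • path g [9, 2, 3] p = path g [9, 2] p :=
  H.back (i := 3) (by decide) (f132 H)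

theorem f134 : g 3 • path g [9, 2, 3] p = path g [9, 2, 8] p :=
  scan (u := [3]) (w := [3]) (i := 3) (r6_0_0 H) (step (f132 H) rfl) (step (H.back (i := 8) (by decide) (f126 H)) rfl)

theorem f136 : g 4 • path g [9, 2] p = path g [9, 2, 4] p :=
  rfl

theorem f138 : g 4 • path g [9, 2, 4] p = path g [9, 2, 9] p :=
  scan (u := [4]) (w := [4]) (i := 4) (r10_0_0 H) (step (f136 H) rfl) (step (H.back (i := 9) (by decide) (f122 H)) rfl)

theorem f140 : g 6 • path g [9, 2, 4] p = path g [9, 2, 4] p :=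
  scan (u := [4]) (w := [9, 1]) (i := 6) (r14_0_1 H) (step (f136 H) rfl) (step (H.back (i := 4) (by decide) (f136 H)) (step (H.back (i := 6) (by decide) (f37 H)) rfl))

theorem f141 : g 1 • path g [9, 2, 4] p = path g [9, 2, 4] p :=
  H.back (i := 6) (by decide) (f140 H)

theorem f142 : g 9 • path g [9, 3] p = path g [9, 3, 9] p :=
  rfl

theorem f143 : g 4 • path g [9, 3, 9] p = path g [9, 3] p :=
  H.back (i := 9) (by decide) (f142 H)

theorem f144 : g 9 • path g [9, 3, 9] p = path g [4, 8] p :=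
  scan (u := [9]) (w := [9]) (i := 9) (r10_1_0 H) (step (f142 H) rfl) (step (H.back (i := 4) (by decide) (f95 H)) rfl)

theorem f145 : g 4 • path g [4, 8] p = path g [9, 3, 9] p :=
  H.back (i := 9) (by decide) (f144 H)

theorem f146 : g 8 • path g [9, 3, 9] p = path g [3, 9] p :=
  scan (u := [9]) (w := [9, 8]) (i := 8) (r15_1_1 H) (step (f142 H) rfl) (step (H.back (i := 4) (by decide) (f73 H)) (step (H.back (i := 3) (by decide) (f40 H)) rfl))

theorem f147 : g 3 • path g [3, 9] p = path g [9, 3, 9] p :=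
  H.back (i := 8) (by decide) (f146 H)

theorem f148 : g 8 • path g [8, 4] p = path g [9, 3, 9] p :=
  scan (u := [8, 8]) (w := []) (i := 8) (r6_1_0 H) (step (f146 H) (step (f74 H) rfl)) rfl

theorem f149 : g 3 • path g [9, 3, 9] p = path g [8, 4] p :=
  H.back (i := 8) (by decide) (f148 H)

theorem f150 : g 2 • path g [9, 3] p = path g [9, 3, 2] p :=
  rfl

theorem f151 : g 7 • path g [9, 3, 2] p = path g [9, 3] p :=
  H.back (i := 2) (by decide) (f150 H)

theorem f152 : g 2 • path g [9, 3, 2] p = path g [9, 3] p :=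
  scan (u := [2]) (w := []) (i := 2) (r2_0_0 H) (step (f150 H) rfl) rfl

theorem f153 : g 7 • path g [9, 3] p = path g [9, 3, 2] p :=
  H.back (i := 2) (by decide) (f152 H)

theorem f154 : g 5 • path g [9, 3] p = path g [9, 3, 5] p :=
  rfl

theorem f155 : g 0 • path g [9, 3, 5] p = path g [9, 3] p :=
  H.back (i := 5) (by decide) (f154 H)

theorem f156 : g 5 • path g [9, 3, 5] p = path g [9, 3] p :=
  scan (u := [5]) (w := []) (i := 5) (r0_1_0 H) (step (f154 H) rfl) rfl

theorem f157 : g 0 • path g [9, 3] p = path g [9, 3, 5] p :=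
  H.back (i := 5) (by decide) (f156 H)

theorem f158 : g 6 • path g [9, 3] p = path g [9, 3, 6] p :=
  rfl

theorem f159 : g 1 • path g [9, 3, 6] p = path g [9, 3] p :=
  H.back (i := 6) (by decide) (f158 H)

theorem f160 : g 1 • path g [9, 3] p = path g [9, 3, 1] p :=
  rfl

theorem f162 : g 1 • path g [9, 3, 1] p = path g [9, 3, 6] p :=
  scan (u := [1]) (w := [1]) (i := 1) (r1_0_0 H) (step (f160 H) rfl) (step (H.back (i := 6) (by decide) (f158 H)) rfl)

theorem f163 : g 6 • path g [9, 3, 6] p = path g [9, 3, 1] p :=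
  H.back (i := 1) (by decide) (f162 H)

theorem f164 : g 2 • path g [8, 9] p = path g [8, 9, 2] p :=
  rfl

theorem f165 : g 7 • path g [8, 9, 2] p = path g [8, 9] p :=
  H.back (i := 2) (by decide) (f164 H)

theorem f166 : g 2 • path g [8, 9, 2] p = path g [8, 9] p :=
  scan (u := [2]) (w := []) (i := 2) (r2_0_0 H) (step (f164 H) rfl) rfl

theorem f167 : g 7 • path g [8, 9] p = path g [8, 9, 2] p :=
  H.back (i := 2) (by decide) (f166 H)

theorem f168 : g 5 • path g [8, 9] p = path g [8, 9, 5] p :=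
  rfl

theorem f169 : g 0 • path g [8, 9, 5] p = path g [8, 9] p :=
  H.back (i := 5) (by decide) (f168 H)

theorem f170 : g 5 • path g [8, 9, 5] p = path g [8, 9] p :=
  scan (u := [5]) (w := []) (i := 5) (r0_1_0 H) (step (f168 H) rfl) rfl

theorem f171 : g 0 • path g [8, 9] p = path g [8, 9, 5] p :=
  H.back (i := 5) (by decide) (f170 H)

theorem f172 : g 4 • path g [8, 9, 5] p = path g [8, 5] p :=
  scan (u := [5]) (w := [0, 9]) (i := 4) (r13_1_1 H) (step (f168 H) rfl) (step (H.back (i := 5) (by decide) (f46 H)) (step (H.back (i := 4) (by decide) (f43 H)) rfl))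

theorem f173 : g 9 • path g [8, 5] p = path g [8, 9, 5] p :=
  H.back (i := 4) (by decide) (f172 H)

theorem f174 : g 6 • path g [8, 9] p = path g [8, 9, 6] p :=
  rfl

theorem f175 : g 1 • path g [8, 9, 6] p = path g [8, 9] p :=
  H.back (i := 6) (by decide) (f174 H)

theorem f176 : g 4 • path g [8, 9, 6] p = path g [8, 6] p :=
  scan (u := [6]) (w := [1, 9]) (i := 4) (r14_1_3 H) (step (f174 H) rfl) (step (H.back (i := 6) (by decide) (f52 H)) (step (H.back (i := 4) (by decide) (f43 H)) rfl))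

theorem f177 : g 9 • path g [8, 6] p = path g [8, 9, 6] p :=
  H.back (i := 4) (by decide) (f176 H)

theorem f178 : g 0 • path g [8, 9, 6] p = path g [8, 9, 6] p :=
  scan (u := [4, 5, 9]) (w := []) (i := 0) (r13_0_3 H) (step (f176 H) (step (f61 H) (step (f177 H) rfl))) rfl

theorem f179 : g 5 • path g [8, 9, 6] p = path g [8, 9, 6] p :=
  H.back (i := 0) (by decide) (f178 H)

theorem f180 : g 1 • path g [8, 9] p = path g [8, 9, 1] p :=
  rfl

theorem f181 : g 6 • path g [8, 9, 1] p = path g [8, 9] p :=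
  H.back (i := 1) (by decide) (f180 H)

theorem f182 : g 1 • path g [8, 9, 1] p = path g [8, 9, 6] p :=
  scan (u := [1]) (w := [1]) (i := 1) (r1_0_0 H) (step (f180 H) rfl) (step (H.back (i := 6) (by decide) (f174 H)) rfl)

theorem f183 : g 6 • path g [8, 9, 6] p = path g [8, 9, 1] p :=
  H.back (i := 1) (by decide) (f182 H)

theorem f184 : g 4 • path g [8, 9, 1] p = path g [8, 1] p :=
  scan (u := [1]) (w := [6, 9]) (i := 4) (r14_0_0 H) (step (f180 H) rfl) (step (H.back (i := 1) (by decide) (f54 H)) (step (H.back (i := 4) (by decide) (f43 H)) rfl))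

theorem f185 : g 9 • path g [8, 1] p = path g [8, 9, 1] p :=
  H.back (i := 4) (by decide) (f184 H)

theorem f186 : g 8 • path g [8, 5] p = path g [8, 5, 8] p :=
  rfl

theorem f188 : g 3 • path g [8, 5] p = path g [8, 5, 3] p :=
  rfl

theorem f189 : g 8 • path g [8, 5, 3] p = path g [8, 5] p :=
  H.back (i := 3) (by decide) (f188 H)

theorem f190 : g 3 • path g [8, 5, 3] p = path g [8, 5, 8] p :=
  scan (u := [3]) (w := [3]) (i := 3) (r6_0_0 H) (step (f188 H) rfl) (step (H.back (i := 8) (by decide) (f186 H)) rfl)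

theorem f191 : g 8 • path g [8, 5, 8] p = path g [8, 5, 3] p :=
  H.back (i := 3) (by decide) (f190 H)

theorem f192 : g 6 • path g [8, 5] p = path g [8, 5, 6] p :=
  rfl

theorem f193 : g 1 • path g [8, 5, 6] p = path g [8, 5] p :=
  H.back (i := 6) (by decide) (f192 H)

theorem f194 : g 1 • path g [8, 5] p = path g [8, 5, 1] p :=
  rfl

theorem f195 : g 6 • path g [8, 5, 1] p = path g [8, 5] p :=
  H.back (i := 1) (by decide) (f194 H)

theorem f196 : g 1 • path g [8, 5, 1] p = path g [8, 5, 6] p :=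
  scan (u := [1]) (w := [1]) (i := 1) (r1_0_0 H) (step (f194 H) rfl) (step (H.back (i := 6) (by decide) (f192 H)) rfl)

theorem f198 : g 2 • path g [8, 5, 1] p = path g [8, 5, 6] p :=
  scan (u := [1]) (w := [1, 2]) (i := 2) (r3_0_0 H) (step (f194 H) rfl) (step (H.back (i := 6) (by decide) (f192 H)) (step (H.back (i := 7) (by decide) (f50 H)) rfl))

theorem f200 : g 0 • path g [8, 5, 1] p = path g [8, 1] p :=
  scan (u := [1]) (w := [1, 0, 6, 6, 0]) (i := 0) (r4_0_4 H) (step (f194 H) rfl) (step (H.back (i := 6) (by decide) (f57 H)) (step (H.back (i := 5) (by decide) (f61 H)) (step (H.back (i := 1) (by decide) (f56 H)) (step (H.back (i := 1) (by decide) (f54 H)) (step (H.back (i := 5) (by decide) (f48 H)) rfl)))))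

theorem f201 : g 5 • path g [8, 1] p = path g [8, 5, 1] p :=
  H.back (i := 0) (by decide) (f200 H)

theorem f202 : g 2 • path g [8, 5, 6] p = path g [8, 5, 1] p :=
  scan (u := [1, 0, 2, 1, 0, 6]) (w := [0, 6, 2, 0, 2]) (i := 2) (r5_0_5 H) (step (f194 H) (step (f200 H) (step (f58 H) (step (f53 H) (step (f49 H) (step (f192 H) rfl)))))) (step (H.back (i := 5) (by decide) (f201 H)) (step (H.back (i := 1) (by decide) (f54 H)) (step (H.back (i := 7) (by decide) (f15 H)) (step (H.back (i := 5) (by decide) (f48 H)) (step (H.back (i := 7) (by decide) (f50 H)) rfl)))))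

theorem f203 : g 7 • path g [8, 5, 1] p = path g [8, 5, 6] p :=
  H.back (i := 2) (by decide) (f202 H)

theorem f204 : g 0 • path g [8, 1] p = path g [8, 5, 1] p :=
  scan (u := [0]) (w := []) (i := 0) (r0_0_0 H) (step (f200 H) rfl) rfl

theorem f205 : g 5 • path g [8, 5, 1] p = path g [8, 1] p :=
  H.back (i := 0) (by decide) (f204 H)

theorem f206 : g 0 • path g [8, 5, 6] p = path g [8, 5, 6] p :=
  scan (u := [0, 6, 6]) (w := [1, 0, 1]) (i := 0) (r4_0_0 H) (step (f204 H) (step (f195 H) (step (f192 H) rfl))) (step (H.back (i := 6) (by decide) (f192 H)) (step (H.back (i := 5) (by decide) (f46 H)) (step (H.back (i := 6) (by decide) (f55 H)) rfl)))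

theorem f207 : g 5 • path g [8, 5, 6] p = path g [8, 5, 6] p :=
  H.back (i := 0) (by decide) (f206 H)

theorem f208 : g 7 • path g [3, 5] p = path g [3, 5] p :=
  scan (u := [0, 2, 1, 0, 8, 7, 5]) (w := [5, 3, 1]) (i := 7) (r8_1_3 H) (step (f204 H) (step (f198 H) (step (f193 H) (step (f47 H) (step (f19 H) (step (f63 H) (step (f76 H) rfl))))))) (step (H.back (i := 0) (by decide) (f79 H)) (step (H.back (i := 8) (by decide) (f19 H)) (step (H.back (i := 6) (by decide) (f55 H)) rfl)))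

theorem f209 : g 2 • path g [3, 5] p = path g [3, 5] p :=
  H.back (i := 7) (by decide) (f208 H)

theorem f210 : g 5 • path g [3, 6] p = path g [3, 6] p :=
  scan (u := [0, 2, 0, 1, 0, 8, 6]) (w := [7, 6, 5, 7, 5, 3, 1]) (i := 5) (r9_1_13 H) (step (f204 H) (step (f198 H) (step (f206 H) (step (f193 H) (step (f47 H) (step (f19 H) (step (f80 H) rfl))))))) (step (H.back (i := 2) (by decide) (f86 H)) (step (H.back (i := 1) (by decide) (f82 H)) (step (H.back (i := 0) (by decide) (f77 H)) (step (H.back (i := 2) (by decide) (f209 H)) (step (H.back (i := 0) (by decide) (f79 H)) (step (H.back (i := 8) (by decide) (f19 H)) (step (H.back (i := 6) (by decide) (f55 H)) rfl)))))))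

theorem f211 : g 0 • path g [3, 6] p = path g [3, 6] p :=
  H.back (i := 5) (by decide) (f210 H)

theorem f212 : g 0 • path g [9, 8, 6] p = path g [9, 8, 6] p :=
  scan (u := [5, 4]) (w := [9]) (i := 0) (r13_1_1 H) (step (f210 H) (step (f115 H) rfl)) (step (H.back (i := 4) (by decide) (f115 H)) rfl)

theorem f213 : g 5 • path g [9, 8, 6] p = path g [9, 8, 6] p :=
  H.back (i := 0) (by decide) (f212 H)

theorem f216 : g 4 • path g [8, 5] p = path g [8, 5, 4] p :=
  rfl

theorem f218 : g 4 • path g [8, 5, 4] p = path g [8, 9, 5] p :=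
  scan (u := [4]) (w := [4]) (i := 4) (r10_0_0 H) (step (f216 H) rfl) (step (H.back (i := 9) (by decide) (f173 H)) rfl)

theorem f220 : g 5 • path g [8, 5, 4] p = path g [8, 4] p :=
  scan (u := [4]) (w := [9, 0]) (i := 5) (r13_0_3 H) (step (f216 H) rfl) (step (H.back (i := 4) (by decide) (f66 H)) (step (H.back (i := 5) (by decide) (f48 H)) rfl))

theorem f221 : g 0 • path g [8, 4] p = path g [8, 5, 4] p :=
  H.back (i := 5) (by decide) (f220 H)

theorem f222 : g 0 • path g [8, 5, 4] p = path g [8, 4] p :=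
  scan (u := [4]) (w := [9, 5]) (i := 0) (r13_1_2 H) (step (f216 H) rfl) (step (H.back (i := 4) (by decide) (f66 H)) (step (H.back (i := 0) (by decide) (f47 H)) rfl))

theorem f223 : g 5 • path g [8, 4] p = path g [8, 5, 4] p :=
  H.back (i := 0) (by decide) (f222 H)

theorem f224 : g 8 • path g [8, 6] p = path g [8, 6, 8] p :=
  rfl

theorem f225 : g 3 • path g [8, 6, 8] p = path g [8, 6] p :=
  H.back (i := 8) (by decide) (f224 H)

theorem f226 : g 2 • path g [8, 6, 8] p = path g [8, 6, 8] p :=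
  scan (u := [8]) (w := [3, 6, 5, 7, 6, 5, 7, 5]) (i := 2) (r7_0_9 H) (step (f224 H) rfl) (step (H.back (i := 8) (by decide) (f224 H)) (step (H.back (i := 1) (by decide) (f56 H)) (step (H.back (i := 0) (by decide) (f200 H)) (step (H.back (i := 2) (by decide) (f202 H)) (step (H.back (i := 1) (by decide) (f196 H)) (step (H.back (i := 0) (by decide) (f204 H)) (step (H.back (i := 2) (by decide) (f64 H)) (step (H.back (i := 0) (by decide) (f60 H)) rfl))))))))

theorem f227 : g 7 • path g [8, 6, 8] p = path g [8, 6, 8] p :=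
  H.back (i := 2) (by decide) (f226 H)

theorem f228 : g 3 • path g [8, 6] p = path g [8, 6, 3] p :=
  rfl

theorem f229 : g 8 • path g [8, 6, 3] p = path g [8, 6] p :=
  H.back (i := 3) (by decide) (f228 H)

theorem f230 : g 3 • path g [8, 6, 3] p = path g [8, 6, 8] p :=
  scan (u := [3]) (w := [3]) (i := 3) (r6_0_0 H) (step (f228 H) rfl) (step (H.back (i := 8) (by decide) (f224 H)) rfl)

theorem f231 : g 8 • path g [8, 6, 8] p = path g [8, 6, 3] p :=
  H.back (i := 3) (by decide) (f230 H)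

theorem f232 : g 4 • path g [8, 6] p = path g [8, 6, 4] p :=
  rfl

theorem f234 : g 4 • path g [8, 6, 4] p = path g [8, 9, 6] p :=
  scan (u := [4]) (w := [4]) (i := 4) (r10_0_0 H) (step (f232 H) rfl) (step (H.back (i := 9) (by decide) (f177 H)) rfl)

theorem f236 : g 5 • path g [8, 6, 4] p = path g [8, 6, 4] p :=
  scan (u := [4]) (w := [9, 0]) (i := 5) (r13_0_3 H) (step (f232 H) rfl) (step (H.back (i := 4) (by decide) (f232 H)) (step (H.back (i := 5) (by decide) (f61 H)) rfl))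

theorem f237 : g 0 • path g [8, 6, 4] p = path g [8, 6, 4] p :=
  H.back (i := 5) (by decide) (f236 H)

theorem f238 : g 1 • path g [8, 6, 4] p = path g [8, 4] p :=
  scan (u := [4]) (w := [9, 6]) (i := 1) (r14_1_0 H) (step (f232 H) rfl) (step (H.back (i := 4) (by decide) (f66 H)) (step (H.back (i := 1) (by decide) (f53 H)) rfl))

theorem f239 : g 6 • path g [8, 4] p = path g [8, 6, 4] p :=
  H.back (i := 1) (by decide) (f238 H)

theorem f240 : g 8 • path g [8, 1] p = path g [8, 1, 8] p :=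
  rfl

theorem f241 : g 3 • path g [8, 1, 8] p = path g [8, 1] p :=
  H.back (i := 8) (by decide) (f240 H)

theorem f242 : g 2 • path g [8, 1, 8] p = path g [8, 1, 8] p :=
  scan (u := [8]) (w := [3, 6, 5, 7, 6, 5, 7, 5]) (i := 2) (r7_0_9 H) (step (f240 H) rfl) (step (H.back (i := 8) (by decide) (f240 H)) (step (H.back (i := 1) (by decide) (f54 H)) (step (H.back (i := 0) (by decide) (f47 H)) (step (H.back (i := 2) (by decide) (f51 H)) (step (H.back (i := 1) (by decide) (f193 H)) (step (H.back (i := 0) (by decide) (f206 H)) (step (H.back (i := 2) (by decide) (f198 H)) (step (H.back (i := 0) (by decide) (f204 H)) rfl))))))))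

theorem f243 : g 7 • path g [8, 1, 8] p = path g [8, 1, 8] p :=
  H.back (i := 2) (by decide) (f242 H)

theorem f244 : g 3 • path g [8, 1] p = path g [8, 1, 3] p :=
  rfl

theorem f246 : g 3 • path g [8, 1, 3] p = path g [8, 1, 8] p :=
  scan (u := [3]) (w := [3]) (i := 3) (r6_0_0 H) (step (f244 H) rfl) (step (H.back (i := 8) (by decide) (f240 H)) rfl)

theorem f247 : g 8 • path g [8, 1, 8] p = path g [8, 1, 3] p :=
  H.back (i := 3) (by decide) (f246 H)

theorem f248 : g 4 • path g [8, 1] p = path g [8, 1, 4] p :=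
  rfl

theorem f250 : g 4 • path g [8, 1, 4] p = path g [8, 9, 1] p :=
  scan (u := [4]) (w := [4]) (i := 4) (r10_0_0 H) (step (f248 H) rfl) (step (H.back (i := 9) (by decide) (f185 H)) rfl)

theorem f252 : g 6 • path g [8, 1, 4] p = path g [8, 4] p :=
  scan (u := [4]) (w := [9, 1]) (i := 6) (r14_0_1 H) (step (f248 H) rfl) (step (H.back (i := 4) (by decide) (f66 H)) (step (H.back (i := 6) (by decide) (f55 H)) rfl))

theorem f253 : g 1 • path g [8, 4] p = path g [8, 1, 4] p :=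
  H.back (i := 6) (by decide) (f252 H)

theorem f254 : g 1 • path g [8, 1, 4] p = path g [8, 6, 4] p :=
  scan (u := [4]) (w := [9, 6]) (i := 1) (r14_1_0 H) (step (f248 H) rfl) (step (H.back (i := 4) (by decide) (f232 H)) (step (H.back (i := 1) (by decide) (f56 H)) rfl))

theorem f255 : g 6 • path g [8, 6, 4] p = path g [8, 1, 4] p :=
  H.back (i := 1) (by decide) (f254 H)

theorem f256 : g 2 • path g [8, 4] p = path g [8, 4, 2] p :=
  rfl

theorem f257 : g 7 • path g [8, 4, 2] p = path g [8, 4] p :=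
  H.back (i := 2) (by decide) (f256 H)

theorem f258 : g 2 • path g [8, 4, 2] p = path g [8, 4] p :=
  scan (u := [2]) (w := []) (i := 2) (r2_0_0 H) (step (f256 H) rfl) rfl

theorem f259 : g 7 • path g [8, 4] p = path g [8, 4, 2] p :=
  H.back (i := 2) (by decide) (f258 H)

theorem f260 : g 2 • path g [3, 9] p = path g [3, 9, 2] p :=
  rfl

theorem f261 : g 7 • path g [3, 9, 2] p = path g [3, 9] p :=
  H.back (i := 2) (by decide) (f260 H)

theorem f262 : g 2 • path g [3, 9, 2] p = path g [3, 9] p :=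
  scan (u := [2]) (w := []) (i := 2) (r2_0_0 H) (step (f260 H) rfl) rfl

theorem f263 : g 7 • path g [3, 9] p = path g [3, 9, 2] p :=
  H.back (i := 2) (by decide) (f262 H)

theorem f264 : g 5 • path g [3, 9] p = path g [3, 9, 5] p :=
  rfl

theorem f265 : g 0 • path g [3, 9, 5] p = path g [3, 9] p :=
  H.back (i := 5) (by decide) (f264 H)

theorem f266 : g 5 • path g [3, 9, 5] p = path g [3, 9] p :=
  scan (u := [5]) (w := []) (i := 5) (r0_1_0 H) (step (f264 H) rfl) rfl

theorem f267 : g 0 • path g [3, 9] p = path g [3, 9, 5] p :=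
  H.back (i := 5) (by decide) (f266 H)

theorem f268 : g 9 • path g [3, 9, 5] p = path g [9, 8, 5] p :=
  scan (u := [5]) (w := [0, 4]) (i := 9) (r13_0_0 H) (step (f264 H) rfl) (step (H.back (i := 5) (by decide) (f106 H)) (step (H.back (i := 9) (by decide) (f72 H)) rfl))

theorem f270 : g 4 • path g [3, 9, 5] p = path g [3, 5] p :=
  scan (u := [5]) (w := [0, 9]) (i := 4) (r13_1_1 H) (step (f264 H) rfl) (step (H.back (i := 5) (by decide) (f76 H)) (step (H.back (i := 4) (by decide) (f71 H)) rfl))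

theorem f272 : g 6 • path g [3, 9] p = path g [3, 9, 6] p :=
  rfl

theorem f273 : g 1 • path g [3, 9, 6] p = path g [3, 9] p :=
  H.back (i := 6) (by decide) (f272 H)

theorem f274 : g 9 • path g [3, 9, 6] p = path g [9, 8, 6] p :=
  scan (u := [6]) (w := [1, 4]) (i := 9) (r14_0_2 H) (step (f272 H) rfl) (step (H.back (i := 6) (by decide) (f112 H)) (step (H.back (i := 9) (by decide) (f72 H)) rfl))

theorem f275 : g 4 • path g [9, 8, 6] p = path g [3, 9, 6] p :=
  H.back (i := 9) (by decide) (f274 H)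

theorem f276 : g 4 • path g [3, 9, 6] p = path g [3, 6] p :=
  scan (u := [6]) (w := [1, 9]) (i := 4) (r14_1_3 H) (step (f272 H) rfl) (step (H.back (i := 6) (by decide) (f80 H)) (step (H.back (i := 4) (by decide) (f71 H)) rfl))

theorem f277 : g 9 • path g [3, 6] p = path g [3, 9, 6] p :=
  H.back (i := 4) (by decide) (f276 H)

theorem f278 : g 0 • path g [3, 9, 6] p = path g [3, 9, 6] p :=
  scan (u := [4, 5, 9]) (w := []) (i := 0) (r13_0_3 H) (step (f276 H) (step (f210 H) (step (f277 H) rfl))) rfl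

theorem f279 : g 5 • path g [3, 9, 6] p = path g [3, 9, 6] p :=
  H.back (i := 0) (by decide) (f278 H)

theorem f280 : g 1 • path g [3, 9] p = path g [3, 9, 1] p :=
  rfl

theorem f282 : g 1 • path g [3, 9, 1] p = path g [3, 9, 6] p :=
  scan (u := [1]) (w := [1]) (i := 1) (r1_0_0 H) (step (f280 H) rfl) (step (H.back (i := 6) (by decide) (f272 H)) rfl)

theorem f283 : g 6 • path g [3, 9, 6] p = path g [3, 9, 1] p :=
  H.back (i := 1) (by decide) (f282 H)

theorem f284 : g 4 • path g [3, 9, 1] p = path g [3, 1] p :=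
  scan (u := [1]) (w := [6, 9]) (i := 4) (r14_0_0 H) (step (f280 H) rfl) (step (H.back (i := 1) (by decide) (f82 H)) (step (H.back (i := 4) (by decide) (f71 H)) rfl))

theorem f286 : g 9 • path g [3, 9, 1] p = path g [9, 8, 1] p :=
  scan (u := [1]) (w := [6, 4]) (i := 9) (r14_1_1 H) (step (f280 H) rfl) (step (H.back (i := 1) (by decide) (f116 H)) (step (H.back (i := 9) (by decide) (f72 H)) rfl))

theorem f287 : g 4 • path g [9, 8, 1] p = path g [3, 9, 1] p :=
  H.back (i := 9) (by decide) (f286 H)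

theorem f288 : g 8 • path g [3, 5] p = path g [3, 5, 8] p :=
  rfl

theorem f290 : g 3 • path g [3, 5] p = path g [3, 5, 3] p :=
  rfl

theorem f292 : g 3 • path g [3, 5, 3] p = path g [3, 5, 8] p :=
  scan (u := [3]) (w := [3]) (i := 3) (r6_0_0 H) (step (f290 H) rfl) (step (H.back (i := 8) (by decide) (f288 H)) rfl)

theorem f293 : g 8 • path g [3, 5, 8] p = path g [3, 5, 3] p :=
  H.back (i := 3) (by decide) (f292 H)

theorem f294 : g 6 • path g [3, 5] p = path g [3, 5, 6] p :=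
  rfl

theorem f295 : g 1 • path g [3, 5, 6] p = path g [3, 5] p :=
  H.back (i := 6) (by decide) (f294 H)

theorem f296 : g 1 • path g [3, 5] p = path g [3, 5, 1] p :=
  rfl

theorem f297 : g 6 • path g [3, 5, 1] p = path g [3, 5] p :=
  H.back (i := 1) (by decide) (f296 H)

theorem f298 : g 1 • path g [3, 5, 1] p = path g [3, 5, 6] p :=
  scan (u := [1]) (w := [1]) (i := 1) (r1_0_0 H) (step (f296 H) rfl) (step (H.back (i := 6) (by decide) (f294 H)) rfl)

theorem f300 : g 2 • path g [3, 5, 1] p = path g [3, 5, 6] p :=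
  scan (u := [1]) (w := [1, 2]) (i := 2) (r3_0_0 H) (step (f296 H) rfl) (step (H.back (i := 6) (by decide) (f294 H)) (step (H.back (i := 7) (by decide) (f208 H)) rfl))

theorem f302 : g 0 • path g [3, 5, 1] p = path g [3, 1] p :=
  scan (u := [1]) (w := [1, 0, 6, 6, 0]) (i := 0) (r4_0_4 H) (step (f296 H) rfl) (step (H.back (i := 6) (by decide) (f85 H)) (step (H.back (i := 5) (by decide) (f210 H)) (step (H.back (i := 1) (by decide) (f84 H)) (step (H.back (i := 1) (by decide) (f82 H)) (step (H.back (i := 5) (by decide) (f78 H)) rfl)))))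

theorem f303 : g 5 • path g [3, 1] p = path g [3, 5, 1] p :=
  H.back (i := 0) (by decide) (f302 H)

theorem f304 : g 2 • path g [3, 5, 6] p = path g [3, 5, 1] p :=
  scan (u := [1, 0, 2, 1, 0, 6]) (w := [0, 6, 2, 0, 2]) (i := 2) (r5_0_5 H) (step (f296 H) (step (f302 H) (step (f86 H) (step (f81 H) (step (f79 H) (step (f294 H) rfl)))))) (step (H.back (i := 5) (by decide) (f303 H)) (step (H.back (i := 1) (by decide) (f82 H)) (step (H.back (i := 7) (by decide) (f63 H)) (step (H.back (i := 5) (by decide) (f78 H)) (step (H.back (i := 7) (by decide) (f208 H)) rfl)))))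

theorem f306 : g 0 • path g [3, 1] p = path g [3, 5, 1] p :=
  scan (u := [0]) (w := []) (i := 0) (r0_0_0 H) (step (f302 H) rfl) rfl

theorem f308 : g 0 • path g [3, 5, 6] p = path g [3, 5, 6] p :=
  scan (u := [0, 6, 6]) (w := [1, 0, 1]) (i := 0) (r4_0_0 H) (step (f306 H) (step (f297 H) (step (f294 H) rfl))) (step (H.back (i := 6) (by decide) (f294 H)) (step (H.back (i := 5) (by decide) (f76 H)) (step (H.back (i := 6) (by decide) (f83 H)) rfl)))

theorem f309 : g 5 • path g [3, 5, 6] p = path g [3, 5, 6] p :=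
  H.back (i := 0) (by decide) (f308 H)

theorem f312 : g 8 • path g [3, 6] p = path g [3, 6, 8] p :=
  rfl

theorem f313 : g 3 • path g [3, 6, 8] p = path g [3, 6] p :=
  H.back (i := 8) (by decide) (f312 H)

theorem f314 : g 2 • path g [3, 6, 8] p = path g [3, 6, 8] p :=
  scan (u := [8]) (w := [3, 6, 5, 7, 6, 5, 7, 5]) (i := 2) (r7_0_9 H) (step (f312 H) rfl) (step (H.back (i := 8) (by decide) (f312 H)) (step (H.back (i := 1) (by decide) (f84 H)) (step (H.back (i := 0) (by decide) (f302 H)) (step (H.back (i := 2) (by decide) (f304 H)) (step (H.back (i := 1) (by decide) (f298 H)) (step (H.back (i := 0) (by decide) (f306 H)) (step (H.back (i := 2) (by decide) (f88 H)) (step (H.back (i := 0) (by decide) (f211 H)) rfl))))))))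

theorem f315 : g 7 • path g [3, 6, 8] p = path g [3, 6, 8] p :=
  H.back (i := 2) (by decide) (f314 H)

theorem f316 : g 3 • path g [3, 6] p = path g [3, 6, 3] p :=
  rfl

theorem f317 : g 8 • path g [3, 6, 3] p = path g [3, 6] p :=
  H.back (i := 3) (by decide) (f316 H)

theorem f318 : g 3 • path g [3, 6, 3] p = path g [3, 6, 8] p :=
  scan (u := [3]) (w := [3]) (i := 3) (r6_0_0 H) (step (f316 H) rfl) (step (H.back (i := 8) (by decide) (f312 H)) rfl)

theorem f319 : g 8 • path g [3, 6, 8] p = path g [3, 6, 3] p :=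
  H.back (i := 3) (by decide) (f318 H)

theorem f320 : g 8 • path g [3, 1] p = path g [3, 1, 8] p :=
  rfl

theorem f321 : g 3 • path g [3, 1, 8] p = path g [3, 1] p :=
  H.back (i := 8) (by decide) (f320 H)

theorem f322 : g 2 • path g [3, 1, 8] p = path g [3, 1, 8] p :=
  scan (u := [8]) (w := [3, 6, 5, 7, 6, 5, 7, 5]) (i := 2) (r7_0_9 H) (step (f320 H) rfl) (step (H.back (i := 8) (by decide) (f320 H)) (step (H.back (i := 1) (by decide) (f82 H)) (step (H.back (i := 0) (by decide) (f77 H)) (step (H.back (i := 2) (by decide) (f209 H)) (step (H.back (i := 1) (by decide) (f295 H)) (step (H.back (i := 0) (by decide) (f308 H)) (step (H.back (i := 2) (by decide) (f300 H)) (step (H.back (i := 0) (by decide) (f306 H)) rfl))))))))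

theorem f323 : g 7 • path g [3, 1, 8] p = path g [3, 1, 8] p :=
  H.back (i := 2) (by decide) (f322 H)

theorem f324 : g 3 • path g [3, 1] p = path g [3, 1, 3] p :=
  rfl

theorem f325 : g 8 • path g [3, 1, 3] p = path g [3, 1] p :=
  H.back (i := 3) (by decide) (f324 H)

theorem f326 : g 3 • path g [3, 1, 3] p = path g [3, 1, 8] p :=
  scan (u := [3]) (w := [3]) (i := 3) (r6_0_0 H) (step (f324 H) rfl) (step (H.back (i := 8) (by decide) (f320 H)) rfl)

theorem f327 : g 8 • path g [3, 1, 8] p = path g [3, 1, 3] p :=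
  H.back (i := 3) (by decide) (f326 H)

theorem f328 : g 2 • path g [4, 8] p = path g [4, 8, 2] p :=
  rfl

theorem f329 : g 7 • path g [4, 8, 2] p = path g [4, 8] p :=
  H.back (i := 2) (by decide) (f328 H)

theorem f330 : g 2 • path g [4, 8, 2] p = path g [4, 8] p :=
  scan (u := [2]) (w := []) (i := 2) (r2_0_0 H) (step (f328 H) rfl) rfl

theorem f331 : g 7 • path g [4, 8] p = path g [4, 8, 2] p :=
  H.back (i := 2) (by decide) (f330 H)

theorem f332 : g 5 • path g [4, 8] p = path g [4, 8, 5] p :=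
  rfl

theorem f333 : g 0 • path g [4, 8, 5] p = path g [4, 8] p :=
  H.back (i := 5) (by decide) (f332 H)

theorem f334 : g 5 • path g [4, 8, 5] p = path g [4, 8] p :=
  scan (u := [5]) (w := []) (i := 5) (r0_1_0 H) (step (f332 H) rfl) rfl

theorem f335 : g 0 • path g [4, 8] p = path g [4, 8, 5] p :=
  H.back (i := 5) (by decide) (f334 H)

theorem f336 : g 9 • path g [4, 8, 5] p = path g [9, 3, 5] p :=
  scan (u := [5]) (w := [0, 4]) (i := 9) (r13_0_0 H) (step (f332 H) rfl) (step (H.back (i := 5) (by decide) (f154 H)) (step (H.back (i := 9) (by decide) (f94 H)) rfl))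

theorem f337 : g 4 • path g [9, 3, 5] p = path g [4, 8, 5] p :=
  H.back (i := 9) (by decide) (f336 H)

theorem f338 : g 6 • path g [4, 8] p = path g [4, 8, 6] p :=
  rfl

theorem f339 : g 1 • path g [4, 8, 6] p = path g [4, 8] p :=
  H.back (i := 6) (by decide) (f338 H)

theorem f340 : g 9 • path g [4, 8, 6] p = path g [9, 3, 6] p :=
  scan (u := [6]) (w := [1, 4]) (i := 9) (r14_0_2 H) (step (f338 H) rfl) (step (H.back (i := 6) (by decide) (f158 H)) (step (H.back (i := 9) (by decide) (f94 H)) rfl))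

theorem f341 : g 4 • path g [9, 3, 6] p = path g [4, 8, 6] p :=
  H.back (i := 9) (by decide) (f340 H)

theorem f342 : g 1 • path g [4, 8] p = path g [4, 8, 1] p :=
  rfl

theorem f343 : g 6 • path g [4, 8, 1] p = path g [4, 8] p :=
  H.back (i := 1) (by decide) (f342 H)

theorem f344 : g 1 • path g [4, 8, 1] p = path g [4, 8, 6] p :=
  scan (u := [1]) (w := [1]) (i := 1) (r1_0_0 H) (step (f342 H) rfl) (step (H.back (i := 6) (by decide) (f338 H)) rfl)

theorem f345 : g 6 • path g [4, 8, 6] p = path g [4, 8, 1] p :=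
  H.back (i := 1) (by decide) (f344 H)

theorem f346 : g 9 • path g [4, 8, 1] p = path g [9, 3, 1] p :=
  scan (u := [1]) (w := [6, 4]) (i := 9) (r14_1_1 H) (step (f342 H) rfl) (step (H.back (i := 1) (by decide) (f160 H)) (step (H.back (i := 9) (by decide) (f94 H)) rfl))

theorem f347 : g 4 • path g [9, 3, 1] p = path g [4, 8, 1] p :=
  H.back (i := 9) (by decide) (f346 H)

theorem f348 : g 9 • path g [4, 2] p = path g [4, 2, 9] p :=
  rfl

theorem f349 : g 4 • path g [4, 2, 9] p = path g [4, 2] p :=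
  H.back (i := 9) (by decide) (f348 H)

theorem f350 : g 1 • path g [4, 2, 9] p = path g [4, 2, 9] p :=
  scan (u := [9]) (w := [4, 6]) (i := 1) (r14_0_3 H) (step (f348 H) rfl) (step (H.back (i := 9) (by decide) (f348 H)) (step (H.back (i := 1) (by decide) (f100 H)) rfl))

theorem f351 : g 6 • path g [4, 2, 9] p = path g [4, 2, 9] p :=
  H.back (i := 1) (by decide) (f350 H)

theorem f352 : g 8 • path g [4, 2] p = path g [4, 2, 8] p :=
  rfl

theorem f353 : g 3 • path g [4, 2, 8] p = path g [4, 2] p :=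
  H.back (i := 8) (by decide) (f352 H)

theorem f354 : g 5 • path g [4, 2] p = path g [4, 2, 5] p :=
  rfl

theorem f355 : g 0 • path g [4, 2, 5] p = path g [4, 2] p :=
  H.back (i := 5) (by decide) (f354 H)

theorem f356 : g 5 • path g [4, 2, 5] p = path g [4, 2] p :=
  scan (u := [5]) (w := []) (i := 5) (r0_1_0 H) (step (f354 H) rfl) rfl

theorem f357 : g 0 • path g [4, 2] p = path g [4, 2, 5] p :=
  H.back (i := 5) (by decide) (f356 H)

theorem f358 : g 3 • path g [4, 2] p = path g [4, 2, 3] p :=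
  rfl

theorem f359 : g 8 • path g [4, 2, 3] p = path g [4, 2] p :=
  H.back (i := 3) (by decide) (f358 H)

theorem f360 : g 3 • path g [4, 2, 3] p = path g [4, 2, 8] p :=
  scan (u := [3]) (w := [3]) (i := 3) (r6_0_0 H) (step (f358 H) rfl) (step (H.back (i := 8) (by decide) (f352 H)) rfl)

theorem f361 : g 8 • path g [4, 2, 8] p = path g [4, 2, 3] p :=
  H.back (i := 3) (by decide) (f360 H)

theorem f362 : g 4 • path g [4, 2] p = path g [4, 2, 4] p :=
  rfl

theorem f364 : g 4 • path g [4, 2, 4] p = path g [4, 2, 9] p :=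
  scan (u := [4]) (w := [4]) (i := 4) (r10_0_0 H) (step (f362 H) rfl) (step (H.back (i := 9) (by decide) (f348 H)) rfl)

theorem f366 : g 6 • path g [4, 2, 4] p = path g [4, 2, 4] p :=
  scan (u := [4]) (w := [9, 1]) (i := 6) (r14_0_1 H) (step (f362 H) rfl) (step (H.back (i := 4) (by decide) (f362 H)) (step (H.back (i := 6) (by decide) (f101 H)) rfl))

theorem f367 : g 1 • path g [4, 2, 4] p = path g [4, 2, 4] p :=
  H.back (i := 6) (by decide) (f366 H)

theorem f368 : g 9 • path g [9, 8, 2] p = path g [9, 8, 2, 9] p :=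
  rfl

theorem f369 : g 4 • path g [9, 8, 2, 9] p = path g [9, 8, 2] p :=
  H.back (i := 9) (by decide) (f368 H)

theorem f370 : g 8 • path g [9, 8, 2] p = path g [9, 8, 2, 8] p :=
  rfl

theorem f371 : g 3 • path g [9, 8, 2, 8] p = path g [9, 8, 2] p :=
  H.back (i := 8) (by decide) (f370 H)

theorem f372 : g 5 • path g [9, 8, 2] p = path g [9, 8, 2, 5] p :=
  rfl

theorem f373 : g 0 • path g [9, 8, 2, 5] p = path g [9, 8, 2] p :=
  H.back (i := 5) (by decide) (f372 H)

theorem f374 : g 5 • path g [9, 8, 2, 5] p = path g [9, 8, 2] p :=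
  scan (u := [5]) (w := []) (i := 5) (r0_1_0 H) (step (f372 H) rfl) rfl

theorem f375 : g 0 • path g [9, 8, 2] p = path g [9, 8, 2, 5] p :=
  H.back (i := 5) (by decide) (f374 H)

theorem f376 : g 3 • path g [9, 8, 2] p = path g [9, 8, 2, 3] p :=
  rfl

theorem f377 : g 8 • path g [9, 8, 2, 3] p = path g [9, 8, 2] p :=
  H.back (i := 3) (by decide) (f376 H)

theorem f378 : g 3 • path g [9, 8, 2, 3] p = path g [9, 8, 2, 8] p :=
  scan (u := [3]) (w := [3]) (i := 3) (r6_0_0 H) (step (f376 H) rfl) (step (H.back (i := 8) (by decide) (f370 H)) rfl)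

theorem f380 : g 6 • path g [9, 8, 2] p = path g [9, 8, 2, 6] p :=
  rfl

theorem f381 : g 1 • path g [9, 8, 2, 6] p = path g [9, 8, 2] p :=
  H.back (i := 6) (by decide) (f380 H)

theorem f382 : g 7 • path g [9, 8, 2, 6] p = path g [9, 8, 1] p :=
  scan (u := [6]) (w := [6, 7]) (i := 7) (r3_1_1 H) (step (f380 H) rfl) (step (H.back (i := 1) (by decide) (f116 H)) (step (H.back (i := 2) (by decide) (f104 H)) rfl))

theorem f383 : g 2 • path g [9, 8, 1] p = path g [9, 8, 2, 6] p :=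
  H.back (i := 7) (by decide) (f382 H)

theorem f384 : g 7 • path g [9, 8, 1] p = path g [9, 8, 2, 6] p :=
  scan (u := [7]) (w := []) (i := 7) (r2_1_0 H) (step (f382 H) rfl) rfl

theorem f385 : g 2 • path g [9, 8, 2, 6] p = path g [9, 8, 1] p :=
  H.back (i := 7) (by decide) (f384 H)

theorem f386 : g 1 • path g [9, 8, 2] p = path g [9, 8, 2, 1] p :=
  rfl

theorem f387 : g 6 • path g [9, 8, 2, 1] p = path g [9, 8, 2] p :=
  H.back (i := 1) (by decide) (f386 H)

theorem f388 : g 1 • path g [9, 8, 2, 1] p = path g [9, 8, 2, 6] p :=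
  scan (u := [1]) (w := [1]) (i := 1) (r1_0_0 H) (step (f386 H) rfl) (step (H.back (i := 6) (by decide) (f380 H)) rfl)

theorem f389 : g 6 • path g [9, 8, 2, 6] p = path g [9, 8, 2, 1] p :=
  H.back (i := 1) (by decide) (f388 H)

theorem f390 : g 2 • path g [9, 8, 2, 1] p = path g [9, 8, 6] p :=
  scan (u := [1]) (w := [1, 2]) (i := 2) (r3_0_0 H) (step (f386 H) rfl) (step (H.back (i := 6) (by decide) (f112 H)) (step (H.back (i := 7) (by decide) (f103 H)) rfl))

theorem f391 : g 7 • path g [9, 8, 6] p = path g [9, 8, 2, 1] p :=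
  H.back (i := 2) (by decide) (f390 H)

theorem f392 : g 2 • path g [9, 8, 6] p = path g [9, 8, 2, 1] p :=
  scan (u := [2]) (w := []) (i := 2) (r2_0_0 H) (step (f390 H) rfl) rfl

theorem f393 : g 7 • path g [9, 8, 2, 1] p = path g [9, 8, 6] p :=
  H.back (i := 2) (by decide) (f392 H)

theorem f394 : g 4 • path g [9, 8, 2] p = path g [9, 8, 2, 4] p :=
  rfl

theorem f396 : g 4 • path g [9, 8, 2, 4] p = path g [9, 8, 2, 9] p :=
  scan (u := [4]) (w := [4]) (i := 4) (r10_0_0 H) (step (f394 H) rfl) (step (H.back (i := 9) (by decide) (f368 H)) rfl)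

theorem f398 : g 8 • path g [9, 8, 5] p = path g [9, 8, 5, 8] p :=
  rfl

theorem f400 : g 2 • path g [9, 8, 5] p = path g [9, 8, 5, 2] p :=
  rfl

theorem f402 : g 2 • path g [9, 8, 5, 2] p = path g [9, 8, 5] p :=
  scan (u := [2]) (w := []) (i := 2) (r2_0_0 H) (step (f400 H) rfl) rfl

theorem f404 : g 3 • path g [9, 8, 5] p = path g [9, 8, 5, 3] p :=
  rfl

theorem f406 : g 3 • path g [9, 8, 5, 3] p = path g [9, 8, 5, 8] p :=
  scan (u := [3]) (w := [3]) (i := 3) (r6_0_0 H) (step (f404 H) rfl) (step (H.back (i := 8) (by decide) (f398 H)) rfl)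

theorem f407 : g 8 • path g [9, 8, 5, 8] p = path g [9, 8, 5, 3] p :=
  H.back (i := 3) (by decide) (f406 H)

theorem f408 : g 4 • path g [9, 8, 5, 3] p = path g [3, 5, 8] p :=
  scan (u := [3]) (w := [3, 4]) (i := 4) (r15_0_1 H) (step (f404 H) rfl) (step (H.back (i := 8) (by decide) (f288 H)) (step (H.back (i := 9) (by decide) (f110 H)) rfl))

theorem f409 : g 9 • path g [3, 5, 8] p = path g [9, 8, 5, 3] p :=
  H.back (i := 4) (by decide) (f408 H)

theorem f410 : g 6 • path g [9, 8, 5] p = path g [9, 8, 5, 6] p :=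
  rfl

theorem f412 : g 9 • path g [9, 8, 5, 6] p = path g [3, 5, 6] p :=
  scan (u := [6]) (w := [1, 4]) (i := 9) (r14_0_2 H) (step (f410 H) rfl) (step (H.back (i := 6) (by decide) (f294 H)) (step (H.back (i := 9) (by decide) (f110 H)) rfl))

theorem f413 : g 4 • path g [3, 5, 6] p = path g [9, 8, 5, 6] p :=
  H.back (i := 9) (by decide) (f412 H)

theorem f414 : g 5 • path g [9, 8, 5, 6] p = path g [9, 8, 5, 6] p :=
  scan (u := [9, 0, 4]) (w := []) (i := 5) (r13_0_1 H) (step (f412 H) (step (f308 H) (step (f413 H) rfl))) rfl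

theorem f416 : g 1 • path g [9, 8, 5] p = path g [9, 8, 5, 1] p :=
  rfl

theorem f417 : g 6 • path g [9, 8, 5, 1] p = path g [9, 8, 5] p :=
  H.back (i := 1) (by decide) (f416 H)

theorem f418 : g 1 • path g [9, 8, 5, 1] p = path g [9, 8, 5, 6] p :=
  scan (u := [1]) (w := [1]) (i := 1) (r1_0_0 H) (step (f416 H) rfl) (step (H.back (i := 6) (by decide) (f410 H)) rfl)

theorem f419 : g 6 • path g [9, 8, 5, 6] p = path g [9, 8, 5, 1] p :=
  H.back (i := 1) (by decide) (f418 H)

theorem f420 : g 9 • path g [9, 8, 5, 1] p = path g [3, 5, 1] p :=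
  scan (u := [1]) (w := [6, 4]) (i := 9) (r14_1_1 H) (step (f416 H) rfl) (step (H.back (i := 1) (by decide) (f296 H)) (step (H.back (i := 9) (by decide) (f110 H)) rfl))

theorem f421 : g 4 • path g [3, 5, 1] p = path g [9, 8, 5, 1] p :=
  H.back (i := 9) (by decide) (f420 H)

theorem f422 : g 0 • path g [9, 8, 5, 1] p = path g [9, 8, 1] p :=
  scan (u := [1]) (w := [1, 0, 6, 6, 0]) (i := 0) (r4_0_4 H) (step (f416 H) rfl) (step (H.back (i := 6) (by decide) (f119 H)) (step (H.back (i := 5) (by decide) (f213 H)) (step (H.back (i := 1) (by decide) (f118 H)) (step (H.back (i := 1) (by decide) (f116 H)) (step (H.back (i := 5) (by decide) (f108 H)) rfl)))))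

theorem f423 : g 5 • path g [9, 8, 1] p = path g [9, 8, 5, 1] p :=
  H.back (i := 0) (by decide) (f422 H)

theorem f424 : g 5 • path g [9, 8, 5, 1] p = path g [9, 8, 1] p :=
  scan (u := [1, 1, 5, 6]) (w := [6, 5]) (i := 5) (r4_1_4 H) (step (f416 H) (step (f418 H) (step (f414 H) (step (f419 H) rfl)))) (step (H.back (i := 1) (by decide) (f116 H)) (step (H.back (i := 0) (by decide) (f107 H)) rfl))

theorem f425 : g 0 • path g [9, 8, 1] p = path g [9, 8, 5, 1] p :=
  H.back (i := 5) (by decide) (f424 H)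

theorem f426 : g 8 • path g [9, 8, 6] p = path g [9, 8, 6, 8] p :=
  rfl

theorem f427 : g 3 • path g [9, 8, 6, 8] p = path g [9, 8, 6] p :=
  H.back (i := 8) (by decide) (f426 H)

theorem f428 : g 3 • path g [9, 8, 6] p = path g [9, 8, 6, 3] p :=
  rfl

theorem f429 : g 8 • path g [9, 8, 6, 3] p = path g [9, 8, 6] p :=
  H.back (i := 3) (by decide) (f428 H)

theorem f430 : g 3 • path g [9, 8, 6, 3] p = path g [9, 8, 6, 8] p :=
  scan (u := [3]) (w := [3]) (i := 3) (r6_0_0 H) (step (f428 H) rfl) (step (H.back (i := 8) (by decide) (f426 H)) rfl)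

theorem f431 : g 8 • path g [9, 8, 6, 8] p = path g [9, 8, 6, 3] p :=
  H.back (i := 3) (by decide) (f430 H)

theorem f432 : g 4 • path g [9, 8, 6, 3] p = path g [3, 6, 8] p :=
  scan (u := [3]) (w := [3, 4]) (i := 4) (r15_0_1 H) (step (f428 H) rfl) (step (H.back (i := 8) (by decide) (f312 H)) (step (H.back (i := 9) (by decide) (f114 H)) rfl))

theorem f433 : g 9 • path g [3, 6, 8] p = path g [9, 8, 6, 3] p :=
  H.back (i := 4) (by decide) (f432 H)

theorem f434 : g 8 • path g [9, 8, 1] p = path g [9, 8, 1, 8] p :=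
  rfl

theorem f435 : g 3 • path g [9, 8, 1, 8] p = path g [9, 8, 1] p :=
  H.back (i := 8) (by decide) (f434 H)

theorem f436 : g 3 • path g [9, 8, 1] p = path g [9, 8, 1, 3] p :=
  rfl

theorem f437 : g 8 • path g [9, 8, 1, 3] p = path g [9, 8, 1] p :=
  H.back (i := 3) (by decide) (f436 H)

theorem f438 : g 3 • path g [9, 8, 1, 3] p = path g [9, 8, 1, 8] p :=
  scan (u := [3]) (w := [3]) (i := 3) (r6_0_0 H) (step (f436 H) rfl) (step (H.back (i := 8) (by decide) (f434 H)) rfl)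

theorem f439 : g 8 • path g [9, 8, 1, 8] p = path g [9, 8, 1, 3] p :=
  H.back (i := 3) (by decide) (f438 H)

theorem f440 : g 4 • path g [9, 8, 1, 3] p = path g [3, 1, 8] p :=
  scan (u := [3]) (w := [3, 4]) (i := 4) (r15_0_1 H) (step (f436 H) rfl) (step (H.back (i := 8) (by decide) (f320 H)) (step (H.back (i := 9) (by decide) (f120 H)) rfl))

theorem f441 : g 9 • path g [3, 1, 8] p = path g [9, 8, 1, 3] p :=
  H.back (i := 4) (by decide) (f440 H)

theorem f442 : g 8 • path g [9, 2, 9] p = path g [9, 2, 9, 8] p :=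
  rfl

theorem f443 : g 3 • path g [9, 2, 9, 8] p = path g [9, 2, 9] p :=
  H.back (i := 8) (by decide) (f442 H)

theorem f444 : g 9 • path g [9, 2, 9, 8] p = path g [9, 2, 3] p :=
  scan (u := [8]) (w := [8, 9]) (i := 9) (r15_1_0 H) (step (f442 H) rfl) (step (H.back (i := 3) (by decide) (f132 H)) (step (H.back (i := 4) (by decide) (f123 H)) rfl))

theorem f445 : g 4 • path g [9, 2, 3] p = path g [9, 2, 9, 8] p :=
  H.back (i := 9) (by decide) (f444 H)

theorem f446 : g 2 • path g [9, 2, 9] p = path g [9, 2, 9, 2] p :=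
  rfl

theorem f448 : g 2 • path g [9, 2, 9, 2] p = path g [9, 2, 9] p :=
  scan (u := [2]) (w := []) (i := 2) (r2_0_0 H) (step (f446 H) rfl) rfl

theorem f449 : g 7 • path g [9, 2, 9] p = path g [9, 2, 9, 2] p :=
  H.back (i := 2) (by decide) (f448 H)

theorem f450 : g 1 • path g [9, 2, 9, 2] p = path g [9, 2, 9, 2] p :=
  scan (u := [2]) (w := [2, 1]) (i := 1) (r3_0_1 H) (step (f446 H) rfl) (step (H.back (i := 7) (by decide) (f449 H)) (step (H.back (i := 6) (by decide) (f125 H)) rfl))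

theorem f452 : g 5 • path g [9, 2, 9] p = path g [9, 2, 9, 5] p :=
  rfl

theorem f453 : g 0 • path g [9, 2, 9, 5] p = path g [9, 2, 9] p :=
  H.back (i := 5) (by decide) (f452 H)

theorem f454 : g 5 • path g [9, 2, 9, 5] p = path g [9, 2, 9] p :=
  scan (u := [5]) (w := []) (i := 5) (r0_1_0 H) (step (f452 H) rfl) rfl

theorem f455 : g 0 • path g [9, 2, 9] p = path g [9, 2, 9, 5] p :=
  H.back (i := 5) (by decide) (f454 H)

theorem f456 : g 4 • path g [9, 2, 9, 5] p = path g [9, 2, 5] p :=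
  scan (u := [5]) (w := [0, 9]) (i := 4) (r13_1_1 H) (step (f452 H) rfl) (step (H.back (i := 5) (by decide) (f128 H)) (step (H.back (i := 4) (by decide) (f123 H)) rfl))

theorem f457 : g 9 • path g [9, 2, 5] p = path g [9, 2, 9, 5] p :=
  H.back (i := 4) (by decide) (f456 H)

theorem f458 : g 3 • path g [9, 2, 9] p = path g [9, 2, 9, 3] p :=
  rfl

theorem f459 : g 8 • path g [9, 2, 9, 3] p = path g [9, 2, 9] p :=
  H.back (i := 3) (by decide) (f458 H)

theorem f460 : g 3 • path g [9, 2, 9, 3] p = path g [9, 2, 9, 8] p :=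
  scan (u := [3]) (w := [3]) (i := 3) (r6_0_0 H) (step (f458 H) rfl) (step (H.back (i := 8) (by decide) (f442 H)) rfl)

theorem f461 : g 8 • path g [9, 2, 9, 8] p = path g [9, 2, 9, 3] p :=
  H.back (i := 3) (by decide) (f460 H)

theorem f462 : g 9 • path g [9, 2, 8] p = path g [9, 2, 8, 9] p :=
  rfl

theorem f463 : g 4 • path g [9, 2, 8, 9] p = path g [9, 2, 8] p :=
  H.back (i := 9) (by decide) (f462 H)

theorem f464 : g 8 • path g [9, 2, 8, 9] p = path g [9, 2, 4] p :=
  scan (u := [9]) (w := [9, 8]) (i := 8) (r15_1_1 H) (step (f462 H) rfl) (step (H.back (i := 4) (by decide) (f136 H)) (step (H.back (i := 3) (by decide) (f127 H)) rfl))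

theorem f465 : g 3 • path g [9, 2, 4] p = path g [9, 2, 8, 9] p :=
  H.back (i := 8) (by decide) (f464 H)

theorem f466 : g 2 • path g [9, 2, 8] p = path g [9, 2, 8, 2] p :=
  rfl

theorem f467 : g 7 • path g [9, 2, 8, 2] p = path g [9, 2, 8] p :=
  H.back (i := 2) (by decide) (f466 H)

theorem f468 : g 2 • path g [9, 2, 8, 2] p = path g [9, 2, 8] p :=
  scan (u := [2]) (w := []) (i := 2) (r2_0_0 H) (step (f466 H) rfl) rfl

theorem f470 : g 5 • path g [9, 2, 8] p = path g [9, 2, 8, 5] p :=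
  rfl

theorem f472 : g 5 • path g [9, 2, 8, 5] p = path g [9, 2, 8] p :=
  scan (u := [5]) (w := []) (i := 5) (r0_1_0 H) (step (f470 H) rfl) rfl

theorem f473 : g 0 • path g [9, 2, 8] p = path g [9, 2, 8, 5] p :=
  H.back (i := 5) (by decide) (f472 H)

theorem f474 : g 6 • path g [9, 2, 8] p = path g [9, 2, 8, 6] p :=
  rfl

theorem f475 : g 1 • path g [9, 2, 8, 6] p = path g [9, 2, 8] p :=
  H.back (i := 6) (by decide) (f474 H)

theorem f476 : g 1 • path g [9, 2, 8] p = path g [9, 2, 8, 1] p :=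
  rfl

theorem f477 : g 6 • path g [9, 2, 8, 1] p = path g [9, 2, 8] p :=
  H.back (i := 1) (by decide) (f476 H)

theorem f478 : g 1 • path g [9, 2, 8, 1] p = path g [9, 2, 8, 6] p :=
  scan (u := [1]) (w := [1]) (i := 1) (r1_0_0 H) (step (f476 H) rfl) (step (H.back (i := 6) (by decide) (f474 H)) rfl)

theorem f479 : g 6 • path g [9, 2, 8, 6] p = path g [9, 2, 8, 1] p :=
  H.back (i := 1) (by decide) (f478 H)

theorem f480 : g 4 • path g [9, 2, 8] p = path g [9, 2, 8, 4] p :=
  rfl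

theorem f482 : g 4 • path g [9, 2, 8, 4] p = path g [9, 2, 8, 9] p :=
  scan (u := [4]) (w := [4]) (i := 4) (r10_0_0 H) (step (f480 H) rfl) (step (H.back (i := 9) (by decide) (f462 H)) rfl)

theorem f483 : g 9 • path g [9, 2, 8, 9] p = path g [9, 2, 8, 4] p :=
  H.back (i := 4) (by decide) (f482 H)

theorem f484 : g 8 • path g [9, 2, 5] p = path g [9, 2, 5, 8] p :=
  rfl

theorem f485 : g 3 • path g [9, 2, 5, 8] p = path g [9, 2, 5] p :=
  H.back (i := 8) (by decide) (f484 H)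

theorem f486 : g 2 • path g [9, 2, 5] p = path g [9, 2, 5, 2] p :=
  rfl

theorem f487 : g 7 • path g [9, 2, 5, 2] p = path g [9, 2, 5] p :=
  H.back (i := 2) (by decide) (f486 H)

theorem f488 : g 2 • path g [9, 2, 5, 2] p = path g [9, 2, 5] p :=
  scan (u := [2]) (w := []) (i := 2) (r2_0_0 H) (step (f486 H) rfl) rfl

theorem f489 : g 7 • path g [9, 2, 5] p = path g [9, 2, 5, 2] p :=
  H.back (i := 2) (by decide) (f488 H)

theorem f490 : g 0 • path g [9, 8, 2, 3] p = path g [9, 2, 5, 2] p :=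
  scan (u := [2, 0, 1, 2, 0, 1, 8, 7, 3]) (w := []) (i := 0) (r7_1_2 H) (step (f488 H) (step (f129 H) (step (f36 H) (step (f34 H) (step (f8 H) (step (f10 H) (step (f28 H) (step (f105 H) (step (f376 H) rfl))))))))) rfl

theorem f491 : g 5 • path g [9, 2, 5, 2] p = path g [9, 8, 2, 3] p :=
  H.back (i := 0) (by decide) (f490 H)

theorem f492 : g 2 • path g [4, 2, 5] p = path g [9, 8, 2, 3] p :=
  scan (u := [2, 0, 2, 0, 4, 5, 7, 5, 7, 5, 7, 5, 7, 4, 2, 0]) (w := [0]) (i := 2) (r11_0_1 H) (step (f488 H) (step (f129 H) (step (f34 H) (step (f8 H) (step (f7 H) (step (f1 H) (step (f5 H) (step (f1 H) (step (f5 H) (step (f1 H) (step (f5 H) (step (f1 H) (step (f5 H) (step (f20 H) (step (f96 H) (step (f357 H) rfl)))))))))))))))) (step (H.back (i := 5) (by decide) (f491 H)) rfl)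

theorem f493 : g 7 • path g [9, 8, 2, 3] p = path g [4, 2, 5] p :=
  H.back (i := 2) (by decide) (f492 H)

theorem f494 : g 2 • path g [9, 8, 2, 3] p = path g [4, 2, 5] p :=
  scan (u := [2]) (w := []) (i := 2) (r2_0_0 H) (step (f492 H) rfl) rfl

theorem f495 : g 7 • path g [4, 2, 5] p = path g [9, 8, 2, 3] p :=
  H.back (i := 2) (by decide) (f494 H)

theorem f496 : g 5 • path g [9, 8, 2, 3] p = path g [9, 2, 5, 2] p :=
  scan (u := [2, 0, 2, 0, 2, 0, 9, 5, 7, 5, 7]) (w := [7, 5, 7, 9, 2, 0]) (i := 5) (r11_1_6 H) (step (f492 H) (step (f490 H) (step (f488 H) (step (f129 H) (step (f34 H) (step (f8 H) (step (f23 H) (step (f24 H) (step (f99 H) (step (f354 H) (step (f495 H) rfl))))))))))) (step (H.back (i := 2) (by decide) (f486 H)) (step (H.back (i := 0) (by decide) (f131 H)) (step (H.back (i := 2) (by decide) (f32 H)) (step (H.back (i := 4) (by decide) (f22 H)) (step (H.back (i := 7) (by decide) (f97 H)) (step (H.back (i := 5) (by decide) (f356 H)) rfl))))))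

theorem f497 : g 0 • path g [9, 2, 5, 2] p = path g [9, 8, 2, 3] p :=
  H.back (i := 5) (by decide) (f496 H)

theorem f498 : g 8 • path g [9, 2, 5, 2] p = path g [4, 8, 2] p :=
  scan (u := [5]) (w := [2, 3, 6, 5, 7, 6, 5, 7]) (i := 8) (r7_0_8 H) (step (f496 H) rfl) (step (H.back (i := 7) (by decide) (f331 H)) (step (H.back (i := 8) (by decide) (f90 H)) (step (H.back (i := 1) (by decide) (f27 H)) (step (H.back (i := 0) (by decide) (f25 H)) (step (H.back (i := 2) (by decide) (f98 H)) (step (H.back (i := 1) (by decide) (f100 H)) (step (H.back (i := 0) (by decide) (f355 H)) (step (H.back (i := 2) (by decide) (f494 H)) rfl))))))))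

theorem f499 : g 3 • path g [4, 8, 2] p = path g [9, 2, 5, 2] p :=
  H.back (i := 8) (by decide) (f498 H)

theorem f500 : g 3 • path g [9, 2, 5] p = path g [9, 2, 5, 3] p :=
  rfl

theorem f502 : g 3 • path g [9, 2, 5, 3] p = path g [9, 2, 5, 8] p :=
  scan (u := [3]) (w := [3]) (i := 3) (r6_0_0 H) (step (f500 H) rfl) (step (H.back (i := 8) (by decide) (f484 H)) rfl)

theorem f503 : g 8 • path g [9, 2, 5, 8] p = path g [9, 2, 5, 3] p :=
  H.back (i := 3) (by decide) (f502 H)

theorem f504 : g 6 • path g [9, 2, 5] p = path g [9, 2, 5, 6] p :=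
  rfl

theorem f505 : g 1 • path g [9, 2, 5, 6] p = path g [9, 2, 5] p :=
  H.back (i := 6) (by decide) (f504 H)

theorem f506 : g 1 • path g [9, 2, 5] p = path g [9, 2, 5, 1] p :=
  rfl

theorem f507 : g 6 • path g [9, 2, 5, 1] p = path g [9, 2, 5] p :=
  H.back (i := 1) (by decide) (f506 H)

theorem f508 : g 1 • path g [9, 2, 5, 1] p = path g [9, 2, 5, 6] p :=
  scan (u := [1]) (w := [1]) (i := 1) (r1_0_0 H) (step (f506 H) rfl) (step (H.back (i := 6) (by decide) (f504 H)) rfl)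

theorem f509 : g 6 • path g [9, 2, 5, 6] p = path g [9, 2, 5, 1] p :=
  H.back (i := 1) (by decide) (f508 H)

theorem f510 : g 0 • path g [9, 2, 5, 1] p = path g [9, 2, 5, 6] p :=
  scan (u := [1]) (w := [1, 0, 6, 6, 0]) (i := 0) (r4_0_4 H) (step (f506 H) rfl) (step (H.back (i := 6) (by decide) (f504 H)) (step (H.back (i := 5) (by decide) (f128 H)) (step (H.back (i := 1) (by decide) (f36 H)) (step (H.back (i := 1) (by decide) (f36 H)) (step (H.back (i := 5) (by decide) (f130 H)) rfl)))))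

theorem f511 : g 5 • path g [9, 2, 5, 6] p = path g [9, 2, 5, 1] p :=
  H.back (i := 0) (by decide) (f510 H)

theorem f512 : g 0 • path g [9, 2, 5, 6] p = path g [9, 2, 5, 1] p :=
  scan (u := [0]) (w := []) (i := 0) (r0_0_0 H) (step (f510 H) rfl) rfl

theorem f513 : g 5 • path g [9, 2, 5, 1] p = path g [9, 2, 5, 6] p :=
  H.back (i := 0) (by decide) (f512 H)

theorem f514 : g 4 • path g [9, 2, 5] p = path g [9, 2, 5, 4] p :=
  rfl

theorem f516 : g 4 • path g [9, 2, 5, 4] p = path g [9, 2, 9, 5] p :=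
  scan (u := [4]) (w := [4]) (i := 4) (r10_0_0 H) (step (f514 H) rfl) (step (H.back (i := 9) (by decide) (f457 H)) rfl)

theorem f518 : g 5 • path g [9, 2, 5, 4] p = path g [9, 2, 4] p :=
  scan (u := [4]) (w := [9, 0]) (i := 5) (r13_0_3 H) (step (f514 H) rfl) (step (H.back (i := 4) (by decide) (f136 H)) (step (H.back (i := 5) (by decide) (f130 H)) rfl))

theorem f519 : g 0 • path g [9, 2, 4] p = path g [9, 2, 5, 4] p :=
  H.back (i := 5) (by decide) (f518 H)

theorem f520 : g 0 • path g [9, 2, 5, 4] p = path g [9, 2, 4] p :=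
  scan (u := [4]) (w := [9, 5]) (i := 0) (r13_1_2 H) (step (f514 H) rfl) (step (H.back (i := 4) (by decide) (f136 H)) (step (H.back (i := 0) (by decide) (f129 H)) rfl))

theorem f521 : g 5 • path g [9, 2, 4] p = path g [9, 2, 5, 4] p :=
  H.back (i := 0) (by decide) (f520 H)

theorem f522 : g 9 • path g [9, 2, 3] p = path g [9, 2, 3, 9] p :=
  rfl

theorem f523 : g 4 • path g [9, 2, 3, 9] p = path g [9, 2, 3] p :=
  H.back (i := 9) (by decide) (f522 H)

theorem f524 : g 9 • path g [9, 2, 3, 9] p = path g [9, 2, 9, 8] p :=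
  scan (u := [9]) (w := [9]) (i := 9) (r10_1_0 H) (step (f522 H) rfl) (step (H.back (i := 4) (by decide) (f445 H)) rfl)

theorem f525 : g 4 • path g [9, 2, 9, 8] p = path g [9, 2, 3, 9] p :=
  H.back (i := 9) (by decide) (f524 H)

theorem f526 : g 8 • path g [9, 2, 3, 9] p = path g [9, 2, 8, 4] p :=
  scan (u := [9]) (w := [9, 8]) (i := 8) (r15_1_1 H) (step (f522 H) rfl) (step (H.back (i := 4) (by decide) (f480 H)) (step (H.back (i := 3) (by decide) (f134 H)) rfl))

theorem f527 : g 3 • path g [9, 2, 8, 4] p = path g [9, 2, 3, 9] p :=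
  H.back (i := 8) (by decide) (f526 H)

theorem f528 : g 2 • path g [9, 2, 3] p = path g [9, 2, 3, 2] p :=
  rfl

theorem f529 : g 7 • path g [9, 2, 3, 2] p = path g [9, 2, 3] p :=
  H.back (i := 2) (by decide) (f528 H)

theorem f530 : g 2 • path g [9, 2, 3, 2] p = path g [9, 2, 3] p :=
  scan (u := [2]) (w := []) (i := 2) (r2_0_0 H) (step (f528 H) rfl) rfl

theorem f531 : g 7 • path g [9, 2, 3] p = path g [9, 2, 3, 2] p :=
  H.back (i := 2) (by decide) (f530 H)

theorem f532 : g 5 • path g [9, 2, 3] p = path g [9, 2, 3, 5] p :=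
  rfl

theorem f534 : g 5 • path g [9, 2, 3, 5] p = path g [9, 2, 3] p :=
  scan (u := [5]) (w := []) (i := 5) (r0_1_0 H) (step (f532 H) rfl) rfl

theorem f535 : g 0 • path g [9, 2, 3] p = path g [9, 2, 3, 5] p :=
  H.back (i := 5) (by decide) (f534 H)

theorem f536 : g 6 • path g [9, 2, 3] p = path g [9, 2, 3, 6] p :=
  rfl

theorem f537 : g 1 • path g [9, 2, 3, 6] p = path g [9, 2, 3] p :=
  H.back (i := 6) (by decide) (f536 H)

theorem f538 : g 1 • path g [9, 2, 3] p = path g [9, 2, 3, 1] p :=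
  rfl

theorem f539 : g 6 • path g [9, 2, 3, 1] p = path g [9, 2, 3] p :=
  H.back (i := 1) (by decide) (f538 H)

theorem f540 : g 1 • path g [9, 2, 3, 1] p = path g [9, 2, 3, 6] p :=
  scan (u := [1]) (w := [1]) (i := 1) (r1_0_0 H) (step (f538 H) rfl) (step (H.back (i := 6) (by decide) (f536 H)) rfl)

theorem f541 : g 6 • path g [9, 2, 3, 6] p = path g [9, 2, 3, 1] p :=
  H.back (i := 1) (by decide) (f540 H)

theorem f542 : g 8 • path g [9, 2, 4] p = path g [9, 2, 4, 8] p :=
  rfl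

theorem f543 : g 3 • path g [9, 2, 4, 8] p = path g [9, 2, 4] p :=
  H.back (i := 8) (by decide) (f542 H)

theorem f544 : g 8 • path g [9, 2, 4, 8] p = path g [9, 2, 8, 9] p :=
  scan (u := [8]) (w := [8]) (i := 8) (r6_1_0 H) (step (f542 H) rfl) (step (H.back (i := 3) (by decide) (f465 H)) rfl)

theorem f545 : g 3 • path g [9, 2, 8, 9] p = path g [9, 2, 4, 8] p :=
  H.back (i := 8) (by decide) (f544 H)

theorem f546 : g 9 • path g [9, 2, 4, 8] p = path g [9, 2, 9, 3] p :=
  scan (u := [8]) (w := [8, 9]) (i := 9) (r15_1_0 H) (step (f542 H) rfl) (step (H.back (i := 3) (by decide) (f458 H)) (step (H.back (i := 4) (by decide) (f138 H)) rfl))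

theorem f547 : g 4 • path g [9, 2, 9, 3] p = path g [9, 2, 4, 8] p :=
  H.back (i := 9) (by decide) (f546 H)

theorem f548 : g 2 • path g [9, 2, 4] p = path g [9, 2, 4, 2] p :=
  rfl

theorem f550 : g 2 • path g [9, 2, 4, 2] p = path g [9, 2, 4] p :=
  scan (u := [2]) (w := []) (i := 2) (r2_0_0 H) (step (f548 H) rfl) rfl

theorem f551 : g 7 • path g [9, 2, 4] p = path g [9, 2, 4, 2] p :=
  H.back (i := 2) (by decide) (f550 H)

theorem f554 : g 2 • path g [9, 3, 9] p = path g [9, 3, 9, 2] p :=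
  rfl

theorem f555 : g 7 • path g [9, 3, 9, 2] p = path g [9, 3, 9] p :=
  H.back (i := 2) (by decide) (f554 H)

theorem f556 : g 2 • path g [9, 3, 9, 2] p = path g [9, 3, 9] p :=
  scan (u := [2]) (w := []) (i := 2) (r2_0_0 H) (step (f554 H) rfl) rfl

theorem f557 : g 7 • path g [9, 3, 9] p = path g [9, 3, 9, 2] p :=
  H.back (i := 2) (by decide) (f556 H)

theorem f558 : g 5 • path g [9, 3, 9] p = path g [9, 3, 9, 5] p :=
  rfl

theorem f559 : g 0 • path g [9, 3, 9, 5] p = path g [9, 3, 9] p :=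
  H.back (i := 5) (by decide) (f558 H)

theorem f560 : g 5 • path g [9, 3, 9, 5] p = path g [9, 3, 9] p :=
  scan (u := [5]) (w := []) (i := 5) (r0_1_0 H) (step (f558 H) rfl) rfl

theorem f561 : g 0 • path g [9, 3, 9] p = path g [9, 3, 9, 5] p :=
  H.back (i := 5) (by decide) (f560 H)

theorem f562 : g 9 • path g [9, 3, 9, 5] p = path g [4, 8, 5] p :=
  scan (u := [5]) (w := [0, 4]) (i := 9) (r13_0_0 H) (step (f558 H) rfl) (step (H.back (i := 5) (by decide) (f332 H)) (step (H.back (i := 9) (by decide) (f144 H)) rfl))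

theorem f563 : g 4 • path g [4, 8, 5] p = path g [9, 3, 9, 5] p :=
  H.back (i := 9) (by decide) (f562 H)

theorem f564 : g 4 • path g [9, 3, 9, 5] p = path g [9, 3, 5] p :=
  scan (u := [5]) (w := [0, 9]) (i := 4) (r13_1_1 H) (step (f558 H) rfl) (step (H.back (i := 5) (by decide) (f154 H)) (step (H.back (i := 4) (by decide) (f143 H)) rfl))

theorem f565 : g 9 • path g [9, 3, 5] p = path g [9, 3, 9, 5] p :=
  H.back (i := 4) (by decide) (f564 H)

theorem f566 : g 6 • path g [9, 3, 9] p = path g [9, 3, 9, 6] p :=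
  rfl

theorem f567 : g 1 • path g [9, 3, 9, 6] p = path g [9, 3, 9] p :=
  H.back (i := 6) (by decide) (f566 H)

theorem f568 : g 9 • path g [9, 3, 9, 6] p = path g [4, 8, 6] p :=
  scan (u := [6]) (w := [1, 4]) (i := 9) (r14_0_2 H) (step (f566 H) rfl) (step (H.back (i := 6) (by decide) (f338 H)) (step (H.back (i := 9) (by decide) (f144 H)) rfl))

theorem f569 : g 4 • path g [4, 8, 6] p = path g [9, 3, 9, 6] p :=
  H.back (i := 9) (by decide) (f568 H)

theorem f570 : g 4 • path g [9, 3, 9, 6] p = path g [9, 3, 6] p :=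
  scan (u := [6]) (w := [1, 9]) (i := 4) (r14_1_3 H) (step (f566 H) rfl) (step (H.back (i := 6) (by decide) (f158 H)) (step (H.back (i := 4) (by decide) (f143 H)) rfl))

theorem f572 : g 1 • path g [9, 3, 9] p = path g [9, 3, 9, 1] p :=
  rfl

theorem f578 : g 9 • path g [9, 3, 9, 1] p = path g [4, 8, 1] p :=
  scan (u := [1]) (w := [6, 4]) (i := 9) (r14_1_1 H) (step (f572 H) rfl) (step (H.back (i := 1) (by decide) (f342 H)) (step (H.back (i := 9) (by decide) (f144 H)) rfl))

theorem f579 : g 4 • path g [4, 8, 1] p = path g [9, 3, 9, 1] p :=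
  H.back (i := 9) (by decide) (f578 H)

theorem f580 : g 9 • path g [9, 3, 2] p = path g [9, 3, 2, 9] p :=
  rfl

theorem f581 : g 4 • path g [9, 3, 2, 9] p = path g [9, 3, 2] p :=
  H.back (i := 9) (by decide) (f580 H)

theorem f582 : g 8 • path g [9, 3, 2] p = path g [9, 3, 2, 8] p :=
  rfl

theorem f583 : g 3 • path g [9, 3, 2, 8] p = path g [9, 3, 2] p :=
  H.back (i := 8) (by decide) (f582 H)

theorem f584 : g 5 • path g [9, 3, 2] p = path g [9, 3, 2, 5] p :=
  rfl

theorem f586 : g 5 • path g [9, 3, 2, 5] p = path g [9, 3, 2] p :=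
  scan (u := [5]) (w := []) (i := 5) (r0_1_0 H) (step (f584 H) rfl) rfl

theorem f587 : g 0 • path g [9, 3, 2] p = path g [9, 3, 2, 5] p :=
  H.back (i := 5) (by decide) (f586 H)

theorem f588 : g 3 • path g [9, 3, 2] p = path g [9, 3, 2, 3] p :=
  rfl

theorem f589 : g 8 • path g [9, 3, 2, 3] p = path g [9, 3, 2] p :=
  H.back (i := 3) (by decide) (f588 H)

theorem f590 : g 3 • path g [9, 3, 2, 3] p = path g [9, 3, 2, 8] p :=
  scan (u := [3]) (w := [3]) (i := 3) (r6_0_0 H) (step (f588 H) rfl) (step (H.back (i := 8) (by decide) (f582 H)) rfl)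

theorem f591 : g 8 • path g [9, 3, 2, 8] p = path g [9, 3, 2, 3] p :=
  H.back (i := 3) (by decide) (f590 H)

theorem f592 : g 6 • path g [9, 3, 2] p = path g [9, 3, 2, 6] p :=
  rfl

theorem f593 : g 1 • path g [9, 3, 2, 6] p = path g [9, 3, 2] p :=
  H.back (i := 6) (by decide) (f592 H)

theorem f594 : g 7 • path g [9, 3, 2, 6] p = path g [9, 3, 1] p :=
  scan (u := [6]) (w := [6, 7]) (i := 7) (r3_1_1 H) (step (f592 H) rfl) (step (H.back (i := 1) (by decide) (f160 H)) (step (H.back (i := 2) (by decide) (f152 H)) rfl))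

theorem f595 : g 2 • path g [9, 3, 1] p = path g [9, 3, 2, 6] p :=
  H.back (i := 7) (by decide) (f594 H)

theorem f596 : g 7 • path g [9, 3, 1] p = path g [9, 3, 2, 6] p :=
  scan (u := [7]) (w := []) (i := 7) (r2_1_0 H) (step (f594 H) rfl) rfl

theorem f597 : g 2 • path g [9, 3, 2, 6] p = path g [9, 3, 1] p :=
  H.back (i := 7) (by decide) (f596 H)

theorem f598 : g 1 • path g [9, 3, 2] p = path g [9, 3, 2, 1] p :=
  rfl

theorem f599 : g 6 • path g [9, 3, 2, 1] p = path g [9, 3, 2] p :=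
  H.back (i := 1) (by decide) (f598 H)

theorem f600 : g 1 • path g [9, 3, 2, 1] p = path g [9, 3, 2, 6] p :=
  scan (u := [1]) (w := [1]) (i := 1) (r1_0_0 H) (step (f598 H) rfl) (step (H.back (i := 6) (by decide) (f592 H)) rfl)

theorem f602 : g 2 • path g [9, 3, 2, 1] p = path g [9, 3, 6] p :=
  scan (u := [1]) (w := [1, 2]) (i := 2) (r3_0_0 H) (step (f598 H) rfl) (step (H.back (i := 6) (by decide) (f158 H)) (step (H.back (i := 7) (by decide) (f151 H)) rfl))

theorem f603 : g 7 • path g [9, 3, 6] p = path g [9, 3, 2, 1] p :=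
  H.back (i := 2) (by decide) (f602 H)

theorem f604 : g 2 • path g [9, 3, 6] p = path g [9, 3, 2, 1] p :=
  scan (u := [2]) (w := []) (i := 2) (r2_0_0 H) (step (f602 H) rfl) rfl

theorem f605 : g 7 • path g [9, 3, 2, 1] p = path g [9, 3, 6] p :=
  H.back (i := 2) (by decide) (f604 H)

theorem f606 : g 4 • path g [9, 3, 2] p = path g [9, 3, 2, 4] p :=
  rfl

theorem f608 : g 4 • path g [9, 3, 2, 4] p = path g [9, 3, 2, 9] p :=
  scan (u := [4]) (w := [4]) (i := 4) (r10_0_0 H) (step (f606 H) rfl) (step (H.back (i := 9) (by decide) (f580 H)) rfl)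

theorem f609 : g 9 • path g [9, 3, 2, 9] p = path g [9, 3, 2, 4] p :=
  H.back (i := 4) (by decide) (f608 H)

theorem f612 : g 2 • path g [9, 3, 5] p = path g [9, 3, 5, 2] p :=
  rfl

theorem f613 : g 7 • path g [9, 3, 5, 2] p = path g [9, 3, 5] p :=
  H.back (i := 2) (by decide) (f612 H)

theorem f614 : g 2 • path g [9, 3, 5, 2] p = path g [9, 3, 5] p :=
  scan (u := [2]) (w := []) (i := 2) (r2_0_0 H) (step (f612 H) rfl) rfl

theorem f615 : g 7 • path g [9, 3, 5] p = path g [9, 3, 5, 2] p :=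
  H.back (i := 2) (by decide) (f614 H)

theorem f616 : g 3 • path g [9, 3, 5] p = path g [9, 3, 5, 3] p :=
  rfl

theorem f620 : g 6 • path g [9, 3, 5] p = path g [9, 3, 5, 6] p :=
  rfl

theorem f621 : g 1 • path g [9, 3, 5, 6] p = path g [9, 3, 5] p :=
  H.back (i := 6) (by decide) (f620 H)

theorem f622 : g 1 • path g [9, 3, 5] p = path g [9, 3, 5, 1] p :=
  rfl

theorem f623 : g 6 • path g [9, 3, 5, 1] p = path g [9, 3, 5] p :=
  H.back (i := 1) (by decide) (f622 H)

theorem f624 : g 1 • path g [9, 3, 5, 1] p = path g [9, 3, 5, 6] p :=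
  scan (u := [1]) (w := [1]) (i := 1) (r1_0_0 H) (step (f622 H) rfl) (step (H.back (i := 6) (by decide) (f620 H)) rfl)

theorem f625 : g 6 • path g [9, 3, 5, 6] p = path g [9, 3, 5, 1] p :=
  H.back (i := 1) (by decide) (f624 H)

theorem f626 : g 8 • path g [9, 3, 6] p = path g [9, 3, 6, 8] p :=
  rfl

theorem f627 : g 3 • path g [9, 3, 6, 8] p = path g [9, 3, 6] p :=
  H.back (i := 8) (by decide) (f626 H)

theorem f628 : g 5 • path g [9, 3, 6] p = path g [9, 3, 6, 5] p :=
  rfl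

theorem f630 : g 5 • path g [9, 3, 6, 5] p = path g [9, 3, 6] p :=
  scan (u := [5]) (w := []) (i := 5) (r0_1_0 H) (step (f628 H) rfl) rfl

theorem f631 : g 0 • path g [9, 3, 6] p = path g [9, 3, 6, 5] p :=
  H.back (i := 5) (by decide) (f630 H)

theorem f632 : g 3 • path g [9, 3, 6] p = path g [9, 3, 6, 3] p :=
  rfl

theorem f633 : g 8 • path g [9, 3, 6, 3] p = path g [9, 3, 6] p :=
  H.back (i := 3) (by decide) (f632 H)

theorem f634 : g 3 • path g [9, 3, 6, 3] p = path g [9, 3, 6, 8] p :=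
  scan (u := [3]) (w := [3]) (i := 3) (r6_0_0 H) (step (f632 H) rfl) (step (H.back (i := 8) (by decide) (f626 H)) rfl)

theorem f635 : g 8 • path g [9, 3, 6, 8] p = path g [9, 3, 6, 3] p :=
  H.back (i := 3) (by decide) (f634 H)

theorem f636 : g 8 • path g [9, 3, 1] p = path g [9, 3, 1, 8] p :=
  rfl

theorem f637 : g 3 • path g [9, 3, 1, 8] p = path g [9, 3, 1] p :=
  H.back (i := 8) (by decide) (f636 H)

theorem f638 : g 5 • path g [9, 3, 1] p = path g [9, 3, 1, 5] p :=
  rfl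

theorem f639 : g 0 • path g [9, 3, 1, 5] p = path g [9, 3, 1] p :=
  H.back (i := 5) (by decide) (f638 H)

theorem f640 : g 5 • path g [9, 3, 1, 5] p = path g [9, 3, 1] p :=
  scan (u := [5]) (w := []) (i := 5) (r0_1_0 H) (step (f638 H) rfl) rfl

theorem f642 : g 3 • path g [9, 3, 1] p = path g [9, 3, 1, 3] p :=
  rfl

theorem f644 : g 3 • path g [9, 3, 1, 3] p = path g [9, 3, 1, 8] p :=
  scan (u := [3]) (w := [3]) (i := 3) (r6_0_0 H) (step (f642 H) rfl) (step (H.back (i := 8) (by decide) (f636 H)) rfl)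

theorem f645 : g 8 • path g [9, 3, 1, 8] p = path g [9, 3, 1, 3] p :=
  H.back (i := 3) (by decide) (f644 H)

theorem f646 : g 9 • path g [8, 9, 2] p = path g [8, 9, 2, 9] p :=
  rfl

theorem f647 : g 4 • path g [8, 9, 2, 9] p = path g [8, 9, 2] p :=
  H.back (i := 9) (by decide) (f646 H)

theorem f648 : g 8 • path g [8, 9, 2] p = path g [8, 9, 2, 8] p :=
  rfl

theorem f649 : g 3 • path g [8, 9, 2, 8] p = path g [8, 9, 2] p :=
  H.back (i := 8) (by decide) (f648 H)

theorem f650 : g 5 • path g [8, 9, 2] p = path g [8, 9, 2, 5] p :=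
  rfl

theorem f651 : g 0 • path g [8, 9, 2, 5] p = path g [8, 9, 2] p :=
  H.back (i := 5) (by decide) (f650 H)

theorem f652 : g 5 • path g [8, 9, 2, 5] p = path g [8, 9, 2] p :=
  scan (u := [5]) (w := []) (i := 5) (r0_1_0 H) (step (f650 H) rfl) rfl

theorem f653 : g 0 • path g [8, 9, 2] p = path g [8, 9, 2, 5] p :=
  H.back (i := 5) (by decide) (f652 H)

theorem f654 : g 3 • path g [8, 9, 2] p = path g [8, 9, 2, 3] p :=
  rfl

theorem f656 : g 3 • path g [8, 9, 2, 3] p = path g [8, 9, 2, 8] p :=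
  scan (u := [3]) (w := [3]) (i := 3) (r6_0_0 H) (step (f654 H) rfl) (step (H.back (i := 8) (by decide) (f648 H)) rfl)

theorem f657 : g 8 • path g [8, 9, 2, 8] p = path g [8, 9, 2, 3] p :=
  H.back (i := 3) (by decide) (f656 H)

theorem f658 : g 6 • path g [8, 9, 2] p = path g [8, 9, 2, 6] p :=
  rfl

theorem f659 : g 1 • path g [8, 9, 2, 6] p = path g [8, 9, 2] p :=
  H.back (i := 6) (by decide) (f658 H)

theorem f660 : g 7 • path g [8, 9, 2, 6] p = path g [8, 9, 1] p :=
  scan (u := [6]) (w := [6, 7]) (i := 7) (r3_1_1 H) (step (f658 H) rfl) (step (H.back (i := 1) (by decide) (f180 H)) (step (H.back (i := 2) (by decide) (f166 H)) rfl))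

theorem f661 : g 2 • path g [8, 9, 1] p = path g [8, 9, 2, 6] p :=
  H.back (i := 7) (by decide) (f660 H)

theorem f662 : g 7 • path g [8, 9, 1] p = path g [8, 9, 2, 6] p :=
  scan (u := [7]) (w := []) (i := 7) (r2_1_0 H) (step (f660 H) rfl) rfl

theorem f663 : g 2 • path g [8, 9, 2, 6] p = path g [8, 9, 1] p :=
  H.back (i := 7) (by decide) (f662 H)

theorem f664 : g 1 • path g [8, 9, 2] p = path g [8, 9, 2, 1] p :=
  rfl

theorem f665 : g 6 • path g [8, 9, 2, 1] p = path g [8, 9, 2] p :=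
  H.back (i := 1) (by decide) (f664 H)

theorem f666 : g 1 • path g [8, 9, 2, 1] p = path g [8, 9, 2, 6] p :=
  scan (u := [1]) (w := [1]) (i := 1) (r1_0_0 H) (step (f664 H) rfl) (step (H.back (i := 6) (by decide) (f658 H)) rfl)

theorem f667 : g 6 • path g [8, 9, 2, 6] p = path g [8, 9, 2, 1] p :=
  H.back (i := 1) (by decide) (f666 H)

theorem f668 : g 2 • path g [8, 9, 2, 1] p = path g [8, 9, 6] p :=
  scan (u := [1]) (w := [1, 2]) (i := 2) (r3_0_0 H) (step (f664 H) rfl) (step (H.back (i := 6) (by decide) (f174 H)) (step (H.back (i := 7) (by decide) (f165 H)) rfl))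

theorem f669 : g 7 • path g [8, 9, 6] p = path g [8, 9, 2, 1] p :=
  H.back (i := 2) (by decide) (f668 H)

theorem f670 : g 2 • path g [8, 9, 6] p = path g [8, 9, 2, 1] p :=
  scan (u := [2]) (w := []) (i := 2) (r2_0_0 H) (step (f668 H) rfl) rfl

theorem f671 : g 7 • path g [8, 9, 2, 1] p = path g [8, 9, 6] p :=
  H.back (i := 2) (by decide) (f670 H)

theorem f672 : g 4 • path g [8, 9, 2] p = path g [8, 9, 2, 4] p :=
  rfl

theorem f674 : g 4 • path g [8, 9, 2, 4] p = path g [8, 9, 2, 9] p :=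
  scan (u := [4]) (w := [4]) (i := 4) (r10_0_0 H) (step (f672 H) rfl) (step (H.back (i := 9) (by decide) (f646 H)) rfl)

theorem f675 : g 9 • path g [8, 9, 2, 9] p = path g [8, 9, 2, 4] p :=
  H.back (i := 4) (by decide) (f674 H)

theorem f676 : g 8 • path g [8, 9, 5] p = path g [8, 9, 5, 8] p :=
  rfl

theorem f678 : g 9 • path g [8, 9, 5, 8] p = path g [8, 5, 3] p :=
  scan (u := [8]) (w := [8, 9]) (i := 9) (r15_1_0 H) (step (f676 H) rfl) (step (H.back (i := 3) (by decide) (f188 H)) (step (H.back (i := 4) (by decide) (f172 H)) rfl))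

theorem f679 : g 4 • path g [8, 5, 3] p = path g [8, 9, 5, 8] p :=
  H.back (i := 9) (by decide) (f678 H)

theorem f684 : g 3 • path g [8, 9, 5] p = path g [8, 9, 5, 3] p :=
  rfl

theorem f686 : g 3 • path g [8, 9, 5, 3] p = path g [8, 9, 5, 8] p :=
  scan (u := [3]) (w := [3]) (i := 3) (r6_0_0 H) (step (f684 H) rfl) (step (H.back (i := 8) (by decide) (f676 H)) rfl)

theorem f688 : g 6 • path g [8, 9, 5] p = path g [8, 9, 5, 6] p :=
  rfl

theorem f689 : g 1 • path g [8, 9, 5, 6] p = path g [8, 9, 5] p :=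
  H.back (i := 6) (by decide) (f688 H)

theorem f690 : g 4 • path g [8, 9, 5, 6] p = path g [8, 5, 6] p :=
  scan (u := [6]) (w := [1, 9]) (i := 4) (r14_1_3 H) (step (f688 H) rfl) (step (H.back (i := 6) (by decide) (f192 H)) (step (H.back (i := 4) (by decide) (f172 H)) rfl))

theorem f691 : g 9 • path g [8, 5, 6] p = path g [8, 9, 5, 6] p :=
  H.back (i := 4) (by decide) (f690 H)

theorem f692 : g 0 • path g [8, 9, 5, 6] p = path g [8, 9, 5, 6] p :=
  scan (u := [4, 5, 9]) (w := []) (i := 0) (r13_0_3 H) (step (f690 H) (step (f207 H) (step (f691 H) rfl))) rfl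

theorem f693 : g 5 • path g [8, 9, 5, 6] p = path g [8, 9, 5, 6] p :=
  H.back (i := 0) (by decide) (f692 H)

theorem f694 : g 1 • path g [8, 9, 5] p = path g [8, 9, 5, 1] p :=
  rfl

theorem f696 : g 1 • path g [8, 9, 5, 1] p = path g [8, 9, 5, 6] p :=
  scan (u := [1]) (w := [1]) (i := 1) (r1_0_0 H) (step (f694 H) rfl) (step (H.back (i := 6) (by decide) (f688 H)) rfl)

theorem f697 : g 6 • path g [8, 9, 5, 6] p = path g [8, 9, 5, 1] p :=
  H.back (i := 1) (by decide) (f696 H)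

theorem f698 : g 4 • path g [8, 9, 5, 1] p = path g [8, 5, 1] p :=
  scan (u := [1]) (w := [6, 9]) (i := 4) (r14_0_0 H) (step (f694 H) rfl) (step (H.back (i := 1) (by decide) (f194 H)) (step (H.back (i := 4) (by decide) (f172 H)) rfl))

theorem f699 : g 9 • path g [8, 5, 1] p = path g [8, 9, 5, 1] p :=
  H.back (i := 4) (by decide) (f698 H)

theorem f700 : g 0 • path g [8, 9, 5, 1] p = path g [8, 9, 1] p :=
  scan (u := [1]) (w := [1, 0, 6, 6, 0]) (i := 0) (r4_0_4 H) (step (f694 H) rfl) (step (H.back (i := 6) (by decide) (f183 H)) (step (H.back (i := 5) (by decide) (f179 H)) (step (H.back (i := 1) (by decide) (f182 H)) (step (H.back (i := 1) (by decide) (f180 H)) (step (H.back (i := 5) (by decide) (f170 H)) rfl)))))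

theorem f701 : g 5 • path g [8, 9, 1] p = path g [8, 9, 5, 1] p :=
  H.back (i := 0) (by decide) (f700 H)

theorem f702 : g 5 • path g [8, 9, 5, 1] p = path g [8, 9, 1] p :=
  scan (u := [1, 1, 5, 6]) (w := [6, 5]) (i := 5) (r4_1_4 H) (step (f694 H) (step (f696 H) (step (f693 H) (step (f697 H) rfl)))) (step (H.back (i := 1) (by decide) (f180 H)) (step (H.back (i := 0) (by decide) (f169 H)) rfl))

theorem f703 : g 0 • path g [8, 9, 1] p = path g [8, 9, 5, 1] p :=
  H.back (i := 5) (by decide) (f702 H)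

theorem f704 : g 8 • path g [8, 9, 6] p = path g [8, 9, 6, 8] p :=
  rfl

theorem f705 : g 3 • path g [8, 9, 6, 8] p = path g [8, 9, 6] p :=
  H.back (i := 8) (by decide) (f704 H)

theorem f706 : g 9 • path g [8, 9, 6, 8] p = path g [8, 6, 3] p :=
  scan (u := [8]) (w := [8, 9]) (i := 9) (r15_1_0 H) (step (f704 H) rfl) (step (H.back (i := 3) (by decide) (f228 H)) (step (H.back (i := 4) (by decide) (f176 H)) rfl))

theorem f707 : g 4 • path g [8, 6, 3] p = path g [8, 9, 6, 8] p :=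
  H.back (i := 9) (by decide) (f706 H)

theorem f708 : g 3 • path g [8, 9, 6] p = path g [8, 9, 6, 3] p :=
  rfl

theorem f709 : g 8 • path g [8, 9, 6, 3] p = path g [8, 9, 6] p :=
  H.back (i := 3) (by decide) (f708 H)

theorem f710 : g 3 • path g [8, 9, 6, 3] p = path g [8, 9, 6, 8] p :=
  scan (u := [3]) (w := [3]) (i := 3) (r6_0_0 H) (step (f708 H) rfl) (step (H.back (i := 8) (by decide) (f704 H)) rfl)

theorem f711 : g 8 • path g [8, 9, 6, 8] p = path g [8, 9, 6, 3] p :=
  H.back (i := 3) (by decide) (f710 H)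

theorem f712 : g 8 • path g [8, 9, 1] p = path g [8, 9, 1, 8] p :=
  rfl

theorem f713 : g 3 • path g [8, 9, 1, 8] p = path g [8, 9, 1] p :=
  H.back (i := 8) (by decide) (f712 H)

theorem f714 : g 9 • path g [8, 9, 1, 8] p = path g [8, 1, 3] p :=
  scan (u := [8]) (w := [8, 9]) (i := 9) (r15_1_0 H) (step (f712 H) rfl) (step (H.back (i := 3) (by decide) (f244 H)) (step (H.back (i := 4) (by decide) (f184 H)) rfl))

theorem f715 : g 4 • path g [8, 1, 3] p = path g [8, 9, 1, 8] p :=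
  H.back (i := 9) (by decide) (f714 H)

theorem f716 : g 3 • path g [8, 9, 1] p = path g [8, 9, 1, 3] p :=
  rfl

theorem f717 : g 8 • path g [8, 9, 1, 3] p = path g [8, 9, 1] p :=
  H.back (i := 3) (by decide) (f716 H)

theorem f718 : g 3 • path g [8, 9, 1, 3] p = path g [8, 9, 1, 8] p :=
  scan (u := [3]) (w := [3]) (i := 3) (r6_0_0 H) (step (f716 H) rfl) (step (H.back (i := 8) (by decide) (f712 H)) rfl)

theorem f719 : g 8 • path g [8, 9, 1, 8] p = path g [8, 9, 1, 3] p :=
  H.back (i := 3) (by decide) (f718 H)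

theorem f720 : g 9 • path g [8, 5, 8] p = path g [8, 5, 8, 9] p :=
  rfl

theorem f721 : g 4 • path g [8, 5, 8, 9] p = path g [8, 5, 8] p :=
  H.back (i := 9) (by decide) (f720 H)

theorem f744 : g 4 • path g [8, 5, 8] p = path g [8, 5, 8, 4] p :=
  rfl

theorem f746 : g 4 • path g [8, 5, 8, 4] p = path g [8, 5, 8, 9] p :=
  scan (u := [4]) (w := [4]) (i := 4) (r10_0_0 H) (step (f744 H) rfl) (step (H.back (i := 9) (by decide) (f720 H)) rfl)

theorem f748 : g 9 • path g [8, 5, 3] p = path g [8, 5, 3, 9] p :=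
  rfl

theorem f750 : g 9 • path g [8, 5, 3, 9] p = path g [8, 9, 5, 8] p :=
  scan (u := [9]) (w := [9]) (i := 9) (r10_1_0 H) (step (f748 H) rfl) (step (H.back (i := 4) (by decide) (f679 H)) rfl)

theorem f751 : g 4 • path g [8, 9, 5, 8] p = path g [8, 5, 3, 9] p :=
  H.back (i := 9) (by decide) (f750 H)

theorem f752 : g 8 • path g [8, 5, 3, 9] p = path g [8, 5, 8, 4] p :=
  scan (u := [9]) (w := [9, 8]) (i := 8) (r15_1_1 H) (step (f748 H) rfl) (step (H.back (i := 4) (by decide) (f744 H)) (step (H.back (i := 3) (by decide) (f190 H)) rfl))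

theorem f776 : g 4 • path g [8, 5, 6] p = path g [8, 5, 6, 4] p :=
  rfl

theorem f782 : g 1 • path g [8, 5, 6, 4] p = path g [8, 5, 4] p :=
  scan (u := [4]) (w := [9, 6]) (i := 1) (r14_1_0 H) (step (f776 H) rfl) (step (H.back (i := 4) (by decide) (f216 H)) (step (H.back (i := 1) (by decide) (f193 H)) rfl))

theorem f792 : g 4 • path g [8, 5, 1] p = path g [8, 5, 1, 4] p :=
  rfl

theorem f794 : g 4 • path g [8, 5, 1, 4] p = path g [8, 9, 5, 1] p :=
  scan (u := [4]) (w := [4]) (i := 4) (r10_0_0 H) (step (f792 H) rfl) (step (H.back (i := 9) (by decide) (f699 H)) rfl)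

theorem f795 : g 9 • path g [8, 9, 5, 1] p = path g [8, 5, 1, 4] p :=
  H.back (i := 4) (by decide) (f794 H)

theorem f796 : g 5 • path g [8, 5, 1, 4] p = path g [8, 1, 4] p :=
  scan (u := [4]) (w := [9, 0]) (i := 5) (r13_0_3 H) (step (f792 H) rfl) (step (H.back (i := 4) (by decide) (f248 H)) (step (H.back (i := 5) (by decide) (f205 H)) rfl))

theorem f797 : g 0 • path g [8, 1, 4] p = path g [8, 5, 1, 4] p :=
  H.back (i := 5) (by decide) (f796 H)

theorem f798 : g 0 • path g [8, 5, 1, 4] p = path g [8, 1, 4] p :=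
  scan (u := [4]) (w := [9, 5]) (i := 0) (r13_1_2 H) (step (f792 H) rfl) (step (H.back (i := 4) (by decide) (f248 H)) (step (H.back (i := 0) (by decide) (f200 H)) rfl))

theorem f799 : g 5 • path g [8, 1, 4] p = path g [8, 5, 1, 4] p :=
  H.back (i := 0) (by decide) (f798 H)

theorem f802 : g 1 • path g [8, 5, 1, 4] p = path g [8, 5, 6, 4] p :=
  scan (u := [4]) (w := [9, 6]) (i := 1) (r14_1_0 H) (step (f792 H) rfl) (step (H.back (i := 4) (by decide) (f776 H)) (step (H.back (i := 1) (by decide) (f196 H)) rfl))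

theorem f804 : g 8 • path g [8, 5, 4] p = path g [8, 5, 4, 8] p :=
  rfl

theorem f808 : g 9 • path g [8, 5, 4, 8] p = path g [8, 9, 5, 3] p :=
  scan (u := [8]) (w := [8, 9]) (i := 9) (r15_1_0 H) (step (f804 H) rfl) (step (H.back (i := 3) (by decide) (f684 H)) (step (H.back (i := 4) (by decide) (f218 H)) rfl))

theorem f810 : g 2 • path g [8, 5, 4] p = path g [8, 5, 4, 2] p :=
  rfl

theorem f812 : g 2 • path g [8, 5, 4, 2] p = path g [8, 5, 4] p :=
  scan (u := [2]) (w := []) (i := 2) (r2_0_0 H) (step (f810 H) rfl) rfl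

theorem f813 : g 7 • path g [8, 5, 4] p = path g [8, 5, 4, 2] p :=
  H.back (i := 2) (by decide) (f812 H)

theorem f814 : g 9 • path g [8, 6, 8] p = path g [8, 6, 8, 9] p :=
  rfl

theorem f815 : g 4 • path g [8, 6, 8, 9] p = path g [8, 6, 8] p :=
  H.back (i := 9) (by decide) (f814 H)

theorem f816 : g 8 • path g [8, 6, 8, 9] p = path g [8, 6, 4] p :=
  scan (u := [9]) (w := [9, 8]) (i := 8) (r15_1_1 H) (step (f814 H) rfl) (step (H.back (i := 4) (by decide) (f232 H)) (step (H.back (i := 3) (by decide) (f225 H)) rfl))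

theorem f817 : g 3 • path g [8, 6, 4] p = path g [8, 6, 8, 9] p :=
  H.back (i := 8) (by decide) (f816 H)

theorem f818 : g 5 • path g [8, 6, 8] p = path g [8, 6, 8, 5] p :=
  rfl

theorem f819 : g 0 • path g [8, 6, 8, 5] p = path g [8, 6, 8] p :=
  H.back (i := 5) (by decide) (f818 H)

theorem f820 : g 5 • path g [8, 6, 8, 5] p = path g [8, 6, 8] p :=
  scan (u := [5]) (w := []) (i := 5) (r0_1_0 H) (step (f818 H) rfl) rfl

theorem f821 : g 0 • path g [8, 6, 8] p = path g [8, 6, 8, 5] p :=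
  H.back (i := 5) (by decide) (f820 H)

theorem f822 : g 6 • path g [8, 6, 8] p = path g [8, 6, 8, 6] p :=
  rfl

theorem f823 : g 1 • path g [8, 6, 8, 6] p = path g [8, 6, 8] p :=
  H.back (i := 6) (by decide) (f822 H)

theorem f824 : g 1 • path g [8, 6, 8] p = path g [8, 6, 8, 1] p :=
  rfl

theorem f825 : g 6 • path g [8, 6, 8, 1] p = path g [8, 6, 8] p :=
  H.back (i := 1) (by decide) (f824 H)

theorem f826 : g 1 • path g [8, 6, 8, 1] p = path g [8, 6, 8, 6] p :=
  scan (u := [1]) (w := [1]) (i := 1) (r1_0_0 H) (step (f824 H) rfl) (step (H.back (i := 6) (by decide) (f822 H)) rfl)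

theorem f827 : g 6 • path g [8, 6, 8, 6] p = path g [8, 6, 8, 1] p :=
  H.back (i := 1) (by decide) (f826 H)

theorem f828 : g 2 • path g [8, 6, 8, 1] p = path g [8, 6, 8, 6] p :=
  scan (u := [1]) (w := [1, 2]) (i := 2) (r3_0_0 H) (step (f824 H) rfl) (step (H.back (i := 6) (by decide) (f822 H)) (step (H.back (i := 7) (by decide) (f227 H)) rfl))

theorem f829 : g 7 • path g [8, 6, 8, 6] p = path g [8, 6, 8, 1] p :=
  H.back (i := 2) (by decide) (f828 H)

theorem f830 : g 2 • path g [8, 6, 8, 6] p = path g [8, 6, 8, 1] p :=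
  scan (u := [2]) (w := []) (i := 2) (r2_0_0 H) (step (f828 H) rfl) rfl

theorem f831 : g 7 • path g [8, 6, 8, 1] p = path g [8, 6, 8, 6] p :=
  H.back (i := 2) (by decide) (f830 H)

theorem f832 : g 4 • path g [8, 6, 8] p = path g [8, 6, 8, 4] p :=
  rfl

theorem f834 : g 4 • path g [8, 6, 8, 4] p = path g [8, 6, 8, 9] p :=
  scan (u := [4]) (w := [4]) (i := 4) (r10_0_0 H) (step (f832 H) rfl) (step (H.back (i := 9) (by decide) (f814 H)) rfl)

theorem f836 : g 9 • path g [8, 6, 3] p = path g [8, 6, 3, 9] p :=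
  rfl

theorem f837 : g 4 • path g [8, 6, 3, 9] p = path g [8, 6, 3] p :=
  H.back (i := 9) (by decide) (f836 H)

theorem f838 : g 9 • path g [8, 6, 3, 9] p = path g [8, 9, 6, 8] p :=
  scan (u := [9]) (w := [9]) (i := 9) (r10_1_0 H) (step (f836 H) rfl) (step (H.back (i := 4) (by decide) (f707 H)) rfl)

theorem f839 : g 4 • path g [8, 9, 6, 8] p = path g [8, 6, 3, 9] p :=
  H.back (i := 9) (by decide) (f838 H)

theorem f840 : g 8 • path g [8, 6, 3, 9] p = path g [8, 6, 8, 4] p :=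
  scan (u := [9]) (w := [9, 8]) (i := 8) (r15_1_1 H) (step (f836 H) rfl) (step (H.back (i := 4) (by decide) (f832 H)) (step (H.back (i := 3) (by decide) (f230 H)) rfl))

theorem f841 : g 3 • path g [8, 6, 8, 4] p = path g [8, 6, 3, 9] p :=
  H.back (i := 8) (by decide) (f840 H)

theorem f842 : g 2 • path g [8, 6, 3] p = path g [8, 6, 3, 2] p :=
  rfl

theorem f844 : g 2 • path g [8, 6, 3, 2] p = path g [8, 6, 3] p :=
  scan (u := [2]) (w := []) (i := 2) (r2_0_0 H) (step (f842 H) rfl) rfl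

theorem f845 : g 7 • path g [8, 6, 3] p = path g [8, 6, 3, 2] p :=
  H.back (i := 2) (by decide) (f844 H)

theorem f846 : g 5 • path g [8, 6, 3] p = path g [8, 6, 3, 5] p :=
  rfl

theorem f847 : g 0 • path g [8, 6, 3, 5] p = path g [8, 6, 3] p :=
  H.back (i := 5) (by decide) (f846 H)

theorem f848 : g 5 • path g [8, 6, 3, 5] p = path g [8, 6, 3] p :=
  scan (u := [5]) (w := []) (i := 5) (r0_1_0 H) (step (f846 H) rfl) rfl

theorem f849 : g 0 • path g [8, 6, 3] p = path g [8, 6, 3, 5] p :=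
  H.back (i := 5) (by decide) (f848 H)

theorem f850 : g 6 • path g [8, 6, 3] p = path g [8, 6, 3, 6] p :=
  rfl

theorem f851 : g 1 • path g [8, 6, 3, 6] p = path g [8, 6, 3] p :=
  H.back (i := 6) (by decide) (f850 H)

theorem f852 : g 1 • path g [8, 6, 3] p = path g [8, 6, 3, 1] p :=
  rfl

theorem f853 : g 6 • path g [8, 6, 3, 1] p = path g [8, 6, 3] p :=
  H.back (i := 1) (by decide) (f852 H)

theorem f854 : g 1 • path g [8, 6, 3, 1] p = path g [8, 6, 3, 6] p :=
  scan (u := [1]) (w := [1]) (i := 1) (r1_0_0 H) (step (f852 H) rfl) (step (H.back (i := 6) (by decide) (f850 H)) rfl)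

theorem f855 : g 6 • path g [8, 6, 3, 6] p = path g [8, 6, 3, 1] p :=
  H.back (i := 1) (by decide) (f854 H)

theorem f856 : g 8 • path g [8, 6, 4] p = path g [8, 6, 4, 8] p :=
  rfl

theorem f857 : g 3 • path g [8, 6, 4, 8] p = path g [8, 6, 4] p :=
  H.back (i := 8) (by decide) (f856 H)

theorem f858 : g 8 • path g [8, 6, 4, 8] p = path g [8, 6, 8, 9] p :=
  scan (u := [8]) (w := [8]) (i := 8) (r6_1_0 H) (step (f856 H) rfl) (step (H.back (i := 3) (by decide) (f817 H)) rfl)

theorem f859 : g 3 • path g [8, 6, 8, 9] p = path g [8, 6, 4, 8] p :=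
  H.back (i := 8) (by decide) (f858 H)

theorem f860 : g 9 • path g [8, 6, 4, 8] p = path g [8, 9, 6, 3] p :=
  scan (u := [8]) (w := [8, 9]) (i := 9) (r15_1_0 H) (step (f856 H) rfl) (step (H.back (i := 3) (by decide) (f708 H)) (step (H.back (i := 4) (by decide) (f234 H)) rfl))

theorem f861 : g 4 • path g [8, 9, 6, 3] p = path g [8, 6, 4, 8] p :=
  H.back (i := 9) (by decide) (f860 H)

theorem f862 : g 2 • path g [8, 6, 4] p = path g [8, 6, 4, 2] p :=
  rfl

theorem f864 : g 2 • path g [8, 6, 4, 2] p = path g [8, 6, 4] p :=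
  scan (u := [2]) (w := []) (i := 2) (r2_0_0 H) (step (f862 H) rfl) rfl

theorem f865 : g 7 • path g [8, 6, 4] p = path g [8, 6, 4, 2] p :=
  H.back (i := 2) (by decide) (f864 H)

theorem f866 : g 1 • path g [8, 4, 2] p = path g [8, 6, 4, 2] p :=
  scan (u := [2, 1, 2]) (w := []) (i := 1) (r3_0_1 H) (step (f864 H) (step (f238 H) (step (f256 H) rfl))) rfl

theorem f867 : g 6 • path g [8, 6, 4, 2] p = path g [8, 4, 2] p :=
  H.back (i := 1) (by decide) (f866 H)

theorem f868 : g 9 • path g [8, 1, 8] p = path g [8, 1, 8, 9] p :=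
  rfl

theorem f869 : g 4 • path g [8, 1, 8, 9] p = path g [8, 1, 8] p :=
  H.back (i := 9) (by decide) (f868 H)

theorem f870 : g 8 • path g [8, 1, 8, 9] p = path g [8, 1, 4] p :=
  scan (u := [9]) (w := [9, 8]) (i := 8) (r15_1_1 H) (step (f868 H) rfl) (step (H.back (i := 4) (by decide) (f248 H)) (step (H.back (i := 3) (by decide) (f241 H)) rfl))

theorem f871 : g 3 • path g [8, 1, 4] p = path g [8, 1, 8, 9] p :=
  H.back (i := 8) (by decide) (f870 H)

theorem f872 : g 5 • path g [8, 1, 8] p = path g [8, 1, 8, 5] p :=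
  rfl

theorem f873 : g 0 • path g [8, 1, 8, 5] p = path g [8, 1, 8] p :=
  H.back (i := 5) (by decide) (f872 H)

theorem f874 : g 5 • path g [8, 1, 8, 5] p = path g [8, 1, 8] p :=
  scan (u := [5]) (w := []) (i := 5) (r0_1_0 H) (step (f872 H) rfl) rfl

theorem f875 : g 0 • path g [8, 1, 8] p = path g [8, 1, 8, 5] p :=
  H.back (i := 5) (by decide) (f874 H)

theorem f876 : g 7 • path g [8, 1, 8, 5] p = path g [8, 6, 8, 5] p :=
  scan (u := [5]) (w := [5, 3, 1, 0, 2, 1, 0, 8, 7]) (i := 7) (r8_1_9 H) (step (f872 H) rfl) (step (H.back (i := 0) (by decide) (f821 H)) (step (H.back (i := 8) (by decide) (f224 H)) (step (H.back (i := 6) (by decide) (f52 H)) (step (H.back (i := 5) (by decide) (f48 H)) (step (H.back (i := 7) (by decide) (f50 H)) (step (H.back (i := 6) (by decide) (f195 H)) (step (H.back (i := 5) (by decide) (f201 H)) (step (H.back (i := 3) (by decide) (f241 H)) (step (H.back (i := 2) (by decide) (f242 H)) rfl)))))))))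

theorem f877 : g 2 • path g [8, 6, 8, 5] p = path g [8, 1, 8, 5] p :=
  H.back (i := 7) (by decide) (f876 H)

theorem f878 : g 7 • path g [8, 6, 8, 5] p = path g [8, 1, 8, 5] p :=
  scan (u := [7]) (w := []) (i := 7) (r2_1_0 H) (step (f876 H) rfl) rfl

theorem f879 : g 2 • path g [8, 1, 8, 5] p = path g [8, 6, 8, 5] p :=
  H.back (i := 7) (by decide) (f878 H)

theorem f880 : g 6 • path g [8, 1, 8] p = path g [8, 1, 8, 6] p :=
  rfl

theorem f881 : g 1 • path g [8, 1, 8, 6] p = path g [8, 1, 8] p :=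
  H.back (i := 6) (by decide) (f880 H)

theorem f882 : g 1 • path g [8, 1, 8] p = path g [8, 1, 8, 1] p :=
  rfl

theorem f883 : g 6 • path g [8, 1, 8, 1] p = path g [8, 1, 8] p :=
  H.back (i := 1) (by decide) (f882 H)

theorem f884 : g 1 • path g [8, 1, 8, 1] p = path g [8, 1, 8, 6] p :=
  scan (u := [1]) (w := [1]) (i := 1) (r1_0_0 H) (step (f882 H) rfl) (step (H.back (i := 6) (by decide) (f880 H)) rfl)

theorem f886 : g 2 • path g [8, 1, 8, 1] p = path g [8, 1, 8, 6] p :=
  scan (u := [1]) (w := [1, 2]) (i := 2) (r3_0_0 H) (step (f882 H) rfl) (step (H.back (i := 6) (by decide) (f880 H)) (step (H.back (i := 7) (by decide) (f243 H)) rfl))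

theorem f887 : g 7 • path g [8, 1, 8, 6] p = path g [8, 1, 8, 1] p :=
  H.back (i := 2) (by decide) (f886 H)

theorem f888 : g 2 • path g [8, 1, 8, 6] p = path g [8, 1, 8, 1] p :=
  scan (u := [2]) (w := []) (i := 2) (r2_0_0 H) (step (f886 H) rfl) rfl

theorem f889 : g 7 • path g [8, 1, 8, 1] p = path g [8, 1, 8, 6] p :=
  H.back (i := 2) (by decide) (f888 H)

theorem f890 : g 4 • path g [8, 1, 8] p = path g [8, 1, 8, 4] p :=
  rfl

theorem f891 : g 9 • path g [8, 1, 8, 4] p = path g [8, 1, 8] p :=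
  H.back (i := 4) (by decide) (f890 H)

theorem f892 : g 4 • path g [8, 1, 8, 4] p = path g [8, 1, 8, 9] p :=
  scan (u := [4]) (w := [4]) (i := 4) (r10_0_0 H) (step (f890 H) rfl) (step (H.back (i := 9) (by decide) (f868 H)) rfl)

theorem f894 : g 9 • path g [8, 1, 3] p = path g [8, 1, 3, 9] p :=
  rfl

theorem f895 : g 4 • path g [8, 1, 3, 9] p = path g [8, 1, 3] p :=
  H.back (i := 9) (by decide) (f894 H)

theorem f896 : g 9 • path g [8, 1, 3, 9] p = path g [8, 9, 1, 8] p :=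
  scan (u := [9]) (w := [9]) (i := 9) (r10_1_0 H) (step (f894 H) rfl) (step (H.back (i := 4) (by decide) (f715 H)) rfl)

theorem f897 : g 4 • path g [8, 9, 1, 8] p = path g [8, 1, 3, 9] p :=
  H.back (i := 9) (by decide) (f896 H)

theorem f898 : g 8 • path g [8, 1, 3, 9] p = path g [8, 1, 8, 4] p :=
  scan (u := [9]) (w := [9, 8]) (i := 8) (r15_1_1 H) (step (f894 H) rfl) (step (H.back (i := 4) (by decide) (f890 H)) (step (H.back (i := 3) (by decide) (f246 H)) rfl))

theorem f899 : g 3 • path g [8, 1, 8, 4] p = path g [8, 1, 3, 9] p :=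
  H.back (i := 8) (by decide) (f898 H)

theorem f900 : g 2 • path g [8, 1, 3] p = path g [8, 1, 3, 2] p :=
  rfl

theorem f902 : g 2 • path g [8, 1, 3, 2] p = path g [8, 1, 3] p :=
  scan (u := [2]) (w := []) (i := 2) (r2_0_0 H) (step (f900 H) rfl) rfl

theorem f903 : g 7 • path g [8, 1, 3] p = path g [8, 1, 3, 2] p :=
  H.back (i := 2) (by decide) (f902 H)

theorem f904 : g 5 • path g [8, 1, 3] p = path g [8, 1, 3, 5] p :=
  rfl

theorem f905 : g 0 • path g [8, 1, 3, 5] p = path g [8, 1, 3] p :=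
  H.back (i := 5) (by decide) (f904 H)

theorem f906 : g 5 • path g [8, 1, 3, 5] p = path g [8, 1, 3] p :=
  scan (u := [5]) (w := []) (i := 5) (r0_1_0 H) (step (f904 H) rfl) rfl

theorem f907 : g 0 • path g [8, 1, 3] p = path g [8, 1, 3, 5] p :=
  H.back (i := 5) (by decide) (f906 H)

theorem f908 : g 6 • path g [8, 1, 3] p = path g [8, 1, 3, 6] p :=
  rfl

theorem f909 : g 1 • path g [8, 1, 3, 6] p = path g [8, 1, 3] p :=
  H.back (i := 6) (by decide) (f908 H)

theorem f910 : g 1 • path g [8, 1, 3] p = path g [8, 1, 3, 1] p :=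
  rfl

theorem f911 : g 6 • path g [8, 1, 3, 1] p = path g [8, 1, 3] p :=
  H.back (i := 1) (by decide) (f910 H)

theorem f912 : g 1 • path g [8, 1, 3, 1] p = path g [8, 1, 3, 6] p :=
  scan (u := [1]) (w := [1]) (i := 1) (r1_0_0 H) (step (f910 H) rfl) (step (H.back (i := 6) (by decide) (f908 H)) rfl)

theorem f913 : g 6 • path g [8, 1, 3, 6] p = path g [8, 1, 3, 1] p :=
  H.back (i := 1) (by decide) (f912 H)

theorem f914 : g 8 • path g [8, 1, 4] p = path g [8, 1, 4, 8] p :=
  rfl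

theorem f915 : g 3 • path g [8, 1, 4, 8] p = path g [8, 1, 4] p :=
  H.back (i := 8) (by decide) (f914 H)

theorem f916 : g 8 • path g [8, 1, 4, 8] p = path g [8, 1, 8, 9] p :=
  scan (u := [8]) (w := [8]) (i := 8) (r6_1_0 H) (step (f914 H) rfl) (step (H.back (i := 3) (by decide) (f871 H)) rfl)

theorem f917 : g 3 • path g [8, 1, 8, 9] p = path g [8, 1, 4, 8] p :=
  H.back (i := 8) (by decide) (f916 H)

theorem f918 : g 9 • path g [8, 1, 4, 8] p = path g [8, 9, 1, 3] p :=
  scan (u := [8]) (w := [8, 9]) (i := 9) (r15_1_0 H) (step (f914 H) rfl) (step (H.back (i := 3) (by decide) (f716 H)) (step (H.back (i := 4) (by decide) (f250 H)) rfl))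

theorem f919 : g 4 • path g [8, 9, 1, 3] p = path g [8, 1, 4, 8] p :=
  H.back (i := 9) (by decide) (f918 H)

theorem f920 : g 2 • path g [8, 1, 4] p = path g [8, 1, 4, 2] p :=
  rfl

theorem f921 : g 7 • path g [8, 1, 4, 2] p = path g [8, 1, 4] p :=
  H.back (i := 2) (by decide) (f920 H)

theorem f922 : g 2 • path g [8, 1, 4, 2] p = path g [8, 1, 4] p :=
  scan (u := [2]) (w := []) (i := 2) (r2_0_0 H) (step (f920 H) rfl) rfl

theorem f923 : g 7 • path g [8, 1, 4] p = path g [8, 1, 4, 2] p :=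
  H.back (i := 2) (by decide) (f922 H)

theorem f924 : g 1 • path g [8, 1, 4, 2] p = path g [8, 4, 2] p :=
  scan (u := [2]) (w := [2, 1]) (i := 1) (r3_0_1 H) (step (f920 H) rfl) (step (H.back (i := 7) (by decide) (f259 H)) (step (H.back (i := 6) (by decide) (f252 H)) rfl))

theorem f925 : g 6 • path g [8, 4, 2] p = path g [8, 1, 4, 2] p :=
  H.back (i := 1) (by decide) (f924 H)

theorem f926 : g 1 • path g [8, 6, 4, 2] p = path g [8, 1, 4, 2] p :=
  scan (u := [1, 1]) (w := []) (i := 1) (r1_0_0 H) (step (f924 H) (step (f866 H) rfl)) rfl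

theorem f927 : g 6 • path g [8, 1, 4, 2] p = path g [8, 6, 4, 2] p :=
  H.back (i := 1) (by decide) (f926 H)

theorem f928 : g 9 • path g [8, 4, 2] p = path g [8, 4, 2, 9] p :=
  rfl

theorem f929 : g 4 • path g [8, 4, 2, 9] p = path g [8, 4, 2] p :=
  H.back (i := 9) (by decide) (f928 H)

theorem f930 : g 8 • path g [8, 4, 2] p = path g [8, 4, 2, 8] p :=
  rfl

theorem f932 : g 5 • path g [8, 4, 2] p = path g [8, 4, 2, 5] p :=
  rfl

theorem f933 : g 0 • path g [8, 4, 2, 5] p = path g [8, 4, 2] p :=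
  H.back (i := 5) (by decide) (f932 H)

theorem f934 : g 5 • path g [8, 4, 2, 5] p = path g [8, 4, 2] p :=
  scan (u := [5]) (w := []) (i := 5) (r0_1_0 H) (step (f932 H) rfl) rfl

theorem f935 : g 0 • path g [8, 4, 2] p = path g [8, 4, 2, 5] p :=
  H.back (i := 5) (by decide) (f934 H)

theorem f936 : g 3 • path g [8, 4, 2] p = path g [8, 4, 2, 3] p :=
  rfl

theorem f937 : g 8 • path g [8, 4, 2, 3] p = path g [8, 4, 2] p :=
  H.back (i := 3) (by decide) (f936 H)

theorem f938 : g 3 • path g [8, 4, 2, 3] p = path g [8, 4, 2, 8] p :=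
  scan (u := [3]) (w := [3]) (i := 3) (r6_0_0 H) (step (f936 H) rfl) (step (H.back (i := 8) (by decide) (f930 H)) rfl)

theorem f939 : g 8 • path g [8, 4, 2, 8] p = path g [8, 4, 2, 3] p :=
  H.back (i := 3) (by decide) (f938 H)

theorem f940 : g 4 • path g [8, 4, 2] p = path g [8, 4, 2, 4] p :=
  rfl

theorem f942 : g 4 • path g [8, 4, 2, 4] p = path g [8, 4, 2, 9] p :=
  scan (u := [4]) (w := [4]) (i := 4) (r10_0_0 H) (step (f940 H) rfl) (step (H.back (i := 9) (by decide) (f928 H)) rfl)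

theorem f943 : g 9 • path g [8, 4, 2, 9] p = path g [8, 4, 2, 4] p :=
  H.back (i := 4) (by decide) (f942 H)

theorem f944 : g 9 • path g [3, 9, 2] p = path g [3, 9, 2, 9] p :=
  rfl

theorem f945 : g 4 • path g [3, 9, 2, 9] p = path g [3, 9, 2] p :=
  H.back (i := 9) (by decide) (f944 H)

theorem f946 : g 8 • path g [3, 9, 2] p = path g [3, 9, 2, 8] p :=
  rfl

theorem f947 : g 3 • path g [3, 9, 2, 8] p = path g [3, 9, 2] p :=
  H.back (i := 8) (by decide) (f946 H)

theorem f948 : g 5 • path g [3, 9, 2] p = path g [3, 9, 2, 5] p :=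
  rfl

theorem f950 : g 5 • path g [3, 9, 2, 5] p = path g [3, 9, 2] p :=
  scan (u := [5]) (w := []) (i := 5) (r0_1_0 H) (step (f948 H) rfl) rfl

theorem f951 : g 0 • path g [3, 9, 2] p = path g [3, 9, 2, 5] p :=
  H.back (i := 5) (by decide) (f950 H)

theorem f952 : g 3 • path g [3, 9, 2] p = path g [3, 9, 2, 3] p :=
  rfl

theorem f953 : g 8 • path g [3, 9, 2, 3] p = path g [3, 9, 2] p :=
  H.back (i := 3) (by decide) (f952 H)

theorem f954 : g 3 • path g [3, 9, 2, 3] p = path g [3, 9, 2, 8] p :=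
  scan (u := [3]) (w := [3]) (i := 3) (r6_0_0 H) (step (f952 H) rfl) (step (H.back (i := 8) (by decide) (f946 H)) rfl)

theorem f956 : g 6 • path g [3, 9, 2] p = path g [3, 9, 2, 6] p :=
  rfl

theorem f957 : g 1 • path g [3, 9, 2, 6] p = path g [3, 9, 2] p :=
  H.back (i := 6) (by decide) (f956 H)

theorem f958 : g 7 • path g [3, 9, 2, 6] p = path g [3, 9, 1] p :=
  scan (u := [6]) (w := [6, 7]) (i := 7) (r3_1_1 H) (step (f956 H) rfl) (step (H.back (i := 1) (by decide) (f280 H)) (step (H.back (i := 2) (by decide) (f262 H)) rfl))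

theorem f959 : g 2 • path g [3, 9, 1] p = path g [3, 9, 2, 6] p :=
  H.back (i := 7) (by decide) (f958 H)

theorem f960 : g 7 • path g [3, 9, 1] p = path g [3, 9, 2, 6] p :=
  scan (u := [7]) (w := []) (i := 7) (r2_1_0 H) (step (f958 H) rfl) rfl

theorem f961 : g 2 • path g [3, 9, 2, 6] p = path g [3, 9, 1] p :=
  H.back (i := 7) (by decide) (f960 H)

theorem f962 : g 1 • path g [3, 9, 2] p = path g [3, 9, 2, 1] p :=
  rfl

theorem f963 : g 6 • path g [3, 9, 2, 1] p = path g [3, 9, 2] p :=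
  H.back (i := 1) (by decide) (f962 H)

theorem f964 : g 1 • path g [3, 9, 2, 1] p = path g [3, 9, 2, 6] p :=
  scan (u := [1]) (w := [1]) (i := 1) (r1_0_0 H) (step (f962 H) rfl) (step (H.back (i := 6) (by decide) (f956 H)) rfl)

theorem f965 : g 6 • path g [3, 9, 2, 6] p = path g [3, 9, 2, 1] p :=
  H.back (i := 1) (by decide) (f964 H)

theorem f966 : g 2 • path g [3, 9, 2, 1] p = path g [3, 9, 6] p :=
  scan (u := [1]) (w := [1, 2]) (i := 2) (r3_0_0 H) (step (f962 H) rfl) (step (H.back (i := 6) (by decide) (f272 H)) (step (H.back (i := 7) (by decide) (f261 H)) rfl))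

theorem f967 : g 7 • path g [3, 9, 6] p = path g [3, 9, 2, 1] p :=
  H.back (i := 2) (by decide) (f966 H)

theorem f968 : g 2 • path g [3, 9, 6] p = path g [3, 9, 2, 1] p :=
  scan (u := [2]) (w := []) (i := 2) (r2_0_0 H) (step (f966 H) rfl) rfl

theorem f969 : g 7 • path g [3, 9, 2, 1] p = path g [3, 9, 6] p :=
  H.back (i := 2) (by decide) (f968 H)

theorem f970 : g 4 • path g [3, 9, 2] p = path g [3, 9, 2, 4] p :=
  rfl

theorem f972 : g 4 • path g [3, 9, 2, 4] p = path g [3, 9, 2, 9] p :=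
  scan (u := [4]) (w := [4]) (i := 4) (r10_0_0 H) (step (f970 H) rfl) (step (H.back (i := 9) (by decide) (f944 H)) rfl)

theorem f973 : g 9 • path g [3, 9, 2, 9] p = path g [3, 9, 2, 4] p :=
  H.back (i := 4) (by decide) (f972 H)

theorem f974 : g 8 • path g [3, 9, 5] p = path g [3, 9, 5, 8] p :=
  rfl

theorem f976 : g 9 • path g [3, 9, 5, 8] p = path g [3, 5, 3] p :=
  scan (u := [8]) (w := [8, 9]) (i := 9) (r15_1_0 H) (step (f974 H) rfl) (step (H.back (i := 3) (by decide) (f290 H)) (step (H.back (i := 4) (by decide) (f270 H)) rfl))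

theorem f977 : g 4 • path g [3, 5, 3] p = path g [3, 9, 5, 8] p :=
  H.back (i := 9) (by decide) (f976 H)

theorem f978 : g 2 • path g [3, 9, 5] p = path g [3, 9, 5, 2] p :=
  rfl

theorem f980 : g 2 • path g [3, 9, 5, 2] p = path g [3, 9, 5] p :=
  scan (u := [2]) (w := []) (i := 2) (r2_0_0 H) (step (f978 H) rfl) rfl

theorem f981 : g 7 • path g [3, 9, 5] p = path g [3, 9, 5, 2] p :=
  H.back (i := 2) (by decide) (f980 H)

theorem f982 : g 3 • path g [3, 9, 5] p = path g [3, 9, 5, 3] p :=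
  rfl

theorem f983 : g 8 • path g [3, 9, 5, 3] p = path g [3, 9, 5] p :=
  H.back (i := 3) (by decide) (f982 H)

theorem f984 : g 3 • path g [3, 9, 5, 3] p = path g [3, 9, 5, 8] p :=
  scan (u := [3]) (w := [3]) (i := 3) (r6_0_0 H) (step (f982 H) rfl) (step (H.back (i := 8) (by decide) (f974 H)) rfl)

theorem f985 : g 8 • path g [3, 9, 5, 8] p = path g [3, 9, 5, 3] p :=
  H.back (i := 3) (by decide) (f984 H)

theorem f988 : g 6 • path g [3, 9, 5] p = path g [3, 9, 5, 6] p :=
  rfl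

theorem f990 : g 9 • path g [3, 9, 5, 6] p = path g [9, 8, 5, 6] p :=
  scan (u := [6]) (w := [1, 4]) (i := 9) (r14_0_2 H) (step (f988 H) rfl) (step (H.back (i := 6) (by decide) (f410 H)) (step (H.back (i := 9) (by decide) (f268 H)) rfl))

theorem f991 : g 4 • path g [9, 8, 5, 6] p = path g [3, 9, 5, 6] p :=
  H.back (i := 9) (by decide) (f990 H)

theorem f992 : g 4 • path g [3, 9, 5, 6] p = path g [3, 5, 6] p :=
  scan (u := [6]) (w := [1, 9]) (i := 4) (r14_1_3 H) (step (f988 H) rfl) (step (H.back (i := 6) (by decide) (f294 H)) (step (H.back (i := 4) (by decide) (f270 H)) rfl))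

theorem f993 : g 9 • path g [3, 5, 6] p = path g [3, 9, 5, 6] p :=
  H.back (i := 4) (by decide) (f992 H)

theorem f994 : g 0 • path g [3, 9, 5, 6] p = path g [3, 9, 5, 6] p :=
  scan (u := [4, 5, 9]) (w := []) (i := 0) (r13_0_3 H) (step (f992 H) (step (f309 H) (step (f993 H) rfl))) rfl

theorem f995 : g 5 • path g [3, 9, 5, 6] p = path g [3, 9, 5, 6] p :=
  H.back (i := 0) (by decide) (f994 H)

theorem f996 : g 1 • path g [3, 9, 5] p = path g [3, 9, 5, 1] p :=
  rfl

theorem f998 : g 1 • path g [3, 9, 5, 1] p = path g [3, 9, 5, 6] p :=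
  scan (u := [1]) (w := [1]) (i := 1) (r1_0_0 H) (step (f996 H) rfl) (step (H.back (i := 6) (by decide) (f988 H)) rfl)

theorem f999 : g 6 • path g [3, 9, 5, 6] p = path g [3, 9, 5, 1] p :=
  H.back (i := 1) (by decide) (f998 H)

theorem f1004 : g 0 • path g [3, 9, 5, 1] p = path g [3, 9, 1] p :=
  scan (u := [1]) (w := [1, 0, 6, 6, 0]) (i := 0) (r4_0_4 H) (step (f996 H) rfl) (step (H.back (i := 6) (by decide) (f283 H)) (step (H.back (i := 5) (by decide) (f279 H)) (step (H.back (i := 1) (by decide) (f282 H)) (step (H.back (i := 1) (by decide) (f280 H)) (step (H.back (i := 5) (by decide) (f266 H)) rfl)))))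

theorem f1005 : g 5 • path g [3, 9, 1] p = path g [3, 9, 5, 1] p :=
  H.back (i := 0) (by decide) (f1004 H)

theorem f1006 : g 5 • path g [3, 9, 5, 1] p = path g [3, 9, 1] p :=
  scan (u := [1, 1, 5, 6]) (w := [6, 5]) (i := 5) (r4_1_4 H) (step (f996 H) (step (f998 H) (step (f995 H) (step (f999 H) rfl)))) (step (H.back (i := 1) (by decide) (f280 H)) (step (H.back (i := 0) (by decide) (f265 H)) rfl))

theorem f1007 : g 0 • path g [3, 9, 1] p = path g [3, 9, 5, 1] p :=
  H.back (i := 5) (by decide) (f1006 H)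

theorem f1008 : g 8 • path g [3, 9, 6] p = path g [3, 9, 6, 8] p :=
  rfl

theorem f1009 : g 3 • path g [3, 9, 6, 8] p = path g [3, 9, 6] p :=
  H.back (i := 8) (by decide) (f1008 H)

theorem f1010 : g 9 • path g [3, 9, 6, 8] p = path g [3, 6, 3] p :=
  scan (u := [8]) (w := [8, 9]) (i := 9) (r15_1_0 H) (step (f1008 H) rfl) (step (H.back (i := 3) (by decide) (f316 H)) (step (H.back (i := 4) (by decide) (f276 H)) rfl))

theorem f1011 : g 4 • path g [3, 6, 3] p = path g [3, 9, 6, 8] p :=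
  H.back (i := 9) (by decide) (f1010 H)

theorem f1012 : g 3 • path g [3, 9, 6] p = path g [3, 9, 6, 3] p :=
  rfl

theorem f1014 : g 3 • path g [3, 9, 6, 3] p = path g [3, 9, 6, 8] p :=
  scan (u := [3]) (w := [3]) (i := 3) (r6_0_0 H) (step (f1012 H) rfl) (step (H.back (i := 8) (by decide) (f1008 H)) rfl)

theorem f1016 : g 4 • path g [3, 9, 6, 3] p = path g [9, 8, 6, 8] p :=
  scan (u := [3]) (w := [3, 4]) (i := 4) (r15_0_1 H) (step (f1012 H) rfl) (step (H.back (i := 8) (by decide) (f426 H)) (step (H.back (i := 9) (by decide) (f274 H)) rfl))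

theorem f1017 : g 9 • path g [9, 8, 6, 8] p = path g [3, 9, 6, 3] p :=
  H.back (i := 4) (by decide) (f1016 H)

theorem f1018 : g 8 • path g [3, 9, 1] p = path g [3, 9, 1, 8] p :=
  rfl

theorem f1019 : g 3 • path g [3, 9, 1, 8] p = path g [3, 9, 1] p :=
  H.back (i := 8) (by decide) (f1018 H)

theorem f1020 : g 9 • path g [3, 9, 1, 8] p = path g [3, 1, 3] p :=
  scan (u := [8]) (w := [8, 9]) (i := 9) (r15_1_0 H) (step (f1018 H) rfl) (step (H.back (i := 3) (by decide) (f324 H)) (step (H.back (i := 4) (by decide) (f284 H)) rfl))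

theorem f1021 : g 4 • path g [3, 1, 3] p = path g [3, 9, 1, 8] p :=
  H.back (i := 9) (by decide) (f1020 H)

theorem f1022 : g 3 • path g [3, 9, 1] p = path g [3, 9, 1, 3] p :=
  rfl

theorem f1024 : g 3 • path g [3, 9, 1, 3] p = path g [3, 9, 1, 8] p :=
  scan (u := [3]) (w := [3]) (i := 3) (r6_0_0 H) (step (f1022 H) rfl) (step (H.back (i := 8) (by decide) (f1018 H)) rfl)

theorem f1025 : g 8 • path g [3, 9, 1, 8] p = path g [3, 9, 1, 3] p :=
  H.back (i := 3) (by decide) (f1024 H)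

theorem f1026 : g 4 • path g [3, 9, 1, 3] p = path g [9, 8, 1, 8] p :=
  scan (u := [3]) (w := [3, 4]) (i := 4) (r15_0_1 H) (step (f1022 H) rfl) (step (H.back (i := 8) (by decide) (f434 H)) (step (H.back (i := 9) (by decide) (f286 H)) rfl))

theorem f1027 : g 9 • path g [9, 8, 1, 8] p = path g [3, 9, 1, 3] p :=
  H.back (i := 4) (by decide) (f1026 H)

theorem f1048 : g 4 • path g [3, 5, 8] p = path g [3, 5, 8, 4] p :=
  rfl

theorem f1050 : g 4 • path g [3, 5, 8, 4] p = path g [9, 8, 5, 3] p :=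
  scan (u := [4]) (w := [4]) (i := 4) (r10_0_0 H) (step (f1048 H) rfl) (step (H.back (i := 9) (by decide) (f409 H)) rfl)

theorem f1051 : g 9 • path g [9, 8, 5, 3] p = path g [3, 5, 8, 4] p :=
  H.back (i := 4) (by decide) (f1050 H)

theorem f1052 : g 9 • path g [3, 5, 3] p = path g [3, 5, 3, 9] p :=
  rfl

theorem f1056 : g 8 • path g [3, 5, 3, 9] p = path g [3, 5, 8, 4] p :=
  scan (u := [9]) (w := [9, 8]) (i := 8) (r15_1_1 H) (step (f1052 H) rfl) (step (H.back (i := 4) (by decide) (f1048 H)) (step (H.back (i := 3) (by decide) (f292 H)) rfl))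

theorem f1057 : g 3 • path g [3, 5, 8, 4] p = path g [3, 5, 3, 9] p :=
  H.back (i := 8) (by decide) (f1056 H)

theorem f1088 : g 5 • path g [3, 6, 8] p = path g [3, 6, 8, 5] p :=
  rfl

theorem f1089 : g 0 • path g [3, 6, 8, 5] p = path g [3, 6, 8] p :=
  H.back (i := 5) (by decide) (f1088 H)

theorem f1090 : g 5 • path g [3, 6, 8, 5] p = path g [3, 6, 8] p :=
  scan (u := [5]) (w := []) (i := 5) (r0_1_0 H) (step (f1088 H) rfl) rfl

theorem f1091 : g 0 • path g [3, 6, 8] p = path g [3, 6, 8, 5] p :=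
  H.back (i := 5) (by decide) (f1090 H)

theorem f1092 : g 6 • path g [3, 6, 8] p = path g [3, 6, 8, 6] p :=
  rfl

theorem f1093 : g 1 • path g [3, 6, 8, 6] p = path g [3, 6, 8] p :=
  H.back (i := 6) (by decide) (f1092 H)

theorem f1094 : g 1 • path g [3, 6, 8] p = path g [3, 6, 8, 1] p :=
  rfl

theorem f1095 : g 6 • path g [3, 6, 8, 1] p = path g [3, 6, 8] p :=
  H.back (i := 1) (by decide) (f1094 H)

theorem f1096 : g 1 • path g [3, 6, 8, 1] p = path g [3, 6, 8, 6] p :=
  scan (u := [1]) (w := [1]) (i := 1) (r1_0_0 H) (step (f1094 H) rfl) (step (H.back (i := 6) (by decide) (f1092 H)) rfl)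

theorem f1097 : g 6 • path g [3, 6, 8, 6] p = path g [3, 6, 8, 1] p :=
  H.back (i := 1) (by decide) (f1096 H)

theorem f1098 : g 2 • path g [3, 6, 8, 1] p = path g [3, 6, 8, 6] p :=
  scan (u := [1]) (w := [1, 2]) (i := 2) (r3_0_0 H) (step (f1094 H) rfl) (step (H.back (i := 6) (by decide) (f1092 H)) (step (H.back (i := 7) (by decide) (f315 H)) rfl))

theorem f1099 : g 7 • path g [3, 6, 8, 6] p = path g [3, 6, 8, 1] p :=
  H.back (i := 2) (by decide) (f1098 H)

theorem f1100 : g 2 • path g [3, 6, 8, 6] p = path g [3, 6, 8, 1] p :=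
  scan (u := [2]) (w := []) (i := 2) (r2_0_0 H) (step (f1098 H) rfl) rfl

theorem f1101 : g 7 • path g [3, 6, 8, 1] p = path g [3, 6, 8, 6] p :=
  H.back (i := 2) (by decide) (f1100 H)

theorem f1102 : g 4 • path g [3, 6, 8] p = path g [3, 6, 8, 4] p :=
  rfl

theorem f1104 : g 4 • path g [3, 6, 8, 4] p = path g [9, 8, 6, 3] p :=
  scan (u := [4]) (w := [4]) (i := 4) (r10_0_0 H) (step (f1102 H) rfl) (step (H.back (i := 9) (by decide) (f433 H)) rfl)

theorem f1105 : g 9 • path g [9, 8, 6, 3] p = path g [3, 6, 8, 4] p :=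
  H.back (i := 4) (by decide) (f1104 H)

theorem f1106 : g 9 • path g [3, 6, 3] p = path g [3, 6, 3, 9] p :=
  rfl

theorem f1107 : g 4 • path g [3, 6, 3, 9] p = path g [3, 6, 3] p :=
  H.back (i := 9) (by decide) (f1106 H)

theorem f1108 : g 9 • path g [3, 6, 3, 9] p = path g [3, 9, 6, 8] p :=
  scan (u := [9]) (w := [9]) (i := 9) (r10_1_0 H) (step (f1106 H) rfl) (step (H.back (i := 4) (by decide) (f1011 H)) rfl)

theorem f1109 : g 4 • path g [3, 9, 6, 8] p = path g [3, 6, 3, 9] p :=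
  H.back (i := 9) (by decide) (f1108 H)

theorem f1110 : g 8 • path g [3, 6, 3, 9] p = path g [3, 6, 8, 4] p :=
  scan (u := [9]) (w := [9, 8]) (i := 8) (r15_1_1 H) (step (f1106 H) rfl) (step (H.back (i := 4) (by decide) (f1102 H)) (step (H.back (i := 3) (by decide) (f318 H)) rfl))

theorem f1111 : g 3 • path g [3, 6, 8, 4] p = path g [3, 6, 3, 9] p :=
  H.back (i := 8) (by decide) (f1110 H)

theorem f1112 : g 2 • path g [3, 6, 3] p = path g [3, 6, 3, 2] p :=
  rfl

theorem f1114 : g 2 • path g [3, 6, 3, 2] p = path g [3, 6, 3] p :=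
  scan (u := [2]) (w := []) (i := 2) (r2_0_0 H) (step (f1112 H) rfl) rfl

theorem f1115 : g 7 • path g [3, 6, 3] p = path g [3, 6, 3, 2] p :=
  H.back (i := 2) (by decide) (f1114 H)

theorem f1116 : g 5 • path g [3, 6, 3] p = path g [3, 6, 3, 5] p :=
  rfl

theorem f1117 : g 0 • path g [3, 6, 3, 5] p = path g [3, 6, 3] p :=
  H.back (i := 5) (by decide) (f1116 H)

theorem f1118 : g 5 • path g [3, 6, 3, 5] p = path g [3, 6, 3] p :=
  scan (u := [5]) (w := []) (i := 5) (r0_1_0 H) (step (f1116 H) rfl) rfl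

theorem f1119 : g 0 • path g [3, 6, 3] p = path g [3, 6, 3, 5] p :=
  H.back (i := 5) (by decide) (f1118 H)

theorem f1120 : g 6 • path g [3, 6, 3] p = path g [3, 6, 3, 6] p :=
  rfl

theorem f1121 : g 1 • path g [3, 6, 3, 6] p = path g [3, 6, 3] p :=
  H.back (i := 6) (by decide) (f1120 H)

theorem f1122 : g 1 • path g [3, 6, 3] p = path g [3, 6, 3, 1] p :=
  rfl

theorem f1123 : g 6 • path g [3, 6, 3, 1] p = path g [3, 6, 3] p :=
  H.back (i := 1) (by decide) (f1122 H)

theorem f1124 : g 1 • path g [3, 6, 3, 1] p = path g [3, 6, 3, 6] p :=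
  scan (u := [1]) (w := [1]) (i := 1) (r1_0_0 H) (step (f1122 H) rfl) (step (H.back (i := 6) (by decide) (f1120 H)) rfl)

theorem f1125 : g 6 • path g [3, 6, 3, 6] p = path g [3, 6, 3, 1] p :=
  H.back (i := 1) (by decide) (f1124 H)

theorem f1126 : g 5 • path g [3, 1, 8] p = path g [3, 1, 8, 5] p :=
  rfl

theorem f1127 : g 0 • path g [3, 1, 8, 5] p = path g [3, 1, 8] p :=
  H.back (i := 5) (by decide) (f1126 H)

theorem f1128 : g 5 • path g [3, 1, 8, 5] p = path g [3, 1, 8] p :=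
  scan (u := [5]) (w := []) (i := 5) (r0_1_0 H) (step (f1126 H) rfl) rfl

theorem f1129 : g 0 • path g [3, 1, 8] p = path g [3, 1, 8, 5] p :=
  H.back (i := 5) (by decide) (f1128 H)

theorem f1130 : g 7 • path g [3, 1, 8, 5] p = path g [3, 6, 8, 5] p :=
  scan (u := [5]) (w := [5, 3, 1, 0, 2, 1, 0, 8, 7]) (i := 7) (r8_1_9 H) (step (f1126 H) rfl) (step (H.back (i := 0) (by decide) (f1091 H)) (step (H.back (i := 8) (by decide) (f312 H)) (step (H.back (i := 6) (by decide) (f80 H)) (step (H.back (i := 5) (by decide) (f78 H)) (step (H.back (i := 7) (by decide) (f208 H)) (step (H.back (i := 6) (by decide) (f297 H)) (step (H.back (i := 5) (by decide) (f303 H)) (step (H.back (i := 3) (by decide) (f321 H)) (step (H.back (i := 2) (by decide) (f322 H)) rfl)))))))))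

theorem f1131 : g 2 • path g [3, 6, 8, 5] p = path g [3, 1, 8, 5] p :=
  H.back (i := 7) (by decide) (f1130 H)

theorem f1132 : g 7 • path g [3, 6, 8, 5] p = path g [3, 1, 8, 5] p :=
  scan (u := [7]) (w := []) (i := 7) (r2_1_0 H) (step (f1130 H) rfl) rfl

theorem f1133 : g 2 • path g [3, 1, 8, 5] p = path g [3, 6, 8, 5] p :=
  H.back (i := 7) (by decide) (f1132 H)

theorem f1134 : g 6 • path g [3, 1, 8] p = path g [3, 1, 8, 6] p :=
  rfl

theorem f1135 : g 1 • path g [3, 1, 8, 6] p = path g [3, 1, 8] p :=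
  H.back (i := 6) (by decide) (f1134 H)

theorem f1136 : g 1 • path g [3, 1, 8] p = path g [3, 1, 8, 1] p :=
  rfl

theorem f1137 : g 6 • path g [3, 1, 8, 1] p = path g [3, 1, 8] p :=
  H.back (i := 1) (by decide) (f1136 H)

theorem f1138 : g 1 • path g [3, 1, 8, 1] p = path g [3, 1, 8, 6] p :=
  scan (u := [1]) (w := [1]) (i := 1) (r1_0_0 H) (step (f1136 H) rfl) (step (H.back (i := 6) (by decide) (f1134 H)) rfl)

theorem f1139 : g 6 • path g [3, 1, 8, 6] p = path g [3, 1, 8, 1] p :=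
  H.back (i := 1) (by decide) (f1138 H)

theorem f1140 : g 2 • path g [3, 1, 8, 1] p = path g [3, 1, 8, 6] p :=
  scan (u := [1]) (w := [1, 2]) (i := 2) (r3_0_0 H) (step (f1136 H) rfl) (step (H.back (i := 6) (by decide) (f1134 H)) (step (H.back (i := 7) (by decide) (f323 H)) rfl))

theorem f1142 : g 2 • path g [3, 1, 8, 6] p = path g [3, 1, 8, 1] p :=
  scan (u := [2]) (w := []) (i := 2) (r2_0_0 H) (step (f1140 H) rfl) rfl

theorem f1143 : g 7 • path g [3, 1, 8, 1] p = path g [3, 1, 8, 6] p :=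
  H.back (i := 2) (by decide) (f1142 H)

theorem f1144 : g 4 • path g [3, 1, 8] p = path g [3, 1, 8, 4] p :=
  rfl

theorem f1146 : g 4 • path g [3, 1, 8, 4] p = path g [9, 8, 1, 3] p :=
  scan (u := [4]) (w := [4]) (i := 4) (r10_0_0 H) (step (f1144 H) rfl) (step (H.back (i := 9) (by decide) (f441 H)) rfl)

theorem f1147 : g 9 • path g [9, 8, 1, 3] p = path g [3, 1, 8, 4] p :=
  H.back (i := 4) (by decide) (f1146 H)

theorem f1148 : g 9 • path g [3, 1, 3] p = path g [3, 1, 3, 9] p :=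
  rfl

theorem f1149 : g 4 • path g [3, 1, 3, 9] p = path g [3, 1, 3] p :=
  H.back (i := 9) (by decide) (f1148 H)

theorem f1150 : g 9 • path g [3, 1, 3, 9] p = path g [3, 9, 1, 8] p :=
  scan (u := [9]) (w := [9]) (i := 9) (r10_1_0 H) (step (f1148 H) rfl) (step (H.back (i := 4) (by decide) (f1021 H)) rfl)

theorem f1151 : g 4 • path g [3, 9, 1, 8] p = path g [3, 1, 3, 9] p :=
  H.back (i := 9) (by decide) (f1150 H)

theorem f1152 : g 8 • path g [3, 1, 3, 9] p = path g [3, 1, 8, 4] p :=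
  scan (u := [9]) (w := [9, 8]) (i := 8) (r15_1_1 H) (step (f1148 H) rfl) (step (H.back (i := 4) (by decide) (f1144 H)) (step (H.back (i := 3) (by decide) (f326 H)) rfl))

theorem f1153 : g 3 • path g [3, 1, 8, 4] p = path g [3, 1, 3, 9] p :=
  H.back (i := 8) (by decide) (f1152 H)

theorem f1154 : g 2 • path g [3, 1, 3] p = path g [3, 1, 3, 2] p :=
  rfl

theorem f1156 : g 2 • path g [3, 1, 3, 2] p = path g [3, 1, 3] p :=
  scan (u := [2]) (w := []) (i := 2) (r2_0_0 H) (step (f1154 H) rfl) rfl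

theorem f1157 : g 7 • path g [3, 1, 3] p = path g [3, 1, 3, 2] p :=
  H.back (i := 2) (by decide) (f1156 H)

theorem f1158 : g 5 • path g [3, 1, 3] p = path g [3, 1, 3, 5] p :=
  rfl

theorem f1159 : g 0 • path g [3, 1, 3, 5] p = path g [3, 1, 3] p :=
  H.back (i := 5) (by decide) (f1158 H)

theorem f1160 : g 5 • path g [3, 1, 3, 5] p = path g [3, 1, 3] p :=
  scan (u := [5]) (w := []) (i := 5) (r0_1_0 H) (step (f1158 H) rfl) rfl

theorem f1161 : g 0 • path g [3, 1, 3] p = path g [3, 1, 3, 5] p :=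
  H.back (i := 5) (by decide) (f1160 H)

theorem f1162 : g 6 • path g [3, 1, 3] p = path g [3, 1, 3, 6] p :=
  rfl

theorem f1163 : g 1 • path g [3, 1, 3, 6] p = path g [3, 1, 3] p :=
  H.back (i := 6) (by decide) (f1162 H)

theorem f1164 : g 1 • path g [3, 1, 3] p = path g [3, 1, 3, 1] p :=
  rfl

theorem f1165 : g 6 • path g [3, 1, 3, 1] p = path g [3, 1, 3] p :=
  H.back (i := 1) (by decide) (f1164 H)

theorem f1166 : g 1 • path g [3, 1, 3, 1] p = path g [3, 1, 3, 6] p :=
  scan (u := [1]) (w := [1]) (i := 1) (r1_0_0 H) (step (f1164 H) rfl) (step (H.back (i := 6) (by decide) (f1162 H)) rfl)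

theorem f1167 : g 6 • path g [3, 1, 3, 6] p = path g [3, 1, 3, 1] p :=
  H.back (i := 1) (by decide) (f1166 H)

theorem f1168 : g 9 • path g [4, 8, 2] p = path g [4, 8, 2, 9] p :=
  rfl

theorem f1169 : g 4 • path g [4, 8, 2, 9] p = path g [4, 8, 2] p :=
  H.back (i := 9) (by decide) (f1168 H)

theorem f1170 : g 8 • path g [4, 8, 2] p = path g [4, 8, 2, 8] p :=
  rfl

theorem f1171 : g 3 • path g [4, 8, 2, 8] p = path g [4, 8, 2] p :=
  H.back (i := 8) (by decide) (f1170 H)

theorem f1172 : g 8 • path g [4, 8, 2, 8] p = path g [9, 2, 5, 2] p :=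
  scan (u := [8]) (w := [8]) (i := 8) (r6_1_0 H) (step (f1170 H) rfl) (step (H.back (i := 3) (by decide) (f499 H)) rfl)

theorem f1173 : g 3 • path g [9, 2, 5, 2] p = path g [4, 8, 2, 8] p :=
  H.back (i := 8) (by decide) (f1172 H)

theorem f1174 : g 5 • path g [4, 8, 2] p = path g [4, 8, 2, 5] p :=
  rfl

theorem f1175 : g 0 • path g [4, 8, 2, 5] p = path g [4, 8, 2] p :=
  H.back (i := 5) (by decide) (f1174 H)

theorem f1176 : g 5 • path g [4, 8, 2, 5] p = path g [4, 8, 2] p :=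
  scan (u := [5]) (w := []) (i := 5) (r0_1_0 H) (step (f1174 H) rfl) rfl

theorem f1177 : g 0 • path g [4, 8, 2] p = path g [4, 8, 2, 5] p :=
  H.back (i := 5) (by decide) (f1176 H)

theorem f1178 : g 6 • path g [4, 8, 2] p = path g [4, 8, 2, 6] p :=
  rfl

theorem f1179 : g 1 • path g [4, 8, 2, 6] p = path g [4, 8, 2] p :=
  H.back (i := 6) (by decide) (f1178 H)

theorem f1180 : g 7 • path g [4, 8, 2, 6] p = path g [4, 8, 1] p :=
  scan (u := [6]) (w := [6, 7]) (i := 7) (r3_1_1 H) (step (f1178 H) rfl) (step (H.back (i := 1) (by decide) (f342 H)) (step (H.back (i := 2) (by decide) (f330 H)) rfl))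

theorem f1181 : g 2 • path g [4, 8, 1] p = path g [4, 8, 2, 6] p :=
  H.back (i := 7) (by decide) (f1180 H)

theorem f1182 : g 7 • path g [4, 8, 1] p = path g [4, 8, 2, 6] p :=
  scan (u := [7]) (w := []) (i := 7) (r2_1_0 H) (step (f1180 H) rfl) rfl

theorem f1183 : g 2 • path g [4, 8, 2, 6] p = path g [4, 8, 1] p :=
  H.back (i := 7) (by decide) (f1182 H)

theorem f1184 : g 1 • path g [4, 8, 2] p = path g [4, 8, 2, 1] p :=
  rfl

theorem f1185 : g 6 • path g [4, 8, 2, 1] p = path g [4, 8, 2] p :=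
  H.back (i := 1) (by decide) (f1184 H)

theorem f1186 : g 1 • path g [4, 8, 2, 1] p = path g [4, 8, 2, 6] p :=
  scan (u := [1]) (w := [1]) (i := 1) (r1_0_0 H) (step (f1184 H) rfl) (step (H.back (i := 6) (by decide) (f1178 H)) rfl)

theorem f1187 : g 6 • path g [4, 8, 2, 6] p = path g [4, 8, 2, 1] p :=
  H.back (i := 1) (by decide) (f1186 H)

theorem f1188 : g 2 • path g [4, 8, 2, 1] p = path g [4, 8, 6] p :=
  scan (u := [1]) (w := [1, 2]) (i := 2) (r3_0_0 H) (step (f1184 H) rfl) (step (H.back (i := 6) (by decide) (f338 H)) (step (H.back (i := 7) (by decide) (f329 H)) rfl))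

theorem f1189 : g 7 • path g [4, 8, 6] p = path g [4, 8, 2, 1] p :=
  H.back (i := 2) (by decide) (f1188 H)

theorem f1190 : g 2 • path g [4, 8, 6] p = path g [4, 8, 2, 1] p :=
  scan (u := [2]) (w := []) (i := 2) (r2_0_0 H) (step (f1188 H) rfl) rfl

theorem f1191 : g 7 • path g [4, 8, 2, 1] p = path g [4, 8, 6] p :=
  H.back (i := 2) (by decide) (f1190 H)

theorem f1192 : g 4 • path g [4, 8, 2] p = path g [4, 8, 2, 4] p :=
  rfl

theorem f1194 : g 4 • path g [4, 8, 2, 4] p = path g [4, 8, 2, 9] p :=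
  scan (u := [4]) (w := [4]) (i := 4) (r10_0_0 H) (step (f1192 H) rfl) (step (H.back (i := 9) (by decide) (f1168 H)) rfl)

theorem f1195 : g 9 • path g [4, 8, 2, 9] p = path g [4, 8, 2, 4] p :=
  H.back (i := 4) (by decide) (f1194 H)

theorem f1196 : g 8 • path g [4, 8, 5] p = path g [4, 8, 5, 8] p :=
  rfl

theorem f1197 : g 3 • path g [4, 8, 5, 8] p = path g [4, 8, 5] p :=
  H.back (i := 8) (by decide) (f1196 H)

theorem f1198 : g 2 • path g [4, 8, 5] p = path g [4, 8, 5, 2] p :=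
  rfl

theorem f1199 : g 7 • path g [4, 8, 5, 2] p = path g [4, 8, 5] p :=
  H.back (i := 2) (by decide) (f1198 H)

theorem f1200 : g 2 • path g [4, 8, 5, 2] p = path g [4, 8, 5] p :=
  scan (u := [2]) (w := []) (i := 2) (r2_0_0 H) (step (f1198 H) rfl) rfl

theorem f1201 : g 7 • path g [4, 8, 5] p = path g [4, 8, 5, 2] p :=
  H.back (i := 2) (by decide) (f1200 H)

theorem f1202 : g 3 • path g [4, 8, 5] p = path g [4, 8, 5, 3] p :=
  rfl

theorem f1204 : g 3 • path g [4, 8, 5, 3] p = path g [4, 8, 5, 8] p :=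
  scan (u := [3]) (w := [3]) (i := 3) (r6_0_0 H) (step (f1202 H) rfl) (step (H.back (i := 8) (by decide) (f1196 H)) rfl)

theorem f1205 : g 8 • path g [4, 8, 5, 8] p = path g [4, 8, 5, 3] p :=
  H.back (i := 3) (by decide) (f1204 H)

theorem f1208 : g 6 • path g [4, 8, 5] p = path g [4, 8, 5, 6] p :=
  rfl

theorem f1209 : g 1 • path g [4, 8, 5, 6] p = path g [4, 8, 5] p :=
  H.back (i := 6) (by decide) (f1208 H)

theorem f1210 : g 9 • path g [4, 8, 5, 6] p = path g [9, 3, 5, 6] p :=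
  scan (u := [6]) (w := [1, 4]) (i := 9) (r14_0_2 H) (step (f1208 H) rfl) (step (H.back (i := 6) (by decide) (f620 H)) (step (H.back (i := 9) (by decide) (f336 H)) rfl))

theorem f1211 : g 4 • path g [9, 3, 5, 6] p = path g [4, 8, 5, 6] p :=
  H.back (i := 9) (by decide) (f1210 H)

theorem f1212 : g 1 • path g [4, 8, 5] p = path g [4, 8, 5, 1] p :=
  rfl

theorem f1213 : g 6 • path g [4, 8, 5, 1] p = path g [4, 8, 5] p :=
  H.back (i := 1) (by decide) (f1212 H)

theorem f1214 : g 1 • path g [4, 8, 5, 1] p = path g [4, 8, 5, 6] p :=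
  scan (u := [1]) (w := [1]) (i := 1) (r1_0_0 H) (step (f1212 H) rfl) (step (H.back (i := 6) (by decide) (f1208 H)) rfl)

theorem f1215 : g 6 • path g [4, 8, 5, 6] p = path g [4, 8, 5, 1] p :=
  H.back (i := 1) (by decide) (f1214 H)

theorem f1216 : g 9 • path g [4, 8, 5, 1] p = path g [9, 3, 5, 1] p :=
  scan (u := [1]) (w := [6, 4]) (i := 9) (r14_1_1 H) (step (f1212 H) rfl) (step (H.back (i := 1) (by decide) (f622 H)) (step (H.back (i := 9) (by decide) (f336 H)) rfl))

theorem f1217 : g 4 • path g [9, 3, 5, 1] p = path g [4, 8, 5, 1] p :=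
  H.back (i := 9) (by decide) (f1216 H)

theorem f1218 : g 8 • path g [4, 8, 6] p = path g [4, 8, 6, 8] p :=
  rfl

theorem f1219 : g 3 • path g [4, 8, 6, 8] p = path g [4, 8, 6] p :=
  H.back (i := 8) (by decide) (f1218 H)

theorem f1220 : g 5 • path g [4, 8, 6] p = path g [4, 8, 6, 5] p :=
  rfl

theorem f1222 : g 5 • path g [4, 8, 6, 5] p = path g [4, 8, 6] p :=
  scan (u := [5]) (w := []) (i := 5) (r0_1_0 H) (step (f1220 H) rfl) rfl

theorem f1223 : g 0 • path g [4, 8, 6] p = path g [4, 8, 6, 5] p :=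
  H.back (i := 5) (by decide) (f1222 H)

theorem f1224 : g 9 • path g [4, 8, 6, 5] p = path g [9, 3, 6, 5] p :=
  scan (u := [5]) (w := [0, 4]) (i := 9) (r13_0_0 H) (step (f1220 H) rfl) (step (H.back (i := 5) (by decide) (f628 H)) (step (H.back (i := 9) (by decide) (f340 H)) rfl))

theorem f1226 : g 3 • path g [4, 8, 6] p = path g [4, 8, 6, 3] p :=
  rfl

theorem f1227 : g 8 • path g [4, 8, 6, 3] p = path g [4, 8, 6] p :=
  H.back (i := 3) (by decide) (f1226 H)

theorem f1228 : g 3 • path g [4, 8, 6, 3] p = path g [4, 8, 6, 8] p :=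
  scan (u := [3]) (w := [3]) (i := 3) (r6_0_0 H) (step (f1226 H) rfl) (step (H.back (i := 8) (by decide) (f1218 H)) rfl)

theorem f1230 : g 4 • path g [4, 8, 6, 3] p = path g [9, 3, 6, 8] p :=
  scan (u := [3]) (w := [3, 4]) (i := 4) (r15_0_1 H) (step (f1226 H) rfl) (step (H.back (i := 8) (by decide) (f626 H)) (step (H.back (i := 9) (by decide) (f340 H)) rfl))

theorem f1231 : g 9 • path g [9, 3, 6, 8] p = path g [4, 8, 6, 3] p :=
  H.back (i := 4) (by decide) (f1230 H)

theorem f1232 : g 8 • path g [4, 8, 1] p = path g [4, 8, 1, 8] p :=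
  rfl

theorem f1233 : g 3 • path g [4, 8, 1, 8] p = path g [4, 8, 1] p :=
  H.back (i := 8) (by decide) (f1232 H)

theorem f1234 : g 5 • path g [4, 8, 1] p = path g [4, 8, 1, 5] p :=
  rfl

theorem f1235 : g 0 • path g [4, 8, 1, 5] p = path g [4, 8, 1] p :=
  H.back (i := 5) (by decide) (f1234 H)

theorem f1236 : g 5 • path g [4, 8, 1, 5] p = path g [4, 8, 1] p :=
  scan (u := [5]) (w := []) (i := 5) (r0_1_0 H) (step (f1234 H) rfl) rfl

theorem f1238 : g 9 • path g [4, 8, 1, 5] p = path g [9, 3, 1, 5] p :=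
  scan (u := [5]) (w := [0, 4]) (i := 9) (r13_0_0 H) (step (f1234 H) rfl) (step (H.back (i := 5) (by decide) (f638 H)) (step (H.back (i := 9) (by decide) (f346 H)) rfl))

theorem f1239 : g 4 • path g [9, 3, 1, 5] p = path g [4, 8, 1, 5] p :=
  H.back (i := 9) (by decide) (f1238 H)

theorem f1240 : g 3 • path g [4, 8, 1] p = path g [4, 8, 1, 3] p :=
  rfl

theorem f1242 : g 3 • path g [4, 8, 1, 3] p = path g [4, 8, 1, 8] p :=
  scan (u := [3]) (w := [3]) (i := 3) (r6_0_0 H) (step (f1240 H) rfl) (step (H.back (i := 8) (by decide) (f1232 H)) rfl)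

theorem f1244 : g 4 • path g [4, 8, 1, 3] p = path g [9, 3, 1, 8] p :=
  scan (u := [3]) (w := [3, 4]) (i := 4) (r15_0_1 H) (step (f1240 H) rfl) (step (H.back (i := 8) (by decide) (f636 H)) (step (H.back (i := 9) (by decide) (f346 H)) rfl))

theorem f1245 : g 9 • path g [9, 3, 1, 8] p = path g [4, 8, 1, 3] p :=
  H.back (i := 4) (by decide) (f1244 H)

theorem f1246 : g 8 • path g [4, 2, 9] p = path g [4, 2, 9, 8] p :=
  rfl

theorem f1247 : g 3 • path g [4, 2, 9, 8] p = path g [4, 2, 9] p :=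
  H.back (i := 8) (by decide) (f1246 H)

theorem f1248 : g 9 • path g [4, 2, 9, 8] p = path g [4, 2, 3] p :=
  scan (u := [8]) (w := [8, 9]) (i := 9) (r15_1_0 H) (step (f1246 H) rfl) (step (H.back (i := 3) (by decide) (f358 H)) (step (H.back (i := 4) (by decide) (f349 H)) rfl))

theorem f1249 : g 4 • path g [4, 2, 3] p = path g [4, 2, 9, 8] p :=
  H.back (i := 9) (by decide) (f1248 H)

theorem f1250 : g 2 • path g [4, 2, 9] p = path g [4, 2, 9, 2] p :=
  rfl

theorem f1252 : g 2 • path g [4, 2, 9, 2] p = path g [4, 2, 9] p :=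
  scan (u := [2]) (w := []) (i := 2) (r2_0_0 H) (step (f1250 H) rfl) rfl

theorem f1253 : g 7 • path g [4, 2, 9] p = path g [4, 2, 9, 2] p :=
  H.back (i := 2) (by decide) (f1252 H)

theorem f1254 : g 1 • path g [4, 2, 9, 2] p = path g [4, 2, 9, 2] p :=
  scan (u := [2]) (w := [2, 1]) (i := 1) (r3_0_1 H) (step (f1250 H) rfl) (step (H.back (i := 7) (by decide) (f1253 H)) (step (H.back (i := 6) (by decide) (f351 H)) rfl))

theorem f1256 : g 5 • path g [4, 2, 9] p = path g [4, 2, 9, 5] p :=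
  rfl

theorem f1257 : g 0 • path g [4, 2, 9, 5] p = path g [4, 2, 9] p :=
  H.back (i := 5) (by decide) (f1256 H)

theorem f1258 : g 5 • path g [4, 2, 9, 5] p = path g [4, 2, 9] p :=
  scan (u := [5]) (w := []) (i := 5) (r0_1_0 H) (step (f1256 H) rfl) rfl

theorem f1259 : g 0 • path g [4, 2, 9] p = path g [4, 2, 9, 5] p :=
  H.back (i := 5) (by decide) (f1258 H)

theorem f1260 : g 4 • path g [4, 2, 9, 5] p = path g [4, 2, 5] p :=
  scan (u := [5]) (w := [0, 9]) (i := 4) (r13_1_1 H) (step (f1256 H) rfl) (step (H.back (i := 5) (by decide) (f354 H)) (step (H.back (i := 4) (by decide) (f349 H)) rfl))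

theorem f1261 : g 9 • path g [4, 2, 5] p = path g [4, 2, 9, 5] p :=
  H.back (i := 4) (by decide) (f1260 H)

theorem f1262 : g 3 • path g [4, 2, 9] p = path g [4, 2, 9, 3] p :=
  rfl

theorem f1263 : g 8 • path g [4, 2, 9, 3] p = path g [4, 2, 9] p :=
  H.back (i := 3) (by decide) (f1262 H)

theorem f1264 : g 3 • path g [4, 2, 9, 3] p = path g [4, 2, 9, 8] p :=
  scan (u := [3]) (w := [3]) (i := 3) (r6_0_0 H) (step (f1262 H) rfl) (step (H.back (i := 8) (by decide) (f1246 H)) rfl)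

theorem f1266 : g 9 • path g [4, 2, 8] p = path g [4, 2, 8, 9] p :=
  rfl

theorem f1267 : g 4 • path g [4, 2, 8, 9] p = path g [4, 2, 8] p :=
  H.back (i := 9) (by decide) (f1266 H)

theorem f1268 : g 8 • path g [4, 2, 8, 9] p = path g [4, 2, 4] p :=
  scan (u := [9]) (w := [9, 8]) (i := 8) (r15_1_1 H) (step (f1266 H) rfl) (step (H.back (i := 4) (by decide) (f362 H)) (step (H.back (i := 3) (by decide) (f353 H)) rfl))

theorem f1269 : g 3 • path g [4, 2, 4] p = path g [4, 2, 8, 9] p :=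
  H.back (i := 8) (by decide) (f1268 H)

theorem f1270 : g 2 • path g [4, 2, 8] p = path g [4, 2, 8, 2] p :=
  rfl

theorem f1271 : g 7 • path g [4, 2, 8, 2] p = path g [4, 2, 8] p :=
  H.back (i := 2) (by decide) (f1270 H)

theorem f1272 : g 2 • path g [4, 2, 8, 2] p = path g [4, 2, 8] p :=
  scan (u := [2]) (w := []) (i := 2) (r2_0_0 H) (step (f1270 H) rfl) rfl

theorem f1273 : g 7 • path g [4, 2, 8] p = path g [4, 2, 8, 2] p :=
  H.back (i := 2) (by decide) (f1272 H)

theorem f1274 : g 5 • path g [4, 2, 8] p = path g [4, 2, 8, 5] p :=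
  rfl

theorem f1275 : g 0 • path g [4, 2, 8, 5] p = path g [4, 2, 8] p :=
  H.back (i := 5) (by decide) (f1274 H)

theorem f1276 : g 5 • path g [4, 2, 8, 5] p = path g [4, 2, 8] p :=
  scan (u := [5]) (w := []) (i := 5) (r0_1_0 H) (step (f1274 H) rfl) rfl

theorem f1277 : g 0 • path g [4, 2, 8] p = path g [4, 2, 8, 5] p :=
  H.back (i := 5) (by decide) (f1276 H)

theorem f1278 : g 6 • path g [4, 2, 8] p = path g [4, 2, 8, 6] p :=
  rfl

theorem f1279 : g 1 • path g [4, 2, 8, 6] p = path g [4, 2, 8] p :=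
  H.back (i := 6) (by decide) (f1278 H)

theorem f1280 : g 1 • path g [4, 2, 8] p = path g [4, 2, 8, 1] p :=
  rfl

theorem f1281 : g 6 • path g [4, 2, 8, 1] p = path g [4, 2, 8] p :=
  H.back (i := 1) (by decide) (f1280 H)

theorem f1282 : g 1 • path g [4, 2, 8, 1] p = path g [4, 2, 8, 6] p :=
  scan (u := [1]) (w := [1]) (i := 1) (r1_0_0 H) (step (f1280 H) rfl) (step (H.back (i := 6) (by decide) (f1278 H)) rfl)

theorem f1283 : g 6 • path g [4, 2, 8, 6] p = path g [4, 2, 8, 1] p :=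
  H.back (i := 1) (by decide) (f1282 H)

theorem f1284 : g 4 • path g [4, 2, 8] p = path g [4, 2, 8, 4] p :=
  rfl

theorem f1286 : g 4 • path g [4, 2, 8, 4] p = path g [4, 2, 8, 9] p :=
  scan (u := [4]) (w := [4]) (i := 4) (r10_0_0 H) (step (f1284 H) rfl) (step (H.back (i := 9) (by decide) (f1266 H)) rfl)

theorem f1287 : g 9 • path g [4, 2, 8, 9] p = path g [4, 2, 8, 4] p :=
  H.back (i := 4) (by decide) (f1286 H)

theorem f1288 : g 8 • path g [4, 2, 5] p = path g [4, 2, 5, 8] p :=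
  rfl

theorem f1289 : g 3 • path g [4, 2, 5, 8] p = path g [4, 2, 5] p :=
  H.back (i := 8) (by decide) (f1288 H)

theorem f1290 : g 3 • path g [4, 2, 5] p = path g [4, 2, 5, 3] p :=
  rfl

theorem f1291 : g 8 • path g [4, 2, 5, 3] p = path g [4, 2, 5] p :=
  H.back (i := 3) (by decide) (f1290 H)

theorem f1292 : g 3 • path g [4, 2, 5, 3] p = path g [4, 2, 5, 8] p :=
  scan (u := [3]) (w := [3]) (i := 3) (r6_0_0 H) (step (f1290 H) rfl) (step (H.back (i := 8) (by decide) (f1288 H)) rfl)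

theorem f1293 : g 8 • path g [4, 2, 5, 8] p = path g [4, 2, 5, 3] p :=
  H.back (i := 3) (by decide) (f1292 H)

theorem f1294 : g 6 • path g [4, 2, 5] p = path g [4, 2, 5, 6] p :=
  rfl

theorem f1295 : g 1 • path g [4, 2, 5, 6] p = path g [4, 2, 5] p :=
  H.back (i := 6) (by decide) (f1294 H)

theorem f1296 : g 1 • path g [4, 2, 5] p = path g [4, 2, 5, 1] p :=
  rfl

theorem f1297 : g 6 • path g [4, 2, 5, 1] p = path g [4, 2, 5] p :=
  H.back (i := 1) (by decide) (f1296 H)

theorem f1298 : g 1 • path g [4, 2, 5, 1] p = path g [4, 2, 5, 6] p :=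
  scan (u := [1]) (w := [1]) (i := 1) (r1_0_0 H) (step (f1296 H) rfl) (step (H.back (i := 6) (by decide) (f1294 H)) rfl)

theorem f1299 : g 6 • path g [4, 2, 5, 6] p = path g [4, 2, 5, 1] p :=
  H.back (i := 1) (by decide) (f1298 H)

theorem f1300 : g 0 • path g [4, 2, 5, 1] p = path g [4, 2, 5, 6] p :=
  scan (u := [1]) (w := [1, 0, 6, 6, 0]) (i := 0) (r4_0_4 H) (step (f1296 H) rfl) (step (H.back (i := 6) (by decide) (f1294 H)) (step (H.back (i := 5) (by decide) (f354 H)) (step (H.back (i := 1) (by decide) (f100 H)) (step (H.back (i := 1) (by decide) (f100 H)) (step (H.back (i := 5) (by decide) (f356 H)) rfl)))))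

theorem f1302 : g 0 • path g [4, 2, 5, 6] p = path g [4, 2, 5, 1] p :=
  scan (u := [0]) (w := []) (i := 0) (r0_0_0 H) (step (f1300 H) rfl) rfl

theorem f1303 : g 5 • path g [4, 2, 5, 1] p = path g [4, 2, 5, 6] p :=
  H.back (i := 0) (by decide) (f1302 H)

theorem f1304 : g 4 • path g [4, 2, 5] p = path g [4, 2, 5, 4] p :=
  rfl

theorem f1306 : g 4 • path g [4, 2, 5, 4] p = path g [4, 2, 9, 5] p :=
  scan (u := [4]) (w := [4]) (i := 4) (r10_0_0 H) (step (f1304 H) rfl) (step (H.back (i := 9) (by decide) (f1261 H)) rfl)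

theorem f1308 : g 5 • path g [4, 2, 5, 4] p = path g [4, 2, 4] p :=
  scan (u := [4]) (w := [9, 0]) (i := 5) (r13_0_3 H) (step (f1304 H) rfl) (step (H.back (i := 4) (by decide) (f362 H)) (step (H.back (i := 5) (by decide) (f356 H)) rfl))

theorem f1309 : g 0 • path g [4, 2, 4] p = path g [4, 2, 5, 4] p :=
  H.back (i := 5) (by decide) (f1308 H)

theorem f1310 : g 0 • path g [4, 2, 5, 4] p = path g [4, 2, 4] p :=
  scan (u := [4]) (w := [9, 5]) (i := 0) (r13_1_2 H) (step (f1304 H) rfl) (step (H.back (i := 4) (by decide) (f362 H)) (step (H.back (i := 0) (by decide) (f355 H)) rfl))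

theorem f1311 : g 5 • path g [4, 2, 4] p = path g [4, 2, 5, 4] p :=
  H.back (i := 0) (by decide) (f1310 H)

theorem f1312 : g 9 • path g [4, 2, 3] p = path g [4, 2, 3, 9] p :=
  rfl

theorem f1313 : g 4 • path g [4, 2, 3, 9] p = path g [4, 2, 3] p :=
  H.back (i := 9) (by decide) (f1312 H)

theorem f1314 : g 9 • path g [4, 2, 3, 9] p = path g [4, 2, 9, 8] p :=
  scan (u := [9]) (w := [9]) (i := 9) (r10_1_0 H) (step (f1312 H) rfl) (step (H.back (i := 4) (by decide) (f1249 H)) rfl)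

theorem f1315 : g 4 • path g [4, 2, 9, 8] p = path g [4, 2, 3, 9] p :=
  H.back (i := 9) (by decide) (f1314 H)

theorem f1316 : g 8 • path g [4, 2, 3, 9] p = path g [4, 2, 8, 4] p :=
  scan (u := [9]) (w := [9, 8]) (i := 8) (r15_1_1 H) (step (f1312 H) rfl) (step (H.back (i := 4) (by decide) (f1284 H)) (step (H.back (i := 3) (by decide) (f360 H)) rfl))

theorem f1317 : g 3 • path g [4, 2, 8, 4] p = path g [4, 2, 3, 9] p :=
  H.back (i := 8) (by decide) (f1316 H)

theorem f1318 : g 2 • path g [4, 2, 3] p = path g [4, 2, 3, 2] p :=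
  rfl

theorem f1319 : g 7 • path g [4, 2, 3, 2] p = path g [4, 2, 3] p :=
  H.back (i := 2) (by decide) (f1318 H)

theorem f1320 : g 2 • path g [4, 2, 3, 2] p = path g [4, 2, 3] p :=
  scan (u := [2]) (w := []) (i := 2) (r2_0_0 H) (step (f1318 H) rfl) rfl

theorem f1321 : g 7 • path g [4, 2, 3] p = path g [4, 2, 3, 2] p :=
  H.back (i := 2) (by decide) (f1320 H)

theorem f1322 : g 5 • path g [4, 2, 3] p = path g [4, 2, 3, 5] p :=
  rfl

theorem f1324 : g 5 • path g [4, 2, 3, 5] p = path g [4, 2, 3] p :=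
  scan (u := [5]) (w := []) (i := 5) (r0_1_0 H) (step (f1322 H) rfl) rfl

theorem f1325 : g 0 • path g [4, 2, 3] p = path g [4, 2, 3, 5] p :=
  H.back (i := 5) (by decide) (f1324 H)

theorem f1326 : g 7 • path g [8, 9, 2, 5] p = path g [4, 2, 3, 5] p :=
  scan (u := [5, 8, 2, 3, 6, 5, 7, 6, 5]) (w := []) (i := 7) (r7_0_8 H) (step (f1324 H) (step (f359 H) (step (f98 H) (step (f45 H) (step (f174 H) (step (f179 H) (step (f669 H) (step (f665 H) (step (f650 H) rfl))))))))) rfl

theorem f1327 : g 2 • path g [4, 2, 3, 5] p = path g [8, 9, 2, 5] p :=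
  H.back (i := 7) (by decide) (f1326 H)

theorem f1328 : g 5 • path g [4, 2, 3, 2] p = path g [8, 5, 4, 2] p :=
  scan (u := [5, 7]) (w := [7, 9, 2, 0, 2, 0, 2, 0, 2, 0, 9, 5, 7, 5, 7]) (i := 5) (r11_1_17 H) (step (f1324 H) (step (f1321 H) rfl)) (step (H.back (i := 2) (by decide) (f810 H)) (step (H.back (i := 4) (by decide) (f216 H)) (step (H.back (i := 7) (by decide) (f50 H)) (step (H.back (i := 5) (by decide) (f46 H)) (step (H.back (i := 7) (by decide) (f15 H)) (step (H.back (i := 5) (by decide) (f48 H)) (step (H.back (i := 7) (by decide) (f50 H)) (step (H.back (i := 5) (by decide) (f46 H)) (step (H.back (i := 7) (by decide) (f15 H)) (step (H.back (i := 5) (by decide) (f48 H)) (step (H.back (i := 4) (by decide) (f172 H)) (step (H.back (i := 0) (by decide) (f171 H)) (step (H.back (i := 2) (by decide) (f166 H)) (step (H.back (i := 0) (by decide) (f651 H)) (step (H.back (i := 2) (by decide) (f1327 H)) rfl)))))))))))))))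

theorem f1330 : g 5 • path g [8, 5, 4, 2] p = path g [4, 2, 3, 2] p :=
  scan (u := [5]) (w := []) (i := 5) (r0_1_0 H) (step (f1328 H) rfl) rfl

theorem f1332 : g 7 • path g [4, 2, 3, 5] p = path g [8, 9, 2, 5] p :=
  scan (u := [5, 7, 5]) (w := [5, 7, 4, 2, 0, 2, 0, 2, 0, 2, 0, 4, 5, 7]) (i := 7) (r11_0_8 H) (step (f1330 H) (step (f1319 H) (step (f1322 H) rfl))) (step (H.back (i := 0) (by decide) (f653 H)) (step (H.back (i := 2) (by decide) (f164 H)) (step (H.back (i := 9) (by decide) (f42 H)) (step (H.back (i := 7) (by decide) (f15 H)) (step (H.back (i := 5) (by decide) (f48 H)) (step (H.back (i := 7) (by decide) (f50 H)) (step (H.back (i := 5) (by decide) (f46 H)) (step (H.back (i := 7) (by decide) (f15 H)) (step (H.back (i := 5) (by decide) (f48 H)) (step (H.back (i := 7) (by decide) (f50 H)) (step (H.back (i := 5) (by decide) (f46 H)) (step (H.back (i := 9) (by decide) (f67 H)) (step (H.back (i := 0) (by decide) (f222 H)) (step (H.back (i := 2)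 (by decide) (f812 H)) rfl))))))))))))))

theorem f1334 : g 6 • path g [4, 2, 3] p = path g [4, 2, 3, 6] p :=
  rfl

theorem f1335 : g 1 • path g [4, 2, 3, 6] p = path g [4, 2, 3] p :=
  H.back (i := 6) (by decide) (f1334 H)

theorem f1336 : g 1 • path g [4, 2, 3] p = path g [4, 2, 3, 1] p :=
  rfl

theorem f1337 : g 6 • path g [4, 2, 3, 1] p = path g [4, 2, 3] p :=
  H.back (i := 1) (by decide) (f1336 H)

theorem f1338 : g 1 • path g [4, 2, 3, 1] p = path g [4, 2, 3, 6] p :=
  scan (u := [1]) (w := [1]) (i := 1) (r1_0_0 H) (step (f1336 H) rfl) (step (H.back (i := 6) (by decide) (f1334 H)) rfl)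

theorem f1339 : g 6 • path g [4, 2, 3, 6] p = path g [4, 2, 3, 1] p :=
  H.back (i := 1) (by decide) (f1338 H)

theorem f1340 : g 8 • path g [4, 2, 4] p = path g [4, 2, 4, 8] p :=
  rfl

theorem f1341 : g 3 • path g [4, 2, 4, 8] p = path g [4, 2, 4] p :=
  H.back (i := 8) (by decide) (f1340 H)

theorem f1342 : g 8 • path g [4, 2, 4, 8] p = path g [4, 2, 8, 9] p :=
  scan (u := [8]) (w := [8]) (i := 8) (r6_1_0 H) (step (f1340 H) rfl) (step (H.back (i := 3) (by decide) (f1269 H)) rfl)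

theorem f1343 : g 3 • path g [4, 2, 8, 9] p = path g [4, 2, 4, 8] p :=
  H.back (i := 8) (by decide) (f1342 H)

theorem f1344 : g 9 • path g [4, 2, 4, 8] p = path g [4, 2, 9, 3] p :=
  scan (u := [8]) (w := [8, 9]) (i := 9) (r15_1_0 H) (step (f1340 H) rfl) (step (H.back (i := 3) (by decide) (f1262 H)) (step (H.back (i := 4) (by decide) (f364 H)) rfl))

theorem f1345 : g 4 • path g [4, 2, 9, 3] p = path g [4, 2, 4, 8] p :=
  H.back (i := 9) (by decide) (f1344 H)

theorem f1346 : g 2 • path g [4, 2, 4] p = path g [4, 2, 4, 2] p :=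
  rfl

theorem f1348 : g 2 • path g [4, 2, 4, 2] p = path g [4, 2, 4] p :=
  scan (u := [2]) (w := []) (i := 2) (r2_0_0 H) (step (f1346 H) rfl) rfl

theorem f1349 : g 7 • path g [4, 2, 4] p = path g [4, 2, 4, 2] p :=
  H.back (i := 2) (by decide) (f1348 H)

theorem f1352 : g 8 • path g [9, 8, 2, 9] p = path g [9, 8, 2, 9, 8] p :=
  rfl

theorem f1354 : g 9 • path g [9, 8, 2, 9, 8] p = path g [9, 8, 2, 3] p :=
  scan (u := [8]) (w := [8, 9]) (i := 9) (r15_1_0 H) (step (f1352 H) rfl) (step (H.back (i := 3) (by decide) (f376 H)) (step (H.back (i := 4) (by decide) (f369 H)) rfl))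

theorem f1355 : g 4 • path g [9, 8, 2, 3] p = path g [9, 8, 2, 9, 8] p :=
  H.back (i := 9) (by decide) (f1354 H)

theorem f1356 : g 2 • path g [9, 8, 2, 9] p = path g [9, 8, 2, 9, 2] p :=
  rfl

theorem f1357 : g 7 • path g [9, 8, 2, 9, 2] p = path g [9, 8, 2, 9] p :=
  H.back (i := 2) (by decide) (f1356 H)

theorem f1358 : g 2 • path g [9, 8, 2, 9, 2] p = path g [9, 8, 2, 9] p :=
  scan (u := [2]) (w := []) (i := 2) (r2_0_0 H) (step (f1356 H) rfl) rfl

theorem f1359 : g 7 • path g [9, 8, 2, 9] p = path g [9, 8, 2, 9, 2] p :=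
  H.back (i := 2) (by decide) (f1358 H)

theorem f1360 : g 5 • path g [9, 8, 2, 9] p = path g [9, 8, 2, 9, 5] p :=
  rfl

theorem f1361 : g 0 • path g [9, 8, 2, 9, 5] p = path g [9, 8, 2, 9] p :=
  H.back (i := 5) (by decide) (f1360 H)

theorem f1362 : g 5 • path g [9, 8, 2, 9, 5] p = path g [9, 8, 2, 9] p :=
  scan (u := [5]) (w := []) (i := 5) (r0_1_0 H) (step (f1360 H) rfl) rfl

theorem f1363 : g 0 • path g [9, 8, 2, 9] p = path g [9, 8, 2, 9, 5] p :=
  H.back (i := 5) (by decide) (f1362 H)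

theorem f1364 : g 4 • path g [9, 8, 2, 9, 5] p = path g [9, 8, 2, 5] p :=
  scan (u := [5]) (w := [0, 9]) (i := 4) (r13_1_1 H) (step (f1360 H) rfl) (step (H.back (i := 5) (by decide) (f372 H)) (step (H.back (i := 4) (by decide) (f369 H)) rfl))

theorem f1365 : g 9 • path g [9, 8, 2, 5] p = path g [9, 8, 2, 9, 5] p :=
  H.back (i := 4) (by decide) (f1364 H)

theorem f1366 : g 3 • path g [9, 8, 2, 9] p = path g [9, 8, 2, 9, 3] p :=
  rfl

theorem f1367 : g 8 • path g [9, 8, 2, 9, 3] p = path g [9, 8, 2, 9] p :=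
  H.back (i := 3) (by decide) (f1366 H)

theorem f1368 : g 3 • path g [9, 8, 2, 9, 3] p = path g [9, 8, 2, 9, 8] p :=
  scan (u := [3]) (w := [3]) (i := 3) (r6_0_0 H) (step (f1366 H) rfl) (step (H.back (i := 8) (by decide) (f1352 H)) rfl)

theorem f1369 : g 8 • path g [9, 8, 2, 9, 8] p = path g [9, 8, 2, 9, 3] p :=
  H.back (i := 3) (by decide) (f1368 H)

theorem f1370 : g 6 • path g [9, 8, 2, 9] p = path g [9, 8, 2, 9, 6] p :=
  rfl

theorem f1371 : g 1 • path g [9, 8, 2, 9, 6] p = path g [9, 8, 2, 9] p :=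
  H.back (i := 6) (by decide) (f1370 H)

theorem f1372 : g 4 • path g [9, 8, 2, 9, 6] p = path g [9, 8, 2, 6] p :=
  scan (u := [6]) (w := [1, 9]) (i := 4) (r14_1_3 H) (step (f1370 H) rfl) (step (H.back (i := 6) (by decide) (f380 H)) (step (H.back (i := 4) (by decide) (f369 H)) rfl))

theorem f1373 : g 9 • path g [9, 8, 2, 6] p = path g [9, 8, 2, 9, 6] p :=
  H.back (i := 4) (by decide) (f1372 H)

theorem f1374 : g 1 • path g [9, 8, 2, 9] p = path g [9, 8, 2, 9, 1] p :=
  rfl

theorem f1376 : g 1 • path g [9, 8, 2, 9, 1] p = path g [9, 8, 2, 9, 6] p :=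
  scan (u := [1]) (w := [1]) (i := 1) (r1_0_0 H) (step (f1374 H) rfl) (step (H.back (i := 6) (by decide) (f1370 H)) rfl)

theorem f1377 : g 6 • path g [9, 8, 2, 9, 6] p = path g [9, 8, 2, 9, 1] p :=
  H.back (i := 1) (by decide) (f1376 H)

theorem f1378 : g 4 • path g [9, 8, 2, 9, 1] p = path g [9, 8, 2, 1] p :=
  scan (u := [1]) (w := [6, 9]) (i := 4) (r14_0_0 H) (step (f1374 H) rfl) (step (H.back (i := 1) (by decide) (f386 H)) (step (H.back (i := 4) (by decide) (f369 H)) rfl))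

theorem f1379 : g 9 • path g [9, 8, 2, 1] p = path g [9, 8, 2, 9, 1] p :=
  H.back (i := 4) (by decide) (f1378 H)

theorem f1380 : g 9 • path g [9, 8, 2, 8] p = path g [9, 8, 2, 8, 9] p :=
  rfl

theorem f1381 : g 4 • path g [9, 8, 2, 8, 9] p = path g [9, 8, 2, 8] p :=
  H.back (i := 9) (by decide) (f1380 H)

theorem f1382 : g 8 • path g [9, 8, 2, 8, 9] p = path g [9, 8, 2, 4] p :=
  scan (u := [9]) (w := [9, 8]) (i := 8) (r15_1_1 H) (step (f1380 H) rfl) (step (H.back (i := 4) (by decide) (f394 H)) (step (H.back (i := 3) (by decide) (f371 H)) rfl))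

theorem f1383 : g 3 • path g [9, 8, 2, 4] p = path g [9, 8, 2, 8, 9] p :=
  H.back (i := 8) (by decide) (f1382 H)

theorem f1384 : g 2 • path g [9, 8, 2, 8] p = path g [9, 8, 2, 8, 2] p :=
  rfl

theorem f1385 : g 7 • path g [9, 8, 2, 8, 2] p = path g [9, 8, 2, 8] p :=
  H.back (i := 2) (by decide) (f1384 H)

theorem f1386 : g 2 • path g [9, 8, 2, 8, 2] p = path g [9, 8, 2, 8] p :=
  scan (u := [2]) (w := []) (i := 2) (r2_0_0 H) (step (f1384 H) rfl) rfl

theorem f1387 : g 7 • path g [9, 8, 2, 8] p = path g [9, 8, 2, 8, 2] p :=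
  H.back (i := 2) (by decide) (f1386 H)

theorem f1388 : g 5 • path g [9, 8, 2, 8] p = path g [9, 8, 2, 8, 5] p :=
  rfl

theorem f1390 : g 5 • path g [9, 8, 2, 8, 5] p = path g [9, 8, 2, 8] p :=
  scan (u := [5]) (w := []) (i := 5) (r0_1_0 H) (step (f1388 H) rfl) rfl

theorem f1391 : g 0 • path g [9, 8, 2, 8] p = path g [9, 8, 2, 8, 5] p :=
  H.back (i := 5) (by decide) (f1390 H)

theorem f1392 : g 6 • path g [9, 8, 2, 8] p = path g [9, 8, 2, 8, 6] p :=
  rfl

theorem f1393 : g 1 • path g [9, 8, 2, 8, 6] p = path g [9, 8, 2, 8] p :=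
  H.back (i := 6) (by decide) (f1392 H)

theorem f1394 : g 1 • path g [9, 8, 2, 8] p = path g [9, 8, 2, 8, 1] p :=
  rfl

theorem f1395 : g 6 • path g [9, 8, 2, 8, 1] p = path g [9, 8, 2, 8] p :=
  H.back (i := 1) (by decide) (f1394 H)

theorem f1396 : g 1 • path g [9, 8, 2, 8, 1] p = path g [9, 8, 2, 8, 6] p :=
  scan (u := [1]) (w := [1]) (i := 1) (r1_0_0 H) (step (f1394 H) rfl) (step (H.back (i := 6) (by decide) (f1392 H)) rfl)

theorem f1397 : g 6 • path g [9, 8, 2, 8, 6] p = path g [9, 8, 2, 8, 1] p :=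
  H.back (i := 1) (by decide) (f1396 H)

theorem f1398 : g 4 • path g [9, 8, 2, 8] p = path g [9, 8, 2, 8, 4] p :=
  rfl

theorem f1399 : g 9 • path g [9, 8, 2, 8, 4] p = path g [9, 8, 2, 8] p :=
  H.back (i := 4) (by decide) (f1398 H)

theorem f1400 : g 4 • path g [9, 8, 2, 8, 4] p = path g [9, 8, 2, 8, 9] p :=
  scan (u := [4]) (w := [4]) (i := 4) (r10_0_0 H) (step (f1398 H) rfl) (step (H.back (i := 9) (by decide) (f1380 H)) rfl)

theorem f1402 : g 8 • path g [9, 8, 2, 5] p = path g [9, 8, 2, 5, 8] p :=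
  rfl

theorem f1403 : g 3 • path g [9, 8, 2, 5, 8] p = path g [9, 8, 2, 5] p :=
  H.back (i := 8) (by decide) (f1402 H)

theorem f1404 : g 2 • path g [9, 8, 2, 5] p = path g [9, 8, 2, 5, 2] p :=
  rfl

theorem f1405 : g 7 • path g [9, 8, 2, 5, 2] p = path g [9, 8, 2, 5] p :=
  H.back (i := 2) (by decide) (f1404 H)

theorem f1406 : g 2 • path g [9, 8, 2, 5, 2] p = path g [9, 8, 2, 5] p :=
  scan (u := [2]) (w := []) (i := 2) (r2_0_0 H) (step (f1404 H) rfl) rfl

theorem f1407 : g 7 • path g [9, 8, 2, 5] p = path g [9, 8, 2, 5, 2] p :=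
  H.back (i := 2) (by decide) (f1406 H)

theorem f1408 : g 0 • path g [9, 3, 2, 3] p = path g [9, 8, 2, 5, 2] p :=
  scan (u := [2, 0, 1, 2, 0, 1, 8, 7, 3]) (w := []) (i := 0) (r7_1_2 H) (step (f1406 H) (step (f373 H) (step (f386 H) (step (f390 H) (step (f212 H) (step (f113 H) (step (f41 H) (step (f153 H) (step (f588 H) rfl))))))))) rfl

theorem f1409 : g 5 • path g [9, 8, 2, 5, 2] p = path g [9, 3, 2, 3] p :=
  H.back (i := 0) (by decide) (f1408 H)

theorem f1410 : path g [9, 2, 5, 6] p = path g [9, 3, 2, 8] p :=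
  close (u := [2, 0, 2, 3, 5, 6, 7, 5, 6]) (w := [8, 0]) (r8_0_0 H) (step (f1406 H) (step (f373 H) (step (f104 H) (step (f29 H) (step (f9 H) (step (f11 H) (step (f35 H) (step (f128 H) (step (f504 H) rfl))))))))) (step (H.back (i := 3) (by decide) (f590 H)) (step (H.back (i := 5) (by decide) (f1409 H)) rfl))

theorem f1411 : path g [9, 3, 2, 8] p = path g [9, 2, 5, 6] p :=
  (f1410 H).symm

theorem f1412 : g 3 • path g [9, 2, 5, 6] p = path g [9, 3, 2] p :=
  (congrArg (g 3 • ·) (f1411 H).symm).trans (f583 H)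

theorem f1414 : g 8 • path g [9, 3, 2] p = path g [9, 2, 5, 6] p :=
  H.back (i := 3) (by decide) (f1412 H)

theorem f1415 : g 8 • path g [9, 2, 5, 6] p = path g [9, 3, 2, 3] p :=
  (congrArg (g 8 • ·) (f1411 H).symm).trans (f591 H)

theorem f1417 : g 3 • path g [9, 3, 2, 3] p = path g [9, 2, 5, 6] p :=
  H.back (i := 8) (by decide) (f1415 H)

theorem f1418 : g 0 • path g [9, 8, 2, 5, 2] p = path g [9, 3, 2, 3] p :=
  scan (u := [0]) (w := []) (i := 0) (r0_0_0 H) (step (f1408 H) rfl) rfl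

theorem f1419 : g 5 • path g [9, 3, 2, 3] p = path g [9, 8, 2, 5, 2] p :=
  H.back (i := 0) (by decide) (f1418 H)

theorem f1420 : g 3 • path g [9, 8, 2, 5] p = path g [9, 8, 2, 5, 3] p :=
  rfl

theorem f1421 : g 8 • path g [9, 8, 2, 5, 3] p = path g [9, 8, 2, 5] p :=
  H.back (i := 3) (by decide) (f1420 H)

theorem f1422 : g 3 • path g [9, 8, 2, 5, 3] p = path g [9, 8, 2, 5, 8] p :=
  scan (u := [3]) (w := [3]) (i := 3) (r6_0_0 H) (step (f1420 H) rfl) (step (H.back (i := 8) (by decide) (f1402 H)) rfl)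

theorem f1423 : g 8 • path g [9, 8, 2, 5, 8] p = path g [9, 8, 2, 5, 3] p :=
  H.back (i := 3) (by decide) (f1422 H)

theorem f1424 : g 6 • path g [9, 8, 2, 5] p = path g [9, 8, 2, 5, 6] p :=
  rfl

theorem f1425 : g 1 • path g [9, 8, 2, 5, 6] p = path g [9, 8, 2, 5] p :=
  H.back (i := 6) (by decide) (f1424 H)

theorem f1426 : g 1 • path g [9, 8, 2, 5] p = path g [9, 8, 2, 5, 1] p :=
  rfl

theorem f1427 : g 6 • path g [9, 8, 2, 5, 1] p = path g [9, 8, 2, 5] p :=
  H.back (i := 1) (by decide) (f1426 H)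

theorem f1428 : g 1 • path g [9, 8, 2, 5, 1] p = path g [9, 8, 2, 5, 6] p :=
  scan (u := [1]) (w := [1]) (i := 1) (r1_0_0 H) (step (f1426 H) rfl) (step (H.back (i := 6) (by decide) (f1424 H)) rfl)

theorem f1429 : g 6 • path g [9, 8, 2, 5, 6] p = path g [9, 8, 2, 5, 1] p :=
  H.back (i := 1) (by decide) (f1428 H)

theorem f1430 : g 4 • path g [9, 8, 2, 5] p = path g [9, 8, 2, 5, 4] p :=
  rfl

theorem f1432 : g 4 • path g [9, 8, 2, 5, 4] p = path g [9, 8, 2, 9, 5] p :=
  scan (u := [4]) (w := [4]) (i := 4) (r10_0_0 H) (step (f1430 H) rfl) (step (H.back (i := 9) (by decide) (f1365 H)) rfl)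

theorem f1433 : g 9 • path g [9, 8, 2, 9, 5] p = path g [9, 8, 2, 5, 4] p :=
  H.back (i := 4) (by decide) (f1432 H)

theorem f1434 : g 5 • path g [9, 8, 2, 5, 4] p = path g [9, 8, 2, 4] p :=
  scan (u := [4]) (w := [9, 0]) (i := 5) (r13_0_3 H) (step (f1430 H) rfl) (step (H.back (i := 4) (by decide) (f394 H)) (step (H.back (i := 5) (by decide) (f374 H)) rfl))

theorem f1435 : g 0 • path g [9, 8, 2, 4] p = path g [9, 8, 2, 5, 4] p :=
  H.back (i := 5) (by decide) (f1434 H)

theorem f1436 : g 0 • path g [9, 8, 2, 5, 4] p = path g [9, 8, 2, 4] p :=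
  scan (u := [4]) (w := [9, 5]) (i := 0) (r13_1_2 H) (step (f1430 H) rfl) (step (H.back (i := 4) (by decide) (f394 H)) (step (H.back (i := 0) (by decide) (f373 H)) rfl))

theorem f1437 : g 5 • path g [9, 8, 2, 4] p = path g [9, 8, 2, 5, 4] p :=
  H.back (i := 0) (by decide) (f1436 H)

theorem f1438 : g 9 • path g [9, 8, 2, 3] p = path g [9, 8, 2, 3, 9] p :=
  rfl

theorem f1440 : g 9 • path g [9, 8, 2, 3, 9] p = path g [9, 8, 2, 9, 8] p :=
  scan (u := [9]) (w := [9]) (i := 9) (r10_1_0 H) (step (f1438 H) rfl) (step (H.back (i := 4) (by decide) (f1355 H)) rfl)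

theorem f1442 : g 8 • path g [9, 8, 2, 3, 9] p = path g [9, 8, 2, 8, 4] p :=
  scan (u := [9]) (w := [9, 8]) (i := 8) (r15_1_1 H) (step (f1438 H) rfl) (step (H.back (i := 4) (by decide) (f1398 H)) (step (H.back (i := 3) (by decide) (f378 H)) rfl))

theorem f1444 : g 6 • path g [9, 8, 2, 3] p = path g [9, 8, 2, 3, 6] p :=
  rfl

theorem f1445 : g 1 • path g [9, 8, 2, 3, 6] p = path g [9, 8, 2, 3] p :=
  H.back (i := 6) (by decide) (f1444 H)

theorem f1446 : g 7 • path g [9, 8, 2, 3, 6] p = path g [4, 2, 5, 1] p :=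
  scan (u := [6]) (w := [6, 7]) (i := 7) (r3_1_1 H) (step (f1444 H) rfl) (step (H.back (i := 1) (by decide) (f1296 H)) (step (H.back (i := 2) (by decide) (f494 H)) rfl))

theorem f1448 : g 7 • path g [4, 2, 5, 1] p = path g [9, 8, 2, 3, 6] p :=
  scan (u := [7]) (w := []) (i := 7) (r2_1_0 H) (step (f1446 H) rfl) rfl

theorem f1449 : g 2 • path g [9, 8, 2, 3, 6] p = path g [4, 2, 5, 1] p :=
  H.back (i := 7) (by decide) (f1448 H)

theorem f1450 : g 1 • path g [9, 8, 2, 3] p = path g [9, 8, 2, 3, 1] p :=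
  rfl

theorem f1451 : g 6 • path g [9, 8, 2, 3, 1] p = path g [9, 8, 2, 3] p :=
  H.back (i := 1) (by decide) (f1450 H)

theorem f1452 : g 1 • path g [9, 8, 2, 3, 1] p = path g [9, 8, 2, 3, 6] p :=
  scan (u := [1]) (w := [1]) (i := 1) (r1_0_0 H) (step (f1450 H) rfl) (step (H.back (i := 6) (by decide) (f1444 H)) rfl)

theorem f1454 : g 2 • path g [9, 8, 2, 3, 1] p = path g [4, 2, 5, 6] p :=
  scan (u := [1]) (w := [1, 2]) (i := 2) (r3_0_0 H) (step (f1450 H) rfl) (step (H.back (i := 6) (by decide) (f1294 H)) (step (H.back (i := 7) (by decide) (f493 H)) rfl))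

theorem f1455 : g 7 • path g [4, 2, 5, 6] p = path g [9, 8, 2, 3, 1] p :=
  H.back (i := 2) (by decide) (f1454 H)

theorem f1456 : g 8 • path g [4, 2, 5, 6] p = path g [9, 2, 8, 2] p :=
  scan (u := [1, 2, 0, 1]) (w := [7, 3, 0, 2, 0]) (i := 8) (r7_1_4 H) (step (f1450 H) (step (f1454 H) (step (f1302 H) (step (f1298 H) rfl)))) (step (H.back (i := 2) (by decide) (f466 H)) (step (H.back (i := 8) (by decide) (f126 H)) (step (H.back (i := 5) (by decide) (f130 H)) (step (H.back (i := 7) (by decide) (f487 H)) (step (H.back (i := 5) (by decide) (f496 H)) rfl)))))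

theorem f1457 : g 3 • path g [9, 2, 8, 2] p = path g [4, 2, 5, 6] p :=
  H.back (i := 8) (by decide) (f1456 H)

theorem f1458 : g 0 • path g [9, 8, 2, 3, 1] p = path g [9, 8, 2, 3, 1] p :=
  scan (u := [1]) (w := [2, 1, 0, 6, 2, 0, 6, 2, 0, 2]) (i := 0) (r5_0_5 H) (step (f1450 H) rfl) (step (H.back (i := 7) (by decide) (f1455 H)) (step (H.back (i := 6) (by decide) (f1294 H)) (step (H.back (i := 5) (by decide) (f354 H)) (step (H.back (i := 1) (by decide) (f100 H)) (step (H.back (i := 7) (by decide) (f99 H)) (step (H.back (i := 5) (by decide) (f24 H)) (step (H.back (i := 1) (by decide) (f27 H)) (step (H.back (i := 7) (by decide) (f97 H)) (step (H.back (i := 5) (by decide) (f356 H)) (step (H.back (i := 7) (by decide) (f493 H)) rfl))))))))))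

theorem f1459 : g 5 • path g [9, 8, 2, 3, 1] p = path g [9, 8, 2, 3, 1] p :=
  H.back (i := 0) (by decide) (f1458 H)

theorem f1460 : g 7 • path g [9, 8, 2, 3, 1] p = path g [4, 2, 5, 6] p :=
  scan (u := [1, 5]) (w := [1, 5, 6, 7, 5, 6, 7, 5, 7]) (i := 7) (r5_1_10 H) (step (f1450 H) (step (f1459 H) rfl)) (step (H.back (i := 6) (by decide) (f1294 H)) (step (H.back (i := 0) (by decide) (f357 H)) (step (H.back (i := 1) (by decide) (f100 H)) (step (H.back (i := 2) (by decide) (f96 H)) (step (H.back (i := 0) (by decide) (f25 H)) (step (H.back (i := 1) (by decide) (f27 H)) (step (H.back (i := 2) (by decide) (f98 H)) (step (H.back (i := 0) (by decide) (f355 H)) (step (H.back (i := 2) (by decide) (f494 H)) rfl)))))))))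

theorem f1462 : path g [9, 3, 2, 3] p = path g [4, 2, 8, 2] p :=
  close (u := [6, 8, 0, 2, 0]) (w := [2, 3, 5, 6, 7, 5]) (r8_0_8 H) (step (f1451 H) (step (f377 H) (step (f375 H) (step (f1404 H) (step (f1418 H) rfl))))) (step (H.back (i := 7) (by decide) (f1273 H)) (step (H.back (i := 8) (by decide) (f352 H)) (step (H.back (i := 0) (by decide) (f355 H)) (step (H.back (i := 1) (by decide) (f1295 H)) (step (H.back (i := 2) (by decide) (f1454 H)) (step (H.back (i := 0) (by decide) (f1458 H)) rfl))))))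

theorem f1463 : path g [4, 2, 8, 2] p = path g [9, 3, 2, 3] p :=
  (f1462 H).symm

theorem f1464 : g 7 • path g [9, 3, 2, 3] p = path g [4, 2, 8] p :=
  (congrArg (g 7 • ·) (f1463 H).symm).trans (f1271 H)

theorem f1466 : g 2 • path g [4, 2, 8] p = path g [9, 3, 2, 3] p :=
  H.back (i := 7) (by decide) (f1464 H)

theorem f1467 : g 2 • path g [9, 3, 2, 3] p = path g [4, 2, 8] p :=
  (congrArg (g 2 • ·) (f1463 H).symm).trans (f1272 H)

theorem f1469 : g 7 • path g [4, 2, 8] p = path g [9, 3, 2, 3] p :=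
  H.back (i := 2) (by decide) (f1467 H)

theorem f1470 : path g [4, 2, 8, 5] p = path g [3, 9, 5, 2] p :=
  close (u := [2, 0]) (w := [2, 0, 4, 5, 7, 5, 7, 5, 7, 5, 7, 4, 2, 0, 2, 0]) (r11_0_1 H) (step (f1467 H) (step (f1277 H) rfl)) (step (H.back (i := 7) (by decide) (f981 H)) (step (H.back (i := 5) (by decide) (f264 H)) (step (H.back (i := 9) (by decide) (f70 H)) (step (H.back (i := 0) (by decide) (f77 H)) (step (H.back (i := 2) (by decide) (f209 H)) (step (H.back (i := 0) (by decide) (f79 H)) (step (H.back (i := 2) (by decide) (f62 H)) (step (H.back (i := 0) (by decide) (f77 H)) (step (H.back (i := 2) (by decide) (f209 H)) (step (H.back (i := 0) (by decide) (f79 H)) (step (H.back (i := 2) (by decide) (f62 H)) (step (H.back (i := 9) (by decide) (f30 H)) (step (H.back (i := 7) (by decide) (f103 H)) (step (H.back (i := 5) (by decide) (f374 H)) (step (H.back (i := 7) (by decide) (f1405 H)) (step (H.back (i := 5) (by decide) (f1419 H)) rfl))))))))))))))))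

theorem f1471 : g 0 • path g [3, 9, 5, 2] p = path g [4, 2, 8] p :=
  (congrArg (g 0 • ·) (f1470 H).symm).trans (f1275 H)

theorem f1473 : g 5 • path g [4, 2, 8] p = path g [3, 9, 5, 2] p :=
  H.back (i := 0) (by decide) (f1471 H)

theorem f1474 : g 5 • path g [3, 9, 5, 2] p = path g [4, 2, 8] p :=
  (congrArg (g 5 • ·) (f1470 H).symm).trans (f1276 H)

theorem f1476 : g 0 • path g [4, 2, 8] p = path g [3, 9, 5, 2] p :=
  H.back (i := 5) (by decide) (f1474 H)

theorem f1477 : path g [9, 8, 2, 3, 1] p = path g [3, 9, 2, 3] p :=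
  close (u := [5, 3, 1, 0, 2, 1, 0]) (w := [8, 7, 5, 7]) (r8_1_0 H) (step (f1474 H) (step (f353 H) (step (f100 H) (step (f357 H) (step (f492 H) (step (f1450 H) (step (f1458 H) rfl))))))) (step (H.back (i := 3) (by decide) (f952 H)) (step (H.back (i := 2) (by decide) (f260 H)) (step (H.back (i := 0) (by decide) (f265 H)) (step (H.back (i := 2) (by decide) (f980 H)) rfl))))

theorem f1478 : g 6 • path g [3, 9, 2, 3] p = path g [9, 8, 2, 3] p :=
  (congrArg (g 6 • ·) (f1477 H).symm).trans (f1451 H)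

theorem f1480 : g 1 • path g [9, 8, 2, 3] p = path g [3, 9, 2, 3] p :=
  H.back (i := 6) (by decide) (f1478 H)

theorem f1481 : g 1 • path g [3, 9, 2, 3] p = path g [9, 8, 2, 3, 6] p :=
  (congrArg (g 1 • ·) (f1477 H).symm).trans (f1452 H)

theorem f1484 : g 2 • path g [3, 9, 2, 3] p = path g [4, 2, 5, 6] p :=
  (congrArg (g 2 • ·) (f1477 H).symm).trans (f1454 H)

theorem f1486 : g 7 • path g [4, 2, 5, 6] p = path g [3, 9, 2, 3] p :=
  H.back (i := 2) (by decide) (f1484 H)

theorem f1487 : g 0 • path g [9, 8, 2, 3, 1] p = path g [3, 9, 2, 3] p :=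
  (f1458 H).trans (f1477 H)

theorem f1488 : g 0 • path g [3, 9, 2, 3] p = path g [3, 9, 2, 3] p :=
  (congrArg (g 0 • ·) (f1477 H).symm).trans (f1487 H)

theorem f1489 : g 5 • path g [3, 9, 2, 3] p = path g [3, 9, 2, 3] p :=
  H.back (i := 0) (by decide) (f1488 H)

theorem f1493 : g 7 • path g [3, 9, 2, 3] p = path g [4, 2, 5, 6] p :=
  (congrArg (g 7 • ·) (f1477 H).symm).trans (f1460 H)

theorem f1496 : path g [9, 3, 9, 6] p = path g [3, 9, 2, 3] p :=
  close (u := [7, 6, 5, 7, 5, 8, 2, 3, 6]) (w := [5]) (r7_0_4 H) (step (f1493 H) (step (f1299 H) (step (f1303 H) (step (f1486 H) (step (f1489 H) (step (f953 H) (step (f262 H) (step (f147 H) (step (f566 H) rfl))))))))) (step (H.back (i := 0) (by decide) (f1488 H)) rfl)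

theorem f1497 : path g [3, 9, 2, 3] p = path g [9, 3, 9, 6] p :=
  (f1496 H).symm

theorem f1498 : g 8 • path g [9, 3, 9, 6] p = path g [3, 9, 2] p :=
  (congrArg (g 8 • ·) (f1497 H).symm).trans (f953 H)

theorem f1500 : g 3 • path g [3, 9, 2] p = path g [9, 3, 9, 6] p :=
  H.back (i := 8) (by decide) (f1498 H)

theorem f1501 : g 3 • path g [9, 3, 9, 6] p = path g [3, 9, 2, 8] p :=
  (congrArg (g 3 • ·) (f1497 H).symm).trans (f954 H)

theorem f1503 : g 8 • path g [3, 9, 2, 8] p = path g [9, 3, 9, 6] p :=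
  H.back (i := 3) (by decide) (f1501 H)

theorem f1506 : g 1 • path g [9, 3, 9, 6] p = path g [9, 8, 2, 3, 6] p :=
  (congrArg (g 1 • ·) (f1497 H).symm).trans (f1481 H)

theorem f1507 : path g [9, 3, 9] p = path g [9, 8, 2, 3, 6] p :=
  (f567 H).symm.trans (f1506 H)

theorem f1508 : g 2 • path g [9, 3, 9, 6] p = path g [4, 2, 5, 6] p :=
  (congrArg (g 2 • ·) (f1497 H).symm).trans (f1484 H)

theorem f1510 : g 7 • path g [4, 2, 5, 6] p = path g [9, 3, 9, 6] p :=
  H.back (i := 2) (by decide) (f1508 H)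

theorem f1511 : g 0 • path g [3, 9, 2, 3] p = path g [9, 3, 9, 6] p :=
  (f1488 H).trans (f1497 H)

theorem f1512 : g 0 • path g [9, 3, 9, 6] p = path g [9, 3, 9, 6] p :=
  (congrArg (g 0 • ·) (f1497 H).symm).trans (f1511 H)

theorem f1517 : g 7 • path g [9, 3, 9, 6] p = path g [4, 2, 5, 6] p :=
  (congrArg (g 7 • ·) (f1497 H).symm).trans (f1493 H)

theorem f1519 : g 2 • path g [4, 2, 5, 6] p = path g [9, 3, 9, 6] p :=
  H.back (i := 7) (by decide) (f1517 H)

theorem f1520 : path g [9, 8, 2, 3, 6] p = path g [9, 3, 9] p :=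
  (f1507 H).symm

theorem f1521 : g 1 • path g [9, 3, 9] p = path g [9, 8, 2, 3] p :=
  (congrArg (g 1 • ·) (f1520 H).symm).trans (f1445 H)

theorem f1522 : path g [9, 3, 9, 1] p = path g [9, 8, 2, 3] p :=
  (f572 H).symm.trans (f1521 H)

theorem f1525 : g 2 • path g [9, 3, 9] p = path g [4, 2, 5, 1] p :=
  (congrArg (g 2 • ·) (f1520 H).symm).trans (f1449 H)

theorem f1526 : path g [9, 3, 9, 2] p = path g [4, 2, 5, 1] p :=
  (f554 H).symm.trans (f1525 H)

theorem f1530 : path g [4, 2, 5, 1] p = path g [9, 3, 9, 2] p :=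
  (f1526 H).symm

theorem f1531 : g 6 • path g [9, 3, 9, 2] p = path g [4, 2, 5] p :=
  (congrArg (g 6 • ·) (f1530 H).symm).trans (f1297 H)

theorem f1533 : g 1 • path g [4, 2, 5] p = path g [9, 3, 9, 2] p :=
  H.back (i := 6) (by decide) (f1531 H)

theorem f1534 : g 1 • path g [9, 3, 9, 2] p = path g [4, 2, 5, 6] p :=
  (congrArg (g 1 • ·) (f1530 H).symm).trans (f1298 H)

theorem f1536 : g 6 • path g [4, 2, 5, 6] p = path g [9, 3, 9, 2] p :=
  H.back (i := 1) (by decide) (f1534 H)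

theorem f1537 : g 0 • path g [9, 3, 9, 2] p = path g [4, 2, 5, 6] p :=
  (congrArg (g 0 • ·) (f1530 H).symm).trans (f1300 H)

theorem f1539 : g 5 • path g [4, 2, 5, 6] p = path g [9, 3, 9, 2] p :=
  H.back (i := 0) (by decide) (f1537 H)

theorem f1540 : g 5 • path g [9, 3, 9, 2] p = path g [4, 2, 5, 6] p :=
  (congrArg (g 5 • ·) (f1530 H).symm).trans (f1303 H)

theorem f1542 : g 0 • path g [4, 2, 5, 6] p = path g [9, 3, 9, 2] p :=
  H.back (i := 5) (by decide) (f1540 H)

theorem f1553 : g 1 • path g [9, 8, 2, 3] p = path g [9, 3, 9, 6] p :=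
  (f1480 H).trans (f1497 H)

theorem f1557 : g 9 • path g [9, 8, 2, 3] p = path g [4, 8, 1] p :=
  (congrArg (g 9 • ·) (f1522 H).symm).trans (f578 H)

theorem f1558 : path g [9, 8, 2, 3, 9] p = path g [4, 8, 1] p :=
  (f1438 H).symm.trans (f1557 H)

theorem f1560 : g 4 • path g [4, 8, 1] p = path g [9, 8, 2, 3] p :=
  (f579 H).trans (f1522 H)

theorem f1562 : g 9 • path g [4, 8, 1] p = path g [9, 8, 2, 9, 8] p :=
  (congrArg (g 9 • ·) (f1558 H).symm).trans (f1440 H)

theorem f1563 : path g [9, 3, 1] p = path g [9, 8, 2, 9, 8] p :=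
  (f346 H).symm.trans (f1562 H)

theorem f1564 : g 8 • path g [4, 8, 1] p = path g [9, 8, 2, 8, 4] p :=
  (congrArg (g 8 • ·) (f1558 H).symm).trans (f1442 H)

theorem f1565 : path g [4, 8, 1, 8] p = path g [9, 8, 2, 8, 4] p :=
  (f1232 H).symm.trans (f1564 H)

theorem f1566 : path g [9, 8, 2, 8, 4] p = path g [4, 8, 1, 8] p :=
  (f1565 H).symm

theorem f1567 : g 9 • path g [4, 8, 1, 8] p = path g [9, 8, 2, 8] p :=
  (congrArg (g 9 • ·) (f1566 H).symm).trans (f1399 H)

theorem f1569 : g 4 • path g [9, 8, 2, 8] p = path g [4, 8, 1, 8] p :=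
  H.back (i := 9) (by decide) (f1567 H)

theorem f1570 : g 4 • path g [4, 8, 1, 8] p = path g [9, 8, 2, 8, 9] p :=
  (congrArg (g 4 • ·) (f1566 H).symm).trans (f1400 H)

theorem f1572 : g 9 • path g [9, 8, 2, 8, 9] p = path g [4, 8, 1, 8] p :=
  H.back (i := 4) (by decide) (f1570 H)

theorem f1576 : path g [9, 8, 2, 9, 8] p = path g [9, 3, 1] p :=
  (f1563 H).symm

theorem f1582 : g 8 • path g [9, 3, 1] p = path g [9, 8, 2, 9, 3] p :=
  (congrArg (g 8 • ·) (f1576 H).symm).trans (f1369 H)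

theorem f1583 : path g [9, 3, 1, 8] p = path g [9, 8, 2, 9, 3] p :=
  (f636 H).symm.trans (f1582 H)

theorem f1587 : path g [9, 8, 2, 9, 3] p = path g [9, 3, 1, 8] p :=
  (f1583 H).symm

theorem f1588 : g 8 • path g [9, 3, 1, 8] p = path g [9, 8, 2, 9] p :=
  (congrArg (g 8 • ·) (f1587 H).symm).trans (f1367 H)

theorem f1589 : path g [9, 3, 1, 3] p = path g [9, 8, 2, 9] p :=
  (f645 H).symm.trans (f1588 H)

theorem f1594 : g 8 • path g [9, 8, 2, 9] p = path g [9, 3, 1] p :=
  (f1352 H).trans (f1576 H)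

theorem f1597 : g 3 • path g [9, 8, 2, 9] p = path g [9, 3, 1, 8] p :=
  (f1366 H).trans (f1587 H)

theorem f1601 : g 6 • path g [9, 2, 5, 2] p = path g [9, 3, 9, 5] p :=
  scan (u := [5, 8, 2, 3, 6, 5, 7]) (w := [5, 7]) (i := 6) (r7_0_8 H) (step (f1540 H) (step (f1456 H) (step (f468 H) (step (f127 H) (step (f37 H) (step (f128 H) (step (f489 H) rfl))))))) (step (H.back (i := 0) (by decide) (f561 H)) (step (H.back (i := 2) (by decide) (f556 H)) rfl))

theorem f1602 : g 1 • path g [9, 3, 9, 5] p = path g [9, 2, 5, 2] p :=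
  H.back (i := 6) (by decide) (f1601 H)

theorem f1603 : g 1 • path g [9, 3, 9] p = path g [9, 8, 2, 3] p :=
  (f572 H).trans (f1522 H)

theorem f1604 : g 7 • path g [9, 3, 9, 5] p = path g [9, 2, 5, 1] p :=
  scan (u := [5, 7, 1, 5]) (w := [1, 5, 6, 7, 5, 6, 7]) (i := 7) (r5_1_8 H) (step (f1540 H) (step (f1510 H) (step (f567 H) (step (f558 H) rfl)))) (step (H.back (i := 6) (by decide) (f509 H)) (step (H.back (i := 0) (by decide) (f510 H)) (step (H.back (i := 1) (by decide) (f506 H)) (step (H.back (i := 2) (by decide) (f488 H)) (step (H.back (i := 0) (by decide) (f490 H)) (step (H.back (i := 1) (by decide) (f1603 H)) (step (H.back (i := 2) (by decide) (f556 H)) rfl)))))))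

theorem f1605 : g 2 • path g [9, 2, 5, 1] p = path g [9, 3, 9, 5] p :=
  H.back (i := 7) (by decide) (f1604 H)

theorem f1606 : g 2 • path g [9, 3, 9, 5] p = path g [9, 2, 5, 1] p :=
  scan (u := [0, 2, 1, 0, 6]) (w := [0, 6, 2, 0, 2, 1]) (i := 2) (r5_0_6 H) (step (f1542 H) (step (f556 H) (step (f1603 H) (step (f490 H) (step (f1601 H) rfl))))) (step (H.back (i := 5) (by decide) (f511 H)) (step (H.back (i := 1) (by decide) (f508 H)) (step (H.back (i := 7) (by decide) (f1604 H)) (step (H.back (i := 5) (by decide) (f558 H)) (step (H.back (i := 7) (by decide) (f555 H)) (step (H.back (i := 6) (by decide) (f1536 H)) rfl))))))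

theorem f1607 : g 7 • path g [9, 2, 5, 1] p = path g [9, 3, 9, 5] p :=
  H.back (i := 2) (by decide) (f1606 H)

theorem f1608 : g 4 • path g [4, 8, 5, 1] p = path g [9, 2, 5, 2] p :=
  scan (u := [6, 9, 1]) (w := []) (i := 4) (r14_0_2 H) (step (f1601 H) (step (f562 H) (step (f1212 H) rfl))) rfl

theorem f1610 : g 9 • path g [9, 3, 5, 1] p = path g [9, 2, 5, 2] p :=
  scan (u := [6, 4, 1]) (w := []) (i := 9) (r14_1_3 H) (step (f1601 H) (step (f564 H) (step (f622 H) rfl))) rfl

theorem f1611 : g 4 • path g [9, 2, 5, 2] p = path g [9, 3, 5, 1] p :=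
  H.back (i := 9) (by decide) (f1610 H)

theorem f1612 : g 4 • path g [9, 8, 2, 3] p = path g [9, 3, 1] p :=
  (f1355 H).trans (f1576 H)

theorem f1613 : path g [9, 3, 1, 5] p = path g [9, 3, 5, 1] p :=
  close (u := [9, 0, 4, 5]) (w := []) (r13_0_1 H) (step (f1610 H) (step (f497 H) (step (f1612 H) (step (f638 H) rfl)))) rfl

theorem f1614 : g 0 • path g [9, 3, 5, 1] p = path g [9, 3, 1] p :=
  (congrArg (g 0 • ·) (f1613 H).symm).trans (f639 H)

theorem f1616 : g 5 • path g [9, 3, 1] p = path g [9, 3, 5, 1] p :=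
  H.back (i := 0) (by decide) (f1614 H)

theorem f1617 : g 5 • path g [9, 3, 5, 1] p = path g [9, 3, 1] p :=
  (congrArg (g 5 • ·) (f1613 H).symm).trans (f640 H)

theorem f1619 : g 0 • path g [9, 3, 1] p = path g [9, 3, 5, 1] p :=
  H.back (i := 5) (by decide) (f1617 H)

theorem f1620 : g 4 • path g [9, 3, 5, 1] p = path g [4, 8, 1, 5] p :=
  (congrArg (g 4 • ·) (f1613 H).symm).trans (f1239 H)

theorem f1621 : path g [4, 8, 5, 1] p = path g [4, 8, 1, 5] p :=
  (f1217 H).symm.trans (f1620 H)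

theorem f1622 : path g [4, 8, 1, 5] p = path g [4, 8, 5, 1] p :=
  (f1621 H).symm

theorem f1623 : g 0 • path g [4, 8, 5, 1] p = path g [4, 8, 1] p :=
  (congrArg (g 0 • ·) (f1622 H).symm).trans (f1235 H)

theorem f1625 : g 5 • path g [4, 8, 1] p = path g [4, 8, 5, 1] p :=
  H.back (i := 0) (by decide) (f1623 H)

theorem f1626 : g 5 • path g [4, 8, 5, 1] p = path g [4, 8, 1] p :=
  (congrArg (g 5 • ·) (f1622 H).symm).trans (f1236 H)

theorem f1628 : g 0 • path g [4, 8, 1] p = path g [4, 8, 5, 1] p :=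
  H.back (i := 5) (by decide) (f1626 H)

theorem f1632 : g 8 • path g [4, 8, 2, 9] p = path g [9, 3, 5, 1] p :=
  scan (u := [9, 8, 9]) (w := []) (i := 8) (r15_1_1 H) (step (f1610 H) (step (f498 H) (step (f1168 H) rfl))) rfl

theorem f1633 : g 3 • path g [9, 3, 5, 1] p = path g [4, 8, 2, 9] p :=
  H.back (i := 8) (by decide) (f1632 H)

theorem f1634 : g 5 • path g [4, 8, 5, 6] p = path g [4, 8, 5, 6] p :=
  scan (u := [5, 6, 5, 1, 1]) (w := [6]) (i := 5) (r4_1_1 H) (step (f1626 H) (step (f343 H) (step (f332 H) (step (f1212 H) (step (f1214 H) rfl))))) (step (H.back (i := 1) (by decide) (f1214 H)) rfl)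

theorem f1635 : g 0 • path g [4, 8, 5, 6] p = path g [4, 8, 5, 6] p :=
  H.back (i := 5) (by decide) (f1634 H)

theorem f1636 : g 0 • path g [9, 3, 5, 6] p = path g [9, 3, 5, 6] p :=
  scan (u := [5, 9]) (w := [4]) (i := 0) (r13_0_0 H) (step (f1634 H) (step (f1210 H) rfl)) (step (H.back (i := 9) (by decide) (f1210 H)) rfl)

theorem f1637 : g 5 • path g [9, 3, 5, 6] p = path g [9, 3, 5, 6] p :=
  H.back (i := 0) (by decide) (f1636 H)

theorem f1638 : path g [4, 8, 6, 5] p = path g [4, 8, 6] p :=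
  close (u := [0, 6, 6, 0]) (w := [1, 0, 1]) (r4_0_0 H) (step (f1623 H) (step (f343 H) (step (f338 H) (step (f1223 H) rfl)))) (step (H.back (i := 6) (by decide) (f338 H)) (step (H.back (i := 5) (by decide) (f334 H)) (step (H.back (i := 6) (by decide) (f1213 H)) rfl)))

theorem f1640 : g 0 • path g [4, 8, 6] p = path g [4, 8, 6] p :=
  (f1223 H).trans (f1638 H)

theorem f1643 : g 5 • path g [4, 8, 6] p = path g [4, 8, 6] p :=
  (f1220 H).trans (f1638 H)

theorem f1645 : g 9 • path g [4, 8, 6] p = path g [9, 3, 6, 5] p :=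
  (congrArg (g 9 • ·) (f1638 H).symm).trans (f1224 H)

theorem f1646 : path g [9, 3, 6] p = path g [9, 3, 6, 5] p :=
  (f340 H).symm.trans (f1645 H)

theorem f1647 : path g [9, 3, 6, 5] p = path g [9, 3, 6] p :=
  (f1646 H).symm

theorem f1649 : g 0 • path g [9, 3, 6] p = path g [9, 3, 6] p :=
  (f631 H).trans (f1647 H)

theorem f1657 : g 3 • path g [9, 3, 1] p = path g [9, 8, 2, 9] p :=
  (f642 H).trans (f1589 H)

theorem f1658 : g 4 • path g [3, 9, 2, 8] p = path g [4, 8, 6, 8] p :=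
  scan (u := [3]) (w := [3, 4]) (i := 4) (r15_0_1 H) (step (f1501 H) rfl) (step (H.back (i := 8) (by decide) (f1218 H)) (step (H.back (i := 9) (by decide) (f568 H)) rfl))

theorem f1660 : path g [3, 9, 2, 9] p = path g [9, 3, 6, 3] p :=
  close (u := [8, 9]) (w := [8, 9]) (r15_1_0 H) (step (f1498 H) (step (f944 H) rfl)) (step (H.back (i := 3) (by decide) (f632 H)) (step (H.back (i := 4) (by decide) (f570 H)) rfl))

theorem f1661 : g 4 • path g [9, 3, 6, 3] p = path g [3, 9, 2] p :=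
  (congrArg (g 4 • ·) (f1660 H).symm).trans (f945 H)

theorem f1664 : g 9 • path g [9, 3, 6, 3] p = path g [3, 9, 2, 4] p :=
  (congrArg (g 9 • ·) (f1660 H).symm).trans (f973 H)

theorem f1666 : g 4 • path g [3, 9, 2, 4] p = path g [9, 3, 6, 3] p :=
  H.back (i := 9) (by decide) (f1664 H)

theorem f1668 : g 8 • path g [9, 8, 2, 6] p = path g [9, 8, 2, 6, 8] p :=
  rfl

theorem f1669 : g 3 • path g [9, 8, 2, 6, 8] p = path g [9, 8, 2, 6] p :=
  H.back (i := 8) (by decide) (f1668 H)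

theorem f1670 : g 5 • path g [9, 8, 2, 6] p = path g [9, 8, 2, 6, 5] p :=
  rfl

theorem f1671 : g 0 • path g [9, 8, 2, 6, 5] p = path g [9, 8, 2, 6] p :=
  H.back (i := 5) (by decide) (f1670 H)

theorem f1672 : g 5 • path g [9, 8, 2, 6, 5] p = path g [9, 8, 2, 6] p :=
  scan (u := [5]) (w := []) (i := 5) (r0_1_0 H) (step (f1670 H) rfl) rfl

theorem f1673 : g 0 • path g [9, 8, 2, 6] p = path g [9, 8, 2, 6, 5] p :=
  H.back (i := 5) (by decide) (f1672 H)

theorem f1674 : g 3 • path g [9, 8, 2, 6] p = path g [9, 8, 2, 6, 3] p :=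
  rfl

theorem f1676 : g 3 • path g [9, 8, 2, 6, 3] p = path g [9, 8, 2, 6, 8] p :=
  scan (u := [3]) (w := [3]) (i := 3) (r6_0_0 H) (step (f1674 H) rfl) (step (H.back (i := 8) (by decide) (f1668 H)) rfl)

theorem f1677 : g 8 • path g [9, 8, 2, 6, 8] p = path g [9, 8, 2, 6, 3] p :=
  H.back (i := 3) (by decide) (f1676 H)

theorem f1678 : g 4 • path g [9, 8, 2, 6] p = path g [9, 8, 2, 6, 4] p :=
  rfl

theorem f1680 : g 4 • path g [9, 8, 2, 6, 4] p = path g [9, 8, 2, 9, 6] p :=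
  scan (u := [4]) (w := [4]) (i := 4) (r10_0_0 H) (step (f1678 H) rfl) (step (H.back (i := 9) (by decide) (f1373 H)) rfl)

theorem f1681 : g 9 • path g [9, 8, 2, 9, 6] p = path g [9, 8, 2, 6, 4] p :=
  H.back (i := 4) (by decide) (f1680 H)

theorem f1682 : g 1 • path g [9, 8, 2, 6, 4] p = path g [9, 8, 2, 4] p :=
  scan (u := [4]) (w := [9, 6]) (i := 1) (r14_1_0 H) (step (f1678 H) rfl) (step (H.back (i := 4) (by decide) (f394 H)) (step (H.back (i := 1) (by decide) (f381 H)) rfl))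

theorem f1683 : g 6 • path g [9, 8, 2, 4] p = path g [9, 8, 2, 6, 4] p :=
  H.back (i := 1) (by decide) (f1682 H)

theorem f1684 : g 8 • path g [9, 8, 2, 1] p = path g [9, 8, 2, 1, 8] p :=
  rfl

theorem f1685 : g 3 • path g [9, 8, 2, 1, 8] p = path g [9, 8, 2, 1] p :=
  H.back (i := 8) (by decide) (f1684 H)

theorem f1686 : g 5 • path g [9, 8, 2, 1] p = path g [9, 8, 2, 1, 5] p :=
  rfl

theorem f1687 : g 0 • path g [9, 8, 2, 1, 5] p = path g [9, 8, 2, 1] p :=
  H.back (i := 5) (by decide) (f1686 H)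

theorem f1688 : g 5 • path g [9, 8, 2, 1, 5] p = path g [9, 8, 2, 1] p :=
  scan (u := [5]) (w := []) (i := 5) (r0_1_0 H) (step (f1686 H) rfl) rfl

theorem f1689 : g 0 • path g [9, 8, 2, 1] p = path g [9, 8, 2, 1, 5] p :=
  H.back (i := 5) (by decide) (f1688 H)

theorem f1690 : g 3 • path g [9, 8, 2, 1] p = path g [9, 8, 2, 1, 3] p :=
  rfl

theorem f1692 : g 3 • path g [9, 8, 2, 1, 3] p = path g [9, 8, 2, 1, 8] p :=
  scan (u := [3]) (w := [3]) (i := 3) (r6_0_0 H) (step (f1690 H) rfl) (step (H.back (i := 8) (by decide) (f1684 H)) rfl)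

theorem f1694 : g 4 • path g [9, 8, 2, 1] p = path g [9, 8, 2, 1, 4] p :=
  rfl

theorem f1696 : g 4 • path g [9, 8, 2, 1, 4] p = path g [9, 8, 2, 9, 1] p :=
  scan (u := [4]) (w := [4]) (i := 4) (r10_0_0 H) (step (f1694 H) rfl) (step (H.back (i := 9) (by decide) (f1379 H)) rfl)

theorem f1697 : g 9 • path g [9, 8, 2, 9, 1] p = path g [9, 8, 2, 1, 4] p :=
  H.back (i := 4) (by decide) (f1696 H)

theorem f1698 : g 6 • path g [9, 8, 2, 1, 4] p = path g [9, 8, 2, 4] p :=
  scan (u := [4]) (w := [9, 1]) (i := 6) (r14_0_1 H) (step (f1694 H) rfl) (step (H.back (i := 4) (by decide) (f394 H)) (step (H.back (i := 6) (by decide) (f387 H)) rfl))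

theorem f1699 : g 1 • path g [9, 8, 2, 4] p = path g [9, 8, 2, 1, 4] p :=
  H.back (i := 6) (by decide) (f1698 H)

theorem f1700 : g 1 • path g [9, 8, 2, 1, 4] p = path g [9, 8, 2, 6, 4] p :=
  scan (u := [4]) (w := [9, 6]) (i := 1) (r14_1_0 H) (step (f1694 H) rfl) (step (H.back (i := 4) (by decide) (f1678 H)) (step (H.back (i := 1) (by decide) (f388 H)) rfl))

theorem f1701 : g 6 • path g [9, 8, 2, 6, 4] p = path g [9, 8, 2, 1, 4] p :=
  H.back (i := 1) (by decide) (f1700 H)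

theorem f1702 : g 8 • path g [9, 8, 2, 4] p = path g [9, 8, 2, 4, 8] p :=
  rfl

theorem f1703 : g 3 • path g [9, 8, 2, 4, 8] p = path g [9, 8, 2, 4] p :=
  H.back (i := 8) (by decide) (f1702 H)

theorem f1704 : g 8 • path g [9, 8, 2, 4, 8] p = path g [9, 8, 2, 8, 9] p :=
  scan (u := [8]) (w := [8]) (i := 8) (r6_1_0 H) (step (f1702 H) rfl) (step (H.back (i := 3) (by decide) (f1383 H)) rfl)

theorem f1705 : g 3 • path g [9, 8, 2, 8, 9] p = path g [9, 8, 2, 4, 8] p :=
  H.back (i := 8) (by decide) (f1704 H)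

theorem f1706 : g 9 • path g [9, 8, 2, 4, 8] p = path g [9, 3, 1, 8] p :=
  scan (u := [8]) (w := [8, 9]) (i := 9) (r15_1_0 H) (step (f1702 H) rfl) (step (H.back (i := 3) (by decide) (f1597 H)) (step (H.back (i := 4) (by decide) (f396 H)) rfl))

theorem f1707 : g 4 • path g [9, 3, 1, 8] p = path g [9, 8, 2, 4, 8] p :=
  H.back (i := 9) (by decide) (f1706 H)

theorem f1708 : g 8 • path g [9, 3, 1, 8] p = path g [9, 8, 2, 9] p :=
  (f645 H).trans (f1589 H)

theorem f1709 : g 9 • path g [4, 8, 1, 3] p = path g [9, 8, 2, 4, 8] p :=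
  scan (u := [9, 9]) (w := []) (i := 9) (r10_1_0 H) (step (f1706 H) (step (f1245 H) rfl)) rfl

theorem f1710 : g 4 • path g [9, 8, 2, 4, 8] p = path g [4, 8, 1, 3] p :=
  H.back (i := 9) (by decide) (f1709 H)

theorem f1711 : g 2 • path g [9, 8, 2, 4] p = path g [9, 8, 2, 4, 2] p :=
  rfl

theorem f1712 : g 7 • path g [9, 8, 2, 4, 2] p = path g [9, 8, 2, 4] p :=
  H.back (i := 2) (by decide) (f1711 H)

theorem f1713 : g 2 • path g [9, 8, 2, 4, 2] p = path g [9, 8, 2, 4] p :=
  scan (u := [2]) (w := []) (i := 2) (r2_0_0 H) (step (f1711 H) rfl) rfl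

theorem f1714 : g 7 • path g [9, 8, 2, 4] p = path g [9, 8, 2, 4, 2] p :=
  H.back (i := 2) (by decide) (f1713 H)

theorem f1715 : g 2 • path g [9, 8, 5, 8] p = path g [9, 8, 5, 8, 2] p :=
  rfl

theorem f1717 : g 2 • path g [9, 8, 5, 8, 2] p = path g [9, 8, 5, 8] p :=
  scan (u := [2]) (w := []) (i := 2) (r2_0_0 H) (step (f1715 H) rfl) rfl

theorem f1718 : g 7 • path g [9, 8, 5, 8] p = path g [9, 8, 5, 8, 2] p :=
  H.back (i := 2) (by decide) (f1717 H)

theorem f1729 : g 4 • path g [9, 8, 5, 8] p = path g [9, 8, 5, 8, 4] p :=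
  rfl

theorem f1733 : g 3 • path g [9, 8, 5, 8, 4] p = path g [3, 5, 8, 4] p :=
  scan (u := [4]) (w := [4, 3]) (i := 3) (r15_0_0 H) (step (f1729 H) rfl) (step (H.back (i := 9) (by decide) (f1051 H)) (step (H.back (i := 8) (by decide) (f407 H)) rfl))

theorem f1735 : g 3 • path g [3, 5, 3, 9] p = path g [9, 8, 5, 8, 4] p :=
  scan (u := [3, 3]) (w := []) (i := 3) (r6_0_0 H) (step (f1733 H) (step (f1057 H) rfl)) rfl

theorem f1736 : g 8 • path g [9, 8, 5, 8, 4] p = path g [3, 5, 3, 9] p :=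
  H.back (i := 3) (by decide) (f1735 H)

theorem f1741 : g 5 • path g [9, 8, 5, 2] p = path g [9, 8, 5, 2, 5] p :=
  rfl

theorem f1743 : g 5 • path g [9, 8, 5, 2, 5] p = path g [9, 8, 5, 2] p :=
  scan (u := [5]) (w := []) (i := 5) (r0_1_0 H) (step (f1741 H) rfl) rfl

theorem f1744 : g 0 • path g [9, 8, 5, 2] p = path g [9, 8, 5, 2, 5] p :=
  H.back (i := 5) (by decide) (f1743 H)

theorem f1745 : g 3 • path g [9, 8, 5, 2, 5] p = path g [9, 2, 5, 1] p :=
  scan (u := [5]) (w := [1, 0, 2, 1, 0, 8, 7, 5, 7]) (i := 3) (r8_1_0 H) (step (f1741 H) rfl) (step (H.back (i := 6) (by decide) (f509 H)) (step (H.back (i := 5) (by decide) (f513 H)) (step (H.back (i := 7) (by decide) (f1604 H)) (step (H.back (i := 6) (by decide) (f1601 H)) (step (H.back (i := 5) (by decide) (f496 H)) (step (H.back (i := 3) (by decide) (f376 H)) (step (H.back (i := 2) (by decide) (f102 H)) (step (H.back (i := 0) (by decide) (f107 H)) (step (H.back (i := 2) (by decide) (f402 H)) rfl)))))))))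

theorem f1747 : path g [4, 8, 2, 6] p = path g [9, 8, 2, 6, 5] p :=
  close (u := [5, 3, 1, 0, 2, 0, 1, 0, 8, 6]) (w := [5, 7, 6, 5, 7]) (r9_1_10 H) (step (f1741 H) (step (f1745 H) (step (f508 H) (step (f512 H) (step (f1605 H) (step (f559 H) (step (f1603 H) (step (f490 H) (step (f498 H) (step (f1178 H) rfl)))))))))) (step (H.back (i := 0) (by decide) (f1673 H)) (step (H.back (i := 2) (by decide) (f383 H)) (step (H.back (i := 1) (by decide) (f116 H)) (step (H.back (i := 0) (by decide) (f107 H)) (step (H.back (i := 2) (by decide) (f402 H)) rfl)))))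

theorem f1748 : path g [9, 8, 2, 6, 5] p = path g [4, 8, 2, 6] p :=
  (f1747 H).symm

theorem f1749 : g 0 • path g [4, 8, 2, 6] p = path g [9, 8, 2, 6] p :=
  (congrArg (g 0 • ·) (f1748 H).symm).trans (f1671 H)

theorem f1751 : g 5 • path g [9, 8, 2, 6] p = path g [4, 8, 2, 6] p :=
  H.back (i := 0) (by decide) (f1749 H)

theorem f1752 : g 5 • path g [4, 8, 2, 6] p = path g [9, 8, 2, 6] p :=
  (congrArg (g 5 • ·) (f1748 H).symm).trans (f1672 H)

theorem f1754 : g 0 • path g [9, 8, 2, 6] p = path g [4, 8, 2, 6] p :=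
  H.back (i := 5) (by decide) (f1752 H)

theorem f1755 : g 6 • path g [9, 8, 2, 1, 5] p = path g [4, 8, 2, 5] p :=
  scan (u := [5, 1, 1, 5]) (w := [5, 6]) (i := 6) (r4_1_3 H) (step (f1752 H) (step (f381 H) (step (f386 H) (step (f1686 H) rfl)))) (step (H.back (i := 0) (by decide) (f1177 H)) (step (H.back (i := 1) (by decide) (f1179 H)) rfl))

theorem f1756 : g 1 • path g [4, 8, 2, 5] p = path g [9, 8, 2, 1, 5] p :=
  H.back (i := 6) (by decide) (f1755 H)

theorem f1757 : g 0 • path g [9, 8, 2, 5, 1] p = path g [4, 8, 2, 1] p :=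
  scan (u := [0, 6, 6, 0, 1]) (w := [1]) (i := 0) (r4_0_0 H) (step (f1749 H) (step (f389 H) (step (f387 H) (step (f375 H) (step (f1426 H) rfl))))) (step (H.back (i := 6) (by decide) (f1187 H)) rfl)

theorem f1758 : g 5 • path g [4, 8, 2, 1] p = path g [9, 8, 2, 5, 1] p :=
  H.back (i := 0) (by decide) (f1757 H)

theorem f1759 : g 0 • path g [4, 8, 2, 1] p = path g [9, 8, 2, 5, 1] p :=
  scan (u := [0]) (w := []) (i := 0) (r0_0_0 H) (step (f1757 H) rfl) rfl

theorem f1760 : g 5 • path g [9, 8, 2, 5, 1] p = path g [4, 8, 2, 1] p :=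
  H.back (i := 0) (by decide) (f1759 H)

theorem f1761 : g 2 • path g [9, 2, 5, 8] p = path g [9, 8, 5, 2, 5] p :=
  scan (u := [3, 6, 5, 7, 6, 5, 7, 5, 8]) (w := []) (i := 2) (r7_0_1 H) (step (f1745 H) (step (f507 H) (step (f130 H) (step (f33 H) (step (f11 H) (step (f9 H) (step (f35 H) (step (f128 H) (step (f484 H) rfl))))))))) rfl

theorem f1762 : g 7 • path g [9, 8, 5, 2, 5] p = path g [9, 2, 5, 8] p :=
  H.back (i := 2) (by decide) (f1761 H)

theorem f1763 : g 2 • path g [9, 8, 5, 2, 5] p = path g [9, 2, 5, 8] p :=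
  scan (u := [2]) (w := []) (i := 2) (r2_0_0 H) (step (f1761 H) rfl) rfl

theorem f1769 : g 6 • path g [9, 8, 5, 2] p = path g [9, 8, 5, 2, 6] p :=
  rfl

theorem f1770 : g 1 • path g [9, 8, 5, 2, 6] p = path g [9, 8, 5, 2] p :=
  H.back (i := 6) (by decide) (f1769 H)

theorem f1771 : g 7 • path g [9, 8, 5, 2, 6] p = path g [9, 8, 5, 1] p :=
  scan (u := [6]) (w := [6, 7]) (i := 7) (r3_1_1 H) (step (f1769 H) rfl) (step (H.back (i := 1) (by decide) (f416 H)) (step (H.back (i := 2) (by decide) (f402 H)) rfl))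

theorem f1772 : g 2 • path g [9, 8, 5, 1] p = path g [9, 8, 5, 2, 6] p :=
  H.back (i := 7) (by decide) (f1771 H)

theorem f1773 : g 7 • path g [9, 8, 5, 1] p = path g [9, 8, 5, 2, 6] p :=
  scan (u := [7]) (w := []) (i := 7) (r2_1_0 H) (step (f1771 H) rfl) rfl

theorem f1775 : g 5 • path g [9, 3, 2, 6] p = path g [9, 8, 5, 2, 6] p :=
  scan (u := [7, 5, 7, 5, 7, 4, 2, 0, 2, 0, 2, 0, 2, 0, 4, 5, 7]) (w := []) (i := 5) (r11_0_9 H) (step (f1771 H) (step (f424 H) (step (f384 H) (step (f1751 H) (step (f1180 H) (step (f1560 H) (step (f494 H) (step (f355 H) (step (f98 H) (step (f25 H) (step (f96 H) (step (f357 H) (step (f492 H) (step (f490 H) (step (f1611 H) (step (f1617 H) (step (f596 H) rfl))))))))))))))))) rfl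

theorem f1776 : g 0 • path g [9, 8, 5, 2, 6] p = path g [9, 3, 2, 6] p :=
  H.back (i := 5) (by decide) (f1775 H)

theorem f1777 : g 0 • path g [9, 3, 2, 6] p = path g [9, 8, 5, 2, 6] p :=
  scan (u := [7, 5, 7, 5, 7, 9, 2]) (w := [2, 0, 2, 0, 2, 0, 9, 5, 7, 5]) (i := 0) (r11_1_16 H) (step (f1771 H) (step (f424 H) (step (f384 H) (step (f1751 H) (step (f1180 H) (step (f346 H) (step (f595 H) rfl))))))) (step (H.back (i := 7) (by decide) (f1773 H)) (step (H.back (i := 5) (by decide) (f423 H)) (step (H.back (i := 7) (by decide) (f382 H)) (step (H.back (i := 5) (by decide) (f1752 H)) (step (H.back (i := 7) (by decide) (f1182 H)) (step (H.back (i := 5) (by decide) (f1626 H)) (step (H.back (i := 4) (by decide) (f1217 H)) (step (H.back (i := 0) (by decide) (f1619 H)) (step (H.back (i := 2) (by decide) (f597 H)) (step (H.back (i := 0) (by decide) (f1776 H)) rfl))))))))))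

theorem f1778 : g 5 • path g [9, 8, 5, 2, 6] p = path g [9, 3, 2, 6] p :=
  H.back (i := 0) (by decide) (f1777 H)

theorem f1779 : g 7 • path g [9, 2, 5, 6] p = path g [9, 8, 2, 5, 8] p :=
  scan (u := [2, 0, 1, 8]) (w := [3, 0, 2, 0, 1]) (i := 7) (r7_1_5 H) (step (f1772 H) (step (f1776 H) (step (f593 H) (step (f1414 H) rfl)))) (step (H.back (i := 8) (by decide) (f1402 H)) (step (H.back (i := 5) (by decide) (f372 H)) (step (H.back (i := 7) (by decide) (f105 H)) (step (H.back (i := 5) (by decide) (f108 H)) (step (H.back (i := 6) (by decide) (f417 H)) rfl)))))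

theorem f1780 : g 2 • path g [9, 8, 2, 5, 8] p = path g [9, 2, 5, 6] p :=
  H.back (i := 7) (by decide) (f1779 H)

theorem f1781 : g 7 • path g [9, 8, 2, 5, 8] p = path g [9, 2, 5, 6] p :=
  scan (u := [7]) (w := []) (i := 7) (r2_1_0 H) (step (f1779 H) rfl) rfl

theorem f1782 : g 2 • path g [9, 2, 5, 6] p = path g [9, 8, 2, 5, 8] p :=
  H.back (i := 7) (by decide) (f1781 H)

theorem f1783 : g 6 • path g [9, 8, 2, 5, 8] p = path g [9, 2, 5, 2] p :=
  scan (u := [7]) (w := [7, 6]) (i := 6) (r3_1_0 H) (step (f1779 H) rfl) (step (H.back (i := 2) (by decide) (f486 H)) (step (H.back (i := 1) (by decide) (f505 H)) rfl))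

theorem f1784 : g 1 • path g [9, 2, 5, 2] p = path g [9, 8, 2, 5, 8] p :=
  H.back (i := 6) (by decide) (f1783 H)

theorem f1785 : g 1 • path g [9, 8, 2, 5, 8] p = path g [9, 3, 9, 5] p :=
  scan (u := [7]) (w := [5, 6, 7, 5, 6, 7, 5, 7, 1, 5]) (i := 1) (r5_1_0 H) (step (f1779 H) rfl) (step (H.back (i := 0) (by decide) (f561 H)) (step (H.back (i := 1) (by decide) (f567 H)) (step (H.back (i := 2) (by decide) (f1519 H)) (step (H.back (i := 0) (by decide) (f1537 H)) (step (H.back (i := 1) (by decide) (f1533 H)) (step (H.back (i := 2) (by decide) (f494 H)) (step (H.back (i := 0) (by decide) (f497 H)) (step (H.back (i := 2) (by decide) (f486 H)) (step (H.back (i := 6) (by decide) (f507 H)) (step (H.back (i := 0) (by decide) (f512 H)) rfl))))))))))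

theorem f1787 : g 5 • path g [9, 8, 2, 5, 8] p = path g [9, 8, 2, 5, 8] p :=
  scan (u := [7]) (w := [6, 7, 5, 7, 1, 5, 7, 1, 5, 6]) (i := 5) (r5_1_4 H) (step (f1779 H) rfl) (step (H.back (i := 1) (by decide) (f1784 H)) (step (H.back (i := 2) (by decide) (f486 H)) (step (H.back (i := 0) (by decide) (f131 H)) (step (H.back (i := 2) (by decide) (f32 H)) (step (H.back (i := 6) (by decide) (f11 H)) (step (H.back (i := 0) (by decide) (f8 H)) (step (H.back (i := 2) (by decide) (f34 H)) (step (H.back (i := 6) (by decide) (f37 H)) (step (H.back (i := 0) (by decide) (f129 H)) (step (H.back (i := 1) (by decide) (f505 H)) rfl))))))))))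

theorem f1788 : g 0 • path g [9, 8, 2, 5, 8] p = path g [9, 8, 2, 5, 8] p :=
  H.back (i := 5) (by decide) (f1787 H)

theorem f1789 : path g [4, 8, 5, 8] p = path g [9, 3, 9, 5] p :=
  close (u := [7, 5, 3, 1, 0, 2, 0, 1, 0, 8]) (w := [6, 5, 7, 6, 5]) (r9_1_9 H) (step (f1779 H) (step (f1787 H) (step (f1403 H) (step (f1426 H) (step (f1757 H) (step (f1188 H) (step (f1640 H) (step (f339 H) (step (f335 H) (step (f1196 H) rfl)))))))))) (step (H.back (i := 1) (by decide) (f1785 H)) (step (H.back (i := 0) (by decide) (f1788 H)) (step (H.back (i := 2) (by decide) (f1782 H)) (step (H.back (i := 1) (by decide) (f508 H)) (step (H.back (i := 0) (by decide) (f512 H)) rfl)))))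

theorem f1790 : g 3 • path g [9, 3, 9, 5] p = path g [4, 8, 5] p :=
  (congrArg (g 3 • ·) (f1789 H).symm).trans (f1197 H)

theorem f1792 : g 8 • path g [4, 8, 5] p = path g [9, 3, 9, 5] p :=
  H.back (i := 3) (by decide) (f1790 H)

theorem f1793 : g 8 • path g [9, 3, 9, 5] p = path g [4, 8, 5, 3] p :=
  (congrArg (g 8 • ·) (f1789 H).symm).trans (f1205 H)

theorem f1796 : g 7 • path g [4, 8, 5, 3] p = path g [9, 8, 2, 5, 3] p :=
  scan (u := [2, 0, 1, 2, 0, 1, 8]) (w := [3, 0]) (i := 7) (r7_1_2 H) (step (f1780 H) (step (f512 H) (step (f508 H) (step (f1782 H) (step (f1788 H) (step (f1785 H) (step (f1793 H) rfl))))))) (step (H.back (i := 8) (by decide) (f1423 H)) (step (H.back (i := 5) (by decide) (f1787 H)) rfl))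

theorem f1798 : g 7 • path g [9, 8, 2, 5, 3] p = path g [4, 8, 5, 3] p :=
  scan (u := [7]) (w := []) (i := 7) (r2_1_0 H) (step (f1796 H) rfl) rfl

theorem f1799 : g 2 • path g [4, 8, 5, 3] p = path g [9, 8, 2, 5, 3] p :=
  H.back (i := 7) (by decide) (f1798 H)

theorem f1800 : g 9 • path g [4, 8, 5, 3] p = path g [9, 3, 5, 3] p :=
  scan (u := [8]) (w := [8, 9]) (i := 9) (r15_1_0 H) (step (f1793 H) rfl) (step (H.back (i := 3) (by decide) (f616 H)) (step (H.back (i := 4) (by decide) (f564 H)) rfl))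

theorem f1804 : path g [4, 8, 2, 5] p = path g [3, 9, 2, 8] p :=
  close (u := [3, 1, 0, 2, 1, 0]) (w := [8, 7, 5, 7, 5]) (r8_1_1 H) (step (f1790 H) (step (f1212 H) (step (f1623 H) (step (f1181 H) (step (f1179 H) (step (f1177 H) rfl)))))) (step (H.back (i := 3) (by decide) (f1501 H)) (step (H.back (i := 2) (by decide) (f1519 H)) (step (H.back (i := 0) (by decide) (f1537 H)) (step (H.back (i := 2) (by decide) (f554 H)) (step (H.back (i := 0) (by decide) (f559 H)) rfl)))))

theorem f1805 : g 0 • path g [3, 9, 2, 8] p = path g [4, 8, 2] p :=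
  (congrArg (g 0 • ·) (f1804 H).symm).trans (f1175 H)

theorem f1807 : g 5 • path g [4, 8, 2] p = path g [3, 9, 2, 8] p :=
  H.back (i := 0) (by decide) (f1805 H)

theorem f1808 : g 5 • path g [3, 9, 2, 8] p = path g [4, 8, 2] p :=
  (congrArg (g 5 • ·) (f1804 H).symm).trans (f1176 H)

theorem f1810 : g 0 • path g [4, 8, 2] p = path g [3, 9, 2, 8] p :=
  H.back (i := 5) (by decide) (f1808 H)

theorem f1811 : g 1 • path g [3, 9, 2, 8] p = path g [9, 8, 2, 1, 5] p :=
  (congrArg (g 1 • ·) (f1804 H).symm).trans (f1756 H)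

theorem f1814 : path g [9, 8, 5, 8, 2] p = path g [9, 3, 9, 2] p :=
  close (u := [1, 0, 2, 1, 0, 8, 7]) (w := [5, 7, 5, 3]) (r8_1_2 H) (step (f1811 H) (step (f1687 H) (step (f390 H) (step (f113 H) (step (f109 H) (step (f398 H) (step (f1718 H) rfl))))))) (step (H.back (i := 0) (by decide) (f1542 H)) (step (H.back (i := 2) (by decide) (f1508 H)) (step (H.back (i := 0) (by decide) (f1512 H)) (step (H.back (i := 8) (by decide) (f1503 H)) rfl))))

theorem f1817 : g 2 • path g [9, 3, 9, 2] p = path g [9, 8, 5, 8] p :=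
  (congrArg (g 2 • ·) (f1814 H).symm).trans (f1717 H)

theorem f1818 : path g [9, 3, 9] p = path g [9, 8, 5, 8] p :=
  (f556 H).symm.trans (f1817 H)

theorem f1819 : path g [9, 8, 5, 8] p = path g [9, 3, 9] p :=
  (f1818 H).symm

theorem f1840 : g 4 • path g [9, 3, 9] p = path g [9, 8, 5, 8, 4] p :=
  (congrArg (g 4 • ·) (f1819 H).symm).trans (f1729 H)

theorem f1841 : path g [9, 3] p = path g [9, 8, 5, 8, 4] p :=
  (f143 H).symm.trans (f1840 H)

theorem f1842 : path g [9, 8, 5, 8, 4] p = path g [9, 3] p :=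
  (f1841 H).symm

theorem f1850 : g 8 • path g [9, 3] p = path g [3, 5, 3, 9] p :=
  (congrArg (g 8 • ·) (f1842 H).symm).trans (f1736 H)

theorem f1851 : path g [9] p = path g [3, 5, 3, 9] p :=
  (f39 H).symm.trans (f1850 H)

theorem f1852 : path g [3, 5, 3, 9] p = path g [9] p :=
  (f1851 H).symm

theorem f1857 : g 8 • path g [9] p = path g [3, 5, 8, 4] p :=
  (congrArg (g 8 • ·) (f1852 H).symm).trans (f1056 H)

theorem f1858 : path g [9, 8] p = path g [3, 5, 8, 4] p :=
  (f28 H).symm.trans (f1857 H)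

theorem f1862 : path g [3, 5, 8, 4] p = path g [9, 8] p :=
  (f1858 H).symm

theorem f1865 : g 4 • path g [9, 8] p = path g [9, 8, 5, 3] p :=
  (congrArg (g 4 • ·) (f1862 H).symm).trans (f1050 H)

theorem f1866 : path g [3, 9] p = path g [9, 8, 5, 3] p :=
  (f73 H).symm.trans (f1865 H)

theorem f1873 : path g [9, 8, 5, 3] p = path g [3, 9] p :=
  (f1866 H).symm

theorem f1879 : g 4 • path g [3, 9] p = path g [3, 5, 8] p :=
  (congrArg (g 4 • ·) (f1873 H).symm).trans (f408 H)

theorem f1880 : path g [3] p = path g [3, 5, 8] p :=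
  (f71 H).symm.trans (f1879 H)

theorem f1884 : path g [3, 5, 8] p = path g [3] p :=
  (f1880 H).symm

theorem f1887 : g 8 • path g [3] p = path g [3, 5, 3] p :=
  (congrArg (g 8 • ·) (f1884 H).symm).trans (f293 H)

theorem f1888 : path g [] p = path g [3, 5, 3] p :=
  (f17 H).symm.trans (f1887 H)

theorem f1951 : path g [3, 5, 3] p = path g [] p :=
  (f1888 H).symm

theorem f1957 : g 4 • path g [] p = path g [3, 9, 5, 8] p :=
  (congrArg (g 4 • ·) (f1951 H).symm).trans (f977 H)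

theorem f1958 : path g [4] p = path g [3, 9, 5, 8] p :=
  (f20 H).symm.trans (f1957 H)

theorem f2006 : path g [3, 9, 5, 8] p = path g [4] p :=
  (f1958 H).symm

theorem f2012 : g 8 • path g [4] p = path g [3, 9, 5, 3] p :=
  (congrArg (g 8 • ·) (f2006 H).symm).trans (f985 H)

theorem f2013 : path g [4, 8] p = path g [3, 9, 5, 3] p :=
  (f90 H).symm.trans (f2012 H)

theorem f2017 : path g [3, 9, 5, 3] p = path g [4, 8] p :=
  (f2013 H).symm

theorem f2018 : g 8 • path g [4, 8] p = path g [3, 9, 5] p :=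
  (congrArg (g 8 • ·) (f2017 H).symm).trans (f983 H)

theorem f2019 : path g [8, 9] p = path g [3, 9, 5] p :=
  (f92 H).symm.trans (f2018 H)

theorem f2029 : path g [3, 9, 5] p = path g [8, 9] p :=
  (f2019 H).symm

theorem f2050 : g 1 • path g [8, 9] p = path g [3, 9, 5, 1] p :=
  (congrArg (g 1 • ·) (f2029 H).symm).trans (f996 H)

theorem f2051 : path g [8, 9, 1] p = path g [3, 9, 5, 1] p :=
  (f180 H).symm.trans (f2050 H)

theorem f2052 : path g [3, 9, 5, 1] p = path g [8, 9, 1] p :=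
  (f2051 H).symm

theorem f2064 : g 5 • path g [8, 9, 1] p = path g [3, 9, 1] p :=
  (congrArg (g 5 • ·) (f2052 H).symm).trans (f1006 H)

theorem f2065 : path g [8, 9, 5, 1] p = path g [3, 9, 1] p :=
  (f701 H).symm.trans (f2064 H)

theorem f2073 : g 0 • path g [3, 9, 1] p = path g [8, 9, 1] p :=
  (f1007 H).trans (f2052 H)

theorem f2076 : g 5 • path g [3, 9, 1] p = path g [8, 9, 1] p :=
  (f1005 H).trans (f2052 H)

theorem f2078 : g 9 • path g [3, 9, 1] p = path g [8, 5, 1, 4] p :=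
  (congrArg (g 9 • ·) (f2065 H).symm).trans (f795 H)

theorem f2079 : path g [9, 8, 1] p = path g [8, 5, 1, 4] p :=
  (f286 H).symm.trans (f2078 H)

theorem f2080 : path g [8, 5, 1, 4] p = path g [9, 8, 1] p :=
  (f2079 H).symm

theorem f2092 : g 1 • path g [9, 8, 1] p = path g [8, 5, 6, 4] p :=
  (congrArg (g 1 • ·) (f2080 H).symm).trans (f802 H)

theorem f2093 : path g [9, 8, 6] p = path g [8, 5, 6, 4] p :=
  (f118 H).symm.trans (f2092 H)

theorem f2094 : path g [8, 5, 6, 4] p = path g [9, 8, 6] p :=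
  (f2093 H).symm

theorem f2105 : g 1 • path g [9, 8, 6] p = path g [8, 5, 4] p :=
  (congrArg (g 1 • ·) (f2094 H).symm).trans (f782 H)

theorem f2106 : path g [9, 8] p = path g [8, 5, 4] p :=
  (f113 H).symm.trans (f2105 H)

theorem f2110 : path g [8, 5, 4] p = path g [9, 8] p :=
  (f2106 H).symm

theorem f2127 : g 8 • path g [9, 8] p = path g [8, 5, 4, 8] p :=
  (congrArg (g 8 • ·) (f2110 H).symm).trans (f804 H)

theorem f2128 : path g [9, 3] p = path g [8, 5, 4, 8] p :=
  (f41 H).symm.trans (f2127 H)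

theorem f2131 : g 7 • path g [9, 8] p = path g [8, 5, 4, 2] p :=
  (congrArg (g 7 • ·) (f2110 H).symm).trans (f813 H)

theorem f2132 : path g [9, 8, 2] p = path g [8, 5, 4, 2] p :=
  (f105 H).symm.trans (f2131 H)

theorem f2133 : path g [8, 5, 4, 2] p = path g [9, 8, 2] p :=
  (f2132 H).symm

theorem f2142 : g 5 • path g [9, 8, 2] p = path g [4, 2, 3, 2] p :=
  (congrArg (g 5 • ·) (f2133 H).symm).trans (f1330 H)

theorem f2143 : path g [9, 8, 2, 5] p = path g [4, 2, 3, 2] p :=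
  (f372 H).symm.trans (f2142 H)

theorem f2144 : path g [4, 2, 3, 2] p = path g [9, 8, 2, 5] p :=
  (f2143 H).symm

theorem f2147 : g 2 • path g [9, 8, 2, 5] p = path g [4, 2, 3] p :=
  (congrArg (g 2 • ·) (f2144 H).symm).trans (f1320 H)

theorem f2148 : path g [9, 8, 2, 5, 2] p = path g [4, 2, 3] p :=
  (f1404 H).symm.trans (f2147 H)

theorem f2156 : g 7 • path g [4, 2, 3] p = path g [9, 8, 2, 5] p :=
  (f1321 H).trans (f2144 H)

theorem f2159 : g 2 • path g [4, 2, 3] p = path g [9, 8, 2, 5] p :=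
  (f1318 H).trans (f2144 H)

theorem f2163 : g 0 • path g [4, 2, 3] p = path g [9, 3, 2, 3] p :=
  (congrArg (g 0 • ·) (f2148 H).symm).trans (f1418 H)

theorem f2164 : path g [4, 2, 3, 5] p = path g [9, 3, 2, 3] p :=
  (f1325 H).symm.trans (f2163 H)

theorem f2166 : g 0 • path g [9, 3, 2, 3] p = path g [4, 2, 3] p :=
  (f1408 H).trans (f2148 H)

theorem f2169 : g 5 • path g [9, 3, 2, 3] p = path g [4, 2, 3] p :=
  (f1419 H).trans (f2148 H)

theorem f2173 : g 7 • path g [9, 3, 2, 3] p = path g [8, 9, 2, 5] p :=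
  (congrArg (g 7 • ·) (f2164 H).symm).trans (f1332 H)

theorem f2174 : path g [4, 2, 8] p = path g [8, 9, 2, 5] p :=
  (f1464 H).symm.trans (f2173 H)

theorem f2175 : path g [8, 9, 2, 5] p = path g [4, 2, 8] p :=
  (f2174 H).symm

theorem f2178 : g 5 • path g [4, 2, 8] p = path g [8, 9, 2] p :=
  (congrArg (g 5 • ·) (f2175 H).symm).trans (f652 H)

theorem f2179 : path g [3, 9, 5, 2] p = path g [8, 9, 2] p :=
  (f1473 H).symm.trans (f2178 H)

theorem f2193 : g 0 • path g [8, 9, 2] p = path g [4, 2, 8] p :=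
  (f653 H).trans (f2175 H)

theorem f2196 : g 5 • path g [8, 9, 2] p = path g [4, 2, 8] p :=
  (f650 H).trans (f2175 H)

theorem f2198 : path g [8, 5, 4, 8] p = path g [9, 3] p :=
  (f2128 H).symm

theorem f2204 : g 9 • path g [9, 3] p = path g [8, 9, 5, 3] p :=
  (congrArg (g 9 • ·) (f2198 H).symm).trans (f808 H)

theorem f2205 : path g [9, 3, 9] p = path g [8, 9, 5, 3] p :=
  (f142 H).symm.trans (f2204 H)

theorem f2206 : path g [8, 9, 5, 3] p = path g [9, 3, 9] p :=
  (f2205 H).symm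

theorem f2209 : g 3 • path g [9, 3, 9] p = path g [8, 9, 5, 8] p :=
  (congrArg (g 3 • ·) (f2206 H).symm).trans (f686 H)

theorem f2210 : path g [8, 4] p = path g [8, 9, 5, 8] p :=
  (f149 H).symm.trans (f2209 H)

theorem f2214 : path g [8, 9, 5, 8] p = path g [8, 4] p :=
  (f2210 H).symm

theorem f2222 : g 4 • path g [8, 4] p = path g [8, 5, 3, 9] p :=
  (congrArg (g 4 • ·) (f2214 H).symm).trans (f751 H)

theorem f2223 : path g [8, 9] p = path g [8, 5, 3, 9] p :=
  (f68 H).symm.trans (f2222 H)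

theorem f2224 : path g [8, 5, 3, 9] p = path g [8, 9] p :=
  (f2223 H).symm

theorem f2230 : g 8 • path g [8, 9] p = path g [8, 5, 8, 4] p :=
  (congrArg (g 8 • ·) (f2224 H).symm).trans (f752 H)

theorem f2231 : path g [4] p = path g [8, 5, 8, 4] p :=
  (f44 H).symm.trans (f2230 H)

theorem f2232 : path g [8, 5, 8, 4] p = path g [4] p :=
  (f2231 H).symm

theorem f2235 : g 4 • path g [4] p = path g [8, 5, 8, 9] p :=
  (congrArg (g 4 • ·) (f2232 H).symm).trans (f746 H)

theorem f2236 : path g [9] p = path g [8, 5, 8, 9] p :=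
  (f22 H).symm.trans (f2235 H)

theorem f2240 : path g [8, 5, 8, 9] p = path g [9] p :=
  (f2236 H).symm

theorem f2241 : g 4 • path g [9] p = path g [8, 5, 8] p :=
  (congrArg (g 4 • ·) (f2240 H).symm).trans (f721 H)

theorem f2242 : path g [] p = path g [8, 5, 8] p :=
  (f7 H).symm.trans (f2241 H)

theorem f2252 : path g [8, 5, 8] p = path g [] p :=
  (f2242 H).symm

theorem f2255 : g 8 • path g [] p = path g [8, 5, 3] p :=
  (congrArg (g 8 • ·) (f2252 H).symm).trans (f191 H)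

theorem f2256 : path g [8] p = path g [8, 5, 3] p :=
  (f12 H).symm.trans (f2255 H)

theorem f2319 : path g [8, 5, 3] p = path g [8] p :=
  (f2256 H).symm

theorem f2320 : g 8 • path g [8] p = path g [8, 5] p :=
  (congrArg (g 8 • ·) (f2319 H).symm).trans (f189 H)

theorem f2321 : path g [3] p = path g [8, 5] p :=
  (f19 H).symm.trans (f2320 H)

theorem f2375 : path g [8, 5] p = path g [3] p :=
  (f2321 H).symm

theorem f2396 : g 1 • path g [3] p = path g [8, 5, 1] p :=
  (congrArg (g 1 • ·) (f2375 H).symm).trans (f194 H)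

theorem f2397 : path g [3, 1] p = path g [8, 5, 1] p :=
  (f82 H).symm.trans (f2396 H)

theorem f2401 : path g [8, 5, 1] p = path g [3, 1] p :=
  (f2397 H).symm

theorem f2411 : g 7 • path g [3, 1] p = path g [8, 5, 6] p :=
  (congrArg (g 7 • ·) (f2401 H).symm).trans (f203 H)

theorem f2412 : path g [3, 6] p = path g [8, 5, 6] p :=
  (f89 H).symm.trans (f2411 H)

theorem f2413 : g 5 • path g [3, 1] p = path g [8, 1] p :=
  (congrArg (g 5 • ·) (f2401 H).symm).trans (f205 H)

theorem f2414 : path g [3, 5, 1] p = path g [8, 1] p :=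
  (f303 H).symm.trans (f2413 H)

theorem f2451 : g 0 • path g [8, 1] p = path g [3, 1] p :=
  (f204 H).trans (f2401 H)

theorem f2456 : g 5 • path g [8, 1] p = path g [3, 1] p :=
  (f201 H).trans (f2401 H)

theorem f2458 : g 4 • path g [8, 1] p = path g [9, 8, 5, 1] p :=
  (congrArg (g 4 • ·) (f2414 H).symm).trans (f421 H)

theorem f2459 : path g [8, 1, 4] p = path g [9, 8, 5, 1] p :=
  (f248 H).symm.trans (f2458 H)

theorem f2486 : path g [9, 8, 5, 1] p = path g [8, 1, 4] p :=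
  (f2459 H).symm

theorem f2495 : g 0 • path g [8, 1, 4] p = path g [9, 8, 1] p :=
  (f797 H).trans (f2080 H)

theorem f2498 : g 5 • path g [8, 1, 4] p = path g [9, 8, 1] p :=
  (f799 H).trans (f2080 H)

theorem f2505 : g 7 • path g [8, 1, 4] p = path g [9, 8, 5, 2, 6] p :=
  (congrArg (g 7 • ·) (f2486 H).symm).trans (f1773 H)

theorem f2506 : path g [8, 1, 4, 2] p = path g [9, 8, 5, 2, 6] p :=
  (f923 H).symm.trans (f2505 H)

theorem f2507 : path g [9, 8, 5, 2, 6] p = path g [8, 1, 4, 2] p :=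
  (f2506 H).symm

theorem f2508 : g 1 • path g [8, 1, 4, 2] p = path g [9, 8, 5, 2] p :=
  (congrArg (g 1 • ·) (f2507 H).symm).trans (f1770 H)

theorem f2509 : path g [8, 4, 2] p = path g [9, 8, 5, 2] p :=
  (f924 H).symm.trans (f2508 H)

theorem f2516 : g 0 • path g [8, 1, 4, 2] p = path g [9, 3, 2, 6] p :=
  (congrArg (g 0 • ·) (f2507 H).symm).trans (f1776 H)

theorem f2518 : g 5 • path g [9, 3, 2, 6] p = path g [8, 1, 4, 2] p :=
  H.back (i := 0) (by decide) (f2516 H)

theorem f2519 : g 5 • path g [8, 1, 4, 2] p = path g [9, 3, 2, 6] p :=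
  (congrArg (g 5 • ·) (f2507 H).symm).trans (f1778 H)

theorem f2521 : g 0 • path g [9, 3, 2, 6] p = path g [8, 1, 4, 2] p :=
  H.back (i := 5) (by decide) (f2519 H)

theorem f2522 : path g [9, 8, 5, 2] p = path g [8, 4, 2] p :=
  (f2509 H).symm

theorem f2525 : g 2 • path g [8, 4, 2] p = path g [9, 8, 5] p :=
  (congrArg (g 2 • ·) (f2522 H).symm).trans (f402 H)

theorem f2526 : path g [8, 4] p = path g [9, 8, 5] p :=
  (f258 H).symm.trans (f2525 H)

theorem f2533 : g 0 • path g [8, 4, 2] p = path g [9, 8, 5, 2, 5] p :=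
  (congrArg (g 0 • ·) (f2522 H).symm).trans (f1744 H)

theorem f2534 : path g [8, 4, 2, 5] p = path g [9, 8, 5, 2, 5] p :=
  (f935 H).symm.trans (f2533 H)

theorem f2553 : path g [9, 8, 5, 2, 5] p = path g [8, 4, 2, 5] p :=
  (f2534 H).symm

theorem f2560 : g 3 • path g [8, 4, 2, 5] p = path g [9, 2, 5, 1] p :=
  (congrArg (g 3 • ·) (f2553 H).symm).trans (f1745 H)

theorem f2562 : g 8 • path g [9, 2, 5, 1] p = path g [8, 4, 2, 5] p :=
  H.back (i := 3) (by decide) (f2560 H)

theorem f2563 : g 7 • path g [8, 4, 2, 5] p = path g [9, 2, 5, 8] p :=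
  (congrArg (g 7 • ·) (f2553 H).symm).trans (f1762 H)

theorem f2565 : g 2 • path g [9, 2, 5, 8] p = path g [8, 4, 2, 5] p :=
  H.back (i := 7) (by decide) (f2563 H)

theorem f2566 : g 2 • path g [8, 4, 2, 5] p = path g [9, 2, 5, 8] p :=
  (congrArg (g 2 • ·) (f2553 H).symm).trans (f1763 H)

theorem f2568 : g 7 • path g [9, 2, 5, 8] p = path g [8, 4, 2, 5] p :=
  H.back (i := 2) (by decide) (f2566 H)

theorem f2573 : path g [9, 8, 5] p = path g [8, 4] p :=
  (f2526 H).symm

theorem f2575 : g 0 • path g [8, 4] p = path g [9, 8] p :=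
  (f221 H).trans (f2110 H)

theorem f2578 : g 5 • path g [8, 4] p = path g [9, 8] p :=
  (f223 H).trans (f2110 H)

theorem f2597 : g 6 • path g [8, 4] p = path g [9, 8, 5, 6] p :=
  (congrArg (g 6 • ·) (f2573 H).symm).trans (f410 H)

theorem f2598 : path g [8, 6, 4] p = path g [9, 8, 5, 6] p :=
  (f239 H).symm.trans (f2597 H)

theorem f2602 : path g [9, 8, 5, 6] p = path g [8, 6, 4] p :=
  (f2598 H).symm

theorem f2617 : g 4 • path g [8, 6, 4] p = path g [3, 9, 5, 6] p :=
  (congrArg (g 4 • ·) (f2602 H).symm).trans (f991 H)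

theorem f2618 : path g [8, 9, 6] p = path g [3, 9, 5, 6] p :=
  (f234 H).symm.trans (f2617 H)

theorem f2619 : path g [3, 9, 5, 6] p = path g [8, 9, 6] p :=
  (f2618 H).symm

theorem f2626 : g 4 • path g [8, 9, 6] p = path g [3, 5, 6] p :=
  (congrArg (g 4 • ·) (f2619 H).symm).trans (f992 H)

theorem f2627 : path g [8, 6] p = path g [3, 5, 6] p :=
  (f176 H).symm.trans (f2626 H)

theorem f2637 : path g [3, 5, 6] p = path g [8, 6] p :=
  (f2627 H).symm

theorem f2638 : g 1 • path g [8, 6] p = path g [3, 5] p :=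
  (congrArg (g 1 • ·) (f2637 H).symm).trans (f295 H)

theorem f2639 : path g [8] p = path g [3, 5] p :=
  (f53 H).symm.trans (f2638 H)

theorem f2684 : path g [3, 5] p = path g [8] p :=
  (f2639 H).symm

theorem f2686 : g 0 • path g [8] p = path g [3] p :=
  (f49 H).trans (f2375 H)

theorem f2715 : path g [8, 5, 6] p = path g [3, 6] p :=
  (f2412 H).symm

theorem f2734 : g 9 • path g [3, 6] p = path g [8, 9, 5, 6] p :=
  (congrArg (g 9 • ·) (f2715 H).symm).trans (f691 H)

theorem f2735 : path g [3, 9, 6] p = path g [8, 9, 5, 6] p :=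
  (f277 H).symm.trans (f2734 H)

theorem f2762 : path g [8, 9, 5, 6] p = path g [3, 9, 6] p :=
  (f2735 H).symm

theorem f2763 : g 1 • path g [3, 9, 6] p = path g [8, 9, 5] p :=
  (congrArg (g 1 • ·) (f2762 H).symm).trans (f689 H)

theorem f2764 : path g [3, 9] p = path g [8, 9, 5] p :=
  (f273 H).symm.trans (f2763 H)

theorem f2780 : path g [8, 9, 5] p = path g [3, 9] p :=
  (f2764 H).symm

theorem f2782 : g 0 • path g [3, 9] p = path g [8, 9] p :=
  (f267 H).trans (f2029 H)

theorem f2785 : g 5 • path g [3, 9] p = path g [8, 9] p :=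
  (f264 H).trans (f2029 H)

theorem f2836 : g 0 • path g [9, 8] p = path g [8, 4] p :=
  (f109 H).trans (f2573 H)

theorem f2837 : g 5 • path g [9, 8] p = path g [8, 4] p :=
  (f106 H).trans (f2573 H)

theorem f2838 : g 7 • path g [9, 8, 2, 5] p = path g [4, 2, 3] p :=
  (f1407 H).trans (f2148 H)

theorem f2839 : g 0 • path g [3] p = path g [8] p :=
  (f79 H).trans (f2684 H)

theorem f2840 : g 5 • path g [8, 9] p = path g [3, 9] p :=
  (f168 H).trans (f2780 H)

theorem f2841 : g 2 • path g [9, 8, 2, 5] p = path g [4, 2, 3] p :=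
  (f1404 H).trans (f2148 H)

theorem f2843 : g 0 • path g [4, 2, 3] p = path g [9, 3, 2, 3] p :=
  (f1325 H).trans (f2164 H)

theorem f2845 : g 0 • path g [9, 8, 1] p = path g [8, 1, 4] p :=
  (f425 H).trans (f2486 H)

theorem f2846 : g 5 • path g [9, 8, 1] p = path g [8, 1, 4] p :=
  (f423 H).trans (f2486 H)

theorem f2847 : g 0 • path g [3, 1] p = path g [8, 1] p :=
  (f306 H).trans (f2414 H)

theorem f2848 : g 5 • path g [8, 9, 1] p = path g [3, 9, 1] p :=
  (f701 H).trans (f2065 H)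

theorem f2849 : g 0 • path g [4, 8, 2, 4] p = path g [4, 8, 6, 8] p :=
  scan (u := [5, 4]) (w := [9]) (i := 0) (r13_1_1 H) (step (f1808 H) (step (f1192 H) rfl)) (step (H.back (i := 4) (by decide) (f1658 H)) rfl)

theorem f2850 : g 5 • path g [4, 8, 6, 8] p = path g [4, 8, 2, 4] p :=
  H.back (i := 0) (by decide) (f2849 H)

theorem f2851 : g 0 • path g [4, 8, 6, 8] p = path g [4, 8, 2, 4] p :=
  scan (u := [0]) (w := []) (i := 0) (r0_0_0 H) (step (f2849 H) rfl) rfl

theorem f2852 : g 5 • path g [4, 8, 2, 4] p = path g [4, 8, 6, 8] p :=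
  H.back (i := 0) (by decide) (f2851 H)

theorem f2853 : g 0 • path g [4, 2, 8] p = path g [8, 9, 2] p :=
  (f1476 H).trans (f2179 H)

theorem f2854 : g 0 • path g [8, 9] p = path g [3, 9] p :=
  (f171 H).trans (f2780 H)

theorem f2855 : g 9 • path g [9, 3, 5, 6] p = path g [9, 8, 2, 5, 8] p :=
  scan (u := [1, 4, 6]) (w := []) (i := 9) (r14_0_0 H) (step (f1785 H) (step (f564 H) (step (f620 H) rfl))) rfl

theorem f2856 : g 4 • path g [9, 8, 2, 5, 8] p = path g [9, 3, 5, 6] p :=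
  H.back (i := 9) (by decide) (f2855 H)

theorem f2857 : g 4 • path g [4, 8, 5, 6] p = path g [9, 8, 2, 5, 8] p :=
  scan (u := [1, 9, 6]) (w := []) (i := 4) (r14_1_1 H) (step (f1785 H) (step (f562 H) (step (f1208 H) rfl))) rfl

theorem f2859 : g 3 • path g [9, 8, 2, 5, 4] p = path g [4, 8, 5, 6] p :=
  scan (u := [4, 3, 4]) (w := []) (i := 3) (r15_0_0 H) (step (f2857 H) (step (f1403 H) (step (f1430 H) rfl))) rfl

theorem f2860 : g 8 • path g [4, 8, 5, 6] p = path g [9, 8, 2, 5, 4] p :=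
  H.back (i := 3) (by decide) (f2859 H)

theorem f2861 : g 2 • path g [9, 8, 6, 8] p = path g [9, 8, 6, 8, 2] p :=
  rfl

theorem f2862 : g 7 • path g [9, 8, 6, 8, 2] p = path g [9, 8, 6, 8] p :=
  H.back (i := 2) (by decide) (f2861 H)

theorem f2863 : g 2 • path g [9, 8, 6, 8, 2] p = path g [9, 8, 6, 8] p :=
  scan (u := [2]) (w := []) (i := 2) (r2_0_0 H) (step (f2861 H) rfl) rfl

theorem f2864 : g 7 • path g [9, 8, 6, 8] p = path g [9, 8, 6, 8, 2] p :=
  H.back (i := 2) (by decide) (f2863 H)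

theorem f2865 : g 5 • path g [9, 8, 6, 8] p = path g [9, 8, 6, 8, 5] p :=
  rfl

theorem f2866 : g 0 • path g [9, 8, 6, 8, 5] p = path g [9, 8, 6, 8] p :=
  H.back (i := 5) (by decide) (f2865 H)

theorem f2867 : g 5 • path g [9, 8, 6, 8, 5] p = path g [9, 8, 6, 8] p :=
  scan (u := [5]) (w := []) (i := 5) (r0_1_0 H) (step (f2865 H) rfl) rfl

theorem f2868 : g 0 • path g [9, 8, 6, 8] p = path g [9, 8, 6, 8, 5] p :=
  H.back (i := 5) (by decide) (f2867 H)

theorem f2869 : g 6 • path g [9, 8, 6, 8] p = path g [9, 8, 6, 8, 6] p :=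
  rfl

theorem f2870 : g 1 • path g [9, 8, 6, 8, 6] p = path g [9, 8, 6, 8] p :=
  H.back (i := 6) (by decide) (f2869 H)

theorem f2871 : g 1 • path g [9, 8, 6, 8] p = path g [9, 8, 6, 8, 1] p :=
  rfl

theorem f2872 : g 6 • path g [9, 8, 6, 8, 1] p = path g [9, 8, 6, 8] p :=
  H.back (i := 1) (by decide) (f2871 H)

theorem f2873 : g 1 • path g [9, 8, 6, 8, 1] p = path g [9, 8, 6, 8, 6] p :=
  scan (u := [1]) (w := [1]) (i := 1) (r1_0_0 H) (step (f2871 H) rfl) (step (H.back (i := 6) (by decide) (f2869 H)) rfl)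

theorem f2874 : g 6 • path g [9, 8, 6, 8, 6] p = path g [9, 8, 6, 8, 1] p :=
  H.back (i := 1) (by decide) (f2873 H)

theorem f2875 : g 4 • path g [9, 8, 6, 8] p = path g [9, 8, 6, 8, 4] p :=
  rfl

theorem f2877 : g 4 • path g [9, 8, 6, 8, 4] p = path g [3, 9, 6, 3] p :=
  scan (u := [4]) (w := [4]) (i := 4) (r10_0_0 H) (step (f2875 H) rfl) (step (H.back (i := 9) (by decide) (f1017 H)) rfl)

theorem f2879 : g 3 • path g [9, 8, 6, 8, 4] p = path g [3, 6, 8, 4] p :=
  scan (u := [4]) (w := [4, 3]) (i := 3) (r15_0_0 H) (step (f2875 H) rfl) (step (H.back (i := 9) (by decide) (f1105 H)) (step (H.back (i := 8) (by decide) (f431 H)) rfl))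

theorem f2880 : g 8 • path g [3, 6, 8, 4] p = path g [9, 8, 6, 8, 4] p :=
  H.back (i := 3) (by decide) (f2879 H)

theorem f2881 : g 3 • path g [3, 6, 3, 9] p = path g [9, 8, 6, 8, 4] p :=
  scan (u := [3, 3]) (w := []) (i := 3) (r6_0_0 H) (step (f2879 H) (step (f1111 H) rfl)) rfl

theorem f2882 : g 8 • path g [9, 8, 6, 8, 4] p = path g [3, 6, 3, 9] p :=
  H.back (i := 3) (by decide) (f2881 H)

theorem f2883 : g 2 • path g [9, 8, 6, 3] p = path g [9, 8, 6, 3, 2] p :=
  rfl

theorem f2884 : g 7 • path g [9, 8, 6, 3, 2] p = path g [9, 8, 6, 3] p :=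
  H.back (i := 2) (by decide) (f2883 H)

theorem f2885 : g 2 • path g [9, 8, 6, 3, 2] p = path g [9, 8, 6, 3] p :=
  scan (u := [2]) (w := []) (i := 2) (r2_0_0 H) (step (f2883 H) rfl) rfl

theorem f2887 : g 5 • path g [9, 8, 6, 3] p = path g [9, 8, 6, 3, 5] p :=
  rfl

theorem f2889 : g 5 • path g [9, 8, 6, 3, 5] p = path g [9, 8, 6, 3] p :=
  scan (u := [5]) (w := []) (i := 5) (r0_1_0 H) (step (f2887 H) rfl) rfl

theorem f2890 : g 0 • path g [9, 8, 6, 3] p = path g [9, 8, 6, 3, 5] p :=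
  H.back (i := 5) (by decide) (f2889 H)

theorem f2891 : g 4 • path g [9, 8, 6, 3, 5] p = path g [3, 6, 8, 5] p :=
  scan (u := [5]) (w := [0, 9]) (i := 4) (r13_1_1 H) (step (f2887 H) rfl) (step (H.back (i := 5) (by decide) (f1088 H)) (step (H.back (i := 4) (by decide) (f432 H)) rfl))

theorem f2892 : g 9 • path g [3, 6, 8, 5] p = path g [9, 8, 6, 3, 5] p :=
  H.back (i := 4) (by decide) (f2891 H)

theorem f2893 : g 6 • path g [9, 8, 6, 3] p = path g [9, 8, 6, 3, 6] p :=
  rfl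

theorem f2895 : g 4 • path g [9, 8, 6, 3, 6] p = path g [3, 6, 8, 6] p :=
  scan (u := [6]) (w := [1, 9]) (i := 4) (r14_1_3 H) (step (f2893 H) rfl) (step (H.back (i := 6) (by decide) (f1092 H)) (step (H.back (i := 4) (by decide) (f432 H)) rfl))

theorem f2896 : g 9 • path g [3, 6, 8, 6] p = path g [9, 8, 6, 3, 6] p :=
  H.back (i := 4) (by decide) (f2895 H)

theorem f2897 : g 1 • path g [9, 8, 6, 3] p = path g [9, 8, 6, 3, 1] p :=
  rfl

theorem f2899 : g 1 • path g [9, 8, 6, 3, 1] p = path g [9, 8, 6, 3, 6] p :=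
  scan (u := [1]) (w := [1]) (i := 1) (r1_0_0 H) (step (f2897 H) rfl) (step (H.back (i := 6) (by decide) (f2893 H)) rfl)

theorem f2901 : g 4 • path g [9, 8, 6, 3, 1] p = path g [3, 6, 8, 1] p :=
  scan (u := [1]) (w := [6, 9]) (i := 4) (r14_0_0 H) (step (f2897 H) rfl) (step (H.back (i := 1) (by decide) (f1094 H)) (step (H.back (i := 4) (by decide) (f432 H)) rfl))

theorem f2902 : g 9 • path g [3, 6, 8, 1] p = path g [9, 8, 6, 3, 1] p :=
  H.back (i := 4) (by decide) (f2901 H)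

theorem f2903 : g 2 • path g [9, 8, 1, 8] p = path g [9, 8, 1, 8, 2] p :=
  rfl

theorem f2904 : g 7 • path g [9, 8, 1, 8, 2] p = path g [9, 8, 1, 8] p :=
  H.back (i := 2) (by decide) (f2903 H)

theorem f2905 : g 2 • path g [9, 8, 1, 8, 2] p = path g [9, 8, 1, 8] p :=
  scan (u := [2]) (w := []) (i := 2) (r2_0_0 H) (step (f2903 H) rfl) rfl

theorem f2907 : g 3 • path g [9, 8, 1, 8, 2] p = path g [9, 3, 5, 1] p :=
  scan (u := [2]) (w := [6, 5, 7, 6, 5, 7, 5, 8]) (i := 3) (r7_0_0 H) (step (f2903 H) rfl) (step (H.back (i := 1) (by decide) (f622 H)) (step (H.back (i := 0) (by decide) (f157 H)) (step (H.back (i := 2) (by decide) (f152 H)) (step (H.back (i := 1) (by decide) (f593 H)) (step (H.back (i := 0) (by decide) (f2516 H)) (step (H.back (i := 2) (by decide) (f920 H)) (step (H.back (i := 0) (by decide) (f2845 H)) (step (H.back (i := 3) (by decide) (f435 H)) rfl))))))))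

theorem f2908 : g 8 • path g [9, 3, 5, 1] p = path g [9, 8, 1, 8, 2] p :=
  H.back (i := 3) (by decide) (f2907 H)

theorem f2909 : g 3 • path g [4, 8, 2, 9] p = path g [9, 8, 1, 8, 2] p :=
  scan (u := [3, 3]) (w := []) (i := 3) (r6_0_0 H) (step (f2907 H) (step (f1633 H) rfl)) rfl

theorem f2911 : g 5 • path g [9, 8, 1, 8] p = path g [9, 8, 1, 8, 5] p :=
  rfl

theorem f2912 : g 0 • path g [9, 8, 1, 8, 5] p = path g [9, 8, 1, 8] p :=
  H.back (i := 5) (by decide) (f2911 H)

theorem f2913 : g 5 • path g [9, 8, 1, 8, 5] p = path g [9, 8, 1, 8] p :=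
  scan (u := [5]) (w := []) (i := 5) (r0_1_0 H) (step (f2911 H) rfl) rfl

theorem f2914 : g 0 • path g [9, 8, 1, 8] p = path g [9, 8, 1, 8, 5] p :=
  H.back (i := 5) (by decide) (f2913 H)

theorem f2915 : g 6 • path g [9, 8, 1, 8] p = path g [9, 8, 1, 8, 6] p :=
  rfl

theorem f2916 : g 1 • path g [9, 8, 1, 8, 6] p = path g [9, 8, 1, 8] p :=
  H.back (i := 6) (by decide) (f2915 H)

theorem f2917 : g 1 • path g [9, 8, 1, 8] p = path g [9, 8, 1, 8, 1] p :=
  rfl

theorem f2919 : g 1 • path g [9, 8, 1, 8, 1] p = path g [9, 8, 1, 8, 6] p :=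
  scan (u := [1]) (w := [1]) (i := 1) (r1_0_0 H) (step (f2917 H) rfl) (step (H.back (i := 6) (by decide) (f2915 H)) rfl)

theorem f2920 : g 6 • path g [9, 8, 1, 8, 6] p = path g [9, 8, 1, 8, 1] p :=
  H.back (i := 1) (by decide) (f2919 H)

theorem f2921 : g 4 • path g [9, 8, 1, 8] p = path g [9, 8, 1, 8, 4] p :=
  rfl

theorem f2922 : g 9 • path g [9, 8, 1, 8, 4] p = path g [9, 8, 1, 8] p :=
  H.back (i := 4) (by decide) (f2921 H)

theorem f2923 : g 4 • path g [9, 8, 1, 8, 4] p = path g [3, 9, 1, 3] p :=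
  scan (u := [4]) (w := [4]) (i := 4) (r10_0_0 H) (step (f2921 H) rfl) (step (H.back (i := 9) (by decide) (f1027 H)) rfl)

theorem f2925 : g 3 • path g [9, 8, 1, 8, 4] p = path g [3, 1, 8, 4] p :=
  scan (u := [4]) (w := [4, 3]) (i := 3) (r15_0_0 H) (step (f2921 H) rfl) (step (H.back (i := 9) (by decide) (f1147 H)) (step (H.back (i := 8) (by decide) (f439 H)) rfl))

theorem f2926 : g 8 • path g [3, 1, 8, 4] p = path g [9, 8, 1, 8, 4] p :=
  H.back (i := 3) (by decide) (f2925 H)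

theorem f2927 : g 3 • path g [3, 1, 3, 9] p = path g [9, 8, 1, 8, 4] p :=
  scan (u := [3, 3]) (w := []) (i := 3) (r6_0_0 H) (step (f2925 H) (step (f1153 H) rfl)) rfl

theorem f2928 : g 8 • path g [9, 8, 1, 8, 4] p = path g [3, 1, 3, 9] p :=
  H.back (i := 3) (by decide) (f2927 H)

theorem f2929 : g 2 • path g [9, 8, 1, 3] p = path g [9, 8, 1, 3, 2] p :=
  rfl

theorem f2930 : g 7 • path g [9, 8, 1, 3, 2] p = path g [9, 8, 1, 3] p :=
  H.back (i := 2) (by decide) (f2929 H)

theorem f2931 : g 2 • path g [9, 8, 1, 3, 2] p = path g [9, 8, 1, 3] p :=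
  scan (u := [2]) (w := []) (i := 2) (r2_0_0 H) (step (f2929 H) rfl) rfl

theorem f2932 : g 7 • path g [9, 8, 1, 3] p = path g [9, 8, 1, 3, 2] p :=
  H.back (i := 2) (by decide) (f2931 H)

theorem f2933 : g 5 • path g [9, 8, 1, 3] p = path g [9, 8, 1, 3, 5] p :=
  rfl

theorem f2935 : g 5 • path g [9, 8, 1, 3, 5] p = path g [9, 8, 1, 3] p :=
  scan (u := [5]) (w := []) (i := 5) (r0_1_0 H) (step (f2933 H) rfl) rfl

theorem f2936 : g 0 • path g [9, 8, 1, 3] p = path g [9, 8, 1, 3, 5] p :=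
  H.back (i := 5) (by decide) (f2935 H)

theorem f2937 : g 4 • path g [9, 8, 1, 3, 5] p = path g [3, 1, 8, 5] p :=
  scan (u := [5]) (w := [0, 9]) (i := 4) (r13_1_1 H) (step (f2933 H) rfl) (step (H.back (i := 5) (by decide) (f1126 H)) (step (H.back (i := 4) (by decide) (f440 H)) rfl))

theorem f2939 : g 6 • path g [9, 8, 1, 3] p = path g [9, 8, 1, 3, 6] p :=
  rfl

theorem f2940 : g 1 • path g [9, 8, 1, 3, 6] p = path g [9, 8, 1, 3] p :=
  H.back (i := 6) (by decide) (f2939 H)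

theorem f2941 : g 4 • path g [9, 8, 1, 3, 6] p = path g [3, 1, 8, 6] p :=
  scan (u := [6]) (w := [1, 9]) (i := 4) (r14_1_3 H) (step (f2939 H) rfl) (step (H.back (i := 6) (by decide) (f1134 H)) (step (H.back (i := 4) (by decide) (f440 H)) rfl))

theorem f2942 : g 9 • path g [3, 1, 8, 6] p = path g [9, 8, 1, 3, 6] p :=
  H.back (i := 4) (by decide) (f2941 H)

theorem f2943 : g 1 • path g [9, 8, 1, 3] p = path g [9, 8, 1, 3, 1] p :=
  rfl

theorem f2944 : g 6 • path g [9, 8, 1, 3, 1] p = path g [9, 8, 1, 3] p :=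
  H.back (i := 1) (by decide) (f2943 H)

theorem f2945 : g 1 • path g [9, 8, 1, 3, 1] p = path g [9, 8, 1, 3, 6] p :=
  scan (u := [1]) (w := [1]) (i := 1) (r1_0_0 H) (step (f2943 H) rfl) (step (H.back (i := 6) (by decide) (f2939 H)) rfl)

theorem f2947 : g 4 • path g [9, 8, 1, 3, 1] p = path g [3, 1, 8, 1] p :=
  scan (u := [1]) (w := [6, 9]) (i := 4) (r14_0_0 H) (step (f2943 H) rfl) (step (H.back (i := 1) (by decide) (f1136 H)) (step (H.back (i := 4) (by decide) (f440 H)) rfl))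

theorem f2948 : g 9 • path g [3, 1, 8, 1] p = path g [9, 8, 1, 3, 1] p :=
  H.back (i := 4) (by decide) (f2947 H)

theorem f2949 : g 2 • path g [9, 2, 9, 8] p = path g [9, 2, 9, 8, 2] p :=
  rfl

theorem f2950 : g 7 • path g [9, 2, 9, 8, 2] p = path g [9, 2, 9, 8] p :=
  H.back (i := 2) (by decide) (f2949 H)

theorem f2951 : g 2 • path g [9, 2, 9, 8, 2] p = path g [9, 2, 9, 8] p :=
  scan (u := [2]) (w := []) (i := 2) (r2_0_0 H) (step (f2949 H) rfl) rfl

theorem f2952 : g 7 • path g [9, 2, 9, 8] p = path g [9, 2, 9, 8, 2] p :=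
  H.back (i := 2) (by decide) (f2951 H)

theorem f2953 : g 5 • path g [9, 2, 9, 8] p = path g [9, 2, 9, 8, 5] p :=
  rfl

theorem f2954 : g 0 • path g [9, 2, 9, 8, 5] p = path g [9, 2, 9, 8] p :=
  H.back (i := 5) (by decide) (f2953 H)

theorem f2955 : g 5 • path g [9, 2, 9, 8, 5] p = path g [9, 2, 9, 8] p :=
  scan (u := [5]) (w := []) (i := 5) (r0_1_0 H) (step (f2953 H) rfl) rfl

theorem f2956 : g 0 • path g [9, 2, 9, 8] p = path g [9, 2, 9, 8, 5] p :=
  H.back (i := 5) (by decide) (f2955 H)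

theorem f2957 : g 9 • path g [9, 2, 9, 8, 5] p = path g [9, 2, 3, 5] p :=
  scan (u := [5]) (w := [0, 4]) (i := 9) (r13_0_0 H) (step (f2953 H) rfl) (step (H.back (i := 5) (by decide) (f532 H)) (step (H.back (i := 9) (by decide) (f444 H)) rfl))

theorem f2958 : g 4 • path g [9, 2, 3, 5] p = path g [9, 2, 9, 8, 5] p :=
  H.back (i := 9) (by decide) (f2957 H)

theorem f2959 : g 6 • path g [9, 2, 9, 8] p = path g [9, 2, 9, 8, 6] p :=
  rfl

theorem f2960 : g 1 • path g [9, 2, 9, 8, 6] p = path g [9, 2, 9, 8] p :=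
  H.back (i := 6) (by decide) (f2959 H)

theorem f2961 : g 9 • path g [9, 2, 9, 8, 6] p = path g [9, 2, 3, 6] p :=
  scan (u := [6]) (w := [1, 4]) (i := 9) (r14_0_2 H) (step (f2959 H) rfl) (step (H.back (i := 6) (by decide) (f536 H)) (step (H.back (i := 9) (by decide) (f444 H)) rfl))

theorem f2962 : g 4 • path g [9, 2, 3, 6] p = path g [9, 2, 9, 8, 6] p :=
  H.back (i := 9) (by decide) (f2961 H)

theorem f2963 : g 1 • path g [9, 2, 9, 8] p = path g [9, 2, 9, 8, 1] p :=
  rfl

theorem f2964 : g 6 • path g [9, 2, 9, 8, 1] p = path g [9, 2, 9, 8] p :=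
  H.back (i := 1) (by decide) (f2963 H)

theorem f2965 : g 1 • path g [9, 2, 9, 8, 1] p = path g [9, 2, 9, 8, 6] p :=
  scan (u := [1]) (w := [1]) (i := 1) (r1_0_0 H) (step (f2963 H) rfl) (step (H.back (i := 6) (by decide) (f2959 H)) rfl)

theorem f2967 : g 9 • path g [9, 2, 9, 8, 1] p = path g [9, 2, 3, 1] p :=
  scan (u := [1]) (w := [6, 4]) (i := 9) (r14_1_1 H) (step (f2963 H) rfl) (step (H.back (i := 1) (by decide) (f538 H)) (step (H.back (i := 9) (by decide) (f444 H)) rfl))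

theorem f2968 : g 4 • path g [9, 2, 3, 1] p = path g [9, 2, 9, 8, 1] p :=
  H.back (i := 9) (by decide) (f2967 H)

theorem f2969 : g 9 • path g [9, 2, 9, 2] p = path g [9, 2, 9, 2, 9] p :=
  rfl

theorem f2970 : g 4 • path g [9, 2, 9, 2, 9] p = path g [9, 2, 9, 2] p :=
  H.back (i := 9) (by decide) (f2969 H)

theorem f2973 : g 8 • path g [9, 2, 9, 2] p = path g [9, 2, 9, 2, 8] p :=
  rfl

theorem f2975 : g 5 • path g [9, 2, 9, 2] p = path g [9, 2, 9, 2, 5] p :=
  rfl

theorem f2976 : g 0 • path g [9, 2, 9, 2, 5] p = path g [9, 2, 9, 2] p :=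
  H.back (i := 5) (by decide) (f2975 H)

theorem f2977 : g 5 • path g [9, 2, 9, 2, 5] p = path g [9, 2, 9, 2] p :=
  scan (u := [5]) (w := []) (i := 5) (r0_1_0 H) (step (f2975 H) rfl) rfl

theorem f2978 : g 0 • path g [9, 2, 9, 2] p = path g [9, 2, 9, 2, 5] p :=
  H.back (i := 5) (by decide) (f2977 H)

theorem f2979 : g 3 • path g [9, 2, 9, 2] p = path g [9, 2, 9, 2, 3] p :=
  rfl

theorem f2980 : g 8 • path g [9, 2, 9, 2, 3] p = path g [9, 2, 9, 2] p :=
  H.back (i := 3) (by decide) (f2979 H)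

theorem f2981 : g 3 • path g [9, 2, 9, 2, 3] p = path g [9, 2, 9, 2, 8] p :=
  scan (u := [3]) (w := [3]) (i := 3) (r6_0_0 H) (step (f2979 H) rfl) (step (H.back (i := 8) (by decide) (f2973 H)) rfl)

theorem f2982 : g 8 • path g [9, 2, 9, 2, 8] p = path g [9, 2, 9, 2, 3] p :=
  H.back (i := 3) (by decide) (f2981 H)

theorem f2983 : g 4 • path g [9, 2, 9, 2] p = path g [9, 2, 9, 2, 4] p :=
  rfl

theorem f2985 : g 4 • path g [9, 2, 9, 2, 4] p = path g [9, 2, 9, 2, 9] p :=
  scan (u := [4]) (w := [4]) (i := 4) (r10_0_0 H) (step (f2983 H) rfl) (step (H.back (i := 9) (by decide) (f2969 H)) rfl)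

theorem f2989 : g 8 • path g [9, 2, 9, 5] p = path g [9, 2, 9, 5, 8] p :=
  rfl

theorem f2990 : g 3 • path g [9, 2, 9, 5, 8] p = path g [9, 2, 9, 5] p :=
  H.back (i := 8) (by decide) (f2989 H)

theorem f2991 : g 9 • path g [9, 2, 9, 5, 8] p = path g [9, 2, 5, 3] p :=
  scan (u := [8]) (w := [8, 9]) (i := 9) (r15_1_0 H) (step (f2989 H) rfl) (step (H.back (i := 3) (by decide) (f500 H)) (step (H.back (i := 4) (by decide) (f456 H)) rfl))

theorem f2992 : g 4 • path g [9, 2, 5, 3] p = path g [9, 2, 9, 5, 8] p :=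
  H.back (i := 9) (by decide) (f2991 H)

theorem f2993 : g 2 • path g [9, 2, 9, 5] p = path g [9, 2, 9, 5, 2] p :=
  rfl

theorem f2994 : g 7 • path g [9, 2, 9, 5, 2] p = path g [9, 2, 9, 5] p :=
  H.back (i := 2) (by decide) (f2993 H)

theorem f2995 : g 2 • path g [9, 2, 9, 5, 2] p = path g [9, 2, 9, 5] p :=
  scan (u := [2]) (w := []) (i := 2) (r2_0_0 H) (step (f2993 H) rfl) rfl

theorem f2996 : g 7 • path g [9, 2, 9, 5] p = path g [9, 2, 9, 5, 2] p :=
  H.back (i := 2) (by decide) (f2995 H)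

theorem f2997 : g 3 • path g [9, 2, 9, 5] p = path g [9, 2, 9, 5, 3] p :=
  rfl

theorem f2998 : g 8 • path g [9, 2, 9, 5, 3] p = path g [9, 2, 9, 5] p :=
  H.back (i := 3) (by decide) (f2997 H)

theorem f2999 : g 3 • path g [9, 2, 9, 5, 3] p = path g [9, 2, 9, 5, 8] p :=
  scan (u := [3]) (w := [3]) (i := 3) (r6_0_0 H) (step (f2997 H) rfl) (step (H.back (i := 8) (by decide) (f2989 H)) rfl)

theorem f3000 : g 8 • path g [9, 2, 9, 5, 8] p = path g [9, 2, 9, 5, 3] p :=
  H.back (i := 3) (by decide) (f2999 H)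

theorem f3001 : g 6 • path g [9, 2, 9, 5] p = path g [9, 2, 9, 5, 6] p :=
  rfl

theorem f3002 : g 1 • path g [9, 2, 9, 5, 6] p = path g [9, 2, 9, 5] p :=
  H.back (i := 6) (by decide) (f3001 H)

theorem f3003 : g 4 • path g [9, 2, 9, 5, 6] p = path g [9, 2, 5, 6] p :=
  scan (u := [6]) (w := [1, 9]) (i := 4) (r14_1_3 H) (step (f3001 H) rfl) (step (H.back (i := 6) (by decide) (f504 H)) (step (H.back (i := 4) (by decide) (f456 H)) rfl))

theorem f3004 : g 9 • path g [9, 2, 5, 6] p = path g [9, 2, 9, 5, 6] p :=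
  H.back (i := 4) (by decide) (f3003 H)

theorem f3005 : g 3 • path g [9, 3, 2, 4] p = path g [9, 2, 9, 5, 6] p :=
  scan (u := [4, 3, 4]) (w := []) (i := 3) (r15_0_0 H) (step (f3003 H) (step (f1412 H) (step (f606 H) rfl))) rfl

theorem f3007 : g 1 • path g [9, 2, 9, 5] p = path g [9, 2, 9, 5, 1] p :=
  rfl

theorem f3008 : g 6 • path g [9, 2, 9, 5, 1] p = path g [9, 2, 9, 5] p :=
  H.back (i := 1) (by decide) (f3007 H)

theorem f3009 : g 1 • path g [9, 2, 9, 5, 1] p = path g [9, 2, 9, 5, 6] p :=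
  scan (u := [1]) (w := [1]) (i := 1) (r1_0_0 H) (step (f3007 H) rfl) (step (H.back (i := 6) (by decide) (f3001 H)) rfl)

theorem f3010 : g 6 • path g [9, 2, 9, 5, 6] p = path g [9, 2, 9, 5, 1] p :=
  H.back (i := 1) (by decide) (f3009 H)

theorem f3011 : g 4 • path g [9, 2, 9, 5, 1] p = path g [9, 2, 5, 1] p :=
  scan (u := [1]) (w := [6, 9]) (i := 4) (r14_0_0 H) (step (f3007 H) rfl) (step (H.back (i := 1) (by decide) (f506 H)) (step (H.back (i := 4) (by decide) (f456 H)) rfl))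

theorem f3012 : g 9 • path g [9, 2, 5, 1] p = path g [9, 2, 9, 5, 1] p :=
  H.back (i := 4) (by decide) (f3011 H)

theorem f3013 : g 0 • path g [9, 2, 9, 5, 1] p = path g [9, 2, 9, 5, 6] p :=
  scan (u := [1]) (w := [1, 0, 6, 6, 0]) (i := 0) (r4_0_4 H) (step (f3007 H) rfl) (step (H.back (i := 6) (by decide) (f3001 H)) (step (H.back (i := 5) (by decide) (f452 H)) (step (H.back (i := 1) (by decide) (f124 H)) (step (H.back (i := 1) (by decide) (f124 H)) (step (H.back (i := 5) (by decide) (f454 H)) rfl)))))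

theorem f3014 : g 5 • path g [9, 2, 9, 5, 6] p = path g [9, 2, 9, 5, 1] p :=
  H.back (i := 0) (by decide) (f3013 H)

theorem f3015 : g 0 • path g [9, 2, 9, 5, 6] p = path g [9, 2, 9, 5, 1] p :=
  scan (u := [1, 1]) (w := [1, 4, 6, 5, 6, 6, 9]) (i := 0) (r12_0_0 H) (step (f3007 H) (step (f3009 H) rfl)) (step (H.back (i := 6) (by decide) (f3010 H)) (step (H.back (i := 9) (by decide) (f3004 H)) (step (H.back (i := 1) (by decide) (f508 H)) (step (H.back (i := 0) (by decide) (f512 H)) (step (H.back (i := 1) (by decide) (f508 H)) (step (H.back (i := 1) (by decide) (f506 H)) (step (H.back (i := 4) (by decide) (f456 H)) rfl)))))))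

theorem f3016 : g 5 • path g [9, 2, 9, 5, 1] p = path g [9, 2, 9, 5, 6] p :=
  H.back (i := 0) (by decide) (f3015 H)

theorem f3017 : g 9 • path g [9, 2, 9, 3] p = path g [9, 2, 9, 3, 9] p :=
  rfl

theorem f3018 : g 4 • path g [9, 2, 9, 3, 9] p = path g [9, 2, 9, 3] p :=
  H.back (i := 9) (by decide) (f3017 H)

theorem f3019 : g 9 • path g [9, 2, 9, 3, 9] p = path g [9, 2, 4, 8] p :=
  scan (u := [9]) (w := [9]) (i := 9) (r10_1_0 H) (step (f3017 H) rfl) (step (H.back (i := 4) (by decide) (f547 H)) rfl)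

theorem f3020 : g 4 • path g [9, 2, 4, 8] p = path g [9, 2, 9, 3, 9] p :=
  H.back (i := 9) (by decide) (f3019 H)

theorem f3021 : g 8 • path g [9, 2, 9, 3, 9] p = path g [9, 2, 3, 9] p :=
  scan (u := [9]) (w := [9, 8]) (i := 8) (r15_1_1 H) (step (f3017 H) rfl) (step (H.back (i := 4) (by decide) (f525 H)) (step (H.back (i := 3) (by decide) (f460 H)) rfl))

theorem f3022 : g 3 • path g [9, 2, 3, 9] p = path g [9, 2, 9, 3, 9] p :=
  H.back (i := 8) (by decide) (f3021 H)

theorem f3023 : g 8 • path g [9, 2, 8, 4] p = path g [9, 2, 9, 3, 9] p :=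
  scan (u := [8, 8]) (w := []) (i := 8) (r6_1_0 H) (step (f3021 H) (step (f526 H) rfl)) rfl

theorem f3024 : g 3 • path g [9, 2, 9, 3, 9] p = path g [9, 2, 8, 4] p :=
  H.back (i := 8) (by decide) (f3023 H)

theorem f3025 : g 2 • path g [9, 2, 9, 3] p = path g [9, 2, 9, 3, 2] p :=
  rfl

theorem f3026 : g 7 • path g [9, 2, 9, 3, 2] p = path g [9, 2, 9, 3] p :=
  H.back (i := 2) (by decide) (f3025 H)

theorem f3027 : g 2 • path g [9, 2, 9, 3, 2] p = path g [9, 2, 9, 3] p :=
  scan (u := [2]) (w := []) (i := 2) (r2_0_0 H) (step (f3025 H) rfl) rfl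

theorem f3028 : g 7 • path g [9, 2, 9, 3] p = path g [9, 2, 9, 3, 2] p :=
  H.back (i := 2) (by decide) (f3027 H)

theorem f3029 : g 5 • path g [9, 2, 9, 3] p = path g [9, 2, 9, 3, 5] p :=
  rfl

theorem f3030 : g 0 • path g [9, 2, 9, 3, 5] p = path g [9, 2, 9, 3] p :=
  H.back (i := 5) (by decide) (f3029 H)

theorem f3031 : g 5 • path g [9, 2, 9, 3, 5] p = path g [9, 2, 9, 3] p :=
  scan (u := [5]) (w := []) (i := 5) (r0_1_0 H) (step (f3029 H) rfl) rfl

theorem f3032 : g 0 • path g [9, 2, 9, 3] p = path g [9, 2, 9, 3, 5] p :=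
  H.back (i := 5) (by decide) (f3031 H)

theorem f3033 : g 6 • path g [9, 2, 9, 3] p = path g [9, 2, 9, 3, 6] p :=
  rfl

theorem f3034 : g 1 • path g [9, 2, 9, 3, 6] p = path g [9, 2, 9, 3] p :=
  H.back (i := 6) (by decide) (f3033 H)

theorem f3035 : g 1 • path g [9, 2, 9, 3] p = path g [9, 2, 9, 3, 1] p :=
  rfl

theorem f3037 : g 1 • path g [9, 2, 9, 3, 1] p = path g [9, 2, 9, 3, 6] p :=
  scan (u := [1]) (w := [1]) (i := 1) (r1_0_0 H) (step (f3035 H) rfl) (step (H.back (i := 6) (by decide) (f3033 H)) rfl)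

theorem f3038 : g 6 • path g [9, 2, 9, 3, 6] p = path g [9, 2, 9, 3, 1] p :=
  H.back (i := 1) (by decide) (f3037 H)

theorem f3039 : g 2 • path g [9, 2, 8, 9] p = path g [9, 2, 8, 9, 2] p :=
  rfl

theorem f3040 : g 7 • path g [9, 2, 8, 9, 2] p = path g [9, 2, 8, 9] p :=
  H.back (i := 2) (by decide) (f3039 H)

theorem f3041 : g 2 • path g [9, 2, 8, 9, 2] p = path g [9, 2, 8, 9] p :=
  scan (u := [2]) (w := []) (i := 2) (r2_0_0 H) (step (f3039 H) rfl) rfl

theorem f3042 : g 7 • path g [9, 2, 8, 9] p = path g [9, 2, 8, 9, 2] p :=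
  H.back (i := 2) (by decide) (f3041 H)

theorem f3043 : g 5 • path g [9, 2, 8, 9] p = path g [9, 2, 8, 9, 5] p :=
  rfl

theorem f3044 : g 0 • path g [9, 2, 8, 9, 5] p = path g [9, 2, 8, 9] p :=
  H.back (i := 5) (by decide) (f3043 H)

theorem f3045 : g 5 • path g [9, 2, 8, 9, 5] p = path g [9, 2, 8, 9] p :=
  scan (u := [5]) (w := []) (i := 5) (r0_1_0 H) (step (f3043 H) rfl) rfl

theorem f3047 : g 4 • path g [9, 2, 8, 9, 5] p = path g [9, 2, 8, 5] p :=
  scan (u := [5]) (w := [0, 9]) (i := 4) (r13_1_1 H) (step (f3043 H) rfl) (step (H.back (i := 5) (by decide) (f470 H)) (step (H.back (i := 4) (by decide) (f463 H)) rfl))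

theorem f3048 : g 9 • path g [9, 2, 8, 5] p = path g [9, 2, 8, 9, 5] p :=
  H.back (i := 4) (by decide) (f3047 H)

theorem f3049 : g 6 • path g [9, 2, 8, 9] p = path g [9, 2, 8, 9, 6] p :=
  rfl

theorem f3050 : g 1 • path g [9, 2, 8, 9, 6] p = path g [9, 2, 8, 9] p :=
  H.back (i := 6) (by decide) (f3049 H)

theorem f3051 : g 4 • path g [9, 2, 8, 9, 6] p = path g [9, 2, 8, 6] p :=
  scan (u := [6]) (w := [1, 9]) (i := 4) (r14_1_3 H) (step (f3049 H) rfl) (step (H.back (i := 6) (by decide) (f474 H)) (step (H.back (i := 4) (by decide) (f463 H)) rfl))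

theorem f3052 : g 9 • path g [9, 2, 8, 6] p = path g [9, 2, 8, 9, 6] p :=
  H.back (i := 4) (by decide) (f3051 H)

theorem f3053 : g 1 • path g [9, 2, 8, 9] p = path g [9, 2, 8, 9, 1] p :=
  rfl

theorem f3054 : g 6 • path g [9, 2, 8, 9, 1] p = path g [9, 2, 8, 9] p :=
  H.back (i := 1) (by decide) (f3053 H)

theorem f3055 : g 1 • path g [9, 2, 8, 9, 1] p = path g [9, 2, 8, 9, 6] p :=
  scan (u := [1]) (w := [1]) (i := 1) (r1_0_0 H) (step (f3053 H) rfl) (step (H.back (i := 6) (by decide) (f3049 H)) rfl)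

theorem f3056 : g 6 • path g [9, 2, 8, 9, 6] p = path g [9, 2, 8, 9, 1] p :=
  H.back (i := 1) (by decide) (f3055 H)

theorem f3057 : g 4 • path g [9, 2, 8, 9, 1] p = path g [9, 2, 8, 1] p :=
  scan (u := [1]) (w := [6, 9]) (i := 4) (r14_0_0 H) (step (f3053 H) rfl) (step (H.back (i := 1) (by decide) (f476 H)) (step (H.back (i := 4) (by decide) (f463 H)) rfl))

theorem f3058 : g 9 • path g [9, 2, 8, 1] p = path g [9, 2, 8, 9, 1] p :=
  H.back (i := 4) (by decide) (f3057 H)

theorem f3059 : g 9 • path g [9, 2, 8, 2] p = path g [9, 2, 8, 2, 9] p :=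
  rfl

theorem f3060 : g 4 • path g [9, 2, 8, 2, 9] p = path g [9, 2, 8, 2] p :=
  H.back (i := 9) (by decide) (f3059 H)

theorem f3065 : g 5 • path g [9, 2, 8, 2] p = path g [9, 2, 8, 2, 5] p :=
  rfl

theorem f3066 : g 0 • path g [9, 2, 8, 2, 5] p = path g [9, 2, 8, 2] p :=
  H.back (i := 5) (by decide) (f3065 H)

theorem f3067 : g 5 • path g [9, 2, 8, 2, 5] p = path g [9, 2, 8, 2] p :=
  scan (u := [5]) (w := []) (i := 5) (r0_1_0 H) (step (f3065 H) rfl) rfl

theorem f3068 : g 0 • path g [9, 2, 8, 2] p = path g [9, 2, 8, 2, 5] p :=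
  H.back (i := 5) (by decide) (f3067 H)

theorem f3069 : g 7 • path g [9, 2, 8, 2, 5] p = path g [3, 9, 2, 8] p :=
  scan (u := [5]) (w := [5, 3, 1, 0, 2, 1, 0, 8, 7]) (i := 7) (r8_1_9 H) (step (f3065 H) rfl) (step (H.back (i := 0) (by decide) (f1810 H)) (step (H.back (i := 8) (by decide) (f498 H)) (step (H.back (i := 6) (by decide) (f1783 H)) (step (H.back (i := 5) (by decide) (f1787 H)) (step (H.back (i := 7) (by decide) (f1779 H)) (step (H.back (i := 6) (by decide) (f504 H)) (step (H.back (i := 5) (by decide) (f128 H)) (step (H.back (i := 3) (by decide) (f127 H)) (step (H.back (i := 2) (by decide) (f468 H)) rfl)))))))))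

theorem f3071 : g 5 • path g [8, 6, 4, 2] p = path g [9, 2, 8, 1] p :=
  scan (u := [5, 7, 1, 5, 7, 1, 5, 6, 7]) (w := [6, 7]) (i := 5) (r5_1_8 H) (step (f3065 H) (step (f3069 H) (step (f1811 H) (step (f1688 H) (step (f393 H) (step (f113 H) (step (f2837 H) (step (f239 H) (step (f865 H) rfl))))))))) (step (H.back (i := 1) (by decide) (f476 H)) (step (H.back (i := 2) (by decide) (f468 H)) rfl))

theorem f3072 : g 0 • path g [9, 2, 8, 1] p = path g [8, 6, 4, 2] p :=
  H.back (i := 5) (by decide) (f3071 H)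

theorem f3073 : path g [9, 3, 2, 5] p = path g [9, 2, 8] p :=
  close (u := [5, 7, 5, 7, 4, 2, 0, 2, 0, 2, 0, 2, 0, 4, 5, 7, 5]) (w := [7]) (r11_0_10 H) (step (f3065 H) (step (f3069 H) (step (f1808 H) (step (f329 H) (step (f145 H) (step (f554 H) (step (f1537 H) (step (f1519 H) (step (f1512 H) (step (f1508 H) (step (f1542 H) (step (f556 H) (step (f561 H) (step (f564 H) (step (f156 H) (step (f153 H) (step (f584 H) rfl))))))))))))))))) (step (H.back (i := 2) (by decide) (f468 H)) rfl)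

theorem f3076 : g 5 • path g [9, 2, 8] p = path g [9, 3, 2] p :=
  (congrArg (g 5 • ·) (f3073 H).symm).trans (f586 H)

theorem f3077 : path g [9, 2, 8, 5] p = path g [9, 3, 2] p :=
  (f470 H).symm.trans (f3076 H)

theorem f3079 : g 0 • path g [9, 3, 2] p = path g [9, 2, 8] p :=
  (f587 H).trans (f3073 H)

theorem f3084 : g 9 • path g [9, 3, 2] p = path g [9, 2, 8, 9, 5] p :=
  (congrArg (g 9 • ·) (f3077 H).symm).trans (f3048 H)

theorem f3085 : path g [9, 3, 2, 9] p = path g [9, 2, 8, 9, 5] p :=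
  (f580 H).symm.trans (f3084 H)

theorem f3086 : path g [9, 2, 8, 9, 5] p = path g [9, 3, 2, 9] p :=
  (f3085 H).symm

theorem f3087 : g 0 • path g [9, 3, 2, 9] p = path g [9, 2, 8, 9] p :=
  (congrArg (g 0 • ·) (f3086 H).symm).trans (f3044 H)

theorem f3089 : g 5 • path g [9, 2, 8, 9] p = path g [9, 3, 2, 9] p :=
  H.back (i := 0) (by decide) (f3087 H)

theorem f3090 : g 5 • path g [9, 3, 2, 9] p = path g [9, 2, 8, 9] p :=
  (congrArg (g 5 • ·) (f3086 H).symm).trans (f3045 H)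

theorem f3092 : g 0 • path g [9, 2, 8, 9] p = path g [9, 3, 2, 9] p :=
  H.back (i := 5) (by decide) (f3090 H)

theorem f3096 : g 0 • path g [9, 2, 8] p = path g [9, 3, 2] p :=
  (f473 H).trans (f3077 H)

theorem f3097 : g 2 • path g [9, 2, 8, 2, 5] p = path g [3, 9, 2, 8] p :=
  scan (u := [5, 7, 5, 7, 9, 2, 0, 2, 0]) (w := [0, 2, 0, 9, 5, 7, 5, 7]) (i := 2) (r11_1_17 H) (step (f3065 H) (step (f3069 H) (step (f1808 H) (step (f329 H) (step (f94 H) (step (f150 H) (step (f3079 H) (step (f466 H) (step (f3068 H) rfl))))))))) (step (H.back (i := 5) (by decide) (f1807 H)) (step (H.back (i := 7) (by decide) (f331 H)) (step (H.back (i := 5) (by decide) (f334 H)) (step (H.back (i := 4) (by decide) (f337 H)) (step (H.back (i := 0) (by decide) (f157 H)) (step (H.back (i := 2) (by decide) (f152 H)) (step (H.back (i := 0) (by decide) (f3096 H)) (step (H.back (i := 2) (by decide) (f468 H)) rfl))))))))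

theorem f3099 : path g [9, 2, 3] p = path g [9, 2, 8, 2, 5] p :=
  close (u := [0, 2, 0, 1, 2, 0, 1, 8, 7, 3]) (w := []) (r7_1_1 H) (step (f3066 H) (step (f468 H) (step (f3096 H) (step (f598 H) (step (f602 H) (step (f1649 H) (step (f159 H) (step (f39 H) (step (f35 H) (step (f132 H) rfl)))))))))) rfl

theorem f3100 : path g [9, 2, 8, 2, 5] p = path g [9, 2, 3] p :=
  (f3099 H).symm

theorem f3103 : g 5 • path g [9, 2, 3] p = path g [9, 2, 8, 2] p :=
  (congrArg (g 5 • ·) (f3100 H).symm).trans (f3067 H)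

theorem f3104 : path g [9, 2, 3, 5] p = path g [9, 2, 8, 2] p :=
  (f532 H).symm.trans (f3103 H)

theorem f3107 : g 2 • path g [9, 2, 3] p = path g [3, 9, 2, 8] p :=
  (congrArg (g 2 • ·) (f3100 H).symm).trans (f3097 H)

theorem f3108 : path g [9, 2, 3, 2] p = path g [3, 9, 2, 8] p :=
  (f528 H).symm.trans (f3107 H)

theorem f3109 : path g [3, 9, 2, 8] p = path g [9, 2, 3, 2] p :=
  (f3108 H).symm

theorem f3110 : g 3 • path g [9, 2, 3, 2] p = path g [3, 9, 2] p :=
  (congrArg (g 3 • ·) (f3109 H).symm).trans (f947 H)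

theorem f3113 : g 8 • path g [9, 2, 3, 2] p = path g [9, 3, 9, 6] p :=
  (congrArg (g 8 • ·) (f3109 H).symm).trans (f1503 H)

theorem f3115 : g 3 • path g [9, 3, 9, 6] p = path g [9, 2, 3, 2] p :=
  H.back (i := 8) (by decide) (f3113 H)

theorem f3116 : g 4 • path g [9, 2, 3, 2] p = path g [4, 8, 6, 8] p :=
  (congrArg (g 4 • ·) (f3109 H).symm).trans (f1658 H)

theorem f3118 : g 9 • path g [4, 8, 6, 8] p = path g [9, 2, 3, 2] p :=
  H.back (i := 4) (by decide) (f3116 H)

theorem f3119 : g 0 • path g [9, 2, 3, 2] p = path g [4, 8, 2] p :=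
  (congrArg (g 0 • ·) (f3109 H).symm).trans (f1805 H)

theorem f3121 : g 5 • path g [4, 8, 2] p = path g [9, 2, 3, 2] p :=
  H.back (i := 0) (by decide) (f3119 H)

theorem f3122 : g 5 • path g [9, 2, 3, 2] p = path g [4, 8, 2] p :=
  (congrArg (g 5 • ·) (f3109 H).symm).trans (f1808 H)

theorem f3124 : g 0 • path g [4, 8, 2] p = path g [9, 2, 3, 2] p :=
  H.back (i := 5) (by decide) (f3122 H)

theorem f3125 : g 1 • path g [9, 2, 3, 2] p = path g [9, 8, 2, 1, 5] p :=
  (congrArg (g 1 • ·) (f3109 H).symm).trans (f1811 H)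

theorem f3127 : g 6 • path g [9, 8, 2, 1, 5] p = path g [9, 2, 3, 2] p :=
  H.back (i := 1) (by decide) (f3125 H)

theorem f3135 : g 0 • path g [9, 2, 8, 2] p = path g [9, 2, 3] p :=
  (f3068 H).trans (f3100 H)

theorem f3138 : g 5 • path g [9, 2, 8, 2] p = path g [9, 2, 3] p :=
  (f3065 H).trans (f3100 H)

theorem f3140 : g 4 • path g [9, 2, 8, 2] p = path g [9, 2, 9, 8, 5] p :=
  (congrArg (g 4 • ·) (f3104 H).symm).trans (f2958 H)

theorem f3143 : g 4 • path g [9, 2, 9, 8, 5] p = path g [9, 2, 8, 2, 9] p :=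
  scan (u := [4]) (w := [4]) (i := 4) (r10_0_0 H) (step (f3140 H) rfl) (step (H.back (i := 9) (by decide) (f3059 H)) rfl)

theorem f3145 : g 0 • path g [9, 2, 3] p = path g [9, 2, 8, 2] p :=
  (f535 H).trans (f3104 H)

theorem f3146 : g 5 • path g [9, 2, 3] p = path g [9, 2, 8, 2] p :=
  (f532 H).trans (f3104 H)

theorem f3147 : g 5 • path g [9, 2, 8, 2, 9] p = path g [9, 2, 3, 9] p :=
  scan (u := [4]) (w := [9, 0]) (i := 5) (r13_0_3 H) (step (f3143 H) rfl) (step (H.back (i := 4) (by decide) (f525 H)) (step (H.back (i := 5) (by decide) (f2955 H)) rfl))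

theorem f3149 : g 0 • path g [9, 2, 8, 2, 9] p = path g [9, 2, 3, 9] p :=
  scan (u := [4]) (w := [9, 5]) (i := 0) (r13_1_2 H) (step (f3143 H) rfl) (step (H.back (i := 4) (by decide) (f525 H)) (step (H.back (i := 0) (by decide) (f2954 H)) rfl))

theorem f3151 : g 5 • path g [9, 2, 8] p = path g [9, 3, 2] p :=
  (f470 H).trans (f3077 H)

theorem f3152 : g 2 • path g [9, 8, 2, 1, 5] p = path g [9, 2, 3, 6] p :=
  scan (u := [1]) (w := [1, 2]) (i := 2) (r3_0_0 H) (step (f3125 H) rfl) (step (H.back (i := 6) (by decide) (f536 H)) (step (H.back (i := 7) (by decide) (f529 H)) rfl))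

theorem f3153 : g 7 • path g [9, 2, 3, 6] p = path g [9, 8, 2, 1, 5] p :=
  H.back (i := 2) (by decide) (f3152 H)

theorem f3154 : g 0 • path g [8, 6, 4, 2] p = path g [9, 2, 8, 1] p :=
  scan (u := [1, 0, 2, 1, 0, 6, 2]) (w := [6, 2, 0, 2]) (i := 0) (r5_0_5 H) (step (f3125 H) (step (f1687 H) (step (f390 H) (step (f113 H) (step (f2836 H) (step (f239 H) (step (f862 H) rfl))))))) (step (H.back (i := 1) (by decide) (f476 H)) (step (H.back (i := 7) (by decide) (f467 H)) (step (H.back (i := 5) (by decide) (f3146 H)) (step (H.back (i := 7) (by decide) (f529 H)) rfl))))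

theorem f3155 : g 5 • path g [9, 2, 8, 1] p = path g [8, 6, 4, 2] p :=
  H.back (i := 0) (by decide) (f3154 H)

theorem f3156 : g 2 • path g [9, 2, 3, 6] p = path g [9, 8, 2, 1, 5] p :=
  scan (u := [0, 6, 2, 0, 6]) (w := [0, 2, 1, 0, 2, 1]) (i := 2) (r5_0_9 H) (step (f3154 H) (step (f477 H) (step (f466 H) (step (f3135 H) (step (f536 H) rfl))))) (step (H.back (i := 5) (by decide) (f1686 H)) (step (H.back (i := 7) (by decide) (f391 H)) (step (H.back (i := 6) (by decide) (f112 H)) (step (H.back (i := 5) (by decide) (f2578 H)) (step (H.back (i := 7) (by decide) (f257 H)) (step (H.back (i := 6) (by decide) (f867 H)) rfl))))))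

theorem f3157 : g 7 • path g [9, 8, 2, 1, 5] p = path g [9, 2, 3, 6] p :=
  H.back (i := 2) (by decide) (f3156 H)

theorem f3158 : path g [4, 8, 5, 3] p = path g [9, 3, 5] p :=
  close (u := [5, 7, 5, 3]) (w := [1, 0, 2, 1, 0, 8, 7]) (r8_1_9 H) (step (f3122 H) (step (f329 H) (step (f332 H) (step (f1202 H) rfl)))) (step (H.back (i := 6) (by decide) (f623 H)) (step (H.back (i := 5) (by decide) (f1616 H)) (step (H.back (i := 7) (by decide) (f594 H)) (step (H.back (i := 6) (by decide) (f592 H)) (step (H.back (i := 5) (by decide) (f3151 H)) (step (H.back (i := 3) (by decide) (f134 H)) (step (H.back (i := 2) (by decide) (f530 H)) rfl)))))))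

theorem f3167 : g 2 • path g [9, 3, 5] p = path g [9, 8, 2, 5, 3] p :=
  (congrArg (g 2 • ·) (f3158 H).symm).trans (f1799 H)

theorem f3168 : path g [9, 3, 5, 2] p = path g [9, 8, 2, 5, 3] p :=
  (f612 H).symm.trans (f3167 H)

theorem f3169 : g 9 • path g [9, 3, 5] p = path g [9, 3, 5, 3] p :=
  (congrArg (g 9 • ·) (f3158 H).symm).trans (f1800 H)

theorem f3170 : path g [9, 3, 9, 5] p = path g [9, 3, 5, 3] p :=
  (f565 H).symm.trans (f3169 H)

theorem f3171 : path g [9, 3, 5, 3] p = path g [9, 3, 9, 5] p :=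
  (f3170 H).symm

theorem f3184 : g 3 • path g [4, 8, 5] p = path g [9, 3, 5] p :=
  (f1202 H).trans (f3158 H)

theorem f3195 : path g [9, 8, 2, 5, 3] p = path g [9, 3, 5, 2] p :=
  (f3168 H).symm

theorem f3196 : g 8 • path g [9, 3, 5, 2] p = path g [9, 8, 2, 5] p :=
  (congrArg (g 8 • ·) (f3195 H).symm).trans (f1421 H)

theorem f3198 : g 3 • path g [9, 8, 2, 5] p = path g [9, 3, 5, 2] p :=
  H.back (i := 8) (by decide) (f3196 H)

theorem f3199 : g 3 • path g [9, 3, 5, 2] p = path g [9, 8, 2, 5, 8] p :=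
  (congrArg (g 3 • ·) (f3195 H).symm).trans (f1422 H)

theorem f3209 : g 3 • path g [9, 3, 5] p = path g [9, 3, 9, 5] p :=
  (f616 H).trans (f3171 H)

theorem f3210 : g 5 • path g [4, 2, 3] p = path g [9, 3, 2, 3] p :=
  (f1322 H).trans (f2164 H)

theorem f3211 : g 5 • path g [4, 2, 8] p = path g [8, 9, 2] p :=
  (f1473 H).trans (f2179 H)

theorem f3212 : path g [8, 9, 2, 3] p = path g [9, 2, 8, 2] p :=
  close (u := [0, 1, 2, 0, 1, 8, 7, 3]) (w := [0, 2]) (r7_1_3 H) (step (f3119 H) (step (f1184 H) (step (f1188 H) (step (f1640 H) (step (f339 H) (step (f92 H) (step (f167 H) (step (f654 H) rfl)))))))) (step (H.back (i := 5) (by decide) (f3146 H)) (step (H.back (i := 7) (by decide) (f529 H)) rfl))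

theorem f3215 : g 3 • path g [9, 2, 8, 2] p = path g [8, 9, 2, 8] p :=
  (congrArg (g 3 • ·) (f3212 H).symm).trans (f656 H)

theorem f3216 : path g [4, 2, 5, 6] p = path g [8, 9, 2, 8] p :=
  (f1457 H).symm.trans (f3215 H)

theorem f3217 : g 1 • path g [8, 9, 2, 8] p = path g [4, 2, 5] p :=
  (congrArg (g 1 • ·) (f3216 H).symm).trans (f1295 H)

theorem f3220 : g 6 • path g [8, 9, 2, 8] p = path g [9, 3, 9, 2] p :=
  (congrArg (g 6 • ·) (f3216 H).symm).trans (f1536 H)

theorem f3222 : g 1 • path g [9, 3, 9, 2] p = path g [8, 9, 2, 8] p :=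
  H.back (i := 6) (by decide) (f3220 H)

theorem f3223 : g 5 • path g [8, 9, 2, 8] p = path g [9, 3, 9, 2] p :=
  (congrArg (g 5 • ·) (f3216 H).symm).trans (f1539 H)

theorem f3225 : g 0 • path g [9, 3, 9, 2] p = path g [8, 9, 2, 8] p :=
  H.back (i := 5) (by decide) (f3223 H)

theorem f3226 : g 0 • path g [8, 9, 2, 8] p = path g [9, 3, 9, 2] p :=
  (congrArg (g 0 • ·) (f3216 H).symm).trans (f1542 H)

theorem f3229 : g 7 • path g [8, 9, 2, 8] p = path g [9, 3, 9, 6] p :=
  (congrArg (g 7 • ·) (f3216 H).symm).trans (f1510 H)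

theorem f3231 : g 2 • path g [9, 3, 9, 6] p = path g [8, 9, 2, 8] p :=
  H.back (i := 7) (by decide) (f3229 H)

theorem f3233 : g 8 • path g [8, 9, 2, 8] p = path g [9, 2, 8, 2] p :=
  (f657 H).trans (f3212 H)

theorem f3235 : g 2 • path g [8, 9, 2, 8] p = path g [9, 3, 9, 6] p :=
  (congrArg (g 2 • ·) (f3216 H).symm).trans (f1519 H)

theorem f3237 : g 7 • path g [9, 3, 9, 6] p = path g [8, 9, 2, 8] p :=
  H.back (i := 2) (by decide) (f3235 H)

theorem f3242 : g 3 • path g [8, 9, 2] p = path g [9, 2, 8, 2] p :=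
  (f654 H).trans (f3212 H)

theorem f3248 : g 3 • path g [9, 2, 8, 2] p = path g [8, 9, 2, 8] p :=
  (f1457 H).trans (f3216 H)

theorem f3249 : g 0 • path g [9, 2, 8, 4] p = path g [9, 3, 2, 4] p :=
  scan (u := [5, 9]) (w := [4]) (i := 0) (r13_0_0 H) (step (f3090 H) (step (f483 H) rfl)) (step (H.back (i := 9) (by decide) (f609 H)) rfl)

theorem f3250 : g 5 • path g [9, 3, 2, 4] p = path g [9, 2, 8, 4] p :=
  H.back (i := 0) (by decide) (f3249 H)

theorem f3251 : g 0 • path g [9, 3, 2, 4] p = path g [9, 2, 8, 4] p :=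
  scan (u := [0]) (w := []) (i := 0) (r0_0_0 H) (step (f3249 H) rfl) rfl

theorem f3252 : g 5 • path g [9, 2, 8, 4] p = path g [9, 3, 2, 4] p :=
  H.back (i := 0) (by decide) (f3251 H)

theorem f3253 : g 6 • path g [9, 2, 8, 2] p = path g [9, 2, 8, 2, 6] p :=
  rfl

theorem f3254 : g 1 • path g [9, 2, 8, 2, 6] p = path g [9, 2, 8, 2] p :=
  H.back (i := 6) (by decide) (f3253 H)

theorem f3255 : g 7 • path g [9, 2, 8, 2, 6] p = path g [9, 2, 8, 1] p :=
  scan (u := [6]) (w := [6, 7]) (i := 7) (r3_1_1 H) (step (f3253 H) rfl) (step (H.back (i := 1) (by decide) (f476 H)) (step (H.back (i := 2) (by decide) (f468 H)) rfl))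

theorem f3256 : g 2 • path g [9, 2, 8, 1] p = path g [9, 2, 8, 2, 6] p :=
  H.back (i := 7) (by decide) (f3255 H)

theorem f3257 : path g [8, 4, 2, 8] p = path g [9, 2, 5] p :=
  close (u := [6, 7, 5, 6, 8]) (w := [0, 2, 0, 2, 3, 5]) (r8_0_5 H) (step (f3253 H) (step (f3255 H) (step (f3155 H) (step (f867 H) (step (f930 H) rfl))))) (step (H.back (i := 5) (by decide) (f128 H)) (step (H.back (i := 7) (by decide) (f35 H)) (step (H.back (i := 5) (by decide) (f9 H)) (step (H.back (i := 7) (by decide) (f33 H)) (step (H.back (i := 8) (by decide) (f133 H)) (step (H.back (i := 0) (by decide) (f3135 H)) rfl))))))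

theorem f3260 : g 8 • path g [9, 2, 5] p = path g [8, 4, 2, 3] p :=
  (congrArg (g 8 • ·) (f3257 H).symm).trans (f939 H)

theorem f3261 : path g [9, 2, 5, 8] p = path g [8, 4, 2, 3] p :=
  (f484 H).symm.trans (f3260 H)

theorem f3262 : path g [8, 4, 2, 3] p = path g [9, 2, 5, 8] p :=
  (f3261 H).symm

theorem f3263 : g 8 • path g [9, 2, 5, 8] p = path g [8, 4, 2] p :=
  (congrArg (g 8 • ·) (f3262 H).symm).trans (f937 H)

theorem f3264 : path g [9, 2, 5, 3] p = path g [8, 4, 2] p :=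
  (f503 H).symm.trans (f3263 H)

theorem f3272 : g 3 • path g [8, 4, 2] p = path g [9, 2, 5, 8] p :=
  (f936 H).trans (f3262 H)

theorem f3274 : g 4 • path g [8, 4, 2] p = path g [9, 2, 9, 5, 8] p :=
  (congrArg (g 4 • ·) (f3264 H).symm).trans (f2992 H)

theorem f3275 : path g [8, 4, 2, 4] p = path g [9, 2, 9, 5, 8] p :=
  (f940 H).symm.trans (f3274 H)

theorem f3276 : path g [9, 2, 9, 5, 8] p = path g [8, 4, 2, 4] p :=
  (f3275 H).symm

theorem f3277 : g 3 • path g [8, 4, 2, 4] p = path g [9, 2, 9, 5] p :=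
  (congrArg (g 3 • ·) (f3276 H).symm).trans (f2990 H)

theorem f3283 : g 8 • path g [8, 4, 2, 4] p = path g [9, 2, 9, 5, 3] p :=
  (congrArg (g 8 • ·) (f3276 H).symm).trans (f3000 H)

theorem f3285 : g 3 • path g [9, 2, 9, 5, 3] p = path g [8, 4, 2, 4] p :=
  H.back (i := 8) (by decide) (f3283 H)

theorem f3286 : g 2 • path g [9, 2, 8, 2, 6] p = path g [9, 2, 8, 1] p :=
  scan (u := [6]) (w := [0, 2, 1, 0, 2, 1, 0, 6, 2, 0]) (i := 2) (r5_0_1 H) (step (f3253 H) rfl) (step (H.back (i := 5) (by decide) (f3071 H)) (step (H.back (i := 7) (by decide) (f865 H)) (step (H.back (i := 6) (by decide) (f239 H)) (step (H.back (i := 5) (by decide) (f2837 H)) (step (H.back (i := 7) (by decide) (f103 H)) (step (H.back (i := 6) (by decide) (f387 H)) (step (H.back (i := 5) (by decide) (f1688 H)) (step (H.back (i := 1) (by decide) (f3125 H)) (step (H.back (i := 7) (by decide) (f531 H)) (step (H.back (i := 5) (by decide) (f3138 H)) rfl))))))))))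

theorem f3287 : g 7 • path g [9, 2, 8, 1] p = path g [9, 2, 8, 2, 6] p :=
  H.back (i := 2) (by decide) (f3286 H)

theorem f3288 : g 3 • path g [9, 2, 5] p = path g [8, 4, 2] p :=
  (f500 H).trans (f3264 H)

theorem f3289 : g 1 • path g [9, 2, 8, 2] p = path g [9, 2, 8, 2, 1] p :=
  rfl

theorem f3290 : g 6 • path g [9, 2, 8, 2, 1] p = path g [9, 2, 8, 2] p :=
  H.back (i := 1) (by decide) (f3289 H)

theorem f3291 : g 1 • path g [9, 2, 8, 2, 1] p = path g [9, 2, 8, 2, 6] p :=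
  scan (u := [1]) (w := [1]) (i := 1) (r1_0_0 H) (step (f3289 H) rfl) (step (H.back (i := 6) (by decide) (f3253 H)) rfl)

theorem f3292 : g 6 • path g [9, 2, 8, 2, 6] p = path g [9, 2, 8, 2, 1] p :=
  H.back (i := 1) (by decide) (f3291 H)

theorem f3293 : g 2 • path g [9, 2, 8, 2, 1] p = path g [9, 2, 8, 6] p :=
  scan (u := [1]) (w := [1, 2]) (i := 2) (r3_0_0 H) (step (f3289 H) rfl) (step (H.back (i := 6) (by decide) (f474 H)) (step (H.back (i := 7) (by decide) (f467 H)) rfl))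

theorem f3294 : g 7 • path g [9, 2, 8, 6] p = path g [9, 2, 8, 2, 1] p :=
  H.back (i := 2) (by decide) (f3293 H)

theorem f3295 : g 2 • path g [9, 2, 8, 6] p = path g [9, 2, 8, 2, 1] p :=
  scan (u := [2]) (w := []) (i := 2) (r2_0_0 H) (step (f3293 H) rfl) rfl

theorem f3296 : g 7 • path g [9, 2, 8, 2, 1] p = path g [9, 2, 8, 6] p :=
  H.back (i := 2) (by decide) (f3295 H)

theorem f3297 : g 8 • path g [9, 2, 8, 6] p = path g [9, 2, 8, 6, 8] p :=
  rfl

theorem f3298 : g 3 • path g [9, 2, 8, 6, 8] p = path g [9, 2, 8, 6] p :=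
  H.back (i := 8) (by decide) (f3297 H)

theorem f3299 : g 5 • path g [9, 2, 8, 6] p = path g [9, 2, 8, 6, 5] p :=
  rfl

theorem f3300 : g 0 • path g [9, 2, 8, 6, 5] p = path g [9, 2, 8, 6] p :=
  H.back (i := 5) (by decide) (f3299 H)

theorem f3301 : g 5 • path g [9, 2, 8, 6, 5] p = path g [9, 2, 8, 6] p :=
  scan (u := [5]) (w := []) (i := 5) (r0_1_0 H) (step (f3299 H) rfl) rfl

theorem f3302 : g 0 • path g [9, 2, 8, 6] p = path g [9, 2, 8, 6, 5] p :=
  H.back (i := 5) (by decide) (f3301 H)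

theorem f3303 : g 6 • path g [8, 4, 2, 5] p = path g [9, 2, 8, 6, 5] p :=
  scan (u := [5, 6, 5, 1, 1, 5]) (w := []) (i := 6) (r4_1_1 H) (step (f3301 H) (step (f479 H) (step (f3155 H) (step (f926 H) (step (f924 H) (step (f932 H) rfl)))))) rfl

theorem f3304 : g 1 • path g [9, 2, 8, 6, 5] p = path g [8, 4, 2, 5] p :=
  H.back (i := 6) (by decide) (f3303 H)

theorem f3305 : g 3 • path g [9, 2, 8, 6] p = path g [9, 2, 8, 6, 3] p :=
  rfl

theorem f3307 : g 3 • path g [9, 2, 8, 6, 3] p = path g [9, 2, 8, 6, 8] p :=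
  scan (u := [3]) (w := [3]) (i := 3) (r6_0_0 H) (step (f3305 H) rfl) (step (H.back (i := 8) (by decide) (f3297 H)) rfl)

theorem f3308 : g 8 • path g [9, 2, 8, 6, 8] p = path g [9, 2, 8, 6, 3] p :=
  H.back (i := 3) (by decide) (f3307 H)

theorem f3309 : g 4 • path g [9, 2, 8, 6] p = path g [9, 2, 8, 6, 4] p :=
  rfl

theorem f3311 : g 4 • path g [9, 2, 8, 6, 4] p = path g [9, 2, 8, 9, 6] p :=
  scan (u := [4]) (w := [4]) (i := 4) (r10_0_0 H) (step (f3309 H) rfl) (step (H.back (i := 9) (by decide) (f3052 H)) rfl)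

theorem f3313 : g 1 • path g [9, 2, 8, 6, 4] p = path g [9, 2, 8, 4] p :=
  scan (u := [4]) (w := [9, 6]) (i := 1) (r14_1_0 H) (step (f3309 H) rfl) (step (H.back (i := 4) (by decide) (f480 H)) (step (H.back (i := 1) (by decide) (f475 H)) rfl))

theorem f3314 : g 6 • path g [9, 2, 8, 4] p = path g [9, 2, 8, 6, 4] p :=
  H.back (i := 1) (by decide) (f3313 H)

theorem f3315 : g 8 • path g [9, 2, 8, 1] p = path g [9, 2, 8, 1, 8] p :=
  rfl

theorem f3316 : g 3 • path g [9, 2, 8, 1, 8] p = path g [9, 2, 8, 1] p :=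
  H.back (i := 8) (by decide) (f3315 H)

theorem f3317 : g 3 • path g [9, 2, 8, 1] p = path g [9, 2, 8, 1, 3] p :=
  rfl

theorem f3319 : g 3 • path g [9, 2, 8, 1, 3] p = path g [9, 2, 8, 1, 8] p :=
  scan (u := [3]) (w := [3]) (i := 3) (r6_0_0 H) (step (f3317 H) rfl) (step (H.back (i := 8) (by decide) (f3315 H)) rfl)

theorem f3320 : g 8 • path g [9, 2, 8, 1, 8] p = path g [9, 2, 8, 1, 3] p :=
  H.back (i := 3) (by decide) (f3319 H)

theorem f3321 : g 4 • path g [9, 2, 8, 1] p = path g [9, 2, 8, 1, 4] p :=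
  rfl

theorem f3323 : g 4 • path g [9, 2, 8, 1, 4] p = path g [9, 2, 8, 9, 1] p :=
  scan (u := [4]) (w := [4]) (i := 4) (r10_0_0 H) (step (f3321 H) rfl) (step (H.back (i := 9) (by decide) (f3058 H)) rfl)

theorem f3325 : g 6 • path g [9, 2, 8, 1, 4] p = path g [9, 2, 8, 4] p :=
  scan (u := [4]) (w := [9, 1]) (i := 6) (r14_0_1 H) (step (f3321 H) rfl) (step (H.back (i := 4) (by decide) (f480 H)) (step (H.back (i := 6) (by decide) (f477 H)) rfl))

theorem f3326 : g 1 • path g [9, 2, 8, 4] p = path g [9, 2, 8, 1, 4] p :=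
  H.back (i := 6) (by decide) (f3325 H)

theorem f3327 : g 1 • path g [9, 2, 8, 1, 4] p = path g [9, 2, 8, 6, 4] p :=
  scan (u := [4]) (w := [9, 6]) (i := 1) (r14_1_0 H) (step (f3321 H) rfl) (step (H.back (i := 4) (by decide) (f3309 H)) (step (H.back (i := 1) (by decide) (f478 H)) rfl))

theorem f3328 : g 6 • path g [9, 2, 8, 6, 4] p = path g [9, 2, 8, 1, 4] p :=
  H.back (i := 1) (by decide) (f3327 H)

theorem f3329 : g 2 • path g [9, 2, 8, 4] p = path g [9, 2, 8, 4, 2] p :=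
  rfl

theorem f3330 : g 7 • path g [9, 2, 8, 4, 2] p = path g [9, 2, 8, 4] p :=
  H.back (i := 2) (by decide) (f3329 H)

theorem f3331 : g 2 • path g [9, 2, 8, 4, 2] p = path g [9, 2, 8, 4] p :=
  scan (u := [2]) (w := []) (i := 2) (r2_0_0 H) (step (f3329 H) rfl) rfl

theorem f3333 : g 9 • path g [9, 2, 5, 8] p = path g [9, 2, 5, 8, 9] p :=
  rfl

theorem f3335 : g 8 • path g [9, 2, 5, 8, 9] p = path g [9, 2, 5, 4] p :=
  scan (u := [9]) (w := [9, 8]) (i := 8) (r15_1_1 H) (step (f3333 H) rfl) (step (H.back (i := 4) (by decide) (f514 H)) (step (H.back (i := 3) (by decide) (f485 H)) rfl))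

theorem f3336 : g 3 • path g [9, 2, 5, 4] p = path g [9, 2, 5, 8, 9] p :=
  H.back (i := 8) (by decide) (f3335 H)

theorem f3337 : g 8 • path g [9, 2, 5, 8] p = path g [8, 4, 2] p :=
  (f503 H).trans (f3264 H)

end CfsgQS3.Zero.CertA
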