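import Cfsg.Agent.Lib.QS3.Zero.Cert.A0

/-!
Groups with an involution centraliser `Q.S₃`: a certificate of coset enumeration for the type 0, case A, part 1.
-/

set_option autoImplicit false
set_option maxRecDepth 10000
set_option linter.unusedSectionVars false

namespace CfsgQS3.Zero.CertA

variable {M α : Type*} [Group M] [MulAction M α] {g : ℕ → M} {p : α} (H : CosetData relsA 3 g p)
include H

theorem r1_1_0 : ∀ x : α, path g [6, 6, 6] x = x :=
  trivial_rot 0 (H.trivial_inv (i := 1) (by decide) (by decide)) (by decide)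

theorem r4_0_2 : ∀ x : α, path g [6, 0, 1, 0, 1, 0, 6] x = x :=
  trivial_rot 2 (H.trivial_rev (i := 4) (by decide)) (by decide)

theorem r4_1_0 : ∀ x : α, path g [6, 5, 6, 5, 1, 1, 5] x = x :=
  trivial_rot 0 (H.trivial_inv (i := 4) (by decide) (by decide)) (by decide)

theorem r4_1_5 : ∀ x : α, path g [1, 5, 6, 5, 6, 5, 1] x = x :=
  trivial_rot 5 (H.trivial_inv (i := 4) (by decide) (by decide)) (by decide)

theorem r4_1_6 : ∀ x : α, path g [5, 6, 5, 6, 5, 1, 1] x = x :=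
  trivial_rot 6 (H.trivial_inv (i := 4) (by decide) (by decide)) (by decide)

theorem r5_0_0 : ∀ x : α, path g [0, 6, 2, 0, 2, 1, 0, 2, 1, 0, 6, 2] x = x :=
  trivial_rot 0 (H.trivial_rev (i := 5) (by decide)) (by decide)

theorem r5_0_2 : ∀ x : α, path g [2, 0, 2, 1, 0, 2, 1, 0, 6, 2, 0, 6] x = x :=
  trivial_rot 2 (H.trivial_rev (i := 5) (by decide)) (by decide)

theorem r5_0_4 : ∀ x : α, path g [2, 1, 0, 2, 1, 0, 6, 2, 0, 6, 2, 0] x = x :=
  trivial_rot 4 (H.trivial_rev (i := 5) (by decide)) (by decide)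

theorem r5_0_8 : ∀ x : α, path g [1, 0, 6, 2, 0, 6, 2, 0, 2, 1, 0, 2] x = x :=
  trivial_rot 8 (H.trivial_rev (i := 5) (by decide)) (by decide)

theorem r5_1_1 : ∀ x : α, path g [1, 5, 6, 7, 5, 6, 7, 5, 7, 1, 5, 7] x = x :=
  trivial_rot 1 (H.trivial_inv (i := 5) (by decide) (by decide)) (by decide)

theorem r5_1_6 : ∀ x : α, path g [6, 7, 5, 7, 1, 5, 7, 1, 5, 6, 7, 5] x = x :=
  trivial_rot 6 (H.trivial_inv (i := 5) (by decide) (by decide)) (by decide)

theorem r5_1_7 : ∀ x : α, path g [7, 5, 7, 1, 5, 7, 1, 5, 6, 7, 5, 6] x = x :=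
  trivial_rot 7 (H.trivial_inv (i := 5) (by decide) (by decide)) (by decide)

theorem r5_1_9 : ∀ x : α, path g [7, 1, 5, 7, 1, 5, 6, 7, 5, 6, 7, 5] x = x :=
  trivial_rot 9 (H.trivial_inv (i := 5) (by decide) (by decide)) (by decide)

theorem r5_1_11 : ∀ x : α, path g [5, 7, 1, 5, 6, 7, 5, 6, 7, 5, 7, 1] x = x :=
  trivial_rot 11 (H.trivial_inv (i := 5) (by decide) (by decide)) (by decide)

theorem r7_0_2 : ∀ x : α, path g [6, 5, 7, 6, 5, 7, 5, 8, 2, 3] x = x :=
  trivial_rot 2 (H.trivial_rev (i := 7) (by decide)) (by decide)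

theorem r7_0_3 : ∀ x : α, path g [5, 7, 6, 5, 7, 5, 8, 2, 3, 6] x = x :=
  trivial_rot 3 (H.trivial_rev (i := 7) (by decide)) (by decide)

theorem r7_0_6 : ∀ x : α, path g [5, 7, 5, 8, 2, 3, 6, 5, 7, 6] x = x :=
  trivial_rot 6 (H.trivial_rev (i := 7) (by decide)) (by decide)

theorem r7_1_0 : ∀ x : α, path g [3, 0, 2, 0, 1, 2, 0, 1, 8, 7] x = x :=
  trivial_rot 0 (H.trivial_inv (i := 7) (by decide) (by decide)) (by decide)

theorem r7_1_6 : ∀ x : α, path g [0, 1, 8, 7, 3, 0, 2, 0, 1, 2] x = x :=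
  trivial_rot 6 (H.trivial_inv (i := 7) (by decide) (by decide)) (by decide)

theorem r7_1_8 : ∀ x : α, path g [8, 7, 3, 0, 2, 0, 1, 2, 0, 1] x = x :=
  trivial_rot 8 (H.trivial_inv (i := 7) (by decide) (by decide)) (by decide)

theorem r8_0_1 : ∀ x : α, path g [0, 2, 3, 5, 6, 7, 5, 6, 8, 0, 2] x = x :=
  trivial_rot 1 (H.trivial_rev (i := 8) (by decide)) (by decide)

theorem r8_0_6 : ∀ x : α, path g [7, 5, 6, 8, 0, 2, 0, 2, 3, 5, 6] x = x :=
  trivial_rot 6 (H.trivial_rev (i := 8) (by decide)) (by decide)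

theorem r8_0_9 : ∀ x : α, path g [8, 0, 2, 0, 2, 3, 5, 6, 7, 5, 6] x = x :=
  trivial_rot 9 (H.trivial_rev (i := 8) (by decide)) (by decide)

theorem r8_0_10 : ∀ x : α, path g [0, 2, 0, 2, 3, 5, 6, 7, 5, 6, 8] x = x :=
  trivial_rot 10 (H.trivial_rev (i := 8) (by decide)) (by decide)

theorem r8_1_7 : ∀ x : α, path g [8, 7, 5, 7, 5, 3, 1, 0, 2, 1, 0] x = x :=
  trivial_rot 7 (H.trivial_inv (i := 8) (by decide) (by decide)) (by decide)

theorem r8_1_10 : ∀ x : α, path g [7, 5, 3, 1, 0, 2, 1, 0, 8, 7, 5] x = x :=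
  trivial_rot 10 (H.trivial_inv (i := 8) (by decide) (by decide)) (by decide)

theorem r9_1_5 : ∀ x : α, path g [5, 7, 6, 5, 7, 5, 3, 1, 0, 2, 0, 1, 0, 8, 6] x = x :=
  trivial_rot 5 (H.trivial_inv (i := 9) (by decide) (by decide)) (by decide)

theorem r11_0_12 : ∀ x : α, path g [5, 7, 4, 2, 0, 2, 0, 2, 0, 2, 0, 4, 5, 7, 5, 7, 5, 7] x = x :=
  trivial_rot 12 (H.trivial_rev (i := 11) (by decide)) (by decide)

theorem r11_1_7 : ∀ x : α, path g [0, 2, 0, 2, 0, 9, 5, 7, 5, 7, 5, 7, 5, 7, 9, 2, 0, 2] x = x :=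
  trivial_rot 7 (H.trivial_inv (i := 11) (by decide) (by decide)) (by decide)

theorem r12_0_5 : ∀ x : α, path g [6, 5, 6, 6, 9, 1, 1, 0, 1, 4] x = x :=
  trivial_rot 5 (H.trivial_rev (i := 12) (by decide)) (by decide)

theorem r12_1_6 : ∀ x : α, path g [6, 5, 6, 6, 4, 1, 1, 0, 1, 9] x = x :=
  trivial_rot 6 (H.trivial_inv (i := 12) (by decide) (by decide)) (by decide)

theorem r13_1_0 : ∀ x : α, path g [9, 5, 4, 0] x = x :=
  trivial_rot 0 (H.trivial_inv (i := 13) (by decide) (by decide)) (by decide)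

theorem r13_1_3 : ∀ x : α, path g [0, 9, 5, 4] x = x :=
  trivial_rot 3 (H.trivial_inv (i := 13) (by decide) (by decide)) (by decide)

theorem r14_1_2 : ∀ x : α, path g [9, 6, 4, 1] x = x :=
  trivial_rot 2 (H.trivial_inv (i := 14) (by decide) (by decide)) (by decide)

theorem f3338 : g 5 • path g [9, 2, 5, 8] p = path g [9, 2, 5, 8, 5] p :=
  rfl

theorem f3339 : g 0 • path g [9, 2, 5, 8, 5] p = path g [9, 2, 5, 8] p :=
  H.back (i := 5) (by decide) (f3338 H)

theorem f3340 : g 5 • path g [9, 2, 5, 8, 5] p = path g [9, 2, 5, 8] p :=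
  scan (u := [5]) (w := []) (i := 5) (r0_1_0 H) (step (f3338 H) rfl) rfl

theorem f3341 : g 0 • path g [9, 2, 5, 8] p = path g [9, 2, 5, 8, 5] p :=
  H.back (i := 5) (by decide) (f3340 H)

theorem f3342 : g 8 • path g [9, 2, 5, 8, 5] p = path g [9, 3, 9, 2] p :=
  scan (u := [5]) (w := [2, 3, 6, 5, 7, 6, 5, 7]) (i := 8) (r7_0_8 H) (step (f3338 H) rfl) (step (H.back (i := 7) (by decide) (f557 H)) (step (H.back (i := 8) (by decide) (f148 H)) (step (H.back (i := 1) (by decide) (f238 H)) (step (H.back (i := 0) (by decide) (f237 H)) (step (H.back (i := 2) (by decide) (f864 H)) (step (H.back (i := 1) (by decide) (f866 H)) (step (H.back (i := 0) (by decide) (f933 H)) (step (H.back (i := 2) (by decide) (f2565 H)) rfl))))))))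

theorem f3344 : g 7 • path g [9, 2, 5, 8, 5] p = path g [3, 9, 2, 5] p :=
  scan (u := [5]) (w := [5, 3, 1, 0, 2, 1, 0, 8, 7]) (i := 7) (r8_1_9 H) (step (f3338 H) rfl) (step (H.back (i := 0) (by decide) (f951 H)) (step (H.back (i := 8) (by decide) (f1498 H)) (step (H.back (i := 6) (by decide) (f566 H)) (step (H.back (i := 5) (by decide) (f560 H)) (step (H.back (i := 7) (by decide) (f1607 H)) (step (H.back (i := 6) (by decide) (f509 H)) (step (H.back (i := 5) (by decide) (f513 H)) (step (H.back (i := 3) (by decide) (f2560 H)) (step (H.back (i := 2) (by decide) (f2565 H)) rfl)))))))))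

theorem f3346 : g 7 • path g [3, 9, 2, 5] p = path g [9, 2, 5, 8, 5] p :=
  scan (u := [7]) (w := []) (i := 7) (r2_1_0 H) (step (f3344 H) rfl) rfl

theorem f3347 : g 2 • path g [9, 2, 5, 8, 5] p = path g [3, 9, 2, 5] p :=
  H.back (i := 7) (by decide) (f3346 H)

theorem f3348 : g 6 • path g [9, 2, 5, 8] p = path g [9, 2, 5, 8, 6] p :=
  rfl

theorem f3349 : g 1 • path g [9, 2, 5, 8, 6] p = path g [9, 2, 5, 8] p :=
  H.back (i := 6) (by decide) (f3348 H)

theorem f3350 : g 1 • path g [9, 2, 5, 8] p = path g [9, 2, 5, 8, 1] p :=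
  rfl

theorem f3351 : g 6 • path g [9, 2, 5, 8, 1] p = path g [9, 2, 5, 8] p :=
  H.back (i := 1) (by decide) (f3350 H)

theorem f3352 : g 1 • path g [9, 2, 5, 8, 1] p = path g [9, 2, 5, 8, 6] p :=
  scan (u := [1]) (w := [1]) (i := 1) (r1_0_0 H) (step (f3350 H) rfl) (step (H.back (i := 6) (by decide) (f3348 H)) rfl)

theorem f3353 : g 6 • path g [9, 2, 5, 8, 6] p = path g [9, 2, 5, 8, 1] p :=
  H.back (i := 1) (by decide) (f3352 H)

theorem f3354 : g 2 • path g [9, 2, 5, 8, 1] p = path g [9, 2, 8, 6, 5] p :=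
  scan (u := [1]) (w := [1, 2]) (i := 2) (r3_0_0 H) (step (f3350 H) rfl) (step (H.back (i := 6) (by decide) (f3303 H)) (step (H.back (i := 7) (by decide) (f2568 H)) rfl))

theorem f3356 : g 0 • path g [9, 2, 5, 8, 1] p = path g [4, 2, 3, 1] p :=
  scan (u := [1]) (w := [6, 2, 0, 6, 2, 0, 2, 1, 0, 2]) (i := 0) (r5_0_8 H) (step (f3350 H) rfl) (step (H.back (i := 1) (by decide) (f1336 H)) (step (H.back (i := 7) (by decide) (f2838 H)) (step (H.back (i := 5) (by decide) (f372 H)) (step (H.back (i := 1) (by decide) (f381 H)) (step (H.back (i := 7) (by decide) (f384 H)) (step (H.back (i := 5) (by decide) (f2498 H)) (step (H.back (i := 7) (by decide) (f921 H)) (step (H.back (i := 6) (by decide) (f925 H)) (step (H.back (i := 5) (by decide) (f934 H)) (step (H.back (i := 7) (by decide) (f2568 H)) rfl))))))))))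

theorem f3357 : g 5 • path g [4, 2, 3, 1] p = path g [9, 2, 5, 8, 1] p :=
  H.back (i := 0) (by decide) (f3356 H)

theorem f3358 : g 5 • path g [9, 2, 5, 8, 1] p = path g [4, 2, 3, 1] p :=
  scan (u := [1]) (w := [6, 7, 5, 6, 7, 5, 7, 1, 5, 7]) (i := 5) (r5_1_1 H) (step (f3350 H) rfl) (step (H.back (i := 1) (by decide) (f1336 H)) (step (H.back (i := 2) (by decide) (f2841 H)) (step (H.back (i := 0) (by decide) (f375 H)) (step (H.back (i := 1) (by decide) (f381 H)) (step (H.back (i := 2) (by decide) (f383 H)) (step (H.back (i := 0) (by decide) (f2495 H)) (step (H.back (i := 2) (by decide) (f922 H)) (step (H.back (i := 6) (by decide) (f925 H)) (step (H.back (i := 0) (by decide) (f933 H)) (step (H.back (i := 2) (by decide) (f2565 H)) rfl))))))))))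

theorem f3359 : g 0 • path g [4, 2, 3, 1] p = path g [9, 2, 5, 8, 1] p :=
  H.back (i := 5) (by decide) (f3358 H)

theorem f3360 : g 7 • path g [4, 2, 3, 1] p = path g [9, 8, 2, 5, 6] p :=
  scan (u := [1, 5]) (w := [1, 5, 6, 7, 5, 6, 7, 5, 7]) (i := 7) (r5_1_10 H) (step (f3350 H) (step (f3358 H) rfl)) (step (H.back (i := 6) (by decide) (f1424 H)) (step (H.back (i := 0) (by decide) (f375 H)) (step (H.back (i := 1) (by decide) (f381 H)) (step (H.back (i := 2) (by decide) (f383 H)) (step (H.back (i := 0) (by decide) (f2495 H)) (step (H.back (i := 1) (by decide) (f253 H)) (step (H.back (i := 2) (by decide) (f258 H)) (step (H.back (i := 0) (by decide) (f933 H)) (step (H.back (i := 2) (by decide) (f2565 H)) rfl)))))))))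

theorem f3361 : g 2 • path g [9, 8, 2, 5, 6] p = path g [4, 2, 3, 1] p :=
  H.back (i := 7) (by decide) (f3360 H)

theorem f3362 : g 7 • path g [9, 8, 2, 5, 6] p = path g [4, 2, 3, 1] p :=
  scan (u := [6, 7, 5, 7, 1, 5, 7, 1, 5, 6]) (w := [5]) (i := 7) (r5_1_6 H) (step (f3351 H) (step (f2568 H) (step (f934 H) (step (f257 H) (step (f253 H) (step (f2498 H) (step (f384 H) (step (f381 H) (step (f372 H) (step (f1424 H) rfl)))))))))) (step (H.back (i := 0) (by decide) (f3356 H)) rfl)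

theorem f3363 : g 2 • path g [4, 2, 3, 1] p = path g [9, 8, 2, 5, 6] p :=
  H.back (i := 7) (by decide) (f3362 H)

theorem f3364 : path g [3, 9, 2, 5] p = path g [9, 8, 2, 8] p :=
  close (u := [7, 5, 6, 8, 0, 2, 0, 2]) (w := [3, 5, 6]) (r8_0_6 H) (step (f3362 H) (step (f3357 H) (step (f3351 H) (step (f3337 H) (step (f935 H) (step (f2566 H) (step (f3341 H) (step (f3347 H) rfl)))))))) (step (H.back (i := 8) (by decide) (f370 H)) (step (H.back (i := 0) (by decide) (f373 H)) (step (H.back (i := 1) (by decide) (f1425 H)) rfl)))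

theorem f3367 : g 5 • path g [9, 8, 2, 8] p = path g [3, 9, 2] p :=
  (congrArg (g 5 • ·) (f3364 H).symm).trans (f950 H)

theorem f3368 : path g [9, 8, 2, 8, 5] p = path g [3, 9, 2] p :=
  (f1388 H).symm.trans (f3367 H)

theorem f3371 : g 7 • path g [9, 8, 2, 8] p = path g [9, 2, 5, 8, 5] p :=
  (congrArg (g 7 • ·) (f3364 H).symm).trans (f3346 H)

theorem f3372 : path g [9, 8, 2, 8, 2] p = path g [9, 2, 5, 8, 5] p :=
  (f1387 H).symm.trans (f3371 H)

theorem f3373 : path g [9, 2, 5, 8, 5] p = path g [9, 8, 2, 8, 2] p :=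
  (f3372 H).symm

theorem f3374 : g 0 • path g [9, 8, 2, 8, 2] p = path g [9, 2, 5, 8] p :=
  (congrArg (g 0 • ·) (f3373 H).symm).trans (f3339 H)

theorem f3376 : g 5 • path g [9, 2, 5, 8] p = path g [9, 8, 2, 8, 2] p :=
  H.back (i := 0) (by decide) (f3374 H)

theorem f3377 : g 5 • path g [9, 8, 2, 8, 2] p = path g [9, 2, 5, 8] p :=
  (congrArg (g 5 • ·) (f3373 H).symm).trans (f3340 H)

theorem f3379 : g 0 • path g [9, 2, 5, 8] p = path g [9, 8, 2, 8, 2] p :=
  H.back (i := 5) (by decide) (f3377 H)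

theorem f3380 : g 8 • path g [9, 8, 2, 8, 2] p = path g [9, 3, 9, 2] p :=
  (congrArg (g 8 • ·) (f3373 H).symm).trans (f3342 H)

theorem f3382 : g 3 • path g [9, 3, 9, 2] p = path g [9, 8, 2, 8, 2] p :=
  H.back (i := 8) (by decide) (f3380 H)

theorem f3390 : g 0 • path g [3, 9, 2] p = path g [9, 8, 2, 8] p :=
  (f951 H).trans (f3364 H)

theorem f3393 : g 5 • path g [3, 9, 2] p = path g [9, 8, 2, 8] p :=
  (f948 H).trans (f3364 H)

theorem f3395 : g 7 • path g [9, 2, 5, 8, 1] p = path g [9, 2, 8, 6, 5] p :=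
  scan (u := [7, 5]) (w := [1, 5, 7, 1, 5, 6, 7, 5, 6]) (i := 7) (r5_1_7 H) (step (f3362 H) (step (f3357 H) rfl)) (step (H.back (i := 6) (by decide) (f3303 H)) (step (H.back (i := 0) (by decide) (f935 H)) (step (H.back (i := 2) (by decide) (f256 H)) (step (H.back (i := 6) (by decide) (f252 H)) (step (H.back (i := 0) (by decide) (f2845 H)) (step (H.back (i := 1) (by decide) (f116 H)) (step (H.back (i := 2) (by decide) (f104 H)) (step (H.back (i := 0) (by decide) (f373 H)) (step (H.back (i := 1) (by decide) (f1425 H)) rfl)))))))))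

theorem f3396 : g 2 • path g [9, 2, 8, 6, 5] p = path g [9, 2, 5, 8, 1] p :=
  H.back (i := 7) (by decide) (f3395 H)

theorem f3397 : g 0 • path g [9, 8, 2, 8] p = path g [3, 9, 2] p :=
  (f1391 H).trans (f3368 H)

theorem f3398 : g 5 • path g [9, 8, 2, 8] p = path g [3, 9, 2] p :=
  (f1388 H).trans (f3368 H)

theorem f3399 : g 7 • path g [9, 8, 2, 5, 1] p = path g [4, 2, 3, 6] p :=
  scan (u := [7, 6]) (w := [6]) (i := 7) (r3_1_0 H) (step (f3360 H) (step (f1429 H) rfl)) (step (H.back (i := 1) (by decide) (f1338 H)) rfl)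

theorem f3400 : g 2 • path g [4, 2, 3, 6] p = path g [9, 8, 2, 5, 1] p :=
  H.back (i := 7) (by decide) (f3399 H)

theorem f3401 : g 7 • path g [4, 2, 3, 6] p = path g [9, 8, 2, 5, 1] p :=
  scan (u := [7]) (w := []) (i := 7) (r2_1_0 H) (step (f3399 H) rfl) rfl

theorem f3402 : g 2 • path g [9, 8, 2, 5, 1] p = path g [4, 2, 3, 6] p :=
  H.back (i := 7) (by decide) (f3401 H)

theorem f3403 : g 0 • path g [4, 8, 2, 8] p = path g [9, 3, 5, 2] p :=
  scan (u := [7, 5, 6, 8]) (w := [2, 0, 2, 3, 5, 6]) (i := 0) (r8_0_6 H) (step (f3401 H) (step (f1760 H) (step (f1185 H) (step (f1170 H) rfl)))) (step (H.back (i := 7) (by decide) (f615 H)) (step (H.back (i := 5) (by decide) (f154 H)) (step (H.back (i := 7) (by decide) (f151 H)) (step (H.back (i := 8) (by decide) (f589 H)) (step (H.back (i := 0) (by decide) (f2843 H)) (step (H.back (i := 1) (by decide) (f1335 H)) rfl))))))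

theorem f3405 : g 0 • path g [9, 3, 5, 2] p = path g [4, 8, 2, 8] p :=
  scan (u := [0]) (w := []) (i := 0) (r0_0_0 H) (step (f3403 H) rfl) rfl

theorem f3406 : g 5 • path g [4, 8, 2, 8] p = path g [9, 3, 5, 2] p :=
  H.back (i := 0) (by decide) (f3405 H)

theorem f3407 : g 0 • path g [8, 9, 1] p = path g [3, 9, 1] p :=
  (f703 H).trans (f2065 H)

theorem f3408 : g 4 • path g [9, 2, 5, 8] p = path g [9, 2, 5, 8, 4] p :=
  rfl

theorem f3410 : g 4 • path g [9, 2, 5, 8, 4] p = path g [9, 2, 5, 8, 9] p :=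
  scan (u := [4]) (w := [4]) (i := 4) (r10_0_0 H) (step (f3408 H) rfl) (step (H.back (i := 9) (by decide) (f3333 H)) rfl)

theorem f3411 : g 9 • path g [9, 2, 5, 8, 9] p = path g [9, 2, 5, 8, 4] p :=
  H.back (i := 4) (by decide) (f3410 H)

theorem f3412 : g 3 • path g [9, 2, 5, 8, 4] p = path g [8, 4, 2, 9] p :=
  scan (u := [4]) (w := [4, 3]) (i := 3) (r15_0_0 H) (step (f3408 H) rfl) (step (H.back (i := 9) (by decide) (f928 H)) (step (H.back (i := 8) (by decide) (f3337 H)) rfl))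

theorem f3413 : g 8 • path g [8, 4, 2, 9] p = path g [9, 2, 5, 8, 4] p :=
  H.back (i := 3) (by decide) (f3412 H)

theorem f3414 : g 4 • path g [9, 2, 5, 6] p = path g [9, 2, 5, 6, 4] p :=
  rfl

theorem f3416 : g 4 • path g [9, 2, 5, 6, 4] p = path g [9, 2, 9, 5, 6] p :=
  scan (u := [4]) (w := [4]) (i := 4) (r10_0_0 H) (step (f3414 H) rfl) (step (H.back (i := 9) (by decide) (f3004 H)) rfl)

theorem f3418 : g 1 • path g [9, 2, 5, 6, 4] p = path g [9, 2, 5, 4] p :=
  scan (u := [4]) (w := [9, 6]) (i := 1) (r14_1_0 H) (step (f3414 H) rfl) (step (H.back (i := 4) (by decide) (f514 H)) (step (H.back (i := 1) (by decide) (f505 H)) rfl))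

theorem f3420 : g 3 • path g [9, 2, 5, 1] p = path g [9, 2, 5, 1, 3] p :=
  rfl

theorem f3422 : g 3 • path g [9, 2, 5, 1, 3] p = path g [8, 4, 2, 5] p :=
  scan (u := [3]) (w := [3]) (i := 3) (r6_0_0 H) (step (f3420 H) rfl) (step (H.back (i := 8) (by decide) (f2562 H)) rfl)

theorem f3424 : g 2 • path g [4, 8, 2, 8] p = path g [9, 2, 5, 1, 3] p :=
  scan (u := [3, 6, 5, 7, 6, 5, 7, 5, 8]) (w := []) (i := 2) (r7_0_1 H) (step (f3422 H) (step (f3303 H) (step (f3301 H) (step (f3294 H) (step (f3290 H) (step (f3138 H) (step (f531 H) (step (f3122 H) (step (f1170 H) rfl))))))))) rfl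

theorem f3425 : g 7 • path g [9, 2, 5, 1, 3] p = path g [4, 8, 2, 8] p :=
  H.back (i := 2) (by decide) (f3424 H)

theorem f3426 : g 7 • path g [4, 8, 2, 8] p = path g [9, 2, 5, 1, 3] p :=
  scan (u := [3, 0, 2, 0, 1, 2, 0, 1, 8]) (w := []) (i := 7) (r7_1_0 H) (step (f3422 H) (step (f933 H) (step (f258 H) (step (f2575 H) (step (f116 H) (step (f383 H) (step (f1754 H) (step (f1179 H) (step (f1170 H) rfl))))))))) rfl

theorem f3427 : g 2 • path g [9, 2, 5, 1, 3] p = path g [4, 8, 2, 8] p :=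
  H.back (i := 7) (by decide) (f3426 H)

theorem f3428 : g 5 • path g [9, 2, 5, 1, 3] p = path g [4, 2, 5, 8] p :=
  scan (u := [7]) (w := [3, 1, 0, 2, 1, 0, 8, 7, 5]) (i := 5) (r8_1_10 H) (step (f3426 H) rfl) (step (H.back (i := 8) (by decide) (f1288 H)) (step (H.back (i := 6) (by decide) (f1531 H)) (step (H.back (i := 5) (by decide) (f3223 H)) (step (H.back (i := 7) (by decide) (f3237 H)) (step (H.back (i := 6) (by decide) (f566 H)) (step (H.back (i := 5) (by decide) (f560 H)) (step (H.back (i := 3) (by decide) (f3209 H)) (step (H.back (i := 2) (by decide) (f614 H)) (step (H.back (i := 0) (by decide) (f3403 H)) rfl)))))))))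

theorem f3429 : g 0 • path g [4, 2, 5, 8] p = path g [9, 2, 5, 1, 3] p :=
  H.back (i := 5) (by decide) (f3428 H)

theorem f3430 : g 5 • path g [4, 2, 5, 8] p = path g [9, 2, 5, 1, 3] p :=
  scan (u := [5]) (w := []) (i := 5) (r0_1_0 H) (step (f3428 H) rfl) rfl

theorem f3431 : g 0 • path g [9, 2, 5, 1, 3] p = path g [4, 2, 5, 8] p :=
  H.back (i := 5) (by decide) (f3430 H)

theorem f3432 : g 4 • path g [9, 2, 5, 1] p = path g [9, 2, 5, 1, 4] p :=
  rfl

theorem f3434 : g 4 • path g [9, 2, 5, 1, 4] p = path g [9, 2, 9, 5, 1] p :=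
  scan (u := [4]) (w := [4]) (i := 4) (r10_0_0 H) (step (f3432 H) rfl) (step (H.back (i := 9) (by decide) (f3012 H)) rfl)

theorem f3436 : g 5 • path g [9, 2, 5, 1, 4] p = path g [9, 2, 5, 6, 4] p :=
  scan (u := [4]) (w := [9, 0]) (i := 5) (r13_0_3 H) (step (f3432 H) rfl) (step (H.back (i := 4) (by decide) (f3414 H)) (step (H.back (i := 5) (by decide) (f513 H)) rfl))

theorem f3437 : g 0 • path g [9, 2, 5, 6, 4] p = path g [9, 2, 5, 1, 4] p :=
  H.back (i := 5) (by decide) (f3436 H)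

theorem f3438 : g 0 • path g [9, 2, 5, 1, 4] p = path g [9, 2, 5, 6, 4] p :=
  scan (u := [4]) (w := [9, 5]) (i := 0) (r13_1_2 H) (step (f3432 H) rfl) (step (H.back (i := 4) (by decide) (f3414 H)) (step (H.back (i := 0) (by decide) (f510 H)) rfl))

theorem f3439 : g 5 • path g [9, 2, 5, 6, 4] p = path g [9, 2, 5, 1, 4] p :=
  H.back (i := 0) (by decide) (f3438 H)

theorem f3440 : g 6 • path g [9, 2, 5, 1, 4] p = path g [9, 2, 5, 4] p :=
  scan (u := [4]) (w := [9, 1]) (i := 6) (r14_0_1 H) (step (f3432 H) rfl) (step (H.back (i := 4) (by decide) (f514 H)) (step (H.back (i := 6) (by decide) (f507 H)) rfl))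

theorem f3441 : g 1 • path g [9, 2, 5, 4] p = path g [9, 2, 5, 1, 4] p :=
  H.back (i := 6) (by decide) (f3440 H)

theorem f3442 : g 1 • path g [9, 2, 5, 1, 4] p = path g [9, 2, 5, 6, 4] p :=
  scan (u := [4]) (w := [9, 6]) (i := 1) (r14_1_0 H) (step (f3432 H) rfl) (step (H.back (i := 4) (by decide) (f3414 H)) (step (H.back (i := 1) (by decide) (f508 H)) rfl))

theorem f3443 : g 6 • path g [9, 2, 5, 6, 4] p = path g [9, 2, 5, 1, 4] p :=
  H.back (i := 1) (by decide) (f3442 H)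

theorem f3444 : g 8 • path g [9, 2, 5, 4] p = path g [9, 2, 5, 4, 8] p :=
  rfl

theorem f3445 : g 3 • path g [9, 2, 5, 4, 8] p = path g [9, 2, 5, 4] p :=
  H.back (i := 8) (by decide) (f3444 H)

theorem f3446 : g 8 • path g [9, 2, 5, 4, 8] p = path g [9, 2, 5, 8, 9] p :=
  scan (u := [8]) (w := [8]) (i := 8) (r6_1_0 H) (step (f3444 H) rfl) (step (H.back (i := 3) (by decide) (f3336 H)) rfl)

theorem f3447 : g 3 • path g [9, 2, 5, 8, 9] p = path g [9, 2, 5, 4, 8] p :=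
  H.back (i := 8) (by decide) (f3446 H)

theorem f3448 : g 9 • path g [9, 2, 5, 4, 8] p = path g [9, 2, 9, 5, 3] p :=
  scan (u := [8]) (w := [8, 9]) (i := 9) (r15_1_0 H) (step (f3444 H) rfl) (step (H.back (i := 3) (by decide) (f2997 H)) (step (H.back (i := 4) (by decide) (f516 H)) rfl))

theorem f3449 : g 4 • path g [9, 2, 9, 5, 3] p = path g [9, 2, 5, 4, 8] p :=
  H.back (i := 9) (by decide) (f3448 H)

theorem f3450 : g 2 • path g [9, 2, 5, 4] p = path g [9, 2, 5, 4, 2] p :=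
  rfl

theorem f3451 : g 7 • path g [9, 2, 5, 4, 2] p = path g [9, 2, 5, 4] p :=
  H.back (i := 2) (by decide) (f3450 H)

theorem f3452 : g 2 • path g [9, 2, 5, 4, 2] p = path g [9, 2, 5, 4] p :=
  scan (u := [2]) (w := []) (i := 2) (r2_0_0 H) (step (f3450 H) rfl) rfl

theorem f3453 : g 7 • path g [9, 2, 5, 4] p = path g [9, 2, 5, 4, 2] p :=
  H.back (i := 2) (by decide) (f3452 H)

theorem f3454 : g 2 • path g [9, 2, 3, 9] p = path g [9, 2, 3, 9, 2] p :=
  rfl

theorem f3455 : g 7 • path g [9, 2, 3, 9, 2] p = path g [9, 2, 3, 9] p :=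
  H.back (i := 2) (by decide) (f3454 H)

theorem f3456 : g 2 • path g [9, 2, 3, 9, 2] p = path g [9, 2, 3, 9] p :=
  scan (u := [2]) (w := []) (i := 2) (r2_0_0 H) (step (f3454 H) rfl) rfl

theorem f3457 : g 7 • path g [9, 2, 3, 9] p = path g [9, 2, 3, 9, 2] p :=
  H.back (i := 2) (by decide) (f3456 H)

theorem f3458 : g 6 • path g [9, 2, 3, 9] p = path g [9, 2, 3, 9, 6] p :=
  rfl

theorem f3459 : g 1 • path g [9, 2, 3, 9, 6] p = path g [9, 2, 3, 9] p :=
  H.back (i := 6) (by decide) (f3458 H)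

theorem f3460 : g 9 • path g [9, 2, 3, 9, 6] p = path g [9, 2, 9, 8, 6] p :=
  scan (u := [6]) (w := [1, 4]) (i := 9) (r14_0_2 H) (step (f3458 H) rfl) (step (H.back (i := 6) (by decide) (f2959 H)) (step (H.back (i := 9) (by decide) (f524 H)) rfl))

theorem f3461 : g 4 • path g [9, 2, 9, 8, 6] p = path g [9, 2, 3, 9, 6] p :=
  H.back (i := 9) (by decide) (f3460 H)

theorem f3462 : g 4 • path g [9, 2, 3, 9, 6] p = path g [9, 2, 3, 6] p :=
  scan (u := [6]) (w := [1, 9]) (i := 4) (r14_1_3 H) (step (f3458 H) rfl) (step (H.back (i := 6) (by decide) (f536 H)) (step (H.back (i := 4) (by decide) (f523 H)) rfl))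

theorem f3464 : g 1 • path g [9, 2, 3, 9] p = path g [9, 2, 3, 9, 1] p :=
  rfl

theorem f3468 : g 4 • path g [9, 2, 3, 9, 1] p = path g [9, 2, 3, 1] p :=
  scan (u := [1]) (w := [6, 9]) (i := 4) (r14_0_0 H) (step (f3464 H) rfl) (step (H.back (i := 1) (by decide) (f538 H)) (step (H.back (i := 4) (by decide) (f523 H)) rfl))

theorem f3469 : g 9 • path g [9, 2, 3, 1] p = path g [9, 2, 3, 9, 1] p :=
  H.back (i := 4) (by decide) (f3468 H)

theorem f3470 : g 9 • path g [9, 2, 3, 9, 1] p = path g [9, 2, 9, 8, 1] p :=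
  scan (u := [1]) (w := [6, 4]) (i := 9) (r14_1_1 H) (step (f3464 H) rfl) (step (H.back (i := 1) (by decide) (f2963 H)) (step (H.back (i := 9) (by decide) (f524 H)) rfl))

theorem f3472 : g 9 • path g [9, 2, 3, 2] p = path g [9, 2, 3, 2, 9] p :=
  rfl

theorem f3473 : g 4 • path g [9, 2, 3, 2, 9] p = path g [9, 2, 3, 2] p :=
  H.back (i := 9) (by decide) (f3472 H)

theorem f3474 : g 9 • path g [9, 2, 3, 2, 9] p = path g [4, 8, 6, 8] p :=
  scan (u := [9]) (w := [9]) (i := 9) (r10_1_0 H) (step (f3472 H) rfl) (step (H.back (i := 4) (by decide) (f3116 H)) rfl)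

theorem f3475 : g 4 • path g [4, 8, 6, 8] p = path g [9, 2, 3, 2, 9] p :=
  H.back (i := 9) (by decide) (f3474 H)

theorem f3476 : g 0 • path g [9, 2, 3, 2, 9] p = path g [4, 8, 2, 9] p :=
  scan (u := [9]) (w := [4, 5]) (i := 0) (r13_0_1 H) (step (f3472 H) rfl) (step (H.back (i := 9) (by decide) (f1168 H)) (step (H.back (i := 0) (by decide) (f3119 H)) rfl))

theorem f3477 : g 5 • path g [4, 8, 2, 9] p = path g [9, 2, 3, 2, 9] p :=
  H.back (i := 0) (by decide) (f3476 H)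

theorem f3478 : g 5 • path g [9, 2, 3, 2, 9] p = path g [4, 8, 2, 9] p :=
  scan (u := [9]) (w := [4, 0]) (i := 5) (r13_1_0 H) (step (f3472 H) rfl) (step (H.back (i := 9) (by decide) (f1168 H)) (step (H.back (i := 5) (by decide) (f3122 H)) rfl))

theorem f3479 : g 0 • path g [4, 8, 2, 9] p = path g [9, 2, 3, 2, 9] p :=
  H.back (i := 5) (by decide) (f3478 H)

theorem f3480 : g 8 • path g [9, 2, 3, 2, 9] p = path g [3, 9, 2, 4] p :=
  scan (u := [9]) (w := [9, 8]) (i := 8) (r15_1_1 H) (step (f3472 H) rfl) (step (H.back (i := 4) (by decide) (f970 H)) (step (H.back (i := 3) (by decide) (f3110 H)) rfl))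

theorem f3481 : g 3 • path g [3, 9, 2, 4] p = path g [9, 2, 3, 2, 9] p :=
  H.back (i := 8) (by decide) (f3480 H)

theorem f3482 : g 6 • path g [9, 2, 3, 2] p = path g [9, 2, 3, 2, 6] p :=
  rfl

theorem f3483 : g 1 • path g [9, 2, 3, 2, 6] p = path g [9, 2, 3, 2] p :=
  H.back (i := 6) (by decide) (f3482 H)

theorem f3484 : g 6 • path g [9, 2, 3, 2, 6] p = path g [9, 8, 2, 1, 5] p :=
  scan (u := [6]) (w := [6]) (i := 6) (r1_1_0 H) (step (f3482 H) rfl) (step (H.back (i := 1) (by decide) (f3125 H)) rfl)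

theorem f3485 : g 1 • path g [9, 8, 2, 1, 5] p = path g [9, 2, 3, 2, 6] p :=
  H.back (i := 6) (by decide) (f3484 H)

theorem f3486 : g 7 • path g [9, 2, 3, 2, 6] p = path g [9, 2, 3, 1] p :=
  scan (u := [6]) (w := [6, 7]) (i := 7) (r3_1_1 H) (step (f3482 H) rfl) (step (H.back (i := 1) (by decide) (f538 H)) (step (H.back (i := 2) (by decide) (f530 H)) rfl))

theorem f3487 : g 2 • path g [9, 2, 3, 1] p = path g [9, 2, 3, 2, 6] p :=
  H.back (i := 7) (by decide) (f3486 H)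

theorem f3488 : g 0 • path g [9, 2, 3, 2, 6] p = path g [9, 8, 2, 5, 6] p :=
  scan (u := [6]) (w := [1, 0, 1, 0, 6]) (i := 0) (r4_0_2 H) (step (f3482 H) rfl) (step (H.back (i := 6) (by decide) (f1424 H)) (step (H.back (i := 5) (by decide) (f372 H)) (step (H.back (i := 6) (by decide) (f387 H)) (step (H.back (i := 5) (by decide) (f1688 H)) (step (H.back (i := 1) (by decide) (f3125 H)) rfl)))))

theorem f3489 : g 5 • path g [9, 8, 2, 5, 6] p = path g [9, 2, 3, 2, 6] p :=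
  H.back (i := 0) (by decide) (f3488 H)

theorem f3490 : g 5 • path g [9, 2, 3, 2, 6] p = path g [9, 8, 2, 5, 6] p :=
  scan (u := [6]) (w := [6, 5, 1, 1, 5]) (i := 5) (r4_1_0 H) (step (f3482 H) rfl) (step (H.back (i := 1) (by decide) (f1428 H)) (step (H.back (i := 0) (by decide) (f1759 H)) (step (H.back (i := 6) (by decide) (f1187 H)) (step (H.back (i := 6) (by decide) (f1178 H)) (step (H.back (i := 0) (by decide) (f3119 H)) rfl)))))

theorem f3491 : g 0 • path g [9, 8, 2, 5, 6] p = path g [9, 2, 3, 2, 6] p :=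
  H.back (i := 5) (by decide) (f3490 H)

theorem f3492 : g 7 • path g [9, 2, 3, 1] p = path g [9, 2, 3, 2, 6] p :=
  scan (u := [7]) (w := []) (i := 7) (r2_1_0 H) (step (f3486 H) rfl) rfl

theorem f3493 : g 2 • path g [9, 2, 3, 2, 6] p = path g [9, 2, 3, 1] p :=
  H.back (i := 7) (by decide) (f3492 H)

theorem f3494 : g 8 • path g [9, 2, 3, 6] p = path g [9, 2, 3, 6, 8] p :=
  rfl

theorem f3495 : g 3 • path g [9, 2, 3, 6, 8] p = path g [9, 2, 3, 6] p :=
  H.back (i := 8) (by decide) (f3494 H)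

theorem f3496 : g 5 • path g [9, 2, 3, 6] p = path g [9, 2, 3, 6, 5] p :=
  rfl

theorem f3497 : g 0 • path g [9, 2, 3, 6, 5] p = path g [9, 2, 3, 6] p :=
  H.back (i := 5) (by decide) (f3496 H)

theorem f3498 : g 5 • path g [9, 2, 3, 6, 5] p = path g [9, 2, 3, 6] p :=
  scan (u := [5]) (w := []) (i := 5) (r0_1_0 H) (step (f3496 H) rfl) rfl

theorem f3499 : g 0 • path g [9, 2, 3, 6] p = path g [9, 2, 3, 6, 5] p :=
  H.back (i := 5) (by decide) (f3498 H)

theorem f3500 : g 6 • path g [9, 2, 5, 1, 3] p = path g [9, 2, 3, 6, 5] p :=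
  scan (u := [5, 7, 6, 5, 7, 5, 8, 2, 3]) (w := []) (i := 6) (r7_0_3 H) (step (f3498 H) (step (f3153 H) (step (f3127 H) (step (f3122 H) (step (f329 H) (step (f332 H) (step (f1792 H) (step (f1606 H) (step (f3420 H) rfl))))))))) rfl

theorem f3501 : g 1 • path g [9, 2, 3, 6, 5] p = path g [9, 2, 5, 1, 3] p :=
  H.back (i := 6) (by decide) (f3500 H)

theorem f3502 : g 3 • path g [9, 2, 3, 6] p = path g [9, 2, 3, 6, 3] p :=
  rfl

theorem f3504 : g 3 • path g [9, 2, 3, 6, 3] p = path g [9, 2, 3, 6, 8] p :=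
  scan (u := [3]) (w := [3]) (i := 3) (r6_0_0 H) (step (f3502 H) rfl) (step (H.back (i := 8) (by decide) (f3494 H)) rfl)

theorem f3505 : g 8 • path g [9, 2, 3, 6, 8] p = path g [9, 2, 3, 6, 3] p :=
  H.back (i := 3) (by decide) (f3504 H)

theorem f3506 : g 8 • path g [9, 2, 3, 1] p = path g [9, 2, 3, 1, 8] p :=
  rfl

theorem f3508 : g 5 • path g [9, 2, 3, 1] p = path g [9, 2, 3, 1, 5] p :=
  rfl

theorem f3509 : g 0 • path g [9, 2, 3, 1, 5] p = path g [9, 2, 3, 1] p :=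
  H.back (i := 5) (by decide) (f3508 H)

theorem f3510 : g 5 • path g [9, 2, 3, 1, 5] p = path g [9, 2, 3, 1] p :=
  scan (u := [5]) (w := []) (i := 5) (r0_1_0 H) (step (f3508 H) rfl) rfl

theorem f3511 : g 0 • path g [9, 2, 3, 1] p = path g [9, 2, 3, 1, 5] p :=
  H.back (i := 5) (by decide) (f3510 H)

theorem f3512 : g 6 • path g [9, 2, 3, 1, 5] p = path g [4, 2, 5, 8] p :=
  scan (u := [5]) (w := [5, 6, 5, 1, 1]) (i := 6) (r4_1_6 H) (step (f3508 H) rfl) (step (H.back (i := 0) (by decide) (f3431 H)) (step (H.back (i := 1) (by decide) (f3501 H)) (step (H.back (i := 0) (by decide) (f3499 H)) (step (H.back (i := 6) (by decide) (f536 H)) (step (H.back (i := 6) (by decide) (f539 H)) rfl)))))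

theorem f3513 : g 1 • path g [4, 2, 5, 8] p = path g [9, 2, 3, 1, 5] p :=
  H.back (i := 6) (by decide) (f3512 H)

theorem f3514 : g 3 • path g [9, 2, 3, 1] p = path g [9, 2, 3, 1, 3] p :=
  rfl

theorem f3515 : g 8 • path g [9, 2, 3, 1, 3] p = path g [9, 2, 3, 1] p :=
  H.back (i := 3) (by decide) (f3514 H)

theorem f3516 : g 3 • path g [9, 2, 3, 1, 3] p = path g [9, 2, 3, 1, 8] p :=
  scan (u := [3]) (w := [3]) (i := 3) (r6_0_0 H) (step (f3514 H) rfl) (step (H.back (i := 8) (by decide) (f3506 H)) rfl)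

theorem f3517 : g 8 • path g [9, 2, 3, 1, 8] p = path g [9, 2, 3, 1, 3] p :=
  H.back (i := 3) (by decide) (f3516 H)

theorem f3518 : g 2 • path g [9, 2, 4, 8] p = path g [9, 2, 4, 8, 2] p :=
  rfl

theorem f3519 : g 7 • path g [9, 2, 4, 8, 2] p = path g [9, 2, 4, 8] p :=
  H.back (i := 2) (by decide) (f3518 H)

theorem f3520 : g 2 • path g [9, 2, 4, 8, 2] p = path g [9, 2, 4, 8] p :=
  scan (u := [2]) (w := []) (i := 2) (r2_0_0 H) (step (f3518 H) rfl) rfl

theorem f3521 : g 7 • path g [9, 2, 4, 8] p = path g [9, 2, 4, 8, 2] p :=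
  H.back (i := 2) (by decide) (f3520 H)

theorem f3522 : g 5 • path g [9, 2, 4, 8] p = path g [9, 2, 4, 8, 5] p :=
  rfl

theorem f3523 : g 0 • path g [9, 2, 4, 8, 5] p = path g [9, 2, 4, 8] p :=
  H.back (i := 5) (by decide) (f3522 H)

theorem f3524 : g 5 • path g [9, 2, 4, 8, 5] p = path g [9, 2, 4, 8] p :=
  scan (u := [5]) (w := []) (i := 5) (r0_1_0 H) (step (f3522 H) rfl) rfl

theorem f3525 : g 0 • path g [9, 2, 4, 8] p = path g [9, 2, 4, 8, 5] p :=
  H.back (i := 5) (by decide) (f3524 H)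

theorem f3526 : g 9 • path g [9, 2, 4, 8, 5] p = path g [9, 2, 9, 3, 5] p :=
  scan (u := [5]) (w := [0, 4]) (i := 9) (r13_0_0 H) (step (f3522 H) rfl) (step (H.back (i := 5) (by decide) (f3029 H)) (step (H.back (i := 9) (by decide) (f546 H)) rfl))

theorem f3527 : g 4 • path g [9, 2, 9, 3, 5] p = path g [9, 2, 4, 8, 5] p :=
  H.back (i := 9) (by decide) (f3526 H)

theorem f3528 : g 6 • path g [9, 2, 4, 8] p = path g [9, 2, 4, 8, 6] p :=
  rfl

theorem f3529 : g 1 • path g [9, 2, 4, 8, 6] p = path g [9, 2, 4, 8] p :=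
  H.back (i := 6) (by decide) (f3528 H)

theorem f3530 : g 9 • path g [9, 2, 4, 8, 6] p = path g [9, 2, 9, 3, 6] p :=
  scan (u := [6]) (w := [1, 4]) (i := 9) (r14_0_2 H) (step (f3528 H) rfl) (step (H.back (i := 6) (by decide) (f3033 H)) (step (H.back (i := 9) (by decide) (f546 H)) rfl))

theorem f3531 : g 4 • path g [9, 2, 9, 3, 6] p = path g [9, 2, 4, 8, 6] p :=
  H.back (i := 9) (by decide) (f3530 H)

theorem f3532 : g 1 • path g [9, 2, 4, 8] p = path g [9, 2, 4, 8, 1] p :=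
  rfl

theorem f3533 : g 6 • path g [9, 2, 4, 8, 1] p = path g [9, 2, 4, 8] p :=
  H.back (i := 1) (by decide) (f3532 H)

theorem f3534 : g 1 • path g [9, 2, 4, 8, 1] p = path g [9, 2, 4, 8, 6] p :=
  scan (u := [1]) (w := [1]) (i := 1) (r1_0_0 H) (step (f3532 H) rfl) (step (H.back (i := 6) (by decide) (f3528 H)) rfl)

theorem f3536 : g 9 • path g [9, 2, 4, 8, 1] p = path g [9, 2, 9, 3, 1] p :=
  scan (u := [1]) (w := [6, 4]) (i := 9) (r14_1_1 H) (step (f3532 H) rfl) (step (H.back (i := 1) (by decide) (f3035 H)) (step (H.back (i := 9) (by decide) (f546 H)) rfl))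

theorem f3537 : g 4 • path g [9, 2, 9, 3, 1] p = path g [9, 2, 4, 8, 1] p :=
  H.back (i := 9) (by decide) (f3536 H)

theorem f3558 : g 9 • path g [9, 3, 9, 2] p = path g [9, 3, 9, 2, 9] p :=
  rfl

theorem f3559 : g 4 • path g [9, 3, 9, 2, 9] p = path g [9, 3, 9, 2] p :=
  H.back (i := 9) (by decide) (f3558 H)

theorem f3560 : g 6 • path g [9, 3, 9, 2, 9] p = path g [4, 2, 9, 5] p :=
  scan (u := [9]) (w := [4, 1]) (i := 6) (r14_1_2 H) (step (f3558 H) rfl) (step (H.back (i := 9) (by decide) (f1261 H)) (step (H.back (i := 6) (by decide) (f1531 H)) rfl))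

theorem f3561 : g 1 • path g [4, 2, 9, 5] p = path g [9, 3, 9, 2, 9] p :=
  H.back (i := 6) (by decide) (f3560 H)

theorem f3562 : g 8 • path g [9, 3, 9, 2] p = path g [9, 3, 9, 2, 8] p :=
  rfl

theorem f3563 : g 3 • path g [9, 3, 9, 2, 8] p = path g [9, 3, 9, 2] p :=
  H.back (i := 8) (by decide) (f3562 H)

theorem f3564 : g 8 • path g [9, 3, 9, 2, 8] p = path g [9, 8, 2, 8, 2] p :=
  scan (u := [8]) (w := [8]) (i := 8) (r6_1_0 H) (step (f3562 H) rfl) (step (H.back (i := 3) (by decide) (f3382 H)) rfl)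

theorem f3565 : g 3 • path g [9, 8, 2, 8, 2] p = path g [9, 3, 9, 2, 8] p :=
  H.back (i := 8) (by decide) (f3564 H)

theorem f3566 : g 2 • path g [9, 3, 9, 2, 8] p = path g [4, 2, 5, 8] p :=
  scan (u := [8]) (w := [3, 6, 5, 7, 6, 5, 7, 5]) (i := 2) (r7_0_9 H) (step (f3562 H) rfl) (step (H.back (i := 8) (by decide) (f1288 H)) (step (H.back (i := 1) (by decide) (f3217 H)) (step (H.back (i := 0) (by decide) (f3225 H)) (step (H.back (i := 2) (by decide) (f554 H)) (step (H.back (i := 1) (by decide) (f567 H)) (step (H.back (i := 0) (by decide) (f1512 H)) (step (H.back (i := 2) (by decide) (f3235 H)) (step (H.back (i := 0) (by decide) (f3225 H)) rfl))))))))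

theorem f3568 : g 7 • path g [9, 3, 9, 2, 8] p = path g [4, 2, 5, 8] p :=
  scan (u := [8]) (w := [3, 0, 2, 0, 1, 2, 0, 1]) (i := 7) (r7_1_8 H) (step (f3562 H) rfl) (step (H.back (i := 8) (by decide) (f1288 H)) (step (H.back (i := 5) (by decide) (f354 H)) (step (H.back (i := 7) (by decide) (f99 H)) (step (H.back (i := 5) (by decide) (f24 H)) (step (H.back (i := 6) (by decide) (f26 H)) (step (H.back (i := 7) (by decide) (f97 H)) (step (H.back (i := 5) (by decide) (f356 H)) (step (H.back (i := 6) (by decide) (f1531 H)) rfl))))))))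

theorem f3569 : g 2 • path g [4, 2, 5, 8] p = path g [9, 3, 9, 2, 8] p :=
  H.back (i := 7) (by decide) (f3568 H)

theorem f3570 : g 0 • path g [9, 3, 9, 2, 8] p = path g [4, 8, 5, 2] p :=
  scan (u := [8]) (w := [2, 0, 2, 3, 5, 6, 7, 5, 6]) (i := 0) (r8_0_9 H) (step (f3562 H) rfl) (step (H.back (i := 7) (by decide) (f1201 H)) (step (H.back (i := 5) (by decide) (f332 H)) (step (H.back (i := 7) (by decide) (f329 H)) (step (H.back (i := 8) (by decide) (f498 H)) (step (H.back (i := 0) (by decide) (f490 H)) (step (H.back (i := 1) (by decide) (f1603 H)) (step (H.back (i := 2) (by decide) (f556 H)) (step (H.back (i := 0) (by decide) (f3226 H)) (step (H.back (i := 1) (by decide) (f3222 H)) rfl)))))))))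

theorem f3571 : g 5 • path g [4, 8, 5, 2] p = path g [9, 3, 9, 2, 8] p :=
  H.back (i := 0) (by decide) (f3570 H)

theorem f3572 : g 0 • path g [4, 8, 5, 2] p = path g [9, 3, 9, 2, 8] p :=
  scan (u := [0]) (w := []) (i := 0) (r0_0_0 H) (step (f3570 H) rfl) rfl

theorem f3573 : g 5 • path g [9, 3, 9, 2, 8] p = path g [4, 8, 5, 2] p :=
  H.back (i := 0) (by decide) (f3572 H)

theorem f3574 : path g [4, 2, 5, 3] p = path g [4, 8, 5, 2] p :=
  close (u := [0, 2, 0, 2, 3, 5, 6, 7, 5, 6, 8]) (w := []) (r8_0_10 H) (step (f3572 H) (step (f3566 H) (step (f3429 H) (step (f3427 H) (step (f1171 H) (step (f3121 H) (step (f3482 H) (step (f3486 H) (step (f3508 H) (step (f3512 H) (step (f1293 H) rfl))))))))))) rfl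

theorem f3575 : g 8 • path g [4, 8, 5, 2] p = path g [4, 2, 5] p :=
  (congrArg (g 8 • ·) (f3574 H).symm).trans (f1291 H)

theorem f3577 : g 3 • path g [4, 2, 5] p = path g [4, 8, 5, 2] p :=
  H.back (i := 8) (by decide) (f3575 H)

theorem f3578 : g 3 • path g [4, 8, 5, 2] p = path g [4, 2, 5, 8] p :=
  (congrArg (g 3 • ·) (f3574 H).symm).trans (f1292 H)

theorem f3580 : g 8 • path g [4, 2, 5, 8] p = path g [4, 8, 5, 2] p :=
  H.back (i := 3) (by decide) (f3578 H)

theorem f3581 : g 4 • path g [9, 3, 9, 2] p = path g [9, 3, 9, 2, 4] p :=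
  rfl

theorem f3583 : g 4 • path g [9, 3, 9, 2, 4] p = path g [9, 3, 9, 2, 9] p :=
  scan (u := [4]) (w := [4]) (i := 4) (r10_0_0 H) (step (f3581 H) rfl) (step (H.back (i := 9) (by decide) (f3558 H)) rfl)

theorem f3585 : g 6 • path g [9, 3, 9, 2, 4] p = path g [4, 2, 5, 4] p :=
  scan (u := [4]) (w := [9, 1]) (i := 6) (r14_0_1 H) (step (f3581 H) rfl) (step (H.back (i := 4) (by decide) (f1304 H)) (step (H.back (i := 6) (by decide) (f1531 H)) rfl))

theorem f3586 : g 1 • path g [4, 2, 5, 4] p = path g [9, 3, 9, 2, 4] p :=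
  H.back (i := 6) (by decide) (f3585 H)

theorem f3587 : g 8 • path g [9, 3, 2, 9] p = path g [9, 3, 2, 9, 8] p :=
  rfl

theorem f3588 : g 3 • path g [9, 3, 2, 9, 8] p = path g [9, 3, 2, 9] p :=
  H.back (i := 8) (by decide) (f3587 H)

theorem f3589 : g 9 • path g [9, 3, 2, 9, 8] p = path g [9, 3, 2, 3] p :=
  scan (u := [8]) (w := [8, 9]) (i := 9) (r15_1_0 H) (step (f3587 H) rfl) (step (H.back (i := 3) (by decide) (f588 H)) (step (H.back (i := 4) (by decide) (f581 H)) rfl))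

theorem f3590 : g 4 • path g [9, 3, 2, 3] p = path g [9, 3, 2, 9, 8] p :=
  H.back (i := 9) (by decide) (f3589 H)

theorem f3591 : g 5 • path g [4, 2, 9, 8] p = path g [9, 3, 2, 9, 8] p :=
  scan (u := [9, 0, 4]) (w := []) (i := 5) (r13_0_1 H) (step (f3589 H) (step (f2166 H) (step (f1249 H) rfl))) rfl

theorem f3592 : g 0 • path g [9, 3, 2, 9, 8] p = path g [4, 2, 9, 8] p :=
  H.back (i := 5) (by decide) (f3591 H)

theorem f3593 : g 0 • path g [4, 2, 9, 8] p = path g [9, 3, 2, 9, 8] p :=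
  scan (u := [9, 5, 4]) (w := []) (i := 0) (r13_1_0 H) (step (f3589 H) (step (f2169 H) (step (f1249 H) rfl))) rfl

theorem f3594 : g 5 • path g [9, 3, 2, 9, 8] p = path g [4, 2, 9, 8] p :=
  H.back (i := 0) (by decide) (f3593 H)

theorem f3595 : g 2 • path g [9, 3, 2, 9] p = path g [9, 3, 2, 9, 2] p :=
  rfl

theorem f3597 : g 2 • path g [9, 3, 2, 9, 2] p = path g [9, 3, 2, 9] p :=
  scan (u := [2]) (w := []) (i := 2) (r2_0_0 H) (step (f3595 H) rfl) rfl

theorem f3598 : g 7 • path g [9, 3, 2, 9] p = path g [9, 3, 2, 9, 2] p :=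
  H.back (i := 2) (by decide) (f3597 H)

theorem f3599 : g 3 • path g [9, 3, 2, 9] p = path g [9, 3, 2, 9, 3] p :=
  rfl

theorem f3601 : g 3 • path g [9, 3, 2, 9, 3] p = path g [9, 3, 2, 9, 8] p :=
  scan (u := [3]) (w := [3]) (i := 3) (r6_0_0 H) (step (f3599 H) rfl) (step (H.back (i := 8) (by decide) (f3587 H)) rfl)

theorem f3603 : g 6 • path g [9, 3, 2, 9] p = path g [9, 3, 2, 9, 6] p :=
  rfl

theorem f3604 : g 1 • path g [9, 3, 2, 9, 6] p = path g [9, 3, 2, 9] p :=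
  H.back (i := 6) (by decide) (f3603 H)

theorem f3605 : g 4 • path g [9, 3, 2, 9, 6] p = path g [9, 3, 2, 6] p :=
  scan (u := [6]) (w := [1, 9]) (i := 4) (r14_1_3 H) (step (f3603 H) rfl) (step (H.back (i := 6) (by decide) (f592 H)) (step (H.back (i := 4) (by decide) (f581 H)) rfl))

theorem f3606 : g 9 • path g [9, 3, 2, 6] p = path g [9, 3, 2, 9, 6] p :=
  H.back (i := 4) (by decide) (f3605 H)

theorem f3607 : g 1 • path g [9, 3, 2, 9] p = path g [9, 3, 2, 9, 1] p :=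
  rfl

theorem f3608 : g 6 • path g [9, 3, 2, 9, 1] p = path g [9, 3, 2, 9] p :=
  H.back (i := 1) (by decide) (f3607 H)

theorem f3609 : g 1 • path g [9, 3, 2, 9, 1] p = path g [9, 3, 2, 9, 6] p :=
  scan (u := [1]) (w := [1]) (i := 1) (r1_0_0 H) (step (f3607 H) rfl) (step (H.back (i := 6) (by decide) (f3603 H)) rfl)

theorem f3610 : g 6 • path g [9, 3, 2, 9, 6] p = path g [9, 3, 2, 9, 1] p :=
  H.back (i := 1) (by decide) (f3609 H)

theorem f3611 : g 4 • path g [9, 3, 2, 9, 1] p = path g [9, 3, 2, 1] p :=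
  scan (u := [1]) (w := [6, 9]) (i := 4) (r14_0_0 H) (step (f3607 H) rfl) (step (H.back (i := 1) (by decide) (f598 H)) (step (H.back (i := 4) (by decide) (f581 H)) rfl))

theorem f3612 : g 9 • path g [9, 3, 2, 1] p = path g [9, 3, 2, 9, 1] p :=
  H.back (i := 4) (by decide) (f3611 H)

theorem f3613 : g 9 • path g [9, 3, 2, 3] p = path g [9, 3, 2, 3, 9] p :=
  rfl

theorem f3614 : g 4 • path g [9, 3, 2, 3, 9] p = path g [9, 3, 2, 3] p :=
  H.back (i := 9) (by decide) (f3613 H)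

theorem f3615 : g 9 • path g [9, 3, 2, 3, 9] p = path g [9, 3, 2, 9, 8] p :=
  scan (u := [9]) (w := [9]) (i := 9) (r10_1_0 H) (step (f3613 H) rfl) (step (H.back (i := 4) (by decide) (f3590 H)) rfl)

theorem f3616 : g 4 • path g [9, 3, 2, 9, 8] p = path g [9, 3, 2, 3, 9] p :=
  H.back (i := 9) (by decide) (f3615 H)

theorem f3617 : g 0 • path g [9, 3, 2, 3, 9] p = path g [4, 2, 3, 9] p :=
  scan (u := [9]) (w := [4, 5]) (i := 0) (r13_0_1 H) (step (f3613 H) rfl) (step (H.back (i := 9) (by decide) (f1312 H)) (step (H.back (i := 0) (by decide) (f2166 H)) rfl))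

theorem f3618 : g 5 • path g [4, 2, 3, 9] p = path g [9, 3, 2, 3, 9] p :=
  H.back (i := 0) (by decide) (f3617 H)

theorem f3619 : g 5 • path g [9, 3, 2, 3, 9] p = path g [4, 2, 3, 9] p :=
  scan (u := [9]) (w := [4, 0]) (i := 5) (r13_1_0 H) (step (f3613 H) rfl) (step (H.back (i := 9) (by decide) (f1312 H)) (step (H.back (i := 5) (by decide) (f2169 H)) rfl))

theorem f3620 : g 0 • path g [4, 2, 3, 9] p = path g [9, 3, 2, 3, 9] p :=
  H.back (i := 5) (by decide) (f3619 H)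

theorem f3621 : g 8 • path g [9, 3, 2, 3, 9] p = path g [9, 2, 5, 6, 4] p :=
  scan (u := [9]) (w := [9, 8]) (i := 8) (r15_1_1 H) (step (f3613 H) rfl) (step (H.back (i := 4) (by decide) (f3414 H)) (step (H.back (i := 3) (by decide) (f1417 H)) rfl))

theorem f3622 : g 3 • path g [9, 2, 5, 6, 4] p = path g [9, 3, 2, 3, 9] p :=
  H.back (i := 8) (by decide) (f3621 H)

theorem f3623 : g 6 • path g [9, 3, 2, 3] p = path g [9, 3, 2, 3, 6] p :=
  rfl

theorem f3624 : g 1 • path g [9, 3, 2, 3, 6] p = path g [9, 3, 2, 3] p :=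
  H.back (i := 6) (by decide) (f3623 H)

theorem f3625 : g 7 • path g [9, 3, 2, 3, 6] p = path g [4, 2, 8, 1] p :=
  scan (u := [6]) (w := [6, 7]) (i := 7) (r3_1_1 H) (step (f3623 H) rfl) (step (H.back (i := 1) (by decide) (f1280 H)) (step (H.back (i := 2) (by decide) (f1467 H)) rfl))

theorem f3626 : g 2 • path g [4, 2, 8, 1] p = path g [9, 3, 2, 3, 6] p :=
  H.back (i := 7) (by decide) (f3625 H)

theorem f3627 : g 5 • path g [9, 3, 2, 3, 6] p = path g [9, 2, 5, 8, 6] p :=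
  scan (u := [6]) (w := [6, 5, 1, 1, 5]) (i := 5) (r4_1_0 H) (step (f3623 H) rfl) (step (H.back (i := 1) (by decide) (f3352 H)) (step (H.back (i := 0) (by decide) (f3359 H)) (step (H.back (i := 6) (by decide) (f1339 H)) (step (H.back (i := 6) (by decide) (f1334 H)) (step (H.back (i := 0) (by decide) (f2166 H)) rfl)))))

theorem f3629 : g 5 • path g [9, 2, 5, 8, 6] p = path g [9, 3, 2, 3, 6] p :=
  scan (u := [5]) (w := []) (i := 5) (r0_1_0 H) (step (f3627 H) rfl) rfl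

theorem f3630 : g 0 • path g [9, 3, 2, 3, 6] p = path g [9, 2, 5, 8, 6] p :=
  H.back (i := 5) (by decide) (f3629 H)

theorem f3631 : g 7 • path g [4, 2, 8, 1] p = path g [9, 3, 2, 3, 6] p :=
  scan (u := [7]) (w := []) (i := 7) (r2_1_0 H) (step (f3625 H) rfl) rfl

theorem f3632 : g 2 • path g [9, 3, 2, 3, 6] p = path g [4, 2, 8, 1] p :=
  H.back (i := 7) (by decide) (f3631 H)

theorem f3633 : g 1 • path g [9, 3, 2, 3] p = path g [9, 3, 2, 3, 1] p :=
  rfl

theorem f3634 : g 6 • path g [9, 3, 2, 3, 1] p = path g [9, 3, 2, 3] p :=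
  H.back (i := 1) (by decide) (f3633 H)

theorem f3635 : g 1 • path g [9, 3, 2, 3, 1] p = path g [9, 3, 2, 3, 6] p :=
  scan (u := [1]) (w := [1]) (i := 1) (r1_0_0 H) (step (f3633 H) rfl) (step (H.back (i := 6) (by decide) (f3623 H)) rfl)

theorem f3636 : g 6 • path g [9, 3, 2, 3, 6] p = path g [9, 3, 2, 3, 1] p :=
  H.back (i := 1) (by decide) (f3635 H)

theorem f3637 : g 2 • path g [9, 3, 2, 3, 1] p = path g [4, 2, 8, 6] p :=
  scan (u := [1]) (w := [1, 2]) (i := 2) (r3_0_0 H) (step (f3633 H) rfl) (step (H.back (i := 6) (by decide) (f1278 H)) (step (H.back (i := 7) (by decide) (f1464 H)) rfl))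

theorem f3639 : g 2 • path g [4, 2, 8, 6] p = path g [9, 3, 2, 3, 1] p :=
  scan (u := [2]) (w := []) (i := 2) (r2_0_0 H) (step (f3637 H) rfl) rfl

theorem f3640 : g 7 • path g [9, 3, 2, 3, 1] p = path g [4, 2, 8, 6] p :=
  H.back (i := 2) (by decide) (f3639 H)

theorem f3641 : g 8 • path g [9, 3, 2, 6] p = path g [9, 3, 2, 6, 8] p :=
  rfl

theorem f3642 : g 3 • path g [9, 3, 2, 6, 8] p = path g [9, 3, 2, 6] p :=
  H.back (i := 8) (by decide) (f3641 H)

theorem f3643 : g 3 • path g [9, 3, 2, 6] p = path g [9, 3, 2, 6, 3] p :=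
  rfl

theorem f3644 : g 8 • path g [9, 3, 2, 6, 3] p = path g [9, 3, 2, 6] p :=
  H.back (i := 3) (by decide) (f3643 H)

theorem f3645 : g 3 • path g [9, 3, 2, 6, 3] p = path g [9, 3, 2, 6, 8] p :=
  scan (u := [3]) (w := [3]) (i := 3) (r6_0_0 H) (step (f3643 H) rfl) (step (H.back (i := 8) (by decide) (f3641 H)) rfl)

theorem f3646 : g 8 • path g [9, 3, 2, 6, 8] p = path g [9, 3, 2, 6, 3] p :=
  H.back (i := 3) (by decide) (f3645 H)

theorem f3647 : g 4 • path g [9, 3, 2, 6] p = path g [9, 3, 2, 6, 4] p :=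
  rfl

theorem f3648 : g 9 • path g [9, 3, 2, 6, 4] p = path g [9, 3, 2, 6] p :=
  H.back (i := 4) (by decide) (f3647 H)

theorem f3649 : g 4 • path g [9, 3, 2, 6, 4] p = path g [9, 3, 2, 9, 6] p :=
  scan (u := [4]) (w := [4]) (i := 4) (r10_0_0 H) (step (f3647 H) rfl) (step (H.back (i := 9) (by decide) (f3606 H)) rfl)

theorem f3651 : g 1 • path g [9, 3, 2, 6, 4] p = path g [9, 3, 2, 4] p :=
  scan (u := [4]) (w := [9, 6]) (i := 1) (r14_1_0 H) (step (f3647 H) rfl) (step (H.back (i := 4) (by decide) (f606 H)) (step (H.back (i := 1) (by decide) (f593 H)) rfl))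

theorem f3652 : g 6 • path g [9, 3, 2, 4] p = path g [9, 3, 2, 6, 4] p :=
  H.back (i := 1) (by decide) (f3651 H)

theorem f3653 : g 8 • path g [9, 3, 2, 1] p = path g [9, 3, 2, 1, 8] p :=
  rfl

theorem f3654 : g 3 • path g [9, 3, 2, 1, 8] p = path g [9, 3, 2, 1] p :=
  H.back (i := 8) (by decide) (f3653 H)

theorem f3655 : g 5 • path g [9, 3, 2, 1] p = path g [9, 3, 2, 1, 5] p :=
  rfl

theorem f3656 : g 0 • path g [9, 3, 2, 1, 5] p = path g [9, 3, 2, 1] p :=
  H.back (i := 5) (by decide) (f3655 H)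

theorem f3657 : g 5 • path g [9, 3, 2, 1, 5] p = path g [9, 3, 2, 1] p :=
  scan (u := [5]) (w := []) (i := 5) (r0_1_0 H) (step (f3655 H) rfl) rfl

theorem f3658 : g 0 • path g [9, 3, 2, 1] p = path g [9, 3, 2, 1, 5] p :=
  H.back (i := 5) (by decide) (f3657 H)

theorem f3659 : g 6 • path g [9, 3, 2, 1, 5] p = path g [8, 4, 2, 5] p :=
  scan (u := [5]) (w := [5, 1, 1, 5, 6]) (i := 6) (r4_1_1 H) (step (f3655 H) rfl) (step (H.back (i := 0) (by decide) (f935 H)) (step (H.back (i := 6) (by decide) (f867 H)) (step (H.back (i := 6) (by decide) (f927 H)) (step (H.back (i := 0) (by decide) (f2521 H)) (step (H.back (i := 1) (by decide) (f600 H)) rfl)))))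

theorem f3660 : g 1 • path g [8, 4, 2, 5] p = path g [9, 3, 2, 1, 5] p :=
  H.back (i := 6) (by decide) (f3659 H)

theorem f3661 : g 1 • path g [9, 3, 2, 1, 5] p = path g [9, 2, 8, 6, 5] p :=
  scan (u := [5]) (w := [1, 5, 6, 5, 6]) (i := 1) (r4_1_3 H) (step (f3655 H) rfl) (step (H.back (i := 6) (by decide) (f3303 H)) (step (H.back (i := 0) (by decide) (f935 H)) (step (H.back (i := 1) (by decide) (f924 H)) (step (H.back (i := 0) (by decide) (f2521 H)) (step (H.back (i := 1) (by decide) (f600 H)) rfl)))))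

theorem f3662 : g 6 • path g [9, 2, 8, 6, 5] p = path g [9, 3, 2, 1, 5] p :=
  H.back (i := 1) (by decide) (f3661 H)

theorem f3663 : g 2 • path g [9, 2, 5, 8, 6] p = path g [9, 3, 2, 1, 5] p :=
  scan (u := [1, 2, 1]) (w := []) (i := 2) (r3_0_0 H) (step (f3661 H) (step (f3396 H) (step (f3352 H) rfl))) rfl

theorem f3664 : g 7 • path g [9, 3, 2, 1, 5] p = path g [9, 2, 5, 8, 6] p :=
  H.back (i := 2) (by decide) (f3663 H)

theorem f3665 : g 2 • path g [9, 3, 2, 1, 5] p = path g [9, 2, 5, 8, 6] p :=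
  scan (u := [2]) (w := []) (i := 2) (r2_0_0 H) (step (f3663 H) rfl) rfl

theorem f3666 : g 7 • path g [9, 2, 5, 8, 6] p = path g [9, 3, 2, 1, 5] p :=
  H.back (i := 2) (by decide) (f3665 H)

theorem f3667 : g 3 • path g [9, 3, 2, 1] p = path g [9, 3, 2, 1, 3] p :=
  rfl

theorem f3669 : g 3 • path g [9, 3, 2, 1, 3] p = path g [9, 3, 2, 1, 8] p :=
  scan (u := [3]) (w := [3]) (i := 3) (r6_0_0 H) (step (f3667 H) rfl) (step (H.back (i := 8) (by decide) (f3653 H)) rfl)

theorem f3670 : g 8 • path g [9, 3, 2, 1, 8] p = path g [9, 3, 2, 1, 3] p :=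
  H.back (i := 3) (by decide) (f3669 H)

theorem f3671 : g 4 • path g [9, 3, 2, 1] p = path g [9, 3, 2, 1, 4] p :=
  rfl

theorem f3673 : g 4 • path g [9, 3, 2, 1, 4] p = path g [9, 3, 2, 9, 1] p :=
  scan (u := [4]) (w := [4]) (i := 4) (r10_0_0 H) (step (f3671 H) rfl) (step (H.back (i := 9) (by decide) (f3612 H)) rfl)

theorem f3674 : g 9 • path g [9, 3, 2, 9, 1] p = path g [9, 3, 2, 1, 4] p :=
  H.back (i := 4) (by decide) (f3673 H)

theorem f3675 : g 6 • path g [9, 3, 2, 1, 4] p = path g [9, 3, 2, 4] p :=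
  scan (u := [4]) (w := [9, 1]) (i := 6) (r14_0_1 H) (step (f3671 H) rfl) (step (H.back (i := 4) (by decide) (f606 H)) (step (H.back (i := 6) (by decide) (f599 H)) rfl))

theorem f3676 : g 1 • path g [9, 3, 2, 4] p = path g [9, 3, 2, 1, 4] p :=
  H.back (i := 6) (by decide) (f3675 H)

theorem f3677 : g 1 • path g [9, 3, 2, 1, 4] p = path g [9, 3, 2, 6, 4] p :=
  scan (u := [4]) (w := [9, 6]) (i := 1) (r14_1_0 H) (step (f3671 H) rfl) (step (H.back (i := 4) (by decide) (f3647 H)) (step (H.back (i := 1) (by decide) (f600 H)) rfl))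

theorem f3678 : g 6 • path g [9, 3, 2, 6, 4] p = path g [9, 3, 2, 1, 4] p :=
  H.back (i := 1) (by decide) (f3677 H)

theorem f3679 : g 8 • path g [9, 3, 2, 4] p = path g [9, 3, 2, 4, 8] p :=
  rfl

theorem f3680 : g 3 • path g [9, 3, 2, 4, 8] p = path g [9, 3, 2, 4] p :=
  H.back (i := 8) (by decide) (f3679 H)

theorem f3681 : g 8 • path g [9, 3, 2, 4, 8] p = path g [9, 2, 9, 5, 6] p :=
  scan (u := [8]) (w := [8]) (i := 8) (r6_1_0 H) (step (f3679 H) rfl) (step (H.back (i := 3) (by decide) (f3005 H)) rfl)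

theorem f3682 : g 3 • path g [9, 2, 9, 5, 6] p = path g [9, 3, 2, 4, 8] p :=
  H.back (i := 8) (by decide) (f3681 H)

theorem f3683 : g 9 • path g [9, 3, 2, 4, 8] p = path g [9, 3, 2, 9, 3] p :=
  scan (u := [8]) (w := [8, 9]) (i := 9) (r15_1_0 H) (step (f3679 H) rfl) (step (H.back (i := 3) (by decide) (f3599 H)) (step (H.back (i := 4) (by decide) (f608 H)) rfl))

theorem f3684 : g 4 • path g [9, 3, 2, 9, 3] p = path g [9, 3, 2, 4, 8] p :=
  H.back (i := 9) (by decide) (f3683 H)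

theorem f3685 : g 2 • path g [9, 3, 2, 4] p = path g [9, 3, 2, 4, 2] p :=
  rfl

theorem f3686 : g 7 • path g [9, 3, 2, 4, 2] p = path g [9, 3, 2, 4] p :=
  H.back (i := 2) (by decide) (f3685 H)

theorem f3687 : g 2 • path g [9, 3, 2, 4, 2] p = path g [9, 3, 2, 4] p :=
  scan (u := [2]) (w := []) (i := 2) (r2_0_0 H) (step (f3685 H) rfl) rfl

theorem f3688 : g 7 • path g [9, 3, 2, 4] p = path g [9, 3, 2, 4, 2] p :=
  H.back (i := 2) (by decide) (f3687 H)

theorem f3689 : g 9 • path g [9, 3, 5, 2] p = path g [9, 3, 5, 2, 9] p :=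
  rfl

theorem f3690 : g 4 • path g [9, 3, 5, 2, 9] p = path g [9, 3, 5, 2] p :=
  H.back (i := 9) (by decide) (f3689 H)

theorem f3691 : g 8 • path g [9, 3, 5, 2, 9] p = path g [9, 3, 5, 6] p :=
  scan (u := [9]) (w := [9, 8]) (i := 8) (r15_1_1 H) (step (f3689 H) rfl) (step (H.back (i := 4) (by decide) (f2856 H)) (step (H.back (i := 3) (by decide) (f3199 H)) rfl))

theorem f3692 : g 3 • path g [9, 3, 5, 6] p = path g [9, 3, 5, 2, 9] p :=
  H.back (i := 8) (by decide) (f3691 H)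

theorem f3693 : g 6 • path g [9, 3, 5, 2] p = path g [9, 3, 5, 2, 6] p :=
  rfl

theorem f3694 : g 1 • path g [9, 3, 5, 2, 6] p = path g [9, 3, 5, 2] p :=
  H.back (i := 6) (by decide) (f3693 H)

theorem f3695 : g 7 • path g [9, 3, 5, 2, 6] p = path g [9, 3, 5, 1] p :=
  scan (u := [6]) (w := [6, 7]) (i := 7) (r3_1_1 H) (step (f3693 H) rfl) (step (H.back (i := 1) (by decide) (f622 H)) (step (H.back (i := 2) (by decide) (f614 H)) rfl))

theorem f3696 : g 2 • path g [9, 3, 5, 1] p = path g [9, 3, 5, 2, 6] p :=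
  H.back (i := 7) (by decide) (f3695 H)

theorem f3697 : g 5 • path g [9, 3, 5, 2, 6] p = path g [3, 9, 2, 6] p :=
  scan (u := [6]) (w := [7, 6, 5, 7, 5, 8, 2, 3]) (i := 5) (r7_0_2 H) (step (f3693 H) rfl) (step (H.back (i := 2) (by decide) (f959 H)) (step (H.back (i := 1) (by decide) (f280 H)) (step (H.back (i := 0) (by decide) (f2854 H)) (step (H.back (i := 2) (by decide) (f166 H)) (step (H.back (i := 0) (by decide) (f2853 H)) (step (H.back (i := 3) (by decide) (f360 H)) (step (H.back (i := 7) (by decide) (f2838 H)) (step (H.back (i := 8) (by decide) (f3196 H)) rfl))))))))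

theorem f3698 : g 0 • path g [3, 9, 2, 6] p = path g [9, 3, 5, 2, 6] p :=
  H.back (i := 5) (by decide) (f3697 H)

theorem f3699 : g 2 • path g [8, 9, 1, 8] p = path g [9, 3, 1, 8] p :=
  scan (u := [6, 5, 7, 5, 8]) (w := [3, 6, 5, 7]) (i := 2) (r7_0_5 H) (step (f3693 H) (step (f3697 H) (step (f958 H) (step (f2076 H) (step (f712 H) rfl))))) (step (H.back (i := 8) (by decide) (f636 H)) (step (H.back (i := 1) (by decide) (f160 H)) (step (H.back (i := 0) (by decide) (f155 H)) (step (H.back (i := 2) (by decide) (f614 H)) rfl))))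

theorem f3701 : g 2 • path g [9, 3, 1, 8] p = path g [8, 9, 1, 8] p :=
  scan (u := [2]) (w := []) (i := 2) (r2_0_0 H) (step (f3699 H) rfl) rfl

theorem f3702 : g 7 • path g [8, 9, 1, 8] p = path g [9, 3, 1, 8] p :=
  H.back (i := 2) (by decide) (f3701 H)

theorem f3703 : g 5 • path g [3, 9, 2, 6] p = path g [9, 3, 5, 2, 6] p :=
  scan (u := [2, 3, 6, 5, 7, 6]) (w := [7, 5, 8]) (i := 5) (r7_0_0 H) (step (f3701 H) (step (f713 H) (step (f181 H) (step (f2840 H) (step (f263 H) (step (f956 H) rfl)))))) (step (H.back (i := 2) (by decide) (f3696 H)) (step (H.back (i := 0) (by decide) (f1619 H)) (step (H.back (i := 3) (by decide) (f637 H)) rfl)))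

theorem f3704 : g 0 • path g [9, 3, 5, 2, 6] p = path g [3, 9, 2, 6] p :=
  H.back (i := 5) (by decide) (f3703 H)

theorem f3705 : g 7 • path g [9, 3, 5, 1] p = path g [9, 3, 5, 2, 6] p :=
  scan (u := [5, 7, 1, 5, 6]) (w := [5, 6, 7, 5, 7, 1]) (i := 7) (r5_1_11 H) (step (f3703 H) (step (f3695 H) (step (f624 H) (step (f1637 H) (step (f625 H) rfl))))) (step (H.back (i := 0) (by decide) (f3698 H)) (step (H.back (i := 1) (by decide) (f964 H)) (step (H.back (i := 2) (by decide) (f968 H)) (step (H.back (i := 0) (by decide) (f278 H)) (step (H.back (i := 2) (by decide) (f966 H)) (step (H.back (i := 6) (by decide) (f965 H)) rfl))))))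

theorem f3706 : g 2 • path g [9, 3, 5, 2, 6] p = path g [9, 3, 5, 1] p :=
  H.back (i := 7) (by decide) (f3705 H)

theorem f3707 : g 1 • path g [9, 3, 5, 2] p = path g [9, 3, 5, 2, 1] p :=
  rfl

theorem f3708 : g 6 • path g [9, 3, 5, 2, 1] p = path g [9, 3, 5, 2] p :=
  H.back (i := 1) (by decide) (f3707 H)

theorem f3709 : g 1 • path g [9, 3, 5, 2, 1] p = path g [9, 3, 5, 2, 6] p :=
  scan (u := [1]) (w := [1]) (i := 1) (r1_0_0 H) (step (f3707 H) rfl) (step (H.back (i := 6) (by decide) (f3693 H)) rfl)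

theorem f3710 : g 6 • path g [9, 3, 5, 2, 6] p = path g [9, 3, 5, 2, 1] p :=
  H.back (i := 1) (by decide) (f3709 H)

theorem f3711 : g 2 • path g [9, 3, 5, 2, 1] p = path g [9, 3, 5, 6] p :=
  scan (u := [1]) (w := [1, 2]) (i := 2) (r3_0_0 H) (step (f3707 H) rfl) (step (H.back (i := 6) (by decide) (f620 H)) (step (H.back (i := 7) (by decide) (f613 H)) rfl))

theorem f3712 : g 7 • path g [9, 3, 5, 6] p = path g [9, 3, 5, 2, 1] p :=
  H.back (i := 2) (by decide) (f3711 H)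

theorem f3713 : g 5 • path g [9, 3, 5, 2, 1] p = path g [9, 8, 2, 8, 1] p :=
  scan (u := [1]) (w := [6, 5, 6, 5, 1]) (i := 5) (r4_1_5 H) (step (f3707 H) rfl) (step (H.back (i := 1) (by decide) (f1394 H)) (step (H.back (i := 0) (by decide) (f3390 H)) (step (H.back (i := 1) (by decide) (f957 H)) (step (H.back (i := 0) (by decide) (f3704 H)) (step (H.back (i := 6) (by decide) (f3693 H)) rfl)))))

theorem f3714 : g 0 • path g [9, 8, 2, 8, 1] p = path g [9, 3, 5, 2, 1] p :=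
  H.back (i := 5) (by decide) (f3713 H)

theorem f3715 : g 0 • path g [9, 3, 5, 2, 1] p = path g [9, 8, 2, 8, 1] p :=
  scan (u := [1]) (w := [6, 2, 0, 6, 2, 0, 2, 1, 0, 2]) (i := 0) (r5_0_8 H) (step (f3707 H) rfl) (step (H.back (i := 1) (by decide) (f1394 H)) (step (H.back (i := 7) (by decide) (f1385 H)) (step (H.back (i := 5) (by decide) (f3376 H)) (step (H.back (i := 1) (by decide) (f3349 H)) (step (H.back (i := 7) (by decide) (f3664 H)) (step (H.back (i := 5) (by decide) (f3655 H)) (step (H.back (i := 7) (by decide) (f603 H)) (step (H.back (i := 6) (by decide) (f158 H)) (step (H.back (i := 5) (by decide) (f156 H)) (step (H.back (i := 7) (by decide) (f613 H)) rfl))))))))))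

theorem f3716 : g 5 • path g [9, 8, 2, 8, 1] p = path g [9, 3, 5, 2, 1] p :=
  H.back (i := 0) (by decide) (f3715 H)

theorem f3717 : g 2 • path g [9, 3, 5, 6] p = path g [9, 3, 5, 2, 1] p :=
  scan (u := [0, 6, 2, 0, 2, 1, 0, 2, 1, 0, 6]) (w := []) (i := 2) (r5_0_0 H) (step (f3715 H) (step (f1395 H) (step (f1384 H) (step (f3374 H) (step (f2565 H) (step (f3660 H) (step (f3656 H) (step (f602 H) (step (f159 H) (step (f157 H) (step (f620 H) rfl))))))))))) rfl

theorem f3718 : g 7 • path g [9, 3, 5, 2, 1] p = path g [9, 3, 5, 6] p :=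
  H.back (i := 2) (by decide) (f3717 H)

theorem f3719 : g 4 • path g [9, 3, 5, 2] p = path g [9, 3, 5, 2, 4] p :=
  rfl

theorem f3720 : g 9 • path g [9, 3, 5, 2, 4] p = path g [9, 3, 5, 2] p :=
  H.back (i := 4) (by decide) (f3719 H)

theorem f3721 : g 4 • path g [9, 3, 5, 2, 4] p = path g [9, 3, 5, 2, 9] p :=
  scan (u := [4]) (w := [4]) (i := 4) (r10_0_0 H) (step (f3719 H) rfl) (step (H.back (i := 9) (by decide) (f3689 H)) rfl)

theorem f3723 : g 3 • path g [9, 3, 5, 2, 4] p = path g [9, 8, 2, 9, 5] p :=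
  scan (u := [4]) (w := [4, 3]) (i := 3) (r15_0_0 H) (step (f3719 H) rfl) (step (H.back (i := 9) (by decide) (f1365 H)) (step (H.back (i := 8) (by decide) (f3196 H)) rfl))

theorem f3724 : g 8 • path g [9, 8, 2, 9, 5] p = path g [9, 3, 5, 2, 4] p :=
  H.back (i := 3) (by decide) (f3723 H)

theorem f3725 : g 8 • path g [9, 3, 5, 6] p = path g [9, 3, 5, 6, 8] p :=
  rfl

theorem f3727 : g 8 • path g [9, 3, 5, 6, 8] p = path g [9, 3, 5, 2, 9] p :=
  scan (u := [8]) (w := [8]) (i := 8) (r6_1_0 H) (step (f3725 H) rfl) (step (H.back (i := 3) (by decide) (f3692 H)) rfl)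

theorem f3728 : g 3 • path g [9, 3, 5, 2, 9] p = path g [9, 3, 5, 6, 8] p :=
  H.back (i := 8) (by decide) (f3727 H)

theorem f3729 : g 2 • path g [9, 3, 6, 8] p = path g [9, 3, 6, 8, 2] p :=
  rfl

theorem f3731 : g 2 • path g [9, 3, 6, 8, 2] p = path g [9, 3, 6, 8] p :=
  scan (u := [2]) (w := []) (i := 2) (r2_0_0 H) (step (f3729 H) rfl) rfl

theorem f3732 : g 7 • path g [9, 3, 6, 8] p = path g [9, 3, 6, 8, 2] p :=
  H.back (i := 2) (by decide) (f3731 H)

theorem f3733 : g 3 • path g [9, 3, 6, 8, 2] p = path g [4, 2, 3, 6] p :=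
  scan (u := [2]) (w := [6, 5, 7, 6, 5, 7, 5, 8]) (i := 3) (r7_0_0 H) (step (f3729 H) rfl) (step (H.back (i := 1) (by decide) (f1338 H)) (step (H.back (i := 0) (by decide) (f3356 H)) (step (H.back (i := 2) (by decide) (f3396 H)) (step (H.back (i := 1) (by decide) (f3661 H)) (step (H.back (i := 0) (by decide) (f3658 H)) (step (H.back (i := 2) (by decide) (f604 H)) (step (H.back (i := 0) (by decide) (f1649 H)) (step (H.back (i := 3) (by decide) (f627 H)) rfl))))))))

theorem f3734 : g 8 • path g [4, 2, 3, 6] p = path g [9, 3, 6, 8, 2] p :=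
  H.back (i := 3) (by decide) (f3733 H)

theorem f3735 : g 5 • path g [9, 3, 6, 8] p = path g [9, 3, 6, 8, 5] p :=
  rfl

theorem f3736 : g 0 • path g [9, 3, 6, 8, 5] p = path g [9, 3, 6, 8] p :=
  H.back (i := 5) (by decide) (f3735 H)

theorem f3737 : g 5 • path g [9, 3, 6, 8, 5] p = path g [9, 3, 6, 8] p :=
  scan (u := [5]) (w := []) (i := 5) (r0_1_0 H) (step (f3735 H) rfl) rfl

theorem f3739 : g 6 • path g [9, 3, 6, 8] p = path g [9, 3, 6, 8, 6] p :=
  rfl

theorem f3740 : g 1 • path g [9, 3, 6, 8, 6] p = path g [9, 3, 6, 8] p :=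
  H.back (i := 6) (by decide) (f3739 H)

theorem f3741 : g 1 • path g [9, 3, 6, 8] p = path g [9, 3, 6, 8, 1] p :=
  rfl

theorem f3742 : g 6 • path g [9, 3, 6, 8, 1] p = path g [9, 3, 6, 8] p :=
  H.back (i := 1) (by decide) (f3741 H)

theorem f3743 : g 1 • path g [9, 3, 6, 8, 1] p = path g [9, 3, 6, 8, 6] p :=
  scan (u := [1]) (w := [1]) (i := 1) (r1_0_0 H) (step (f3741 H) rfl) (step (H.back (i := 6) (by decide) (f3739 H)) rfl)

theorem f3744 : g 6 • path g [9, 3, 6, 8, 6] p = path g [9, 3, 6, 8, 1] p :=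
  H.back (i := 1) (by decide) (f3743 H)

theorem f3745 : g 4 • path g [9, 3, 6, 8] p = path g [9, 3, 6, 8, 4] p :=
  rfl

theorem f3746 : g 9 • path g [9, 3, 6, 8, 4] p = path g [9, 3, 6, 8] p :=
  H.back (i := 4) (by decide) (f3745 H)

theorem f3747 : g 4 • path g [9, 3, 6, 8, 4] p = path g [4, 8, 6, 3] p :=
  scan (u := [4]) (w := [4]) (i := 4) (r10_0_0 H) (step (f3745 H) rfl) (step (H.back (i := 9) (by decide) (f1231 H)) rfl)

theorem f3749 : g 3 • path g [9, 3, 6, 8, 4] p = path g [3, 9, 2, 4] p :=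
  scan (u := [4]) (w := [4, 3]) (i := 3) (r15_0_0 H) (step (f3745 H) rfl) (step (H.back (i := 9) (by decide) (f1664 H)) (step (H.back (i := 8) (by decide) (f635 H)) rfl))

theorem f3750 : g 8 • path g [3, 9, 2, 4] p = path g [9, 3, 6, 8, 4] p :=
  H.back (i := 3) (by decide) (f3749 H)

theorem f3751 : g 3 • path g [9, 2, 3, 2, 9] p = path g [9, 3, 6, 8, 4] p :=
  scan (u := [3, 3]) (w := []) (i := 3) (r6_0_0 H) (step (f3749 H) (step (f3481 H) rfl)) rfl

theorem f3753 : g 2 • path g [9, 3, 6, 3] p = path g [9, 3, 6, 3, 2] p :=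
  rfl

theorem f3755 : g 2 • path g [9, 3, 6, 3, 2] p = path g [9, 3, 6, 3] p :=
  scan (u := [2]) (w := []) (i := 2) (r2_0_0 H) (step (f3753 H) rfl) rfl

theorem f3757 : g 5 • path g [9, 3, 6, 3] p = path g [9, 3, 6, 3, 5] p :=
  rfl

theorem f3758 : g 0 • path g [9, 3, 6, 3, 5] p = path g [9, 3, 6, 3] p :=
  H.back (i := 5) (by decide) (f3757 H)

theorem f3759 : g 5 • path g [9, 3, 6, 3, 5] p = path g [9, 3, 6, 3] p :=
  scan (u := [5]) (w := []) (i := 5) (r0_1_0 H) (step (f3757 H) rfl) rfl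

theorem f3761 : path g [9, 3, 6, 3, 5] p = path g [9, 8, 2, 8, 9] p :=
  close (u := [5]) (w := [4, 0, 9]) (r13_1_1 H) (step (f3757 H) rfl) (step (H.back (i := 9) (by decide) (f1380 H)) (step (H.back (i := 5) (by decide) (f3393 H)) (step (H.back (i := 4) (by decide) (f1661 H)) rfl)))

theorem f3762 : g 0 • path g [9, 8, 2, 8, 9] p = path g [9, 3, 6, 3] p :=
  (congrArg (g 0 • ·) (f3761 H).symm).trans (f3758 H)

theorem f3764 : g 5 • path g [9, 3, 6, 3] p = path g [9, 8, 2, 8, 9] p :=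
  H.back (i := 0) (by decide) (f3762 H)

theorem f3765 : g 5 • path g [9, 8, 2, 8, 9] p = path g [9, 3, 6, 3] p :=
  (congrArg (g 5 • ·) (f3761 H).symm).trans (f3759 H)

theorem f3767 : g 0 • path g [9, 3, 6, 3] p = path g [9, 8, 2, 8, 9] p :=
  H.back (i := 5) (by decide) (f3765 H)

theorem f3768 : g 5 • path g [3, 9, 2, 4] p = path g [4, 8, 1, 8] p :=
  scan (u := [0, 9]) (w := [4]) (i := 5) (r13_1_3 H) (step (f3762 H) (step (f1664 H) rfl)) (step (H.back (i := 9) (by decide) (f1572 H)) rfl)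

theorem f3769 : g 0 • path g [4, 8, 1, 8] p = path g [3, 9, 2, 4] p :=
  H.back (i := 5) (by decide) (f3768 H)

theorem f3770 : g 5 • path g [4, 8, 1, 8] p = path g [3, 9, 2, 4] p :=
  scan (u := [5]) (w := []) (i := 5) (r0_1_0 H) (step (f3768 H) rfl) rfl

theorem f3771 : g 0 • path g [3, 9, 2, 4] p = path g [4, 8, 1, 8] p :=
  H.back (i := 5) (by decide) (f3770 H)

theorem f3772 : g 6 • path g [9, 3, 6, 3] p = path g [9, 3, 6, 3, 6] p :=
  rfl

theorem f3773 : g 1 • path g [9, 3, 6, 3, 6] p = path g [9, 3, 6, 3] p :=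
  H.back (i := 6) (by decide) (f3772 H)

theorem f3774 : g 4 • path g [9, 3, 6, 3, 6] p = path g [3, 9, 2, 6] p :=
  scan (u := [6]) (w := [1, 9]) (i := 4) (r14_1_3 H) (step (f3772 H) rfl) (step (H.back (i := 6) (by decide) (f956 H)) (step (H.back (i := 4) (by decide) (f1661 H)) rfl))

theorem f3775 : g 9 • path g [3, 9, 2, 6] p = path g [9, 3, 6, 3, 6] p :=
  H.back (i := 4) (by decide) (f3774 H)

theorem f3776 : g 1 • path g [9, 3, 6, 3] p = path g [9, 3, 6, 3, 1] p :=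
  rfl

theorem f3777 : g 6 • path g [9, 3, 6, 3, 1] p = path g [9, 3, 6, 3] p :=
  H.back (i := 1) (by decide) (f3776 H)

theorem f3778 : g 1 • path g [9, 3, 6, 3, 1] p = path g [9, 3, 6, 3, 6] p :=
  scan (u := [1]) (w := [1]) (i := 1) (r1_0_0 H) (step (f3776 H) rfl) (step (H.back (i := 6) (by decide) (f3772 H)) rfl)

theorem f3780 : g 4 • path g [9, 3, 6, 3, 1] p = path g [3, 9, 2, 1] p :=
  scan (u := [1]) (w := [6, 9]) (i := 4) (r14_0_0 H) (step (f3776 H) rfl) (step (H.back (i := 1) (by decide) (f962 H)) (step (H.back (i := 4) (by decide) (f1661 H)) rfl))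

theorem f3781 : g 9 • path g [3, 9, 2, 1] p = path g [9, 3, 6, 3, 1] p :=
  H.back (i := 4) (by decide) (f3780 H)

theorem f3782 : g 5 • path g [9, 3, 1, 8] p = path g [9, 3, 1, 8, 5] p :=
  rfl

theorem f3783 : g 0 • path g [9, 3, 1, 8, 5] p = path g [9, 3, 1, 8] p :=
  H.back (i := 5) (by decide) (f3782 H)

theorem f3784 : g 5 • path g [9, 3, 1, 8, 5] p = path g [9, 3, 1, 8] p :=
  scan (u := [5]) (w := []) (i := 5) (r0_1_0 H) (step (f3782 H) rfl) rfl

theorem f3785 : g 0 • path g [9, 3, 1, 8] p = path g [9, 3, 1, 8, 5] p :=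
  H.back (i := 5) (by decide) (f3784 H)

theorem f3786 : g 6 • path g [9, 3, 1, 8] p = path g [9, 3, 1, 8, 6] p :=
  rfl

theorem f3787 : g 1 • path g [9, 3, 1, 8, 6] p = path g [9, 3, 1, 8] p :=
  H.back (i := 6) (by decide) (f3786 H)

theorem f3788 : g 1 • path g [9, 3, 1, 8] p = path g [9, 3, 1, 8, 1] p :=
  rfl

theorem f3789 : g 6 • path g [9, 3, 1, 8, 1] p = path g [9, 3, 1, 8] p :=
  H.back (i := 1) (by decide) (f3788 H)

theorem f3790 : g 1 • path g [9, 3, 1, 8, 1] p = path g [9, 3, 1, 8, 6] p :=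
  scan (u := [1]) (w := [1]) (i := 1) (r1_0_0 H) (step (f3788 H) rfl) (step (H.back (i := 6) (by decide) (f3786 H)) rfl)

theorem f3792 : g 8 • path g [8, 9, 2, 9] p = path g [8, 9, 2, 9, 8] p :=
  rfl

theorem f3793 : g 3 • path g [8, 9, 2, 9, 8] p = path g [8, 9, 2, 9] p :=
  H.back (i := 8) (by decide) (f3792 H)

theorem f3794 : path g [8, 9, 2, 9, 8] p = path g [9, 2, 9, 8, 5] p :=
  close (u := [8]) (w := [9, 8, 9]) (r15_1_0 H) (step (f3792 H) rfl) (step (H.back (i := 4) (by decide) (f3140 H)) (step (H.back (i := 3) (by decide) (f3242 H)) (step (H.back (i := 4) (by decide) (f647 H)) rfl)))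

theorem f3795 : g 3 • path g [9, 2, 9, 8, 5] p = path g [8, 9, 2, 9] p :=
  (congrArg (g 3 • ·) (f3794 H).symm).trans (f3793 H)

theorem f3797 : g 8 • path g [8, 9, 2, 9] p = path g [9, 2, 9, 8, 5] p :=
  H.back (i := 3) (by decide) (f3795 H)

theorem f3798 : g 2 • path g [8, 9, 2, 9] p = path g [8, 9, 2, 9, 2] p :=
  rfl

theorem f3799 : g 7 • path g [8, 9, 2, 9, 2] p = path g [8, 9, 2, 9] p :=
  H.back (i := 2) (by decide) (f3798 H)

theorem f3800 : g 2 • path g [8, 9, 2, 9, 2] p = path g [8, 9, 2, 9] p :=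
  scan (u := [2]) (w := []) (i := 2) (r2_0_0 H) (step (f3798 H) rfl) rfl

theorem f3801 : g 7 • path g [8, 9, 2, 9] p = path g [8, 9, 2, 9, 2] p :=
  H.back (i := 2) (by decide) (f3800 H)

theorem f3802 : g 5 • path g [8, 9, 2, 9] p = path g [8, 9, 2, 9, 5] p :=
  rfl

theorem f3803 : g 0 • path g [8, 9, 2, 9, 5] p = path g [8, 9, 2, 9] p :=
  H.back (i := 5) (by decide) (f3802 H)

theorem f3804 : g 5 • path g [8, 9, 2, 9, 5] p = path g [8, 9, 2, 9] p :=
  scan (u := [5]) (w := []) (i := 5) (r0_1_0 H) (step (f3802 H) rfl) rfl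

theorem f3806 : path g [8, 9, 2, 9, 5] p = path g [4, 2, 8, 9] p :=
  close (u := [5]) (w := [4, 0, 9]) (r13_1_1 H) (step (f3802 H) rfl) (step (H.back (i := 9) (by decide) (f1266 H)) (step (H.back (i := 5) (by decide) (f2196 H)) (step (H.back (i := 4) (by decide) (f647 H)) rfl)))

theorem f3807 : g 0 • path g [4, 2, 8, 9] p = path g [8, 9, 2, 9] p :=
  (congrArg (g 0 • ·) (f3806 H).symm).trans (f3803 H)

theorem f3809 : g 5 • path g [8, 9, 2, 9] p = path g [4, 2, 8, 9] p :=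
  H.back (i := 0) (by decide) (f3807 H)

theorem f3810 : g 5 • path g [4, 2, 8, 9] p = path g [8, 9, 2, 9] p :=
  (congrArg (g 5 • ·) (f3806 H).symm).trans (f3804 H)

theorem f3812 : g 0 • path g [8, 9, 2, 9] p = path g [4, 2, 8, 9] p :=
  H.back (i := 5) (by decide) (f3810 H)

theorem f3813 : g 5 • path g [8, 9, 2, 4] p = path g [4, 2, 8, 4] p :=
  scan (u := [0, 9]) (w := [4]) (i := 5) (r13_1_3 H) (step (f3807 H) (step (f675 H) rfl)) (step (H.back (i := 9) (by decide) (f1287 H)) rfl)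

theorem f3814 : g 0 • path g [4, 2, 8, 4] p = path g [8, 9, 2, 4] p :=
  H.back (i := 5) (by decide) (f3813 H)

theorem f3815 : g 5 • path g [4, 2, 8, 4] p = path g [8, 9, 2, 4] p :=
  scan (u := [5]) (w := []) (i := 5) (r0_1_0 H) (step (f3813 H) rfl) rfl

theorem f3816 : g 0 • path g [8, 9, 2, 4] p = path g [4, 2, 8, 4] p :=
  H.back (i := 5) (by decide) (f3815 H)

theorem f3817 : g 3 • path g [8, 9, 2, 9] p = path g [8, 9, 2, 9, 3] p :=
  rfl

theorem f3819 : g 3 • path g [8, 9, 2, 9, 3] p = path g [9, 2, 9, 8, 5] p :=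
  scan (u := [3]) (w := [3]) (i := 3) (r6_0_0 H) (step (f3817 H) rfl) (step (H.back (i := 8) (by decide) (f3797 H)) rfl)

theorem f3820 : g 8 • path g [9, 2, 9, 8, 5] p = path g [8, 9, 2, 9, 3] p :=
  H.back (i := 3) (by decide) (f3819 H)

theorem f3821 : g 6 • path g [8, 9, 2, 9] p = path g [8, 9, 2, 9, 6] p :=
  rfl

theorem f3822 : g 1 • path g [8, 9, 2, 9, 6] p = path g [8, 9, 2, 9] p :=
  H.back (i := 6) (by decide) (f3821 H)

theorem f3823 : g 4 • path g [8, 9, 2, 9, 6] p = path g [8, 9, 2, 6] p :=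
  scan (u := [6]) (w := [1, 9]) (i := 4) (r14_1_3 H) (step (f3821 H) rfl) (step (H.back (i := 6) (by decide) (f658 H)) (step (H.back (i := 4) (by decide) (f647 H)) rfl))

theorem f3824 : g 9 • path g [8, 9, 2, 6] p = path g [8, 9, 2, 9, 6] p :=
  H.back (i := 4) (by decide) (f3823 H)

theorem f3825 : g 1 • path g [8, 9, 2, 9] p = path g [8, 9, 2, 9, 1] p :=
  rfl

theorem f3826 : g 6 • path g [8, 9, 2, 9, 1] p = path g [8, 9, 2, 9] p :=
  H.back (i := 1) (by decide) (f3825 H)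

theorem f3827 : g 1 • path g [8, 9, 2, 9, 1] p = path g [8, 9, 2, 9, 6] p :=
  scan (u := [1]) (w := [1]) (i := 1) (r1_0_0 H) (step (f3825 H) rfl) (step (H.back (i := 6) (by decide) (f3821 H)) rfl)

theorem f3829 : g 4 • path g [8, 9, 2, 9, 1] p = path g [8, 9, 2, 1] p :=
  scan (u := [1]) (w := [6, 9]) (i := 4) (r14_0_0 H) (step (f3825 H) rfl) (step (H.back (i := 1) (by decide) (f664 H)) (step (H.back (i := 4) (by decide) (f647 H)) rfl))

theorem f3830 : g 9 • path g [8, 9, 2, 1] p = path g [8, 9, 2, 9, 1] p :=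
  H.back (i := 4) (by decide) (f3829 H)

theorem f3831 : g 9 • path g [8, 9, 2, 8] p = path g [8, 9, 2, 8, 9] p :=
  rfl

theorem f3832 : g 4 • path g [8, 9, 2, 8, 9] p = path g [8, 9, 2, 8] p :=
  H.back (i := 9) (by decide) (f3831 H)

theorem f3833 : g 0 • path g [8, 9, 2, 8, 9] p = path g [9, 3, 9, 2, 9] p :=
  scan (u := [9]) (w := [4, 5]) (i := 0) (r13_0_1 H) (step (f3831 H) rfl) (step (H.back (i := 9) (by decide) (f3558 H)) (step (H.back (i := 0) (by decide) (f3226 H)) rfl))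

theorem f3835 : g 5 • path g [8, 9, 2, 8, 9] p = path g [9, 3, 9, 2, 9] p :=
  scan (u := [9]) (w := [4, 0]) (i := 5) (r13_1_0 H) (step (f3831 H) rfl) (step (H.back (i := 9) (by decide) (f3558 H)) (step (H.back (i := 5) (by decide) (f3223 H)) rfl))

theorem f3836 : g 0 • path g [9, 3, 9, 2, 9] p = path g [8, 9, 2, 8, 9] p :=
  H.back (i := 5) (by decide) (f3835 H)

theorem f3837 : g 1 • path g [8, 9, 2, 8, 9] p = path g [4, 2, 9, 5] p :=
  scan (u := [9]) (w := [4, 6]) (i := 1) (r14_0_3 H) (step (f3831 H) rfl) (step (H.back (i := 9) (by decide) (f1261 H)) (step (H.back (i := 1) (by decide) (f3217 H)) rfl))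

theorem f3838 : g 6 • path g [4, 2, 9, 5] p = path g [8, 9, 2, 8, 9] p :=
  H.back (i := 1) (by decide) (f3837 H)

theorem f3839 : g 6 • path g [8, 9, 2, 8, 9] p = path g [9, 3, 9, 2, 9] p :=
  scan (u := [9]) (w := [4, 1]) (i := 6) (r14_1_2 H) (step (f3831 H) rfl) (step (H.back (i := 9) (by decide) (f3558 H)) (step (H.back (i := 6) (by decide) (f3220 H)) rfl))

theorem f3840 : g 1 • path g [9, 3, 9, 2, 9] p = path g [8, 9, 2, 8, 9] p :=
  H.back (i := 6) (by decide) (f3839 H)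

theorem f3841 : g 8 • path g [8, 9, 2, 8, 9] p = path g [8, 9, 2, 4] p :=
  scan (u := [9]) (w := [9, 8]) (i := 8) (r15_1_1 H) (step (f3831 H) rfl) (step (H.back (i := 4) (by decide) (f672 H)) (step (H.back (i := 3) (by decide) (f649 H)) rfl))

theorem f3842 : g 3 • path g [8, 9, 2, 4] p = path g [8, 9, 2, 8, 9] p :=
  H.back (i := 8) (by decide) (f3841 H)

theorem f3843 : g 4 • path g [8, 9, 2, 8] p = path g [8, 9, 2, 8, 4] p :=
  rfl

theorem f3845 : g 4 • path g [8, 9, 2, 8, 4] p = path g [8, 9, 2, 8, 9] p :=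
  scan (u := [4]) (w := [4]) (i := 4) (r10_0_0 H) (step (f3843 H) rfl) (step (H.back (i := 9) (by decide) (f3831 H)) rfl)

theorem f3847 : g 5 • path g [8, 9, 2, 8, 4] p = path g [9, 3, 9, 2, 4] p :=
  scan (u := [4]) (w := [9, 0]) (i := 5) (r13_0_3 H) (step (f3843 H) rfl) (step (H.back (i := 4) (by decide) (f3581 H)) (step (H.back (i := 5) (by decide) (f3223 H)) rfl))

theorem f3848 : g 0 • path g [9, 3, 9, 2, 4] p = path g [8, 9, 2, 8, 4] p :=
  H.back (i := 5) (by decide) (f3847 H)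

theorem f3849 : g 0 • path g [8, 9, 2, 8, 4] p = path g [9, 3, 9, 2, 4] p :=
  scan (u := [4]) (w := [9, 5]) (i := 0) (r13_1_2 H) (step (f3843 H) rfl) (step (H.back (i := 4) (by decide) (f3581 H)) (step (H.back (i := 0) (by decide) (f3226 H)) rfl))

theorem f3850 : g 5 • path g [9, 3, 9, 2, 4] p = path g [8, 9, 2, 8, 4] p :=
  H.back (i := 0) (by decide) (f3849 H)

theorem f3851 : g 6 • path g [8, 9, 2, 8, 4] p = path g [9, 3, 9, 2, 4] p :=
  scan (u := [4]) (w := [9, 1]) (i := 6) (r14_0_1 H) (step (f3843 H) rfl) (step (H.back (i := 4) (by decide) (f3581 H)) (step (H.back (i := 6) (by decide) (f3220 H)) rfl))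

theorem f3852 : g 1 • path g [9, 3, 9, 2, 4] p = path g [8, 9, 2, 8, 4] p :=
  H.back (i := 6) (by decide) (f3851 H)

theorem f3853 : g 1 • path g [8, 9, 2, 8, 4] p = path g [4, 2, 5, 4] p :=
  scan (u := [4]) (w := [9, 6]) (i := 1) (r14_1_0 H) (step (f3843 H) rfl) (step (H.back (i := 4) (by decide) (f1304 H)) (step (H.back (i := 1) (by decide) (f3217 H)) rfl))

theorem f3854 : g 6 • path g [4, 2, 5, 4] p = path g [8, 9, 2, 8, 4] p :=
  H.back (i := 1) (by decide) (f3853 H)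

theorem f3855 : g 3 • path g [8, 9, 2, 8, 4] p = path g [9, 2, 8, 2, 9] p :=
  scan (u := [4]) (w := [4, 3]) (i := 3) (r15_0_0 H) (step (f3843 H) rfl) (step (H.back (i := 9) (by decide) (f3059 H)) (step (H.back (i := 8) (by decide) (f3233 H)) rfl))

theorem f3856 : g 8 • path g [9, 2, 8, 2, 9] p = path g [8, 9, 2, 8, 4] p :=
  H.back (i := 3) (by decide) (f3855 H)

theorem f3857 : g 8 • path g [8, 9, 2, 6] p = path g [8, 9, 2, 6, 8] p :=
  rfl

theorem f3858 : g 3 • path g [8, 9, 2, 6, 8] p = path g [8, 9, 2, 6] p :=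
  H.back (i := 8) (by decide) (f3857 H)

theorem f3859 : g 5 • path g [8, 9, 2, 6] p = path g [8, 9, 2, 6, 5] p :=
  rfl

theorem f3860 : g 0 • path g [8, 9, 2, 6, 5] p = path g [8, 9, 2, 6] p :=
  H.back (i := 5) (by decide) (f3859 H)

theorem f3861 : g 5 • path g [8, 9, 2, 6, 5] p = path g [8, 9, 2, 6] p :=
  scan (u := [5]) (w := []) (i := 5) (r0_1_0 H) (step (f3859 H) rfl) rfl

theorem f3862 : g 0 • path g [8, 9, 2, 6] p = path g [8, 9, 2, 6, 5] p :=
  H.back (i := 5) (by decide) (f3861 H)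

theorem f3863 : g 7 • path g [8, 9, 2, 6, 5] p = path g [4, 8, 5, 1] p :=
  scan (u := [5]) (w := [6, 5, 7, 5, 8, 2, 3, 6]) (i := 7) (r7_0_3 H) (step (f3859 H) rfl) (step (H.back (i := 1) (by decide) (f1212 H)) (step (H.back (i := 0) (by decide) (f335 H)) (step (H.back (i := 2) (by decide) (f330 H)) (step (H.back (i := 0) (by decide) (f3119 H)) (step (H.back (i := 3) (by decide) (f3115 H)) (step (H.back (i := 7) (by decide) (f3229 H)) (step (H.back (i := 8) (by decide) (f648 H)) (step (H.back (i := 1) (by decide) (f659 H)) rfl))))))))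

theorem f3864 : g 2 • path g [4, 8, 5, 1] p = path g [8, 9, 2, 6, 5] p :=
  H.back (i := 7) (by decide) (f3863 H)

theorem f3865 : g 2 • path g [4, 8, 1, 8] p = path g [3, 9, 1, 8] p :=
  scan (u := [5, 7, 5, 8]) (w := [3, 6, 5, 7, 6]) (i := 2) (r7_0_6 H) (step (f3859 H) (step (f3863 H) (step (f1626 H) (step (f1232 H) rfl)))) (step (H.back (i := 8) (by decide) (f1018 H)) (step (H.back (i := 1) (by decide) (f280 H)) (step (H.back (i := 0) (by decide) (f2854 H)) (step (H.back (i := 2) (by decide) (f166 H)) (step (H.back (i := 1) (by decide) (f659 H)) rfl)))))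

theorem f3866 : g 7 • path g [3, 9, 1, 8] p = path g [4, 8, 1, 8] p :=
  H.back (i := 2) (by decide) (f3865 H)

theorem f3867 : g 7 • path g [4, 8, 5, 1] p = path g [8, 9, 2, 6, 5] p :=
  scan (u := [5, 7, 1, 5, 6]) (w := [5, 6, 7, 5, 7, 1]) (i := 7) (r5_1_11 H) (step (f3859 H) (step (f3863 H) (step (f1214 H) (step (f1634 H) (step (f1215 H) rfl))))) (step (H.back (i := 0) (by decide) (f3862 H)) (step (H.back (i := 1) (by decide) (f666 H)) (step (H.back (i := 2) (by decide) (f670 H)) (step (H.back (i := 0) (by decide) (f178 H)) (step (H.back (i := 2) (by decide) (f668 H)) (step (H.back (i := 6) (by decide) (f667 H)) rfl))))))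

theorem f3868 : g 2 • path g [8, 9, 2, 6, 5] p = path g [4, 8, 5, 1] p :=
  H.back (i := 7) (by decide) (f3867 H)

theorem f3869 : g 1 • path g [8, 9, 2, 6, 5] p = path g [4, 8, 5, 2] p :=
  scan (u := [7]) (w := [5, 7, 1, 5, 6, 7, 5, 6, 7, 5]) (i := 1) (r5_1_9 H) (step (f3867 H) rfl) (step (H.back (i := 0) (by decide) (f3570 H)) (step (H.back (i := 2) (by decide) (f3569 H)) (step (H.back (i := 6) (by decide) (f3512 H)) (step (H.back (i := 0) (by decide) (f3511 H)) (step (H.back (i := 1) (by decide) (f538 H)) (step (H.back (i := 2) (by decide) (f530 H)) (step (H.back (i := 0) (by decide) (f3124 H)) (step (H.back (i := 1) (by decide) (f1179 H)) (step (H.back (i := 2) (by decide) (f1181 H)) (step (H.back (i := 0) (by decide) (f1623 H)) rfl))))))))))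

theorem f3870 : g 6 • path g [4, 8, 5, 2] p = path g [8, 9, 2, 6, 5] p :=
  H.back (i := 1) (by decide) (f3869 H)

theorem f3871 : g 7 • path g [4, 8, 1, 8] p = path g [3, 9, 1, 8] p :=
  scan (u := [1, 2, 0, 1, 8]) (w := [3, 0, 2, 0]) (i := 7) (r7_1_4 H) (step (f3869 H) (step (f1200 H) (step (f333 H) (step (f342 H) (step (f1232 H) rfl))))) (step (H.back (i := 8) (by decide) (f1018 H)) (step (H.back (i := 5) (by decide) (f2848 H)) (step (H.back (i := 7) (by decide) (f660 H)) (step (H.back (i := 5) (by decide) (f3861 H)) rfl))))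

theorem f3872 : g 2 • path g [3, 9, 1, 8] p = path g [4, 8, 1, 8] p :=
  H.back (i := 7) (by decide) (f3871 H)

theorem f3873 : g 3 • path g [8, 9, 2, 6] p = path g [8, 9, 2, 6, 3] p :=
  rfl

theorem f3874 : g 8 • path g [8, 9, 2, 6, 3] p = path g [8, 9, 2, 6] p :=
  H.back (i := 3) (by decide) (f3873 H)

theorem f3875 : g 3 • path g [8, 9, 2, 6, 3] p = path g [8, 9, 2, 6, 8] p :=
  scan (u := [3]) (w := [3]) (i := 3) (r6_0_0 H) (step (f3873 H) rfl) (step (H.back (i := 8) (by decide) (f3857 H)) rfl)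

theorem f3876 : g 8 • path g [8, 9, 2, 6, 8] p = path g [8, 9, 2, 6, 3] p :=
  H.back (i := 3) (by decide) (f3875 H)

theorem f3877 : g 4 • path g [8, 9, 2, 6] p = path g [8, 9, 2, 6, 4] p :=
  rfl

theorem f3879 : g 4 • path g [8, 9, 2, 6, 4] p = path g [8, 9, 2, 9, 6] p :=
  scan (u := [4]) (w := [4]) (i := 4) (r10_0_0 H) (step (f3877 H) rfl) (step (H.back (i := 9) (by decide) (f3824 H)) rfl)

theorem f3880 : g 9 • path g [8, 9, 2, 9, 6] p = path g [8, 9, 2, 6, 4] p :=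
  H.back (i := 4) (by decide) (f3879 H)

theorem f3881 : g 1 • path g [8, 9, 2, 6, 4] p = path g [8, 9, 2, 4] p :=
  scan (u := [4]) (w := [9, 6]) (i := 1) (r14_1_0 H) (step (f3877 H) rfl) (step (H.back (i := 4) (by decide) (f672 H)) (step (H.back (i := 1) (by decide) (f659 H)) rfl))

theorem f3883 : g 8 • path g [8, 9, 2, 1] p = path g [8, 9, 2, 1, 8] p :=
  rfl

theorem f3884 : g 3 • path g [8, 9, 2, 1, 8] p = path g [8, 9, 2, 1] p :=
  H.back (i := 8) (by decide) (f3883 H)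

theorem f3885 : g 7 • path g [8, 9, 2, 1, 8] p = path g [9, 3, 2, 1, 8] p :=
  scan (u := [8]) (w := [3, 0, 2, 0, 1, 2, 0, 1]) (i := 7) (r7_1_8 H) (step (f3883 H) rfl) (step (H.back (i := 8) (by decide) (f3653 H)) (step (H.back (i := 5) (by decide) (f3657 H)) (step (H.back (i := 7) (by decide) (f3666 H)) (step (H.back (i := 5) (by decide) (f3627 H)) (step (H.back (i := 6) (by decide) (f3623 H)) (step (H.back (i := 7) (by decide) (f1469 H)) (step (H.back (i := 5) (by decide) (f2196 H)) (step (H.back (i := 6) (by decide) (f665 H)) rfl))))))))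

theorem f3886 : g 2 • path g [9, 3, 2, 1, 8] p = path g [8, 9, 2, 1, 8] p :=
  H.back (i := 7) (by decide) (f3885 H)

theorem f3887 : g 7 • path g [9, 3, 2, 1, 8] p = path g [8, 9, 2, 1, 8] p :=
  scan (u := [7]) (w := []) (i := 7) (r2_1_0 H) (step (f3885 H) rfl) rfl

theorem f3888 : g 2 • path g [8, 9, 2, 1, 8] p = path g [9, 3, 2, 1, 8] p :=
  H.back (i := 7) (by decide) (f3887 H)

theorem f3889 : g 5 • path g [8, 9, 2, 1] p = path g [8, 9, 2, 1, 5] p :=
  rfl

theorem f3890 : g 0 • path g [8, 9, 2, 1, 5] p = path g [8, 9, 2, 1] p :=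
  H.back (i := 5) (by decide) (f3889 H)

theorem f3891 : g 5 • path g [8, 9, 2, 1, 5] p = path g [8, 9, 2, 1] p :=
  scan (u := [5]) (w := []) (i := 5) (r0_1_0 H) (step (f3889 H) rfl) rfl

theorem f3892 : g 0 • path g [8, 9, 2, 1] p = path g [8, 9, 2, 1, 5] p :=
  H.back (i := 5) (by decide) (f3891 H)

theorem f3893 : g 6 • path g [8, 9, 2, 1, 5] p = path g [9, 3, 9, 2, 8] p :=
  scan (u := [5]) (w := [5, 6, 5, 1, 1]) (i := 6) (r4_1_6 H) (step (f3889 H) rfl) (step (H.back (i := 0) (by decide) (f3572 H)) (step (H.back (i := 1) (by decide) (f3869 H)) (step (H.back (i := 0) (by decide) (f3862 H)) (step (H.back (i := 6) (by decide) (f658 H)) (step (H.back (i := 6) (by decide) (f665 H)) rfl)))))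

theorem f3894 : g 1 • path g [9, 3, 9, 2, 8] p = path g [8, 9, 2, 1, 5] p :=
  H.back (i := 6) (by decide) (f3893 H)

theorem f3895 : g 3 • path g [8, 9, 2, 1] p = path g [8, 9, 2, 1, 3] p :=
  rfl

theorem f3896 : g 8 • path g [8, 9, 2, 1, 3] p = path g [8, 9, 2, 1] p :=
  H.back (i := 3) (by decide) (f3895 H)

theorem f3897 : g 3 • path g [8, 9, 2, 1, 3] p = path g [8, 9, 2, 1, 8] p :=
  scan (u := [3]) (w := [3]) (i := 3) (r6_0_0 H) (step (f3895 H) rfl) (step (H.back (i := 8) (by decide) (f3883 H)) rfl)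

theorem f3898 : g 8 • path g [8, 9, 2, 1, 8] p = path g [8, 9, 2, 1, 3] p :=
  H.back (i := 3) (by decide) (f3897 H)

theorem f3899 : g 4 • path g [8, 9, 2, 1] p = path g [8, 9, 2, 1, 4] p :=
  rfl

theorem f3900 : g 9 • path g [8, 9, 2, 1, 4] p = path g [8, 9, 2, 1] p :=
  H.back (i := 4) (by decide) (f3899 H)

theorem f3901 : g 4 • path g [8, 9, 2, 1, 4] p = path g [8, 9, 2, 9, 1] p :=
  scan (u := [4]) (w := [4]) (i := 4) (r10_0_0 H) (step (f3899 H) rfl) (step (H.back (i := 9) (by decide) (f3830 H)) rfl)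

theorem f3902 : g 9 • path g [8, 9, 2, 9, 1] p = path g [8, 9, 2, 1, 4] p :=
  H.back (i := 4) (by decide) (f3901 H)

theorem f3903 : g 6 • path g [8, 9, 2, 1, 4] p = path g [8, 9, 2, 4] p :=
  scan (u := [4]) (w := [9, 1]) (i := 6) (r14_0_1 H) (step (f3899 H) rfl) (step (H.back (i := 4) (by decide) (f672 H)) (step (H.back (i := 6) (by decide) (f665 H)) rfl))

theorem f3904 : g 1 • path g [8, 9, 2, 4] p = path g [8, 9, 2, 1, 4] p :=
  H.back (i := 6) (by decide) (f3903 H)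

theorem f3905 : g 1 • path g [8, 9, 2, 1, 4] p = path g [8, 9, 2, 6, 4] p :=
  scan (u := [4]) (w := [9, 6]) (i := 1) (r14_1_0 H) (step (f3899 H) rfl) (step (H.back (i := 4) (by decide) (f3877 H)) (step (H.back (i := 1) (by decide) (f666 H)) rfl))

theorem f3907 : g 8 • path g [8, 9, 2, 4] p = path g [8, 9, 2, 4, 8] p :=
  rfl

theorem f3908 : g 3 • path g [8, 9, 2, 4, 8] p = path g [8, 9, 2, 4] p :=
  H.back (i := 8) (by decide) (f3907 H)

theorem f3909 : g 8 • path g [8, 9, 2, 4, 8] p = path g [8, 9, 2, 8, 9] p :=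
  scan (u := [8]) (w := [8]) (i := 8) (r6_1_0 H) (step (f3907 H) rfl) (step (H.back (i := 3) (by decide) (f3842 H)) rfl)

theorem f3910 : g 3 • path g [8, 9, 2, 8, 9] p = path g [8, 9, 2, 4, 8] p :=
  H.back (i := 8) (by decide) (f3909 H)

theorem f3911 : g 9 • path g [8, 9, 2, 4, 8] p = path g [8, 9, 2, 9, 3] p :=
  scan (u := [8]) (w := [8, 9]) (i := 9) (r15_1_0 H) (step (f3907 H) rfl) (step (H.back (i := 3) (by decide) (f3817 H)) (step (H.back (i := 4) (by decide) (f674 H)) rfl))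

theorem f3912 : g 4 • path g [8, 9, 2, 9, 3] p = path g [8, 9, 2, 4, 8] p :=
  H.back (i := 9) (by decide) (f3911 H)

theorem f3913 : g 2 • path g [8, 9, 2, 4] p = path g [8, 9, 2, 4, 2] p :=
  rfl

theorem f3914 : g 7 • path g [8, 9, 2, 4, 2] p = path g [8, 9, 2, 4] p :=
  H.back (i := 2) (by decide) (f3913 H)

theorem f3915 : g 2 • path g [8, 9, 2, 4, 2] p = path g [8, 9, 2, 4] p :=
  scan (u := [2]) (w := []) (i := 2) (r2_0_0 H) (step (f3913 H) rfl) rfl

theorem f3916 : g 7 • path g [8, 9, 2, 4] p = path g [8, 9, 2, 4, 2] p :=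
  H.back (i := 2) (by decide) (f3915 H)

theorem f3917 : g 2 • path g [8, 9, 6, 8] p = path g [8, 9, 6, 8, 2] p :=
  rfl

theorem f3918 : g 7 • path g [8, 9, 6, 8, 2] p = path g [8, 9, 6, 8] p :=
  H.back (i := 2) (by decide) (f3917 H)

theorem f3919 : g 2 • path g [8, 9, 6, 8, 2] p = path g [8, 9, 6, 8] p :=
  scan (u := [2]) (w := []) (i := 2) (r2_0_0 H) (step (f3917 H) rfl) rfl

theorem f3920 : g 7 • path g [8, 9, 6, 8] p = path g [8, 9, 6, 8, 2] p :=
  H.back (i := 2) (by decide) (f3919 H)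

theorem f3921 : g 5 • path g [8, 9, 6, 8] p = path g [8, 9, 6, 8, 5] p :=
  rfl

theorem f3923 : g 5 • path g [8, 9, 6, 8, 5] p = path g [8, 9, 6, 8] p :=
  scan (u := [5]) (w := []) (i := 5) (r0_1_0 H) (step (f3921 H) rfl) rfl

theorem f3924 : g 0 • path g [8, 9, 6, 8] p = path g [8, 9, 6, 8, 5] p :=
  H.back (i := 5) (by decide) (f3923 H)

theorem f3927 : g 6 • path g [8, 9, 6, 8] p = path g [8, 9, 6, 8, 6] p :=
  rfl

theorem f3928 : g 1 • path g [8, 9, 6, 8, 6] p = path g [8, 9, 6, 8] p :=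
  H.back (i := 6) (by decide) (f3927 H)

theorem f3929 : g 9 • path g [8, 9, 6, 8, 6] p = path g [8, 6, 3, 6] p :=
  scan (u := [6]) (w := [1, 4]) (i := 9) (r14_0_2 H) (step (f3927 H) rfl) (step (H.back (i := 6) (by decide) (f850 H)) (step (H.back (i := 9) (by decide) (f706 H)) rfl))

theorem f3930 : g 4 • path g [8, 6, 3, 6] p = path g [8, 9, 6, 8, 6] p :=
  H.back (i := 9) (by decide) (f3929 H)

theorem f3931 : g 1 • path g [8, 9, 6, 8] p = path g [8, 9, 6, 8, 1] p :=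
  rfl

theorem f3932 : g 6 • path g [8, 9, 6, 8, 1] p = path g [8, 9, 6, 8] p :=
  H.back (i := 1) (by decide) (f3931 H)

theorem f3933 : g 1 • path g [8, 9, 6, 8, 1] p = path g [8, 9, 6, 8, 6] p :=
  scan (u := [1]) (w := [1]) (i := 1) (r1_0_0 H) (step (f3931 H) rfl) (step (H.back (i := 6) (by decide) (f3927 H)) rfl)

theorem f3934 : g 6 • path g [8, 9, 6, 8, 6] p = path g [8, 9, 6, 8, 1] p :=
  H.back (i := 1) (by decide) (f3933 H)

theorem f3935 : g 9 • path g [8, 9, 6, 8, 1] p = path g [8, 6, 3, 1] p :=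
  scan (u := [1]) (w := [6, 4]) (i := 9) (r14_1_1 H) (step (f3931 H) rfl) (step (H.back (i := 1) (by decide) (f852 H)) (step (H.back (i := 9) (by decide) (f706 H)) rfl))

theorem f3936 : g 4 • path g [8, 6, 3, 1] p = path g [8, 9, 6, 8, 1] p :=
  H.back (i := 9) (by decide) (f3935 H)

theorem f3937 : g 9 • path g [8, 9, 6, 3] p = path g [8, 9, 6, 3, 9] p :=
  rfl

theorem f3939 : g 9 • path g [8, 9, 6, 3, 9] p = path g [8, 6, 4, 8] p :=
  scan (u := [9]) (w := [9]) (i := 9) (r10_1_0 H) (step (f3937 H) rfl) (step (H.back (i := 4) (by decide) (f861 H)) rfl)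

theorem f3940 : g 4 • path g [8, 6, 4, 8] p = path g [8, 9, 6, 3, 9] p :=
  H.back (i := 9) (by decide) (f3939 H)

theorem f3941 : g 8 • path g [8, 9, 6, 3, 9] p = path g [8, 6, 3, 9] p :=
  scan (u := [9]) (w := [9, 8]) (i := 8) (r15_1_1 H) (step (f3937 H) rfl) (step (H.back (i := 4) (by decide) (f839 H)) (step (H.back (i := 3) (by decide) (f710 H)) rfl))

theorem f3942 : g 3 • path g [8, 6, 3, 9] p = path g [8, 9, 6, 3, 9] p :=
  H.back (i := 8) (by decide) (f3941 H)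

theorem f3943 : g 8 • path g [8, 6, 8, 4] p = path g [8, 9, 6, 3, 9] p :=
  scan (u := [8, 8]) (w := []) (i := 8) (r6_1_0 H) (step (f3941 H) (step (f840 H) rfl)) rfl

theorem f3944 : g 3 • path g [8, 9, 6, 3, 9] p = path g [8, 6, 8, 4] p :=
  H.back (i := 8) (by decide) (f3943 H)

theorem f3945 : g 2 • path g [8, 9, 6, 3] p = path g [8, 9, 6, 3, 2] p :=
  rfl

theorem f3946 : g 7 • path g [8, 9, 6, 3, 2] p = path g [8, 9, 6, 3] p :=
  H.back (i := 2) (by decide) (f3945 H)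

theorem f3947 : g 2 • path g [8, 9, 6, 3, 2] p = path g [8, 9, 6, 3] p :=
  scan (u := [2]) (w := []) (i := 2) (r2_0_0 H) (step (f3945 H) rfl) rfl

theorem f3949 : g 5 • path g [8, 9, 6, 3] p = path g [8, 9, 6, 3, 5] p :=
  rfl

theorem f3950 : g 0 • path g [8, 9, 6, 3, 5] p = path g [8, 9, 6, 3] p :=
  H.back (i := 5) (by decide) (f3949 H)

theorem f3951 : g 5 • path g [8, 9, 6, 3, 5] p = path g [8, 9, 6, 3] p :=
  scan (u := [5]) (w := []) (i := 5) (r0_1_0 H) (step (f3949 H) rfl) rfl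

theorem f3952 : g 0 • path g [8, 9, 6, 3] p = path g [8, 9, 6, 3, 5] p :=
  H.back (i := 5) (by decide) (f3951 H)

theorem f3953 : g 6 • path g [8, 9, 6, 3] p = path g [8, 9, 6, 3, 6] p :=
  rfl

theorem f3955 : g 1 • path g [8, 9, 6, 3] p = path g [8, 9, 6, 3, 1] p :=
  rfl

theorem f3957 : g 1 • path g [8, 9, 6, 3, 1] p = path g [8, 9, 6, 3, 6] p :=
  scan (u := [1]) (w := [1]) (i := 1) (r1_0_0 H) (step (f3955 H) rfl) (step (H.back (i := 6) (by decide) (f3953 H)) rfl)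

theorem f3958 : g 6 • path g [8, 9, 6, 3, 6] p = path g [8, 9, 6, 3, 1] p :=
  H.back (i := 1) (by decide) (f3957 H)

theorem f3959 : g 5 • path g [8, 9, 1, 8] p = path g [8, 9, 1, 8, 5] p :=
  rfl

theorem f3961 : g 5 • path g [8, 9, 1, 8, 5] p = path g [8, 9, 1, 8] p :=
  scan (u := [5]) (w := []) (i := 5) (r0_1_0 H) (step (f3959 H) rfl) rfl

theorem f3962 : g 0 • path g [8, 9, 1, 8] p = path g [8, 9, 1, 8, 5] p :=
  H.back (i := 5) (by decide) (f3961 H)

theorem f3965 : g 6 • path g [8, 9, 1, 8] p = path g [8, 9, 1, 8, 6] p :=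
  rfl

theorem f3966 : g 1 • path g [8, 9, 1, 8, 6] p = path g [8, 9, 1, 8] p :=
  H.back (i := 6) (by decide) (f3965 H)

theorem f3967 : g 7 • path g [8, 9, 1, 8, 6] p = path g [9, 3, 1, 8, 1] p :=
  scan (u := [6]) (w := [6, 7]) (i := 7) (r3_1_1 H) (step (f3965 H) rfl) (step (H.back (i := 1) (by decide) (f3788 H)) (step (H.back (i := 2) (by decide) (f3699 H)) rfl))

theorem f3968 : g 2 • path g [9, 3, 1, 8, 1] p = path g [8, 9, 1, 8, 6] p :=
  H.back (i := 7) (by decide) (f3967 H)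

theorem f3969 : g 9 • path g [8, 9, 1, 8, 6] p = path g [8, 1, 3, 6] p :=
  scan (u := [6]) (w := [1, 4]) (i := 9) (r14_0_2 H) (step (f3965 H) rfl) (step (H.back (i := 6) (by decide) (f908 H)) (step (H.back (i := 9) (by decide) (f714 H)) rfl))

theorem f3970 : g 4 • path g [8, 1, 3, 6] p = path g [8, 9, 1, 8, 6] p :=
  H.back (i := 9) (by decide) (f3969 H)

theorem f3971 : g 7 • path g [9, 3, 1, 8, 1] p = path g [8, 9, 1, 8, 6] p :=
  scan (u := [7]) (w := []) (i := 7) (r2_1_0 H) (step (f3967 H) rfl) rfl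

theorem f3972 : g 2 • path g [8, 9, 1, 8, 6] p = path g [9, 3, 1, 8, 1] p :=
  H.back (i := 7) (by decide) (f3971 H)

theorem f3973 : g 1 • path g [8, 9, 1, 8] p = path g [8, 9, 1, 8, 1] p :=
  rfl

theorem f3974 : g 6 • path g [8, 9, 1, 8, 1] p = path g [8, 9, 1, 8] p :=
  H.back (i := 1) (by decide) (f3973 H)

theorem f3975 : g 1 • path g [8, 9, 1, 8, 1] p = path g [8, 9, 1, 8, 6] p :=
  scan (u := [1]) (w := [1]) (i := 1) (r1_0_0 H) (step (f3973 H) rfl) (step (H.back (i := 6) (by decide) (f3965 H)) rfl)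

theorem f3976 : g 6 • path g [8, 9, 1, 8, 6] p = path g [8, 9, 1, 8, 1] p :=
  H.back (i := 1) (by decide) (f3975 H)

theorem f3977 : g 2 • path g [8, 9, 1, 8, 1] p = path g [9, 3, 1, 8, 6] p :=
  scan (u := [1]) (w := [1, 2]) (i := 2) (r3_0_0 H) (step (f3973 H) rfl) (step (H.back (i := 6) (by decide) (f3786 H)) (step (H.back (i := 7) (by decide) (f3702 H)) rfl))

theorem f3979 : g 9 • path g [8, 9, 1, 8, 1] p = path g [8, 1, 3, 1] p :=
  scan (u := [1]) (w := [6, 4]) (i := 9) (r14_1_1 H) (step (f3973 H) rfl) (step (H.back (i := 1) (by decide) (f910 H)) (step (H.back (i := 9) (by decide) (f714 H)) rfl))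

theorem f3980 : g 4 • path g [8, 1, 3, 1] p = path g [8, 9, 1, 8, 1] p :=
  H.back (i := 9) (by decide) (f3979 H)

theorem f3983 : g 9 • path g [8, 9, 1, 3] p = path g [8, 9, 1, 3, 9] p :=
  rfl

theorem f3985 : g 9 • path g [8, 9, 1, 3, 9] p = path g [8, 1, 4, 8] p :=
  scan (u := [9]) (w := [9]) (i := 9) (r10_1_0 H) (step (f3983 H) rfl) (step (H.back (i := 4) (by decide) (f919 H)) rfl)

theorem f3986 : g 4 • path g [8, 1, 4, 8] p = path g [8, 9, 1, 3, 9] p :=
  H.back (i := 9) (by decide) (f3985 H)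

theorem f3987 : g 8 • path g [8, 9, 1, 3, 9] p = path g [8, 1, 3, 9] p :=
  scan (u := [9]) (w := [9, 8]) (i := 8) (r15_1_1 H) (step (f3983 H) rfl) (step (H.back (i := 4) (by decide) (f897 H)) (step (H.back (i := 3) (by decide) (f718 H)) rfl))

theorem f3988 : g 3 • path g [8, 1, 3, 9] p = path g [8, 9, 1, 3, 9] p :=
  H.back (i := 8) (by decide) (f3987 H)

theorem f3989 : g 8 • path g [8, 1, 8, 4] p = path g [8, 9, 1, 3, 9] p :=
  scan (u := [8, 8]) (w := []) (i := 8) (r6_1_0 H) (step (f3987 H) (step (f898 H) rfl)) rfl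

theorem f3990 : g 3 • path g [8, 9, 1, 3, 9] p = path g [8, 1, 8, 4] p :=
  H.back (i := 8) (by decide) (f3989 H)

theorem f3991 : g 2 • path g [8, 9, 1, 3] p = path g [8, 9, 1, 3, 2] p :=
  rfl

theorem f3992 : g 7 • path g [8, 9, 1, 3, 2] p = path g [8, 9, 1, 3] p :=
  H.back (i := 2) (by decide) (f3991 H)

theorem f3993 : g 2 • path g [8, 9, 1, 3, 2] p = path g [8, 9, 1, 3] p :=
  scan (u := [2]) (w := []) (i := 2) (r2_0_0 H) (step (f3991 H) rfl) rfl

theorem f3994 : g 7 • path g [8, 9, 1, 3] p = path g [8, 9, 1, 3, 2] p :=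
  H.back (i := 2) (by decide) (f3993 H)

theorem f3995 : g 5 • path g [8, 9, 1, 3] p = path g [8, 9, 1, 3, 5] p :=
  rfl

theorem f3996 : g 0 • path g [8, 9, 1, 3, 5] p = path g [8, 9, 1, 3] p :=
  H.back (i := 5) (by decide) (f3995 H)

theorem f3997 : g 5 • path g [8, 9, 1, 3, 5] p = path g [8, 9, 1, 3] p :=
  scan (u := [5]) (w := []) (i := 5) (r0_1_0 H) (step (f3995 H) rfl) rfl

theorem f3998 : g 0 • path g [8, 9, 1, 3] p = path g [8, 9, 1, 3, 5] p :=
  H.back (i := 5) (by decide) (f3997 H)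

theorem f4001 : g 1 • path g [8, 9, 1, 3] p = path g [8, 9, 1, 3, 1] p :=
  rfl

theorem f4006 : g 2 • path g [8, 6, 8, 9] p = path g [8, 6, 8, 9, 2] p :=
  rfl

theorem f4007 : g 7 • path g [8, 6, 8, 9, 2] p = path g [8, 6, 8, 9] p :=
  H.back (i := 2) (by decide) (f4006 H)

theorem f4008 : g 2 • path g [8, 6, 8, 9, 2] p = path g [8, 6, 8, 9] p :=
  scan (u := [2]) (w := []) (i := 2) (r2_0_0 H) (step (f4006 H) rfl) rfl

theorem f4009 : g 7 • path g [8, 6, 8, 9] p = path g [8, 6, 8, 9, 2] p :=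
  H.back (i := 2) (by decide) (f4008 H)

theorem f4010 : g 5 • path g [8, 6, 8, 9] p = path g [8, 6, 8, 9, 5] p :=
  rfl

theorem f4012 : g 5 • path g [8, 6, 8, 9, 5] p = path g [8, 6, 8, 9] p :=
  scan (u := [5]) (w := []) (i := 5) (r0_1_0 H) (step (f4010 H) rfl) rfl

theorem f4013 : g 0 • path g [8, 6, 8, 9] p = path g [8, 6, 8, 9, 5] p :=
  H.back (i := 5) (by decide) (f4012 H)

theorem f4014 : g 4 • path g [8, 6, 8, 9, 5] p = path g [8, 6, 8, 5] p :=
  scan (u := [5]) (w := [0, 9]) (i := 4) (r13_1_1 H) (step (f4010 H) rfl) (step (H.back (i := 5) (by decide) (f818 H)) (step (H.back (i := 4) (by decide) (f815 H)) rfl))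

theorem f4015 : g 9 • path g [8, 6, 8, 5] p = path g [8, 6, 8, 9, 5] p :=
  H.back (i := 4) (by decide) (f4014 H)

theorem f4016 : g 6 • path g [8, 6, 8, 9] p = path g [8, 6, 8, 9, 6] p :=
  rfl

theorem f4018 : g 4 • path g [8, 6, 8, 9, 6] p = path g [8, 6, 8, 6] p :=
  scan (u := [6]) (w := [1, 9]) (i := 4) (r14_1_3 H) (step (f4016 H) rfl) (step (H.back (i := 6) (by decide) (f822 H)) (step (H.back (i := 4) (by decide) (f815 H)) rfl))

theorem f4019 : g 9 • path g [8, 6, 8, 6] p = path g [8, 6, 8, 9, 6] p :=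
  H.back (i := 4) (by decide) (f4018 H)

theorem f4020 : g 1 • path g [8, 6, 8, 9] p = path g [8, 6, 8, 9, 1] p :=
  rfl

theorem f4021 : g 6 • path g [8, 6, 8, 9, 1] p = path g [8, 6, 8, 9] p :=
  H.back (i := 1) (by decide) (f4020 H)

theorem f4022 : g 1 • path g [8, 6, 8, 9, 1] p = path g [8, 6, 8, 9, 6] p :=
  scan (u := [1]) (w := [1]) (i := 1) (r1_0_0 H) (step (f4020 H) rfl) (step (H.back (i := 6) (by decide) (f4016 H)) rfl)

theorem f4023 : g 6 • path g [8, 6, 8, 9, 6] p = path g [8, 6, 8, 9, 1] p :=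
  H.back (i := 1) (by decide) (f4022 H)

theorem f4024 : g 4 • path g [8, 6, 8, 9, 1] p = path g [8, 6, 8, 1] p :=
  scan (u := [1]) (w := [6, 9]) (i := 4) (r14_0_0 H) (step (f4020 H) rfl) (step (H.back (i := 1) (by decide) (f824 H)) (step (H.back (i := 4) (by decide) (f815 H)) rfl))

theorem f4025 : g 9 • path g [8, 6, 8, 1] p = path g [8, 6, 8, 9, 1] p :=
  H.back (i := 4) (by decide) (f4024 H)

theorem f4026 : g 8 • path g [8, 6, 8, 5] p = path g [8, 6, 8, 5, 8] p :=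
  rfl

theorem f4028 : g 3 • path g [8, 6, 8, 5] p = path g [8, 6, 8, 5, 3] p :=
  rfl

theorem f4029 : g 8 • path g [8, 6, 8, 5, 3] p = path g [8, 6, 8, 5] p :=
  H.back (i := 3) (by decide) (f4028 H)

theorem f4030 : g 3 • path g [8, 6, 8, 5, 3] p = path g [8, 6, 8, 5, 8] p :=
  scan (u := [3]) (w := [3]) (i := 3) (r6_0_0 H) (step (f4028 H) rfl) (step (H.back (i := 8) (by decide) (f4026 H)) rfl)

theorem f4031 : g 8 • path g [8, 6, 8, 5, 8] p = path g [8, 6, 8, 5, 3] p :=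
  H.back (i := 3) (by decide) (f4030 H)

theorem f4032 : g 6 • path g [8, 6, 8, 5] p = path g [8, 6, 8, 5, 6] p :=
  rfl

theorem f4033 : g 1 • path g [8, 6, 8, 5, 6] p = path g [8, 6, 8, 5] p :=
  H.back (i := 6) (by decide) (f4032 H)

theorem f4034 : g 1 • path g [8, 6, 8, 5] p = path g [8, 6, 8, 5, 1] p :=
  rfl

theorem f4035 : g 6 • path g [8, 6, 8, 5, 1] p = path g [8, 6, 8, 5] p :=
  H.back (i := 1) (by decide) (f4034 H)

theorem f4036 : g 1 • path g [8, 6, 8, 5, 1] p = path g [8, 6, 8, 5, 6] p :=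
  scan (u := [1]) (w := [1]) (i := 1) (r1_0_0 H) (step (f4034 H) rfl) (step (H.back (i := 6) (by decide) (f4032 H)) rfl)

theorem f4037 : g 6 • path g [8, 6, 8, 5, 6] p = path g [8, 6, 8, 5, 1] p :=
  H.back (i := 1) (by decide) (f4036 H)

theorem f4038 : g 4 • path g [8, 6, 8, 5] p = path g [8, 6, 8, 5, 4] p :=
  rfl

theorem f4040 : g 4 • path g [8, 6, 8, 5, 4] p = path g [8, 6, 8, 9, 5] p :=
  scan (u := [4]) (w := [4]) (i := 4) (r10_0_0 H) (step (f4038 H) rfl) (step (H.back (i := 9) (by decide) (f4015 H)) rfl)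

theorem f4041 : g 9 • path g [8, 6, 8, 9, 5] p = path g [8, 6, 8, 5, 4] p :=
  H.back (i := 4) (by decide) (f4040 H)

theorem f4042 : g 5 • path g [8, 6, 8, 5, 4] p = path g [8, 6, 8, 4] p :=
  scan (u := [4]) (w := [9, 0]) (i := 5) (r13_0_3 H) (step (f4038 H) rfl) (step (H.back (i := 4) (by decide) (f832 H)) (step (H.back (i := 5) (by decide) (f820 H)) rfl))

theorem f4043 : g 0 • path g [8, 6, 8, 4] p = path g [8, 6, 8, 5, 4] p :=
  H.back (i := 5) (by decide) (f4042 H)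

theorem f4044 : g 0 • path g [8, 6, 8, 5, 4] p = path g [8, 6, 8, 4] p :=
  scan (u := [4]) (w := [9, 5]) (i := 0) (r13_1_2 H) (step (f4038 H) rfl) (step (H.back (i := 4) (by decide) (f832 H)) (step (H.back (i := 0) (by decide) (f819 H)) rfl))

theorem f4045 : g 5 • path g [8, 6, 8, 4] p = path g [8, 6, 8, 5, 4] p :=
  H.back (i := 0) (by decide) (f4044 H)

theorem f4046 : g 8 • path g [8, 6, 8, 6] p = path g [8, 6, 8, 6, 8] p :=
  rfl

theorem f4047 : g 3 • path g [8, 6, 8, 6, 8] p = path g [8, 6, 8, 6] p :=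
  H.back (i := 8) (by decide) (f4046 H)

theorem f4048 : g 5 • path g [8, 6, 8, 6] p = path g [8, 6, 8, 6, 5] p :=
  rfl

theorem f4049 : g 0 • path g [8, 6, 8, 6, 5] p = path g [8, 6, 8, 6] p :=
  H.back (i := 5) (by decide) (f4048 H)

theorem f4050 : g 5 • path g [8, 6, 8, 6, 5] p = path g [8, 6, 8, 6] p :=
  scan (u := [5]) (w := []) (i := 5) (r0_1_0 H) (step (f4048 H) rfl) rfl

theorem f4052 : path g [8, 6, 8, 6, 5] p = path g [3, 6, 8, 6] p :=
  close (u := [5]) (w := [7, 6, 5, 7, 5, 3, 1, 0, 2, 0, 1, 0, 8, 6]) (r9_1_5 H) (step (f4048 H) rfl) (step (H.back (i := 2) (by decide) (f1098 H)) (step (H.back (i := 1) (by decide) (f1094 H)) (step (H.back (i := 0) (by decide) (f1089 H)) (step (H.back (i := 2) (by decide) (f1133 H)) (step (H.back (i := 0) (by decide) (f1129 H)) (step (H.back (i := 8) (by decide) (f320 H)) (step (H.back (i := 6) (by decide) (f85 H)) (step (H.back (i := 5) (by decide) (f210 H)) (step (H.back (i := 7) (by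 decide) (f89 H)) (step (H.back (i := 5) (by decide) (f2456 H)) (step (H.back (i := 6) (by decide) (f57 H)) (step (H.back (i := 5) (by decide) (f61 H)) (step (H.back (i := 3) (by decide) (f225 H)) (step (H.back (i := 1) (by decide) (f823 H)) rfl))))))))))))))

theorem f4053 : g 0 • path g [3, 6, 8, 6] p = path g [8, 6, 8, 6] p :=
  (congrArg (g 0 • ·) (f4052 H).symm).trans (f4049 H)

theorem f4055 : g 5 • path g [8, 6, 8, 6] p = path g [3, 6, 8, 6] p :=
  H.back (i := 0) (by decide) (f4053 H)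

theorem f4056 : g 5 • path g [3, 6, 8, 6] p = path g [8, 6, 8, 6] p :=
  (congrArg (g 5 • ·) (f4052 H).symm).trans (f4050 H)

theorem f4058 : g 0 • path g [8, 6, 8, 6] p = path g [3, 6, 8, 6] p :=
  H.back (i := 5) (by decide) (f4056 H)

theorem f4059 : g 5 • path g [8, 6, 8, 9, 6] p = path g [9, 8, 6, 3, 6] p :=
  scan (u := [0, 9]) (w := [4]) (i := 5) (r13_1_3 H) (step (f4053 H) (step (f4019 H) rfl)) (step (H.back (i := 9) (by decide) (f2896 H)) rfl)

theorem f4060 : g 0 • path g [9, 8, 6, 3, 6] p = path g [8, 6, 8, 9, 6] p :=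
  H.back (i := 5) (by decide) (f4059 H)

theorem f4061 : g 0 • path g [8, 6, 8, 5, 1] p = path g [3, 6, 8, 1] p :=
  scan (u := [0, 6, 6, 0, 1]) (w := [1]) (i := 0) (r4_0_0 H) (step (f4053 H) (step (f827 H) (step (f825 H) (step (f821 H) (step (f4034 H) rfl))))) (step (H.back (i := 6) (by decide) (f1097 H)) rfl)

theorem f4062 : g 5 • path g [3, 6, 8, 1] p = path g [8, 6, 8, 5, 1] p :=
  H.back (i := 0) (by decide) (f4061 H)

theorem f4063 : path g [8, 6, 3, 2] p = path g [3, 1, 3] p :=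
  close (u := [0, 1, 8, 7]) (w := [3, 0, 2, 0, 1, 2]) (r7_1_6 H) (step (f4053 H) (step (f823 H) (step (f231 H) (step (f845 H) rfl)))) (step (H.back (i := 8) (by decide) (f327 H)) (step (H.back (i := 5) (by decide) (f1128 H)) (step (H.back (i := 7) (by decide) (f1132 H)) (step (H.back (i := 5) (by decide) (f1088 H)) (step (H.back (i := 6) (by decide) (f1095 H)) (step (H.back (i := 7) (by decide) (f1099 H)) rfl))))))

theorem f4066 : g 2 • path g [3, 1, 3] p = path g [8, 6, 3] p :=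
  (congrArg (g 2 • ·) (f4063 H).symm).trans (f844 H)

theorem f4067 : path g [3, 1, 3, 2] p = path g [8, 6, 3] p :=
  (f1154 H).symm.trans (f4066 H)

theorem f4069 : g 7 • path g [8, 6, 3] p = path g [3, 1, 3] p :=
  (f845 H).trans (f4063 H)

theorem f4072 : g 2 • path g [8, 6, 3] p = path g [3, 1, 3] p :=
  (f842 H).trans (f4063 H)

theorem f4074 : g 0 • path g [3, 6, 8, 1] p = path g [8, 6, 8, 5, 1] p :=
  scan (u := [0]) (w := []) (i := 0) (r0_0_0 H) (step (f4061 H) rfl) rfl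

theorem f4075 : g 5 • path g [8, 6, 8, 5, 1] p = path g [3, 6, 8, 1] p :=
  H.back (i := 0) (by decide) (f4074 H)

theorem f4076 : g 5 • path g [9, 8, 6, 3, 6] p = path g [8, 6, 8, 9, 6] p :=
  scan (u := [5]) (w := []) (i := 5) (r0_1_0 H) (step (f4059 H) rfl) rfl

theorem f4077 : g 0 • path g [8, 6, 8, 9, 6] p = path g [9, 8, 6, 3, 6] p :=
  H.back (i := 5) (by decide) (f4076 H)

theorem f4078 : path g [8, 1, 3, 2] p = path g [3, 6, 3] p :=
  close (u := [5, 7, 6, 5, 7, 5, 8, 2]) (w := [3, 6]) (r7_0_3 H) (step (f4056 H) (step (f829 H) (step (f825 H) (step (f818 H) (step (f878 H) (step (f874 H) (step (f247 H) (step (f900 H) rfl)))))))) (step (H.back (i := 8) (by decide) (f319 H)) (step (H.back (i := 1) (by decide) (f1093 H)) rfl))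

theorem f4081 : g 2 • path g [3, 6, 3] p = path g [8, 1, 3] p :=
  (congrArg (g 2 • ·) (f4078 H).symm).trans (f902 H)

theorem f4082 : path g [3, 6, 3, 2] p = path g [8, 1, 3] p :=
  (f1112 H).symm.trans (f4081 H)

theorem f4084 : g 7 • path g [8, 1, 3] p = path g [3, 6, 3] p :=
  (f903 H).trans (f4078 H)

theorem f4087 : g 2 • path g [8, 1, 3] p = path g [3, 6, 3] p :=
  (f900 H).trans (f4078 H)

theorem f4089 : g 7 • path g [3, 6, 3] p = path g [8, 1, 3] p :=
  (f1115 H).trans (f4082 H)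

theorem f4090 : g 2 • path g [3, 1, 3] p = path g [8, 6, 3] p :=
  (f1154 H).trans (f4067 H)

theorem f4091 : g 3 • path g [8, 6, 8, 6] p = path g [8, 6, 8, 6, 3] p :=
  rfl

theorem f4092 : g 8 • path g [8, 6, 8, 6, 3] p = path g [8, 6, 8, 6] p :=
  H.back (i := 3) (by decide) (f4091 H)

theorem f4093 : g 3 • path g [8, 6, 8, 6, 3] p = path g [8, 6, 8, 6, 8] p :=
  scan (u := [3]) (w := [3]) (i := 3) (r6_0_0 H) (step (f4091 H) rfl) (step (H.back (i := 8) (by decide) (f4046 H)) rfl)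

theorem f4094 : g 8 • path g [8, 6, 8, 6, 8] p = path g [8, 6, 8, 6, 3] p :=
  H.back (i := 3) (by decide) (f4093 H)

theorem f4095 : g 4 • path g [8, 6, 8, 6] p = path g [8, 6, 8, 6, 4] p :=
  rfl

theorem f4096 : g 9 • path g [8, 6, 8, 6, 4] p = path g [8, 6, 8, 6] p :=
  H.back (i := 4) (by decide) (f4095 H)

theorem f4097 : g 4 • path g [8, 6, 8, 6, 4] p = path g [8, 6, 8, 9, 6] p :=
  scan (u := [4]) (w := [4]) (i := 4) (r10_0_0 H) (step (f4095 H) rfl) (step (H.back (i := 9) (by decide) (f4019 H)) rfl)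

theorem f4098 : g 9 • path g [8, 6, 8, 9, 6] p = path g [8, 6, 8, 6, 4] p :=
  H.back (i := 4) (by decide) (f4097 H)

theorem f4099 : g 1 • path g [8, 6, 8, 6, 4] p = path g [8, 6, 8, 4] p :=
  scan (u := [4]) (w := [9, 6]) (i := 1) (r14_1_0 H) (step (f4095 H) rfl) (step (H.back (i := 4) (by decide) (f832 H)) (step (H.back (i := 1) (by decide) (f823 H)) rfl))

theorem f4101 : g 8 • path g [8, 6, 8, 1] p = path g [8, 6, 8, 1, 8] p :=
  rfl

theorem f4102 : g 3 • path g [8, 6, 8, 1, 8] p = path g [8, 6, 8, 1] p :=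
  H.back (i := 8) (by decide) (f4101 H)

theorem f4103 : g 5 • path g [8, 6, 8, 1] p = path g [8, 6, 8, 1, 5] p :=
  rfl

theorem f4104 : g 0 • path g [8, 6, 8, 1, 5] p = path g [8, 6, 8, 1] p :=
  H.back (i := 5) (by decide) (f4103 H)

theorem f4105 : g 5 • path g [8, 6, 8, 1, 5] p = path g [8, 6, 8, 1] p :=
  scan (u := [5]) (w := []) (i := 5) (r0_1_0 H) (step (f4103 H) rfl) rfl

theorem f4106 : g 0 • path g [8, 6, 8, 1] p = path g [8, 6, 8, 1, 5] p :=
  H.back (i := 5) (by decide) (f4105 H)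

theorem f4107 : g 6 • path g [8, 6, 8, 1, 5] p = path g [3, 6, 8, 5] p :=
  scan (u := [5]) (w := [5, 1, 1, 5, 6]) (i := 6) (r4_1_1 H) (step (f4103 H) rfl) (step (H.back (i := 0) (by decide) (f1091 H)) (step (H.back (i := 6) (by decide) (f1095 H)) (step (H.back (i := 6) (by decide) (f1097 H)) (step (H.back (i := 0) (by decide) (f4058 H)) (step (H.back (i := 1) (by decide) (f826 H)) rfl)))))

theorem f4108 : g 1 • path g [3, 6, 8, 5] p = path g [8, 6, 8, 1, 5] p :=
  H.back (i := 6) (by decide) (f4107 H)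

theorem f4109 : g 3 • path g [8, 6, 8, 1] p = path g [8, 6, 8, 1, 3] p :=
  rfl

theorem f4110 : g 8 • path g [8, 6, 8, 1, 3] p = path g [8, 6, 8, 1] p :=
  H.back (i := 3) (by decide) (f4109 H)

theorem f4111 : g 3 • path g [8, 6, 8, 1, 3] p = path g [8, 6, 8, 1, 8] p :=
  scan (u := [3]) (w := [3]) (i := 3) (r6_0_0 H) (step (f4109 H) rfl) (step (H.back (i := 8) (by decide) (f4101 H)) rfl)

theorem f4113 : g 4 • path g [8, 6, 8, 1] p = path g [8, 6, 8, 1, 4] p :=
  rfl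

theorem f4115 : g 4 • path g [8, 6, 8, 1, 4] p = path g [8, 6, 8, 9, 1] p :=
  scan (u := [4]) (w := [4]) (i := 4) (r10_0_0 H) (step (f4113 H) rfl) (step (H.back (i := 9) (by decide) (f4025 H)) rfl)

theorem f4116 : g 9 • path g [8, 6, 8, 9, 1] p = path g [8, 6, 8, 1, 4] p :=
  H.back (i := 4) (by decide) (f4115 H)

theorem f4117 : g 6 • path g [8, 6, 8, 1, 4] p = path g [8, 6, 8, 4] p :=
  scan (u := [4]) (w := [9, 1]) (i := 6) (r14_0_1 H) (step (f4113 H) rfl) (step (H.back (i := 4) (by decide) (f832 H)) (step (H.back (i := 6) (by decide) (f825 H)) rfl))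

theorem f4118 : g 1 • path g [8, 6, 8, 4] p = path g [8, 6, 8, 1, 4] p :=
  H.back (i := 6) (by decide) (f4117 H)

theorem f4119 : g 1 • path g [8, 6, 8, 1, 4] p = path g [8, 6, 8, 6, 4] p :=
  scan (u := [4]) (w := [9, 6]) (i := 1) (r14_1_0 H) (step (f4113 H) rfl) (step (H.back (i := 4) (by decide) (f4095 H)) (step (H.back (i := 1) (by decide) (f826 H)) rfl))

theorem f4121 : g 2 • path g [8, 6, 8, 4] p = path g [8, 6, 8, 4, 2] p :=
  rfl

theorem f4122 : g 7 • path g [8, 6, 8, 4, 2] p = path g [8, 6, 8, 4] p :=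
  H.back (i := 2) (by decide) (f4121 H)

theorem f4123 : g 2 • path g [8, 6, 8, 4, 2] p = path g [8, 6, 8, 4] p :=
  scan (u := [2]) (w := []) (i := 2) (r2_0_0 H) (step (f4121 H) rfl) rfl

theorem f4124 : g 7 • path g [8, 6, 8, 4] p = path g [8, 6, 8, 4, 2] p :=
  H.back (i := 2) (by decide) (f4123 H)

theorem f4125 : g 2 • path g [8, 6, 3, 9] p = path g [8, 6, 3, 9, 2] p :=
  rfl

theorem f4129 : g 5 • path g [8, 6, 3, 9] p = path g [8, 6, 3, 9, 5] p :=
  rfl

theorem f4131 : g 5 • path g [8, 6, 3, 9, 5] p = path g [8, 6, 3, 9] p :=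
  scan (u := [5]) (w := []) (i := 5) (r0_1_0 H) (step (f4129 H) rfl) rfl

theorem f4132 : g 0 • path g [8, 6, 3, 9] p = path g [8, 6, 3, 9, 5] p :=
  H.back (i := 5) (by decide) (f4131 H)

theorem f4133 : g 9 • path g [8, 6, 3, 9, 5] p = path g [8, 9, 6, 8, 5] p :=
  scan (u := [5]) (w := [0, 4]) (i := 9) (r13_0_0 H) (step (f4129 H) rfl) (step (H.back (i := 5) (by decide) (f3921 H)) (step (H.back (i := 9) (by decide) (f838 H)) rfl))

theorem f4134 : g 4 • path g [8, 9, 6, 8, 5] p = path g [8, 6, 3, 9, 5] p :=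
  H.back (i := 9) (by decide) (f4133 H)

theorem f4135 : g 4 • path g [8, 6, 3, 9, 5] p = path g [8, 6, 3, 5] p :=
  scan (u := [5]) (w := [0, 9]) (i := 4) (r13_1_1 H) (step (f4129 H) rfl) (step (H.back (i := 5) (by decide) (f846 H)) (step (H.back (i := 4) (by decide) (f837 H)) rfl))

theorem f4137 : g 6 • path g [8, 6, 3, 9] p = path g [8, 6, 3, 9, 6] p :=
  rfl

theorem f4138 : g 1 • path g [8, 6, 3, 9, 6] p = path g [8, 6, 3, 9] p :=
  H.back (i := 6) (by decide) (f4137 H)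

theorem f4139 : g 9 • path g [8, 6, 3, 9, 6] p = path g [8, 9, 6, 8, 6] p :=
  scan (u := [6]) (w := [1, 4]) (i := 9) (r14_0_2 H) (step (f4137 H) rfl) (step (H.back (i := 6) (by decide) (f3927 H)) (step (H.back (i := 9) (by decide) (f838 H)) rfl))

theorem f4141 : g 4 • path g [8, 6, 3, 9, 6] p = path g [8, 6, 3, 6] p :=
  scan (u := [6]) (w := [1, 9]) (i := 4) (r14_1_3 H) (step (f4137 H) rfl) (step (H.back (i := 6) (by decide) (f850 H)) (step (H.back (i := 4) (by decide) (f837 H)) rfl))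

theorem f4143 : g 1 • path g [8, 6, 3, 9] p = path g [8, 6, 3, 9, 1] p :=
  rfl

theorem f4144 : g 6 • path g [8, 6, 3, 9, 1] p = path g [8, 6, 3, 9] p :=
  H.back (i := 1) (by decide) (f4143 H)

theorem f4145 : g 1 • path g [8, 6, 3, 9, 1] p = path g [8, 6, 3, 9, 6] p :=
  scan (u := [1]) (w := [1]) (i := 1) (r1_0_0 H) (step (f4143 H) rfl) (step (H.back (i := 6) (by decide) (f4137 H)) rfl)

theorem f4146 : g 6 • path g [8, 6, 3, 9, 6] p = path g [8, 6, 3, 9, 1] p :=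
  H.back (i := 1) (by decide) (f4145 H)

theorem f4147 : g 4 • path g [8, 6, 3, 9, 1] p = path g [8, 6, 3, 1] p :=
  scan (u := [1]) (w := [6, 9]) (i := 4) (r14_0_0 H) (step (f4143 H) rfl) (step (H.back (i := 1) (by decide) (f852 H)) (step (H.back (i := 4) (by decide) (f837 H)) rfl))

theorem f4148 : g 9 • path g [8, 6, 3, 1] p = path g [8, 6, 3, 9, 1] p :=
  H.back (i := 4) (by decide) (f4147 H)

theorem f4149 : g 9 • path g [8, 6, 3, 9, 1] p = path g [8, 9, 6, 8, 1] p :=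
  scan (u := [1]) (w := [6, 4]) (i := 9) (r14_1_1 H) (step (f4143 H) rfl) (step (H.back (i := 1) (by decide) (f3931 H)) (step (H.back (i := 9) (by decide) (f838 H)) rfl))

theorem f4150 : g 4 • path g [8, 9, 6, 8, 1] p = path g [8, 6, 3, 9, 1] p :=
  H.back (i := 9) (by decide) (f4149 H)

theorem f4153 : g 2 • path g [8, 6, 3, 5] p = path g [8, 6, 3, 5, 2] p :=
  rfl

theorem f4155 : g 2 • path g [8, 6, 3, 5, 2] p = path g [8, 6, 3, 5] p :=
  scan (u := [2]) (w := []) (i := 2) (r2_0_0 H) (step (f4153 H) rfl) rfl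

theorem f4156 : g 7 • path g [8, 6, 3, 5] p = path g [8, 6, 3, 5, 2] p :=
  H.back (i := 2) (by decide) (f4155 H)

theorem f4161 : g 6 • path g [8, 6, 3, 5] p = path g [8, 6, 3, 5, 6] p :=
  rfl

theorem f4162 : g 1 • path g [8, 6, 3, 5, 6] p = path g [8, 6, 3, 5] p :=
  H.back (i := 6) (by decide) (f4161 H)

theorem f4163 : g 1 • path g [8, 6, 3, 5] p = path g [8, 6, 3, 5, 1] p :=
  rfl

theorem f4164 : g 6 • path g [8, 6, 3, 5, 1] p = path g [8, 6, 3, 5] p :=
  H.back (i := 1) (by decide) (f4163 H)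

theorem f4165 : g 1 • path g [8, 6, 3, 5, 1] p = path g [8, 6, 3, 5, 6] p :=
  scan (u := [1]) (w := [1]) (i := 1) (r1_0_0 H) (step (f4163 H) rfl) (step (H.back (i := 6) (by decide) (f4161 H)) rfl)

theorem f4167 : g 8 • path g [8, 6, 3, 6] p = path g [8, 6, 3, 6, 8] p :=
  rfl

theorem f4168 : g 3 • path g [8, 6, 3, 6, 8] p = path g [8, 6, 3, 6] p :=
  H.back (i := 8) (by decide) (f4167 H)

theorem f4169 : g 2 • path g [8, 6, 3, 6] p = path g [8, 6, 3, 6, 2] p :=
  rfl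

theorem f4170 : g 7 • path g [8, 6, 3, 6, 2] p = path g [8, 6, 3, 6] p :=
  H.back (i := 2) (by decide) (f4169 H)

theorem f4171 : g 2 • path g [8, 6, 3, 6, 2] p = path g [8, 6, 3, 6] p :=
  scan (u := [2]) (w := []) (i := 2) (r2_0_0 H) (step (f4169 H) rfl) rfl

theorem f4173 : path g [3, 1, 3, 1] p = path g [8, 6, 3, 6, 2] p :=
  close (u := [2, 1, 2, 1]) (w := []) (r3_0_1 H) (step (f4171 H) (step (f851 H) (step (f4072 H) (step (f1164 H) rfl)))) rfl

theorem f4174 : path g [8, 6, 3, 6, 2] p = path g [3, 1, 3, 1] p :=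
  (f4173 H).symm

theorem f4175 : g 7 • path g [3, 1, 3, 1] p = path g [8, 6, 3, 6] p :=
  (congrArg (g 7 • ·) (f4174 H).symm).trans (f4170 H)

theorem f4177 : g 2 • path g [8, 6, 3, 6] p = path g [3, 1, 3, 1] p :=
  H.back (i := 7) (by decide) (f4175 H)

theorem f4178 : g 2 • path g [3, 1, 3, 1] p = path g [8, 6, 3, 6] p :=
  (congrArg (g 2 • ·) (f4174 H).symm).trans (f4171 H)

theorem f4180 : g 7 • path g [8, 6, 3, 6] p = path g [3, 1, 3, 1] p :=
  H.back (i := 2) (by decide) (f4178 H)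

theorem f4181 : g 7 • path g [3, 1, 3] p = path g [8, 6, 3] p :=
  (f1157 H).trans (f4067 H)

theorem f4182 : g 7 • path g [8, 6, 3, 1] p = path g [3, 1, 3, 6] p :=
  scan (u := [7, 6]) (w := [6]) (i := 7) (r3_1_0 H) (step (f4175 H) (step (f855 H) rfl)) (step (H.back (i := 1) (by decide) (f1166 H)) rfl)

theorem f4183 : g 2 • path g [3, 1, 3, 6] p = path g [8, 6, 3, 1] p :=
  H.back (i := 7) (by decide) (f4182 H)

theorem f4184 : g 7 • path g [3, 1, 3, 6] p = path g [8, 6, 3, 1] p :=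
  scan (u := [7]) (w := []) (i := 7) (r2_1_0 H) (step (f4182 H) rfl) rfl

theorem f4185 : g 2 • path g [8, 6, 3, 1] p = path g [3, 1, 3, 6] p :=
  H.back (i := 7) (by decide) (f4184 H)

theorem f4186 : g 5 • path g [8, 6, 3, 6] p = path g [8, 6, 3, 6, 5] p :=
  rfl

theorem f4187 : g 0 • path g [8, 6, 3, 6, 5] p = path g [8, 6, 3, 6] p :=
  H.back (i := 5) (by decide) (f4186 H)

theorem f4188 : g 5 • path g [8, 6, 3, 6, 5] p = path g [8, 6, 3, 6] p :=
  scan (u := [5]) (w := []) (i := 5) (r0_1_0 H) (step (f4186 H) rfl) rfl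

theorem f4189 : g 0 • path g [8, 6, 3, 6] p = path g [8, 6, 3, 6, 5] p :=
  H.back (i := 5) (by decide) (f4188 H)

theorem f4190 : g 3 • path g [8, 6, 3, 6] p = path g [8, 6, 3, 6, 3] p :=
  rfl

theorem f4192 : g 3 • path g [8, 6, 3, 6, 3] p = path g [8, 6, 3, 6, 8] p :=
  scan (u := [3]) (w := [3]) (i := 3) (r6_0_0 H) (step (f4190 H) rfl) (step (H.back (i := 8) (by decide) (f4167 H)) rfl)

theorem f4193 : g 8 • path g [8, 6, 3, 6, 8] p = path g [8, 6, 3, 6, 3] p :=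
  H.back (i := 3) (by decide) (f4192 H)

theorem f4194 : g 8 • path g [8, 6, 3, 1] p = path g [8, 6, 3, 1, 8] p :=
  rfl

theorem f4195 : g 3 • path g [8, 6, 3, 1, 8] p = path g [8, 6, 3, 1] p :=
  H.back (i := 8) (by decide) (f4194 H)

theorem f4196 : g 5 • path g [8, 6, 3, 1] p = path g [8, 6, 3, 1, 5] p :=
  rfl

theorem f4197 : g 0 • path g [8, 6, 3, 1, 5] p = path g [8, 6, 3, 1] p :=
  H.back (i := 5) (by decide) (f4196 H)

theorem f4198 : g 5 • path g [8, 6, 3, 1, 5] p = path g [8, 6, 3, 1] p :=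
  scan (u := [5]) (w := []) (i := 5) (r0_1_0 H) (step (f4196 H) rfl) rfl

theorem f4199 : g 0 • path g [8, 6, 3, 1] p = path g [8, 6, 3, 1, 5] p :=
  H.back (i := 5) (by decide) (f4198 H)

theorem f4200 : g 3 • path g [8, 6, 3, 1] p = path g [8, 6, 3, 1, 3] p :=
  rfl

theorem f4202 : g 3 • path g [8, 6, 3, 1, 3] p = path g [8, 6, 3, 1, 8] p :=
  scan (u := [3]) (w := [3]) (i := 3) (r6_0_0 H) (step (f4200 H) rfl) (step (H.back (i := 8) (by decide) (f4194 H)) rfl)

theorem f4203 : g 8 • path g [8, 6, 3, 1, 8] p = path g [8, 6, 3, 1, 3] p :=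
  H.back (i := 3) (by decide) (f4202 H)

theorem f4204 : g 2 • path g [8, 6, 4, 8] p = path g [8, 6, 4, 8, 2] p :=
  rfl

theorem f4206 : g 2 • path g [8, 6, 4, 8, 2] p = path g [8, 6, 4, 8] p :=
  scan (u := [2]) (w := []) (i := 2) (r2_0_0 H) (step (f4204 H) rfl) rfl

theorem f4207 : g 7 • path g [8, 6, 4, 8] p = path g [8, 6, 4, 8, 2] p :=
  H.back (i := 2) (by decide) (f4206 H)

theorem f4208 : g 8 • path g [9, 2, 3, 6, 5] p = path g [8, 6, 4, 8, 2] p :=
  scan (u := [2, 3, 6, 5, 7, 6, 5, 7, 5]) (w := []) (i := 8) (r7_0_0 H) (step (f4206 H) (step (f857 H) (step (f255 H) (step (f2498 H) (step (f384 H) (step (f389 H) (step (f1686 H) (step (f3157 H) (step (f3496 H) rfl))))))))) rfl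

theorem f4210 : g 5 • path g [8, 6, 4, 8] p = path g [8, 6, 4, 8, 5] p :=
  rfl

theorem f4212 : g 5 • path g [8, 6, 4, 8, 5] p = path g [8, 6, 4, 8] p :=
  scan (u := [5]) (w := []) (i := 5) (r0_1_0 H) (step (f4210 H) rfl) rfl

theorem f4213 : g 0 • path g [8, 6, 4, 8] p = path g [8, 6, 4, 8, 5] p :=
  H.back (i := 5) (by decide) (f4212 H)

theorem f4214 : g 9 • path g [8, 6, 4, 8, 5] p = path g [8, 9, 6, 3, 5] p :=
  scan (u := [5]) (w := [0, 4]) (i := 9) (r13_0_0 H) (step (f4210 H) rfl) (step (H.back (i := 5) (by decide) (f3949 H)) (step (H.back (i := 9) (by decide) (f860 H)) rfl))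

theorem f4215 : g 4 • path g [8, 9, 6, 3, 5] p = path g [8, 6, 4, 8, 5] p :=
  H.back (i := 9) (by decide) (f4214 H)

theorem f4216 : g 6 • path g [8, 6, 4, 8] p = path g [8, 6, 4, 8, 6] p :=
  rfl

theorem f4217 : g 1 • path g [8, 6, 4, 8, 6] p = path g [8, 6, 4, 8] p :=
  H.back (i := 6) (by decide) (f4216 H)

theorem f4218 : g 9 • path g [8, 6, 4, 8, 6] p = path g [8, 9, 6, 3, 6] p :=
  scan (u := [6]) (w := [1, 4]) (i := 9) (r14_0_2 H) (step (f4216 H) rfl) (step (H.back (i := 6) (by decide) (f3953 H)) (step (H.back (i := 9) (by decide) (f860 H)) rfl))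

theorem f4220 : g 1 • path g [8, 6, 4, 8] p = path g [8, 6, 4, 8, 1] p :=
  rfl

theorem f4221 : g 6 • path g [8, 6, 4, 8, 1] p = path g [8, 6, 4, 8] p :=
  H.back (i := 1) (by decide) (f4220 H)

theorem f4222 : g 1 • path g [8, 6, 4, 8, 1] p = path g [8, 6, 4, 8, 6] p :=
  scan (u := [1]) (w := [1]) (i := 1) (r1_0_0 H) (step (f4220 H) rfl) (step (H.back (i := 6) (by decide) (f4216 H)) rfl)

theorem f4223 : g 6 • path g [8, 6, 4, 8, 6] p = path g [8, 6, 4, 8, 1] p :=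
  H.back (i := 1) (by decide) (f4222 H)

theorem f4224 : g 9 • path g [8, 6, 4, 8, 1] p = path g [8, 9, 6, 3, 1] p :=
  scan (u := [1]) (w := [6, 4]) (i := 9) (r14_1_1 H) (step (f4220 H) rfl) (step (H.back (i := 1) (by decide) (f3955 H)) (step (H.back (i := 9) (by decide) (f860 H)) rfl))

theorem f4225 : g 4 • path g [8, 9, 6, 3, 1] p = path g [8, 6, 4, 8, 1] p :=
  H.back (i := 9) (by decide) (f4224 H)

theorem f4226 : g 9 • path g [8, 6, 4, 2] p = path g [8, 6, 4, 2, 9] p :=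
  rfl

theorem f4227 : g 4 • path g [8, 6, 4, 2, 9] p = path g [8, 6, 4, 2] p :=
  H.back (i := 9) (by decide) (f4226 H)

theorem f4228 : g 0 • path g [8, 6, 4, 2, 9] p = path g [9, 2, 8, 9, 1] p :=
  scan (u := [9]) (w := [4, 5]) (i := 0) (r13_0_1 H) (step (f4226 H) rfl) (step (H.back (i := 9) (by decide) (f3058 H)) (step (H.back (i := 0) (by decide) (f3154 H)) rfl))

theorem f4229 : g 5 • path g [9, 2, 8, 9, 1] p = path g [8, 6, 4, 2, 9] p :=
  H.back (i := 0) (by decide) (f4228 H)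

theorem f4230 : g 5 • path g [8, 6, 4, 2, 9] p = path g [9, 2, 8, 9, 1] p :=
  scan (u := [9]) (w := [4, 0]) (i := 5) (r13_1_0 H) (step (f4226 H) rfl) (step (H.back (i := 9) (by decide) (f3058 H)) (step (H.back (i := 5) (by decide) (f3071 H)) rfl))

theorem f4231 : g 0 • path g [9, 2, 8, 9, 1] p = path g [8, 6, 4, 2, 9] p :=
  H.back (i := 5) (by decide) (f4230 H)

theorem f4232 : g 6 • path g [8, 6, 4, 2, 9] p = path g [8, 4, 2, 9] p :=
  scan (u := [9]) (w := [4, 1]) (i := 6) (r14_1_2 H) (step (f4226 H) rfl) (step (H.back (i := 9) (by decide) (f928 H)) (step (H.back (i := 6) (by decide) (f867 H)) rfl))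

theorem f4233 : g 1 • path g [8, 4, 2, 9] p = path g [8, 6, 4, 2, 9] p :=
  H.back (i := 6) (by decide) (f4232 H)

theorem f4234 : g 8 • path g [8, 6, 4, 2] p = path g [8, 6, 4, 2, 8] p :=
  rfl

theorem f4235 : g 3 • path g [8, 6, 4, 2, 8] p = path g [8, 6, 4, 2] p :=
  H.back (i := 8) (by decide) (f4234 H)

theorem f4236 : g 3 • path g [8, 6, 4, 2] p = path g [8, 6, 4, 2, 3] p :=
  rfl

theorem f4238 : g 3 • path g [8, 6, 4, 2, 3] p = path g [8, 6, 4, 2, 8] p :=
  scan (u := [3]) (w := [3]) (i := 3) (r6_0_0 H) (step (f4236 H) rfl) (step (H.back (i := 8) (by decide) (f4234 H)) rfl)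

theorem f4239 : g 8 • path g [8, 6, 4, 2, 8] p = path g [8, 6, 4, 2, 3] p :=
  H.back (i := 3) (by decide) (f4238 H)

theorem f4240 : g 4 • path g [8, 6, 4, 2] p = path g [8, 6, 4, 2, 4] p :=
  rfl

theorem f4241 : g 9 • path g [8, 6, 4, 2, 4] p = path g [8, 6, 4, 2] p :=
  H.back (i := 4) (by decide) (f4240 H)

theorem f4242 : g 4 • path g [8, 6, 4, 2, 4] p = path g [8, 6, 4, 2, 9] p :=
  scan (u := [4]) (w := [4]) (i := 4) (r10_0_0 H) (step (f4240 H) rfl) (step (H.back (i := 9) (by decide) (f4226 H)) rfl)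

theorem f4244 : g 5 • path g [8, 6, 4, 2, 4] p = path g [9, 2, 8, 1, 4] p :=
  scan (u := [4]) (w := [9, 0]) (i := 5) (r13_0_3 H) (step (f4240 H) rfl) (step (H.back (i := 4) (by decide) (f3321 H)) (step (H.back (i := 5) (by decide) (f3071 H)) rfl))

theorem f4245 : g 0 • path g [9, 2, 8, 1, 4] p = path g [8, 6, 4, 2, 4] p :=
  H.back (i := 5) (by decide) (f4244 H)

theorem f4246 : g 0 • path g [8, 6, 4, 2, 4] p = path g [9, 2, 8, 1, 4] p :=
  scan (u := [4]) (w := [9, 5]) (i := 0) (r13_1_2 H) (step (f4240 H) rfl) (step (H.back (i := 4) (by decide) (f3321 H)) (step (H.back (i := 0) (by decide) (f3154 H)) rfl))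

theorem f4248 : g 6 • path g [8, 6, 4, 2, 4] p = path g [8, 4, 2, 4] p :=
  scan (u := [4]) (w := [9, 1]) (i := 6) (r14_0_1 H) (step (f4240 H) rfl) (step (H.back (i := 4) (by decide) (f940 H)) (step (H.back (i := 6) (by decide) (f867 H)) rfl))

theorem f4249 : g 1 • path g [8, 4, 2, 4] p = path g [8, 6, 4, 2, 4] p :=
  H.back (i := 6) (by decide) (f4248 H)

theorem f4250 : g 2 • path g [8, 1, 8, 9] p = path g [8, 1, 8, 9, 2] p :=
  rfl

theorem f4251 : g 7 • path g [8, 1, 8, 9, 2] p = path g [8, 1, 8, 9] p :=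
  H.back (i := 2) (by decide) (f4250 H)

theorem f4252 : g 2 • path g [8, 1, 8, 9, 2] p = path g [8, 1, 8, 9] p :=
  scan (u := [2]) (w := []) (i := 2) (r2_0_0 H) (step (f4250 H) rfl) rfl

theorem f4253 : g 7 • path g [8, 1, 8, 9] p = path g [8, 1, 8, 9, 2] p :=
  H.back (i := 2) (by decide) (f4252 H)

theorem f4254 : g 5 • path g [8, 1, 8, 9] p = path g [8, 1, 8, 9, 5] p :=
  rfl

theorem f4256 : g 5 • path g [8, 1, 8, 9, 5] p = path g [8, 1, 8, 9] p :=
  scan (u := [5]) (w := []) (i := 5) (r0_1_0 H) (step (f4254 H) rfl) rfl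

theorem f4257 : g 0 • path g [8, 1, 8, 9] p = path g [8, 1, 8, 9, 5] p :=
  H.back (i := 5) (by decide) (f4256 H)

theorem f4260 : g 6 • path g [8, 1, 8, 9] p = path g [8, 1, 8, 9, 6] p :=
  rfl

theorem f4261 : g 1 • path g [8, 1, 8, 9, 6] p = path g [8, 1, 8, 9] p :=
  H.back (i := 6) (by decide) (f4260 H)

theorem f4262 : g 4 • path g [8, 1, 8, 9, 6] p = path g [8, 1, 8, 6] p :=
  scan (u := [6]) (w := [1, 9]) (i := 4) (r14_1_3 H) (step (f4260 H) rfl) (step (H.back (i := 6) (by decide) (f880 H)) (step (H.back (i := 4) (by decide) (f869 H)) rfl))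

theorem f4263 : g 9 • path g [8, 1, 8, 6] p = path g [8, 1, 8, 9, 6] p :=
  H.back (i := 4) (by decide) (f4262 H)

theorem f4264 : g 1 • path g [8, 1, 8, 9] p = path g [8, 1, 8, 9, 1] p :=
  rfl

theorem f4265 : g 6 • path g [8, 1, 8, 9, 1] p = path g [8, 1, 8, 9] p :=
  H.back (i := 1) (by decide) (f4264 H)

theorem f4266 : g 1 • path g [8, 1, 8, 9, 1] p = path g [8, 1, 8, 9, 6] p :=
  scan (u := [1]) (w := [1]) (i := 1) (r1_0_0 H) (step (f4264 H) rfl) (step (H.back (i := 6) (by decide) (f4260 H)) rfl)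

theorem f4267 : g 6 • path g [8, 1, 8, 9, 6] p = path g [8, 1, 8, 9, 1] p :=
  H.back (i := 1) (by decide) (f4266 H)

theorem f4268 : g 4 • path g [8, 1, 8, 9, 1] p = path g [8, 1, 8, 1] p :=
  scan (u := [1]) (w := [6, 9]) (i := 4) (r14_0_0 H) (step (f4264 H) rfl) (step (H.back (i := 1) (by decide) (f882 H)) (step (H.back (i := 4) (by decide) (f869 H)) rfl))

theorem f4269 : g 9 • path g [8, 1, 8, 1] p = path g [8, 1, 8, 9, 1] p :=
  H.back (i := 4) (by decide) (f4268 H)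

theorem f4270 : g 8 • path g [8, 1, 8, 5] p = path g [8, 1, 8, 5, 8] p :=
  rfl

theorem f4272 : g 3 • path g [8, 1, 8, 5] p = path g [8, 1, 8, 5, 3] p :=
  rfl

theorem f4274 : g 3 • path g [8, 1, 8, 5, 3] p = path g [8, 1, 8, 5, 8] p :=
  scan (u := [3]) (w := [3]) (i := 3) (r6_0_0 H) (step (f4272 H) rfl) (step (H.back (i := 8) (by decide) (f4270 H)) rfl)

theorem f4276 : g 6 • path g [8, 1, 8, 5] p = path g [8, 1, 8, 5, 6] p :=
  rfl

theorem f4277 : g 1 • path g [8, 1, 8, 5, 6] p = path g [8, 1, 8, 5] p :=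
  H.back (i := 6) (by decide) (f4276 H)

theorem f4278 : g 7 • path g [8, 1, 8, 5, 6] p = path g [8, 6, 8, 5, 1] p :=
  scan (u := [6]) (w := [6, 7]) (i := 7) (r3_1_1 H) (step (f4276 H) rfl) (step (H.back (i := 1) (by decide) (f4034 H)) (step (H.back (i := 2) (by decide) (f879 H)) rfl))

theorem f4280 : g 2 • path g [3, 6, 3, 5] p = path g [3, 6, 3, 5] p :=
  scan (u := [6, 7, 5, 6, 8, 0]) (w := [0, 2, 3, 5]) (i := 2) (r8_0_5 H) (step (f4276 H) (step (f4278 H) (step (f4075 H) (step (f1095 H) (step (f319 H) (step (f1119 H) rfl)))))) (step (H.back (i := 5) (by decide) (f1116 H)) (step (H.back (i := 7) (by decide) (f4084 H)) (step (H.back (i := 8) (by decide) (f247 H)) (step (H.back (i := 0) (by decide) (f873 H)) rfl))))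

theorem f4281 : g 7 • path g [3, 6, 3, 5] p = path g [3, 6, 3, 5] p :=
  H.back (i := 2) (by decide) (f4280 H)

theorem f4282 : g 2 • path g [3, 6, 3] p = path g [8, 1, 3] p :=
  (f1112 H).trans (f4082 H)

theorem f4283 : g 7 • path g [8, 6, 8, 5, 1] p = path g [8, 1, 8, 5, 6] p :=
  scan (u := [7]) (w := []) (i := 7) (r2_1_0 H) (step (f4278 H) rfl) rfl

theorem f4285 : g 1 • path g [8, 1, 8, 5] p = path g [8, 1, 8, 5, 1] p :=
  rfl

theorem f4286 : g 6 • path g [8, 1, 8, 5, 1] p = path g [8, 1, 8, 5] p :=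
  H.back (i := 1) (by decide) (f4285 H)

theorem f4287 : g 1 • path g [8, 1, 8, 5, 1] p = path g [8, 1, 8, 5, 6] p :=
  scan (u := [1]) (w := [1]) (i := 1) (r1_0_0 H) (step (f4285 H) rfl) (step (H.back (i := 6) (by decide) (f4276 H)) rfl)

theorem f4288 : g 6 • path g [8, 1, 8, 5, 6] p = path g [8, 1, 8, 5, 1] p :=
  H.back (i := 1) (by decide) (f4287 H)

theorem f4289 : g 2 • path g [8, 1, 8, 5, 1] p = path g [8, 6, 8, 5, 6] p :=
  scan (u := [1]) (w := [1, 2]) (i := 2) (r3_0_0 H) (step (f4285 H) rfl) (step (H.back (i := 6) (by decide) (f4032 H)) (step (H.back (i := 7) (by decide) (f876 H)) rfl))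

theorem f4290 : g 7 • path g [8, 6, 8, 5, 6] p = path g [8, 1, 8, 5, 1] p :=
  H.back (i := 2) (by decide) (f4289 H)

theorem f4291 : g 2 • path g [8, 6, 8, 5, 6] p = path g [8, 1, 8, 5, 1] p :=
  scan (u := [2]) (w := []) (i := 2) (r2_0_0 H) (step (f4289 H) rfl) rfl

theorem f4292 : g 7 • path g [8, 1, 8, 5, 1] p = path g [8, 6, 8, 5, 6] p :=
  H.back (i := 2) (by decide) (f4291 H)

theorem f4293 : g 0 • path g [3, 1, 8, 1] p = path g [8, 1, 8, 5, 1] p :=
  scan (u := [2, 1, 0, 2, 1, 0, 6, 2, 0, 6, 2]) (w := []) (i := 0) (r5_0_4 H) (step (f4289 H) (step (f4033 H) (step (f819 H) (step (f226 H) (step (f824 H) (step (f4106 H) (step (f4107 H) (step (f1131 H) (step (f1127 H) (step (f1134 H) (step (f1142 H) rfl))))))))))) rfl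

theorem f4294 : g 5 • path g [8, 1, 8, 5, 1] p = path g [3, 1, 8, 1] p :=
  H.back (i := 0) (by decide) (f4293 H)

theorem f4295 : g 2 • path g [3, 1, 3, 5] p = path g [3, 1, 3, 5] p :=
  scan (u := [7, 5, 6, 8, 0]) (w := [0, 2, 3, 5, 6]) (i := 2) (r8_0_6 H) (step (f4290 H) (step (f4294 H) (step (f1137 H) (step (f327 H) (step (f1161 H) rfl))))) (step (H.back (i := 5) (by decide) (f1158 H)) (step (H.back (i := 7) (by decide) (f4069 H)) (step (H.back (i := 8) (by decide) (f231 H)) (step (H.back (i := 0) (by decide) (f819 H)) (step (H.back (i := 1) (by decide) (f4033 H)) rfl)))))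

theorem f4296 : g 7 • path g [3, 1, 3, 5] p = path g [3, 1, 3, 5] p :=
  H.back (i := 2) (by decide) (f4295 H)

theorem f4297 : path g [8, 6, 3, 6, 5] p = path g [3, 6, 3, 6] p :=
  close (u := [2, 0, 1, 2, 0]) (w := [1, 8, 7, 3, 0]) (r7_1_2 H) (step (f4295 H) (step (f1159 H) (step (f1164 H) (step (f4178 H) (step (f4189 H) rfl))))) (step (H.back (i := 6) (by decide) (f1120 H)) (step (H.back (i := 3) (by decide) (f316 H)) (step (H.back (i := 2) (by decide) (f86 H)) (step (H.back (i := 8) (by decide) (f325 H)) (step (H.back (i := 5) (by decide) (f1160 H)) rfl)))))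

theorem f4298 : g 0 • path g [3, 6, 3, 6] p = path g [8, 6, 3, 6] p :=
  (congrArg (g 0 • ·) (f4297 H).symm).trans (f4187 H)

theorem f4300 : g 5 • path g [8, 6, 3, 6] p = path g [3, 6, 3, 6] p :=
  H.back (i := 0) (by decide) (f4298 H)

theorem f4301 : g 5 • path g [3, 6, 3, 6] p = path g [8, 6, 3, 6] p :=
  (congrArg (g 5 • ·) (f4297 H).symm).trans (f4188 H)

theorem f4303 : g 0 • path g [8, 6, 3, 6] p = path g [3, 6, 3, 6] p :=
  H.back (i := 5) (by decide) (f4301 H)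

theorem f4304 : g 6 • path g [8, 6, 3, 1, 5] p = path g [3, 6, 3, 5] p :=
  scan (u := [5, 1, 1, 5]) (w := [5, 6]) (i := 6) (r4_1_3 H) (step (f4301 H) (step (f851 H) (step (f852 H) (step (f4196 H) rfl)))) (step (H.back (i := 0) (by decide) (f1119 H)) (step (H.back (i := 1) (by decide) (f1121 H)) rfl))

theorem f4305 : g 1 • path g [3, 6, 3, 5] p = path g [8, 6, 3, 1, 5] p :=
  H.back (i := 6) (by decide) (f4304 H)

theorem f4306 : g 0 • path g [8, 6, 3, 5, 1] p = path g [3, 6, 3, 1] p :=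
  scan (u := [0, 6, 6, 0, 1]) (w := [1]) (i := 0) (r4_0_0 H) (step (f4298 H) (step (f855 H) (step (f853 H) (step (f849 H) (step (f4163 H) rfl))))) (step (H.back (i := 6) (by decide) (f1125 H)) rfl)

theorem f4307 : g 5 • path g [3, 6, 3, 1] p = path g [8, 6, 3, 5, 1] p :=
  H.back (i := 0) (by decide) (f4306 H)

theorem f4308 : g 0 • path g [3, 6, 3, 1] p = path g [8, 6, 3, 5, 1] p :=
  scan (u := [0]) (w := []) (i := 0) (r0_0_0 H) (step (f4306 H) rfl) rfl

theorem f4309 : g 5 • path g [8, 6, 3, 5, 1] p = path g [3, 6, 3, 1] p :=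
  H.back (i := 0) (by decide) (f4308 H)

theorem f4310 : g 2 • path g [8, 6, 3, 5, 1] p = path g [8, 6, 3, 5, 6] p :=
  scan (u := [0]) (w := [1, 0, 8, 7, 5, 7, 5, 3, 1]) (i := 2) (r8_1_3 H) (step (f4308 H) rfl) (step (H.back (i := 6) (by decide) (f4161 H)) (step (H.back (i := 5) (by decide) (f846 H)) (step (H.back (i := 3) (by decide) (f228 H)) (step (H.back (i := 2) (by decide) (f58 H)) (step (H.back (i := 0) (by decide) (f2847 H)) (step (H.back (i := 2) (by decide) (f88 H)) (step (H.back (i := 0) (by decide) (f211 H)) (step (H.back (i := 8) (by decide) (f317 H)) (step (H.back (i := 6) (by decide) (f1123 H)) rfl)))))))))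

theorem f4312 : g 2 • path g [8, 6, 3, 5, 6] p = path g [8, 6, 3, 5, 1] p :=
  scan (u := [2]) (w := []) (i := 2) (r2_0_0 H) (step (f4310 H) rfl) rfl

theorem f4314 : path g [8, 6, 3, 5, 2] p = path g [8, 6, 3, 5] p :=
  close (u := [2, 1, 2]) (w := [1]) (r3_0_1 H) (step (f4310 H) (step (f4162 H) (step (f4153 H) rfl))) (step (H.back (i := 6) (by decide) (f4164 H)) rfl)

theorem f4316 : g 7 • path g [8, 6, 3, 5] p = path g [8, 6, 3, 5] p :=
  (f4156 H).trans (f4314 H)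

theorem f4319 : g 2 • path g [8, 6, 3, 5] p = path g [8, 6, 3, 5] p :=
  (f4153 H).trans (f4314 H)

theorem f4321 : g 0 • path g [8, 1, 8, 5, 1] p = path g [3, 1, 8, 1] p :=
  scan (u := [0]) (w := []) (i := 0) (r0_0_0 H) (step (f4293 H) rfl) rfl

theorem f4322 : g 5 • path g [3, 1, 8, 1] p = path g [8, 1, 8, 5, 1] p :=
  H.back (i := 0) (by decide) (f4321 H)

theorem f4323 : g 0 • path g [3, 1, 8, 6] p = path g [8, 1, 8, 6] p :=
  scan (u := [0, 6, 6]) (w := [1, 0, 1]) (i := 0) (r4_0_0 H) (step (f4321 H) (step (f1137 H) (step (f1134 H) rfl))) (step (H.back (i := 6) (by decide) (f880 H)) (step (H.back (i := 5) (by decide) (f874 H)) (step (H.back (i := 6) (by decide) (f4286 H)) rfl)))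

theorem f4325 : g 0 • path g [8, 1, 8, 6] p = path g [3, 1, 8, 6] p :=
  scan (u := [0]) (w := []) (i := 0) (r0_0_0 H) (step (f4323 H) rfl) rfl

theorem f4326 : g 5 • path g [3, 1, 8, 6] p = path g [8, 1, 8, 6] p :=
  H.back (i := 0) (by decide) (f4325 H)

theorem f4327 : g 5 • path g [8, 1, 8, 9, 6] p = path g [9, 8, 1, 3, 6] p :=
  scan (u := [0, 9]) (w := [4]) (i := 5) (r13_1_3 H) (step (f4323 H) (step (f4263 H) rfl)) (step (H.back (i := 9) (by decide) (f2942 H)) rfl)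

theorem f4328 : g 0 • path g [9, 8, 1, 3, 6] p = path g [8, 1, 8, 9, 6] p :=
  H.back (i := 5) (by decide) (f4327 H)

theorem f4329 : g 5 • path g [9, 8, 1, 3, 6] p = path g [8, 1, 8, 9, 6] p :=
  scan (u := [5]) (w := []) (i := 5) (r0_1_0 H) (step (f4327 H) rfl) rfl

theorem f4330 : g 0 • path g [8, 1, 8, 9, 6] p = path g [9, 8, 1, 3, 6] p :=
  H.back (i := 5) (by decide) (f4329 H)

theorem f4331 : g 4 • path g [8, 1, 8, 5] p = path g [8, 1, 8, 5, 4] p :=
  rfl

theorem f4335 : g 5 • path g [8, 1, 8, 5, 4] p = path g [8, 1, 8, 4] p :=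
  scan (u := [4]) (w := [9, 0]) (i := 5) (r13_0_3 H) (step (f4331 H) rfl) (step (H.back (i := 4) (by decide) (f890 H)) (step (H.back (i := 5) (by decide) (f874 H)) rfl))

theorem f4336 : g 0 • path g [8, 1, 8, 4] p = path g [8, 1, 8, 5, 4] p :=
  H.back (i := 5) (by decide) (f4335 H)

theorem f4337 : g 0 • path g [8, 1, 8, 5, 4] p = path g [8, 1, 8, 4] p :=
  scan (u := [4]) (w := [9, 5]) (i := 0) (r13_1_2 H) (step (f4331 H) rfl) (step (H.back (i := 4) (by decide) (f890 H)) (step (H.back (i := 0) (by decide) (f873 H)) rfl))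

theorem f4339 : g 8 • path g [8, 1, 8, 6] p = path g [8, 1, 8, 6, 8] p :=
  rfl

theorem f4340 : g 3 • path g [8, 1, 8, 6, 8] p = path g [8, 1, 8, 6] p :=
  H.back (i := 8) (by decide) (f4339 H)

theorem f4341 : g 3 • path g [8, 1, 8, 6] p = path g [8, 1, 8, 6, 3] p :=
  rfl

theorem f4343 : g 3 • path g [8, 1, 8, 6, 3] p = path g [8, 1, 8, 6, 8] p :=
  scan (u := [3]) (w := [3]) (i := 3) (r6_0_0 H) (step (f4341 H) rfl) (step (H.back (i := 8) (by decide) (f4339 H)) rfl)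

theorem f4345 : g 4 • path g [8, 1, 8, 6] p = path g [8, 1, 8, 6, 4] p :=
  rfl

theorem f4347 : g 4 • path g [8, 1, 8, 6, 4] p = path g [8, 1, 8, 9, 6] p :=
  scan (u := [4]) (w := [4]) (i := 4) (r10_0_0 H) (step (f4345 H) rfl) (step (H.back (i := 9) (by decide) (f4263 H)) rfl)

theorem f4348 : g 9 • path g [8, 1, 8, 9, 6] p = path g [8, 1, 8, 6, 4] p :=
  H.back (i := 4) (by decide) (f4347 H)

theorem f4349 : g 1 • path g [8, 1, 8, 6, 4] p = path g [8, 1, 8, 4] p :=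
  scan (u := [4]) (w := [9, 6]) (i := 1) (r14_1_0 H) (step (f4345 H) rfl) (step (H.back (i := 4) (by decide) (f890 H)) (step (H.back (i := 1) (by decide) (f881 H)) rfl))

theorem f4350 : g 6 • path g [8, 1, 8, 4] p = path g [8, 1, 8, 6, 4] p :=
  H.back (i := 1) (by decide) (f4349 H)

theorem f4351 : g 8 • path g [8, 1, 8, 1] p = path g [8, 1, 8, 1, 8] p :=
  rfl

theorem f4353 : g 5 • path g [8, 1, 8, 1] p = path g [8, 1, 8, 1, 5] p :=
  rfl

theorem f4354 : g 0 • path g [8, 1, 8, 1, 5] p = path g [8, 1, 8, 1] p :=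
  H.back (i := 5) (by decide) (f4353 H)

theorem f4355 : g 5 • path g [8, 1, 8, 1, 5] p = path g [8, 1, 8, 1] p :=
  scan (u := [5]) (w := []) (i := 5) (r0_1_0 H) (step (f4353 H) rfl) rfl

theorem f4356 : g 0 • path g [8, 1, 8, 1] p = path g [8, 1, 8, 1, 5] p :=
  H.back (i := 5) (by decide) (f4355 H)

theorem f4357 : g 6 • path g [8, 1, 8, 1, 5] p = path g [3, 1, 8, 5] p :=
  scan (u := [5]) (w := [5, 1, 1, 5, 6]) (i := 6) (r4_1_1 H) (step (f4353 H) rfl) (step (H.back (i := 0) (by decide) (f1129 H)) (step (H.back (i := 6) (by decide) (f1137 H)) (step (H.back (i := 6) (by decide) (f1139 H)) (step (H.back (i := 0) (by decide) (f4325 H)) (step (H.back (i := 1) (by decide) (f884 H)) rfl)))))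

theorem f4358 : g 1 • path g [3, 1, 8, 5] p = path g [8, 1, 8, 1, 5] p :=
  H.back (i := 6) (by decide) (f4357 H)

theorem f4359 : g 3 • path g [8, 1, 8, 1] p = path g [8, 1, 8, 1, 3] p :=
  rfl

theorem f4360 : g 8 • path g [8, 1, 8, 1, 3] p = path g [8, 1, 8, 1] p :=
  H.back (i := 3) (by decide) (f4359 H)

theorem f4361 : g 3 • path g [8, 1, 8, 1, 3] p = path g [8, 1, 8, 1, 8] p :=
  scan (u := [3]) (w := [3]) (i := 3) (r6_0_0 H) (step (f4359 H) rfl) (step (H.back (i := 8) (by decide) (f4351 H)) rfl)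

theorem f4363 : g 4 • path g [8, 1, 8, 1] p = path g [8, 1, 8, 1, 4] p :=
  rfl

theorem f4365 : g 4 • path g [8, 1, 8, 1, 4] p = path g [8, 1, 8, 9, 1] p :=
  scan (u := [4]) (w := [4]) (i := 4) (r10_0_0 H) (step (f4363 H) rfl) (step (H.back (i := 9) (by decide) (f4269 H)) rfl)

theorem f4366 : g 9 • path g [8, 1, 8, 9, 1] p = path g [8, 1, 8, 1, 4] p :=
  H.back (i := 4) (by decide) (f4365 H)

theorem f4367 : g 6 • path g [8, 1, 8, 1, 4] p = path g [8, 1, 8, 4] p :=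
  scan (u := [4]) (w := [9, 1]) (i := 6) (r14_0_1 H) (step (f4363 H) rfl) (step (H.back (i := 4) (by decide) (f890 H)) (step (H.back (i := 6) (by decide) (f883 H)) rfl))

theorem f4368 : g 1 • path g [8, 1, 8, 4] p = path g [8, 1, 8, 1, 4] p :=
  H.back (i := 6) (by decide) (f4367 H)

theorem f4369 : g 1 • path g [8, 1, 8, 1, 4] p = path g [8, 1, 8, 6, 4] p :=
  scan (u := [4]) (w := [9, 6]) (i := 1) (r14_1_0 H) (step (f4363 H) rfl) (step (H.back (i := 4) (by decide) (f4345 H)) (step (H.back (i := 1) (by decide) (f884 H)) rfl))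

theorem f4371 : g 2 • path g [8, 1, 8, 4] p = path g [8, 1, 8, 4, 2] p :=
  rfl

theorem f4372 : g 7 • path g [8, 1, 8, 4, 2] p = path g [8, 1, 8, 4] p :=
  H.back (i := 2) (by decide) (f4371 H)

theorem f4373 : g 2 • path g [8, 1, 8, 4, 2] p = path g [8, 1, 8, 4] p :=
  scan (u := [2]) (w := []) (i := 2) (r2_0_0 H) (step (f4371 H) rfl) rfl

theorem f4374 : g 7 • path g [8, 1, 8, 4] p = path g [8, 1, 8, 4, 2] p :=
  H.back (i := 2) (by decide) (f4373 H)

theorem f4375 : g 2 • path g [8, 1, 3, 9] p = path g [8, 1, 3, 9, 2] p :=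
  rfl

theorem f4376 : g 7 • path g [8, 1, 3, 9, 2] p = path g [8, 1, 3, 9] p :=
  H.back (i := 2) (by decide) (f4375 H)

theorem f4377 : g 2 • path g [8, 1, 3, 9, 2] p = path g [8, 1, 3, 9] p :=
  scan (u := [2]) (w := []) (i := 2) (r2_0_0 H) (step (f4375 H) rfl) rfl

theorem f4378 : g 7 • path g [8, 1, 3, 9] p = path g [8, 1, 3, 9, 2] p :=
  H.back (i := 2) (by decide) (f4377 H)

theorem f4379 : g 5 • path g [8, 1, 3, 9] p = path g [8, 1, 3, 9, 5] p :=
  rfl

theorem f4381 : g 5 • path g [8, 1, 3, 9, 5] p = path g [8, 1, 3, 9] p :=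
  scan (u := [5]) (w := []) (i := 5) (r0_1_0 H) (step (f4379 H) rfl) rfl

theorem f4382 : g 0 • path g [8, 1, 3, 9] p = path g [8, 1, 3, 9, 5] p :=
  H.back (i := 5) (by decide) (f4381 H)

theorem f4383 : g 9 • path g [8, 1, 3, 9, 5] p = path g [8, 9, 1, 8, 5] p :=
  scan (u := [5]) (w := [0, 4]) (i := 9) (r13_0_0 H) (step (f4379 H) rfl) (step (H.back (i := 5) (by decide) (f3959 H)) (step (H.back (i := 9) (by decide) (f896 H)) rfl))

theorem f4384 : g 4 • path g [8, 9, 1, 8, 5] p = path g [8, 1, 3, 9, 5] p :=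
  H.back (i := 9) (by decide) (f4383 H)

theorem f4385 : g 4 • path g [8, 1, 3, 9, 5] p = path g [8, 1, 3, 5] p :=
  scan (u := [5]) (w := [0, 9]) (i := 4) (r13_1_1 H) (step (f4379 H) rfl) (step (H.back (i := 5) (by decide) (f904 H)) (step (H.back (i := 4) (by decide) (f895 H)) rfl))

theorem f4387 : g 6 • path g [8, 1, 3, 9] p = path g [8, 1, 3, 9, 6] p :=
  rfl

theorem f4388 : g 1 • path g [8, 1, 3, 9, 6] p = path g [8, 1, 3, 9] p :=
  H.back (i := 6) (by decide) (f4387 H)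

theorem f4389 : g 9 • path g [8, 1, 3, 9, 6] p = path g [8, 9, 1, 8, 6] p :=
  scan (u := [6]) (w := [1, 4]) (i := 9) (r14_0_2 H) (step (f4387 H) rfl) (step (H.back (i := 6) (by decide) (f3965 H)) (step (H.back (i := 9) (by decide) (f896 H)) rfl))

theorem f4390 : g 4 • path g [8, 9, 1, 8, 6] p = path g [8, 1, 3, 9, 6] p :=
  H.back (i := 9) (by decide) (f4389 H)

theorem f4391 : g 4 • path g [8, 1, 3, 9, 6] p = path g [8, 1, 3, 6] p :=
  scan (u := [6]) (w := [1, 9]) (i := 4) (r14_1_3 H) (step (f4387 H) rfl) (step (H.back (i := 6) (by decide) (f908 H)) (step (H.back (i := 4) (by decide) (f895 H)) rfl))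

theorem f4393 : g 1 • path g [8, 1, 3, 9] p = path g [8, 1, 3, 9, 1] p :=
  rfl

theorem f4395 : g 1 • path g [8, 1, 3, 9, 1] p = path g [8, 1, 3, 9, 6] p :=
  scan (u := [1]) (w := [1]) (i := 1) (r1_0_0 H) (step (f4393 H) rfl) (step (H.back (i := 6) (by decide) (f4387 H)) rfl)

theorem f4397 : g 4 • path g [8, 1, 3, 9, 1] p = path g [8, 1, 3, 1] p :=
  scan (u := [1]) (w := [6, 9]) (i := 4) (r14_0_0 H) (step (f4393 H) rfl) (step (H.back (i := 1) (by decide) (f910 H)) (step (H.back (i := 4) (by decide) (f895 H)) rfl))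

theorem f4398 : g 9 • path g [8, 1, 3, 1] p = path g [8, 1, 3, 9, 1] p :=
  H.back (i := 4) (by decide) (f4397 H)

theorem f4399 : g 9 • path g [8, 1, 3, 9, 1] p = path g [8, 9, 1, 8, 1] p :=
  scan (u := [1]) (w := [6, 4]) (i := 9) (r14_1_1 H) (step (f4393 H) rfl) (step (H.back (i := 1) (by decide) (f3973 H)) (step (H.back (i := 9) (by decide) (f896 H)) rfl))

theorem f4403 : g 2 • path g [8, 1, 3, 5] p = path g [8, 1, 3, 5, 2] p :=
  rfl

theorem f4411 : g 6 • path g [8, 1, 3, 5] p = path g [8, 1, 3, 5, 6] p :=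
  rfl

theorem f4412 : g 1 • path g [8, 1, 3, 5, 6] p = path g [8, 1, 3, 5] p :=
  H.back (i := 6) (by decide) (f4411 H)

theorem f4413 : g 1 • path g [8, 1, 3, 5] p = path g [8, 1, 3, 5, 1] p :=
  rfl

theorem f4415 : g 1 • path g [8, 1, 3, 5, 1] p = path g [8, 1, 3, 5, 6] p :=
  scan (u := [1]) (w := [1]) (i := 1) (r1_0_0 H) (step (f4413 H) rfl) (step (H.back (i := 6) (by decide) (f4411 H)) rfl)

theorem f4416 : g 6 • path g [8, 1, 3, 5, 6] p = path g [8, 1, 3, 5, 1] p :=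
  H.back (i := 1) (by decide) (f4415 H)

theorem f4417 : g 8 • path g [8, 1, 3, 6] p = path g [8, 1, 3, 6, 8] p :=
  rfl

theorem f4418 : g 3 • path g [8, 1, 3, 6, 8] p = path g [8, 1, 3, 6] p :=
  H.back (i := 8) (by decide) (f4417 H)

theorem f4419 : g 2 • path g [8, 1, 3, 6] p = path g [8, 1, 3, 6, 2] p :=
  rfl

theorem f4420 : g 7 • path g [8, 1, 3, 6, 2] p = path g [8, 1, 3, 6] p :=
  H.back (i := 2) (by decide) (f4419 H)

theorem f4421 : g 2 • path g [8, 1, 3, 6, 2] p = path g [8, 1, 3, 6] p :=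
  scan (u := [2]) (w := []) (i := 2) (r2_0_0 H) (step (f4419 H) rfl) rfl

theorem f4423 : path g [3, 6, 3, 1] p = path g [8, 1, 3, 6, 2] p :=
  close (u := [2, 1, 2, 1]) (w := []) (r3_0_1 H) (step (f4421 H) (step (f909 H) (step (f4087 H) (step (f1122 H) rfl)))) rfl

theorem f4424 : path g [8, 1, 3, 6, 2] p = path g [3, 6, 3, 1] p :=
  (f4423 H).symm

theorem f4425 : g 7 • path g [3, 6, 3, 1] p = path g [8, 1, 3, 6] p :=
  (congrArg (g 7 • ·) (f4424 H).symm).trans (f4420 H)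

theorem f4427 : g 2 • path g [8, 1, 3, 6] p = path g [3, 6, 3, 1] p :=
  H.back (i := 7) (by decide) (f4425 H)

theorem f4428 : g 2 • path g [3, 6, 3, 1] p = path g [8, 1, 3, 6] p :=
  (congrArg (g 2 • ·) (f4424 H).symm).trans (f4421 H)

theorem f4430 : g 7 • path g [8, 1, 3, 6] p = path g [3, 6, 3, 1] p :=
  H.back (i := 2) (by decide) (f4428 H)

theorem f4431 : g 0 • path g [8, 1, 3, 6] p = path g [3, 1, 3, 6] p :=
  scan (u := [2]) (w := [1, 8, 7, 3, 0, 2, 0, 1]) (i := 0) (r7_1_5 H) (step (f4428 H) rfl) (step (H.back (i := 6) (by decide) (f1162 H)) (step (H.back (i := 3) (by decide) (f324 H)) (step (H.back (i := 2) (by decide) (f88 H)) (step (H.back (i := 8) (by decide) (f317 H)) (step (H.back (i := 5) (by decide) (f1118 H)) (step (H.back (i := 7) (by decide) (f4281 H)) (step (H.back (i := 5) (by decide) (f1116 H)) (step (H.back (i := 6) (by decide) (f1123 H)) rfl))))))))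

theorem f4432 : g 5 • path g [3, 1, 3, 6] p = path g [8, 1, 3, 6] p :=
  H.back (i := 0) (by decide) (f4431 H)

theorem f4433 : g 2 • path g [3, 6, 3, 6] p = path g [8, 1, 3, 1] p :=
  scan (u := [2, 0, 2, 1, 0]) (w := [1, 0, 6, 2, 0, 6]) (i := 2) (r5_0_2 H) (step (f4428 H) (step (f4431 H) (step (f4183 H) (step (f854 H) (step (f4303 H) rfl))))) (step (H.back (i := 6) (by decide) (f913 H)) (step (H.back (i := 5) (by decide) (f4432 H)) (step (H.back (i := 1) (by decide) (f1166 H)) (step (H.back (i := 7) (by decide) (f4180 H)) (step (H.back (i := 5) (by decide) (f4301 H)) (step (H.back (i := 1) (by decide) (f1124 H)) rfl))))))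

theorem f4435 : g 2 • path g [8, 1, 3, 1] p = path g [3, 6, 3, 6] p :=
  scan (u := [2]) (w := []) (i := 2) (r2_0_0 H) (step (f4433 H) rfl) rfl

theorem f4436 : g 7 • path g [3, 6, 3, 6] p = path g [8, 1, 3, 1] p :=
  H.back (i := 2) (by decide) (f4435 H)

theorem f4437 : path g [8, 1, 3, 5, 2] p = path g [8, 1, 3, 5] p :=
  close (u := [2, 0, 1, 8, 7, 3, 0, 2]) (w := [0, 1]) (r7_1_5 H) (step (f4435 H) (step (f4298 H) (step (f851 H) (step (f229 H) (step (f59 H) (step (f244 H) (step (f907 H) (step (f4403 H) rfl)))))))) (step (H.back (i := 5) (by decide) (f904 H)) (step (H.back (i := 6) (by decide) (f911 H)) rfl))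

theorem f4442 : g 2 • path g [8, 1, 3, 5] p = path g [8, 1, 3, 5] p :=
  (f4403 H).trans (f4437 H)

theorem f4444 : g 0 • path g [3, 1, 3, 6] p = path g [8, 1, 3, 6] p :=
  scan (u := [0]) (w := []) (i := 0) (r0_0_0 H) (step (f4431 H) rfl) rfl

theorem f4445 : g 5 • path g [8, 1, 3, 6] p = path g [3, 1, 3, 6] p :=
  H.back (i := 0) (by decide) (f4444 H)

theorem f4446 : g 0 • path g [8, 1, 3, 5, 1] p = path g [3, 1, 3, 1] p :=
  scan (u := [0, 6, 6, 0, 1]) (w := [1]) (i := 0) (r4_0_0 H) (step (f4444 H) (step (f913 H) (step (f911 H) (step (f907 H) (step (f4413 H) rfl))))) (step (H.back (i := 6) (by decide) (f1167 H)) rfl)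

theorem f4447 : g 5 • path g [3, 1, 3, 1] p = path g [8, 1, 3, 5, 1] p :=
  H.back (i := 0) (by decide) (f4446 H)

theorem f4448 : g 0 • path g [3, 1, 3, 1] p = path g [8, 1, 3, 5, 1] p :=
  scan (u := [0]) (w := []) (i := 0) (r0_0_0 H) (step (f4446 H) rfl) rfl

theorem f4449 : g 5 • path g [8, 1, 3, 5, 1] p = path g [3, 1, 3, 1] p :=
  H.back (i := 0) (by decide) (f4448 H)

theorem f4450 : g 2 • path g [8, 1, 3, 5, 6] p = path g [8, 1, 3, 5, 1] p :=
  scan (u := [0, 6, 2, 0, 2, 1, 0, 2, 1, 0, 6]) (w := []) (i := 2) (r5_0_0 H) (step (f4446 H) (step (f1165 H) (step (f4090 H) (step (f849 H) (step (f4319 H) (step (f4163 H) (step (f4306 H) (step (f4428 H) (step (f909 H) (step (f907 H) (step (f4411 H) rfl))))))))))) rfl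

theorem f4451 : g 7 • path g [8, 1, 3, 5, 1] p = path g [8, 1, 3, 5, 6] p :=
  H.back (i := 2) (by decide) (f4450 H)

theorem f4452 : g 2 • path g [8, 1, 3, 5, 1] p = path g [8, 1, 3, 5, 6] p :=
  scan (u := [2]) (w := []) (i := 2) (r2_0_0 H) (step (f4450 H) rfl) rfl

theorem f4454 : g 3 • path g [8, 1, 3, 6] p = path g [8, 1, 3, 6, 3] p :=
  rfl

theorem f4455 : g 8 • path g [8, 1, 3, 6, 3] p = path g [8, 1, 3, 6] p :=
  H.back (i := 3) (by decide) (f4454 H)

theorem f4456 : g 3 • path g [8, 1, 3, 6, 3] p = path g [8, 1, 3, 6, 8] p :=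
  scan (u := [3]) (w := [3]) (i := 3) (r6_0_0 H) (step (f4454 H) rfl) (step (H.back (i := 8) (by decide) (f4417 H)) rfl)

theorem f4457 : g 8 • path g [8, 1, 3, 6, 8] p = path g [8, 1, 3, 6, 3] p :=
  H.back (i := 3) (by decide) (f4456 H)

theorem f4458 : g 8 • path g [8, 1, 3, 1] p = path g [8, 1, 3, 1, 8] p :=
  rfl

theorem f4459 : g 3 • path g [8, 1, 3, 1, 8] p = path g [8, 1, 3, 1] p :=
  H.back (i := 8) (by decide) (f4458 H)

theorem f4460 : g 5 • path g [8, 1, 3, 1] p = path g [8, 1, 3, 1, 5] p :=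
  rfl

theorem f4462 : g 5 • path g [8, 1, 3, 1, 5] p = path g [8, 1, 3, 1] p :=
  scan (u := [5]) (w := []) (i := 5) (r0_1_0 H) (step (f4460 H) rfl) rfl

theorem f4463 : g 0 • path g [8, 1, 3, 1] p = path g [8, 1, 3, 1, 5] p :=
  H.back (i := 5) (by decide) (f4462 H)

theorem f4464 : g 6 • path g [8, 1, 3, 1, 5] p = path g [3, 1, 3, 5] p :=
  scan (u := [5]) (w := [5, 1, 1, 5, 6]) (i := 6) (r4_1_1 H) (step (f4460 H) rfl) (step (H.back (i := 0) (by decide) (f1161 H)) (step (H.back (i := 6) (by decide) (f1165 H)) (step (H.back (i := 6) (by decide) (f1167 H)) (step (H.back (i := 0) (by decide) (f4431 H)) (step (H.back (i := 1) (by decide) (f912 H)) rfl)))))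

theorem f4465 : g 1 • path g [3, 1, 3, 5] p = path g [8, 1, 3, 1, 5] p :=
  H.back (i := 6) (by decide) (f4464 H)

theorem f4466 : g 3 • path g [8, 1, 3, 1] p = path g [8, 1, 3, 1, 3] p :=
  rfl

theorem f4468 : g 3 • path g [8, 1, 3, 1, 3] p = path g [8, 1, 3, 1, 8] p :=
  scan (u := [3]) (w := [3]) (i := 3) (r6_0_0 H) (step (f4466 H) rfl) (step (H.back (i := 8) (by decide) (f4458 H)) rfl)

theorem f4470 : g 2 • path g [8, 1, 4, 8] p = path g [8, 1, 4, 8, 2] p :=
  rfl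

theorem f4471 : g 7 • path g [8, 1, 4, 8, 2] p = path g [8, 1, 4, 8] p :=
  H.back (i := 2) (by decide) (f4470 H)

theorem f4472 : g 2 • path g [8, 1, 4, 8, 2] p = path g [8, 1, 4, 8] p :=
  scan (u := [2]) (w := []) (i := 2) (r2_0_0 H) (step (f4470 H) rfl) rfl

theorem f4474 : g 3 • path g [8, 1, 4, 8, 2] p = path g [4, 8, 5, 1] p :=
  scan (u := [2]) (w := [6, 5, 7, 6, 5, 7, 5, 8]) (i := 3) (r7_0_0 H) (step (f4470 H) rfl) (step (H.back (i := 1) (by decide) (f1212 H)) (step (H.back (i := 0) (by decide) (f335 H)) (step (H.back (i := 2) (by decide) (f330 H)) (step (H.back (i := 1) (by decide) (f1179 H)) (step (H.back (i := 0) (by decide) (f1754 H)) (step (H.back (i := 2) (by decide) (f383 H)) (step (H.back (i := 0) (by decide) (f2495 H)) (step (H.back (i := 3) (by decide) (f915 H)) rfl))))))))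

theorem f4475 : g 8 • path g [4, 8, 5, 1] p = path g [8, 1, 4, 8, 2] p :=
  H.back (i := 3) (by decide) (f4474 H)

theorem f4476 : g 4 • path g [4, 8, 2, 8] p = path g [8, 1, 4, 8, 2] p :=
  scan (u := [3, 4, 3]) (w := []) (i := 4) (r15_0_1 H) (step (f4474 H) (step (f1608 H) (step (f1173 H) rfl))) rfl

theorem f4477 : g 9 • path g [8, 1, 4, 8, 2] p = path g [4, 8, 2, 8] p :=
  H.back (i := 4) (by decide) (f4476 H)

theorem f4478 : g 5 • path g [8, 1, 4, 8, 2] p = path g [9, 3, 5, 2, 4] p :=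
  scan (u := [4]) (w := [9, 0]) (i := 5) (r13_0_3 H) (step (f4476 H) rfl) (step (H.back (i := 4) (by decide) (f3719 H)) (step (H.back (i := 5) (by decide) (f3406 H)) rfl))

theorem f4479 : g 0 • path g [9, 3, 5, 2, 4] p = path g [8, 1, 4, 8, 2] p :=
  H.back (i := 5) (by decide) (f4478 H)

theorem f4480 : g 0 • path g [8, 1, 4, 8, 2] p = path g [9, 3, 5, 2, 4] p :=
  scan (u := [4]) (w := [9, 5]) (i := 0) (r13_1_2 H) (step (f4476 H) rfl) (step (H.back (i := 4) (by decide) (f3719 H)) (step (H.back (i := 0) (by decide) (f3403 H)) rfl))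

theorem f4481 : g 5 • path g [9, 3, 5, 2, 4] p = path g [8, 1, 4, 8, 2] p :=
  H.back (i := 0) (by decide) (f4480 H)

theorem f4482 : g 5 • path g [8, 1, 4, 8] p = path g [8, 1, 4, 8, 5] p :=
  rfl

theorem f4483 : g 0 • path g [8, 1, 4, 8, 5] p = path g [8, 1, 4, 8] p :=
  H.back (i := 5) (by decide) (f4482 H)

theorem f4484 : g 5 • path g [8, 1, 4, 8, 5] p = path g [8, 1, 4, 8] p :=
  scan (u := [5]) (w := []) (i := 5) (r0_1_0 H) (step (f4482 H) rfl) rfl

theorem f4485 : g 0 • path g [8, 1, 4, 8] p = path g [8, 1, 4, 8, 5] p :=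
  H.back (i := 5) (by decide) (f4484 H)

theorem f4486 : g 9 • path g [8, 1, 4, 8, 5] p = path g [8, 9, 1, 3, 5] p :=
  scan (u := [5]) (w := [0, 4]) (i := 9) (r13_0_0 H) (step (f4482 H) rfl) (step (H.back (i := 5) (by decide) (f3995 H)) (step (H.back (i := 9) (by decide) (f918 H)) rfl))

theorem f4487 : g 4 • path g [8, 9, 1, 3, 5] p = path g [8, 1, 4, 8, 5] p :=
  H.back (i := 9) (by decide) (f4486 H)

theorem f4492 : g 1 • path g [8, 1, 4, 8] p = path g [8, 1, 4, 8, 1] p :=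
  rfl

theorem f4496 : g 9 • path g [8, 1, 4, 8, 1] p = path g [8, 9, 1, 3, 1] p :=
  scan (u := [1]) (w := [6, 4]) (i := 9) (r14_1_1 H) (step (f4492 H) rfl) (step (H.back (i := 1) (by decide) (f4001 H)) (step (H.back (i := 9) (by decide) (f918 H)) rfl))

theorem f4497 : g 4 • path g [8, 9, 1, 3, 1] p = path g [8, 1, 4, 8, 1] p :=
  H.back (i := 9) (by decide) (f4496 H)

theorem f4498 : g 9 • path g [8, 1, 4, 2] p = path g [8, 1, 4, 2, 9] p :=
  rfl

theorem f4499 : g 4 • path g [8, 1, 4, 2, 9] p = path g [8, 1, 4, 2] p :=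
  H.back (i := 9) (by decide) (f4498 H)

theorem f4500 : g 0 • path g [8, 1, 4, 2, 9] p = path g [9, 3, 2, 9, 6] p :=
  scan (u := [9]) (w := [4, 5]) (i := 0) (r13_0_1 H) (step (f4498 H) rfl) (step (H.back (i := 9) (by decide) (f3606 H)) (step (H.back (i := 0) (by decide) (f2516 H)) rfl))

theorem f4502 : g 5 • path g [8, 1, 4, 2, 9] p = path g [9, 3, 2, 9, 6] p :=
  scan (u := [9]) (w := [4, 0]) (i := 5) (r13_1_0 H) (step (f4498 H) rfl) (step (H.back (i := 9) (by decide) (f3606 H)) (step (H.back (i := 5) (by decide) (f2519 H)) rfl))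

theorem f4503 : g 0 • path g [9, 3, 2, 9, 6] p = path g [8, 1, 4, 2, 9] p :=
  H.back (i := 5) (by decide) (f4502 H)

theorem f4504 : g 1 • path g [8, 1, 4, 2, 9] p = path g [8, 4, 2, 9] p :=
  scan (u := [9]) (w := [4, 6]) (i := 1) (r14_0_3 H) (step (f4498 H) rfl) (step (H.back (i := 9) (by decide) (f928 H)) (step (H.back (i := 1) (by decide) (f924 H)) rfl))

theorem f4506 : g 6 • path g [8, 1, 4, 2, 9] p = path g [8, 6, 4, 2, 9] p :=
  scan (u := [9]) (w := [4, 1]) (i := 6) (r14_1_2 H) (step (f4498 H) rfl) (step (H.back (i := 9) (by decide) (f4226 H)) (step (H.back (i := 6) (by decide) (f927 H)) rfl))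

theorem f4507 : g 1 • path g [8, 6, 4, 2, 9] p = path g [8, 1, 4, 2, 9] p :=
  H.back (i := 6) (by decide) (f4506 H)

theorem f4508 : g 8 • path g [8, 1, 4, 2] p = path g [8, 1, 4, 2, 8] p :=
  rfl

theorem f4509 : g 3 • path g [8, 1, 4, 2, 8] p = path g [8, 1, 4, 2] p :=
  H.back (i := 8) (by decide) (f4508 H)

theorem f4510 : g 3 • path g [8, 1, 4, 2] p = path g [8, 1, 4, 2, 3] p :=
  rfl

theorem f4511 : g 8 • path g [8, 1, 4, 2, 3] p = path g [8, 1, 4, 2] p :=
  H.back (i := 3) (by decide) (f4510 H)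

theorem f4512 : g 3 • path g [8, 1, 4, 2, 3] p = path g [8, 1, 4, 2, 8] p :=
  scan (u := [3]) (w := [3]) (i := 3) (r6_0_0 H) (step (f4510 H) rfl) (step (H.back (i := 8) (by decide) (f4508 H)) rfl)

theorem f4513 : g 8 • path g [8, 1, 4, 2, 8] p = path g [8, 1, 4, 2, 3] p :=
  H.back (i := 3) (by decide) (f4512 H)

theorem f4514 : g 4 • path g [8, 1, 4, 2] p = path g [8, 1, 4, 2, 4] p :=
  rfl

theorem f4515 : g 9 • path g [8, 1, 4, 2, 4] p = path g [8, 1, 4, 2] p :=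
  H.back (i := 4) (by decide) (f4514 H)

theorem f4516 : g 4 • path g [8, 1, 4, 2, 4] p = path g [8, 1, 4, 2, 9] p :=
  scan (u := [4]) (w := [4]) (i := 4) (r10_0_0 H) (step (f4514 H) rfl) (step (H.back (i := 9) (by decide) (f4498 H)) rfl)

theorem f4517 : g 9 • path g [8, 1, 4, 2, 9] p = path g [8, 1, 4, 2, 4] p :=
  H.back (i := 4) (by decide) (f4516 H)

theorem f4518 : g 5 • path g [8, 1, 4, 2, 4] p = path g [9, 3, 2, 6, 4] p :=
  scan (u := [4]) (w := [9, 0]) (i := 5) (r13_0_3 H) (step (f4514 H) rfl) (step (H.back (i := 4) (by decide) (f3647 H)) (step (H.back (i := 5) (by decide) (f2519 H)) rfl))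

theorem f4519 : g 0 • path g [9, 3, 2, 6, 4] p = path g [8, 1, 4, 2, 4] p :=
  H.back (i := 5) (by decide) (f4518 H)

theorem f4520 : g 0 • path g [8, 1, 4, 2, 4] p = path g [9, 3, 2, 6, 4] p :=
  scan (u := [4]) (w := [9, 5]) (i := 0) (r13_1_2 H) (step (f4514 H) rfl) (step (H.back (i := 4) (by decide) (f3647 H)) (step (H.back (i := 0) (by decide) (f2516 H)) rfl))

theorem f4521 : g 5 • path g [9, 3, 2, 6, 4] p = path g [8, 1, 4, 2, 4] p :=
  H.back (i := 0) (by decide) (f4520 H)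

theorem f4522 : g 6 • path g [8, 1, 4, 2, 4] p = path g [8, 6, 4, 2, 4] p :=
  scan (u := [4]) (w := [9, 1]) (i := 6) (r14_0_1 H) (step (f4514 H) rfl) (step (H.back (i := 4) (by decide) (f4240 H)) (step (H.back (i := 6) (by decide) (f927 H)) rfl))

theorem f4523 : g 1 • path g [8, 6, 4, 2, 4] p = path g [8, 1, 4, 2, 4] p :=
  H.back (i := 6) (by decide) (f4522 H)

theorem f4524 : g 1 • path g [8, 1, 4, 2, 4] p = path g [8, 4, 2, 4] p :=
  scan (u := [4]) (w := [9, 6]) (i := 1) (r14_1_0 H) (step (f4514 H) rfl) (step (H.back (i := 4) (by decide) (f940 H)) (step (H.back (i := 1) (by decide) (f924 H)) rfl))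

theorem f4525 : g 6 • path g [8, 4, 2, 4] p = path g [8, 1, 4, 2, 4] p :=
  H.back (i := 1) (by decide) (f4524 H)

theorem f4526 : g 2 • path g [8, 4, 2, 9] p = path g [8, 4, 2, 9, 2] p :=
  rfl

theorem f4527 : g 7 • path g [8, 4, 2, 9, 2] p = path g [8, 4, 2, 9] p :=
  H.back (i := 2) (by decide) (f4526 H)

theorem f4528 : g 2 • path g [8, 4, 2, 9, 2] p = path g [8, 4, 2, 9] p :=
  scan (u := [2]) (w := []) (i := 2) (r2_0_0 H) (step (f4526 H) rfl) rfl

theorem f4529 : g 7 • path g [8, 4, 2, 9] p = path g [8, 4, 2, 9, 2] p :=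
  H.back (i := 2) (by decide) (f4528 H)

theorem f4530 : g 5 • path g [8, 4, 2, 9] p = path g [8, 4, 2, 9, 5] p :=
  rfl

theorem f4531 : g 0 • path g [8, 4, 2, 9, 5] p = path g [8, 4, 2, 9] p :=
  H.back (i := 5) (by decide) (f4530 H)

theorem f4532 : g 5 • path g [8, 4, 2, 9, 5] p = path g [8, 4, 2, 9] p :=
  scan (u := [5]) (w := []) (i := 5) (r0_1_0 H) (step (f4530 H) rfl) rfl

theorem f4533 : g 0 • path g [8, 4, 2, 9] p = path g [8, 4, 2, 9, 5] p :=
  H.back (i := 5) (by decide) (f4532 H)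

theorem f4534 : g 4 • path g [8, 4, 2, 9, 5] p = path g [8, 4, 2, 5] p :=
  scan (u := [5]) (w := [0, 9]) (i := 4) (r13_1_1 H) (step (f4530 H) rfl) (step (H.back (i := 5) (by decide) (f932 H)) (step (H.back (i := 4) (by decide) (f929 H)) rfl))

theorem f4535 : g 9 • path g [8, 4, 2, 5] p = path g [8, 4, 2, 9, 5] p :=
  H.back (i := 4) (by decide) (f4534 H)

theorem f4536 : g 3 • path g [9, 2, 5, 1, 4] p = path g [8, 4, 2, 9, 5] p :=
  scan (u := [4, 3, 4]) (w := []) (i := 3) (r15_0_0 H) (step (f4534 H) (step (f2560 H) (step (f3432 H) rfl))) rfl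

theorem f4538 : g 3 • path g [8, 4, 2, 9] p = path g [8, 4, 2, 9, 3] p :=
  rfl

theorem f4539 : g 8 • path g [8, 4, 2, 9, 3] p = path g [8, 4, 2, 9] p :=
  H.back (i := 3) (by decide) (f4538 H)

theorem f4540 : g 3 • path g [8, 4, 2, 9, 3] p = path g [9, 2, 5, 8, 4] p :=
  scan (u := [3]) (w := [3]) (i := 3) (r6_0_0 H) (step (f4538 H) rfl) (step (H.back (i := 8) (by decide) (f3413 H)) rfl)

theorem f4541 : g 8 • path g [9, 2, 5, 8, 4] p = path g [8, 4, 2, 9, 3] p :=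
  H.back (i := 3) (by decide) (f4540 H)

theorem f4542 : g 4 • path g [8, 4, 2, 9, 3] p = path g [9, 2, 9, 5, 3] p :=
  scan (u := [3]) (w := [3, 4]) (i := 4) (r15_0_1 H) (step (f4538 H) rfl) (step (H.back (i := 8) (by decide) (f3283 H)) (step (H.back (i := 9) (by decide) (f943 H)) rfl))

theorem f4544 : g 4 • path g [9, 2, 5, 4, 8] p = path g [8, 4, 2, 9, 3] p :=
  scan (u := [4, 4]) (w := []) (i := 4) (r10_0_0 H) (step (f4542 H) (step (f3449 H) rfl)) rfl

theorem f4546 : g 4 • path g [8, 4, 2, 5] p = path g [8, 4, 2, 5, 4] p :=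
  rfl

theorem f4547 : g 9 • path g [8, 4, 2, 5, 4] p = path g [8, 4, 2, 5] p :=
  H.back (i := 4) (by decide) (f4546 H)

theorem f4548 : g 4 • path g [8, 4, 2, 5, 4] p = path g [8, 4, 2, 9, 5] p :=
  scan (u := [4]) (w := [4]) (i := 4) (r10_0_0 H) (step (f4546 H) rfl) (step (H.back (i := 9) (by decide) (f4535 H)) rfl)

theorem f4550 : g 5 • path g [8, 4, 2, 5, 4] p = path g [8, 4, 2, 4] p :=
  scan (u := [4]) (w := [9, 0]) (i := 5) (r13_0_3 H) (step (f4546 H) rfl) (step (H.back (i := 4) (by decide) (f940 H)) (step (H.back (i := 5) (by decide) (f934 H)) rfl))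

theorem f4551 : g 0 • path g [8, 4, 2, 4] p = path g [8, 4, 2, 5, 4] p :=
  H.back (i := 5) (by decide) (f4550 H)

theorem f4552 : g 0 • path g [8, 4, 2, 5, 4] p = path g [8, 4, 2, 4] p :=
  scan (u := [4]) (w := [9, 5]) (i := 0) (r13_1_2 H) (step (f4546 H) rfl) (step (H.back (i := 4) (by decide) (f940 H)) (step (H.back (i := 0) (by decide) (f933 H)) rfl))

theorem f4554 : g 2 • path g [8, 4, 2, 4] p = path g [8, 4, 2, 4, 2] p :=
  rfl

theorem f4555 : g 7 • path g [8, 4, 2, 4, 2] p = path g [8, 4, 2, 4] p :=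
  H.back (i := 2) (by decide) (f4554 H)

theorem f4556 : g 2 • path g [8, 4, 2, 4, 2] p = path g [8, 4, 2, 4] p :=
  scan (u := [2]) (w := []) (i := 2) (r2_0_0 H) (step (f4554 H) rfl) rfl

theorem f4558 : g 8 • path g [3, 9, 2, 6] p = path g [3, 9, 2, 6, 8] p :=
  rfl

theorem f4559 : g 3 • path g [3, 9, 2, 6, 8] p = path g [3, 9, 2, 6] p :=
  H.back (i := 8) (by decide) (f4558 H)

theorem f4560 : g 3 • path g [3, 9, 2, 6] p = path g [3, 9, 2, 6, 3] p :=
  rfl

theorem f4562 : g 3 • path g [3, 9, 2, 6, 3] p = path g [3, 9, 2, 6, 8] p :=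
  scan (u := [3]) (w := [3]) (i := 3) (r6_0_0 H) (step (f4560 H) rfl) (step (H.back (i := 8) (by decide) (f4558 H)) rfl)

theorem f4563 : g 8 • path g [3, 9, 2, 6, 8] p = path g [3, 9, 2, 6, 3] p :=
  H.back (i := 3) (by decide) (f4562 H)

theorem f4564 : g 4 • path g [3, 9, 2, 6] p = path g [3, 9, 2, 6, 4] p :=
  rfl

theorem f4566 : g 4 • path g [3, 9, 2, 6, 4] p = path g [9, 3, 6, 3, 6] p :=
  scan (u := [4]) (w := [4]) (i := 4) (r10_0_0 H) (step (f4564 H) rfl) (step (H.back (i := 9) (by decide) (f3775 H)) rfl)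

theorem f4570 : g 8 • path g [3, 9, 2, 1] p = path g [3, 9, 2, 1, 8] p :=
  rfl

theorem f4571 : g 3 • path g [3, 9, 2, 1, 8] p = path g [3, 9, 2, 1] p :=
  H.back (i := 8) (by decide) (f4570 H)

theorem f4572 : g 5 • path g [3, 9, 2, 1] p = path g [3, 9, 2, 1, 5] p :=
  rfl

theorem f4573 : g 0 • path g [3, 9, 2, 1, 5] p = path g [3, 9, 2, 1] p :=
  H.back (i := 5) (by decide) (f4572 H)

theorem f4574 : g 5 • path g [3, 9, 2, 1, 5] p = path g [3, 9, 2, 1] p :=
  scan (u := [5]) (w := []) (i := 5) (r0_1_0 H) (step (f4572 H) rfl) rfl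

theorem f4575 : g 0 • path g [3, 9, 2, 1] p = path g [3, 9, 2, 1, 5] p :=
  H.back (i := 5) (by decide) (f4574 H)

theorem f4576 : g 6 • path g [3, 9, 2, 1, 5] p = path g [4, 8, 2, 8] p :=
  scan (u := [5]) (w := [5, 1, 1, 5, 6]) (i := 6) (r4_1_1 H) (step (f4572 H) rfl) (step (H.back (i := 0) (by decide) (f3405 H)) (step (H.back (i := 6) (by decide) (f3708 H)) (step (H.back (i := 6) (by decide) (f3710 H)) (step (H.back (i := 0) (by decide) (f3698 H)) (step (H.back (i := 1) (by decide) (f964 H)) rfl)))))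

theorem f4577 : g 1 • path g [4, 8, 2, 8] p = path g [3, 9, 2, 1, 5] p :=
  H.back (i := 6) (by decide) (f4576 H)

theorem f4578 : g 7 • path g [3, 9, 2, 1, 5] p = path g [9, 2, 3, 6, 5] p :=
  scan (u := [5]) (w := [1, 5, 7, 1, 5, 6, 7, 5, 6, 7]) (i := 7) (r5_1_8 H) (step (f4572 H) rfl) (step (H.back (i := 6) (by decide) (f3500 H)) (step (H.back (i := 0) (by decide) (f3429 H)) (step (H.back (i := 2) (by decide) (f3566 H)) (step (H.back (i := 6) (by decide) (f3893 H)) (step (H.back (i := 0) (by decide) (f3892 H)) (step (H.back (i := 1) (by decide) (f664 H)) (step (H.back (i := 2) (by decide) (f164 H)) (step (H.back (i := 0) (by decide) (f2782 H)) (step (H.back (i := 1) (by decide) (f273 H)) (step (H.back (i := 2) (by decide) (f966 H)) rfl))))))))))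

theorem f4579 : g 2 • path g [9, 2, 3, 6, 5] p = path g [3, 9, 2, 1, 5] p :=
  H.back (i := 7) (by decide) (f4578 H)

theorem f4580 : g 2 • path g [3, 9, 2, 1, 5] p = path g [9, 2, 3, 6, 5] p :=
  scan (u := [5, 7, 5, 7, 5, 7, 4, 2, 0]) (w := [0, 2, 0, 2, 0, 4, 5, 7]) (i := 2) (r11_0_8 H) (step (f4572 H) (step (f4578 H) (step (f3498 H) (step (f3153 H) (step (f1688 H) (step (f393 H) (step (f275 H) (step (f968 H) (step (f4575 H) rfl))))))))) (step (H.back (i := 5) (by decide) (f3496 H)) (step (H.back (i := 7) (by decide) (f3157 H)) (step (H.back (i := 5) (by decide) (f1686 H)) (step (H.back (i := 7) (by decide) (f391 H)) (step (H.back (i := 5) (by decide) (f213 H)) (step (H.back (i := 9) (by decide) (f274 H)) (step (H.back (i := 0) (by decide) (f278 H)) (step (H.back (i := 2) (by decide) (f966 H)) rfl))))))))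

theorem f4581 : g 7 • path g [9, 2, 3, 6, 5] p = path g [3, 9, 2, 1, 5] p :=
  H.back (i := 2) (by decide) (f4580 H)

theorem f4582 : path g [8, 9, 6, 8, 2] p = path g [9, 2, 3, 6, 8] p :=
  close (u := [0, 1, 2, 0, 1, 8, 7]) (w := [3, 0, 2]) (r7_1_3 H) (step (f4573 H) (step (f964 H) (step (f961 H) (step (f2073 H) (step (f182 H) (step (f704 H) (step (f3920 H) rfl))))))) (step (H.back (i := 8) (by decide) (f3494 H)) (step (H.back (i := 5) (by decide) (f3498 H)) (step (H.back (i := 7) (by decide) (f4578 H)) rfl)))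

theorem f4583 : g 7 • path g [9, 2, 3, 6, 8] p = path g [8, 9, 6, 8] p :=
  (congrArg (g 7 • ·) (f4582 H).symm).trans (f3918 H)

theorem f4585 : g 2 • path g [8, 9, 6, 8] p = path g [9, 2, 3, 6, 8] p :=
  H.back (i := 7) (by decide) (f4583 H)

theorem f4586 : g 2 • path g [9, 2, 3, 6, 8] p = path g [8, 9, 6, 8] p :=
  (congrArg (g 2 • ·) (f4582 H).symm).trans (f3919 H)

theorem f4588 : g 7 • path g [8, 9, 6, 8] p = path g [9, 2, 3, 6, 8] p :=
  H.back (i := 2) (by decide) (f4586 H)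

theorem f4589 : g 3 • path g [3, 9, 2, 1] p = path g [3, 9, 2, 1, 3] p :=
  rfl

theorem f4590 : g 8 • path g [3, 9, 2, 1, 3] p = path g [3, 9, 2, 1] p :=
  H.back (i := 3) (by decide) (f4589 H)

theorem f4591 : g 3 • path g [3, 9, 2, 1, 3] p = path g [3, 9, 2, 1, 8] p :=
  scan (u := [3]) (w := [3]) (i := 3) (r6_0_0 H) (step (f4589 H) rfl) (step (H.back (i := 8) (by decide) (f4570 H)) rfl)

theorem f4592 : g 8 • path g [3, 9, 2, 1, 8] p = path g [3, 9, 2, 1, 3] p :=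
  H.back (i := 3) (by decide) (f4591 H)

theorem f4593 : g 4 • path g [3, 9, 2, 1] p = path g [3, 9, 2, 1, 4] p :=
  rfl

theorem f4594 : g 9 • path g [3, 9, 2, 1, 4] p = path g [3, 9, 2, 1] p :=
  H.back (i := 4) (by decide) (f4593 H)

theorem f4595 : g 4 • path g [3, 9, 2, 1, 4] p = path g [9, 3, 6, 3, 1] p :=
  scan (u := [4]) (w := [4]) (i := 4) (r10_0_0 H) (step (f4593 H) rfl) (step (H.back (i := 9) (by decide) (f3781 H)) rfl)

theorem f4596 : g 9 • path g [9, 3, 6, 3, 1] p = path g [3, 9, 2, 1, 4] p :=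
  H.back (i := 4) (by decide) (f4595 H)

theorem f4597 : g 6 • path g [3, 9, 2, 1, 4] p = path g [3, 9, 2, 4] p :=
  scan (u := [4]) (w := [9, 1]) (i := 6) (r14_0_1 H) (step (f4593 H) rfl) (step (H.back (i := 4) (by decide) (f970 H)) (step (H.back (i := 6) (by decide) (f963 H)) rfl))

theorem f4598 : g 1 • path g [3, 9, 2, 4] p = path g [3, 9, 2, 1, 4] p :=
  H.back (i := 6) (by decide) (f4597 H)

theorem f4599 : g 1 • path g [3, 9, 2, 1, 4] p = path g [3, 9, 2, 6, 4] p :=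
  scan (u := [4]) (w := [9, 6]) (i := 1) (r14_1_0 H) (step (f4593 H) rfl) (step (H.back (i := 4) (by decide) (f4564 H)) (step (H.back (i := 1) (by decide) (f964 H)) rfl))

theorem f4601 : g 2 • path g [3, 9, 2, 4] p = path g [3, 9, 2, 4, 2] p :=
  rfl

theorem f4602 : g 7 • path g [3, 9, 2, 4, 2] p = path g [3, 9, 2, 4] p :=
  H.back (i := 2) (by decide) (f4601 H)

theorem f4603 : g 2 • path g [3, 9, 2, 4, 2] p = path g [3, 9, 2, 4] p :=
  scan (u := [2]) (w := []) (i := 2) (r2_0_0 H) (step (f4601 H) rfl) rfl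

theorem f4604 : g 7 • path g [3, 9, 2, 4] p = path g [3, 9, 2, 4, 2] p :=
  H.back (i := 2) (by decide) (f4603 H)

theorem f4605 : g 2 • path g [3, 9, 6, 8] p = path g [3, 9, 6, 8, 2] p :=
  rfl

theorem f4606 : g 7 • path g [3, 9, 6, 8, 2] p = path g [3, 9, 6, 8] p :=
  H.back (i := 2) (by decide) (f4605 H)

theorem f4607 : g 2 • path g [3, 9, 6, 8, 2] p = path g [3, 9, 6, 8] p :=
  scan (u := [2]) (w := []) (i := 2) (r2_0_0 H) (step (f4605 H) rfl) rfl

theorem f4608 : g 7 • path g [3, 9, 6, 8] p = path g [3, 9, 6, 8, 2] p :=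
  H.back (i := 2) (by decide) (f4607 H)

theorem f4609 : g 5 • path g [3, 9, 6, 8] p = path g [3, 9, 6, 8, 5] p :=
  rfl

theorem f4611 : g 5 • path g [3, 9, 6, 8, 5] p = path g [3, 9, 6, 8] p :=
  scan (u := [5]) (w := []) (i := 5) (r0_1_0 H) (step (f4609 H) rfl) rfl

theorem f4612 : g 0 • path g [3, 9, 6, 8] p = path g [3, 9, 6, 8, 5] p :=
  H.back (i := 5) (by decide) (f4611 H)

theorem f4615 : g 6 • path g [3, 9, 6, 8] p = path g [3, 9, 6, 8, 6] p :=
  rfl

theorem f4616 : g 1 • path g [3, 9, 6, 8, 6] p = path g [3, 9, 6, 8] p :=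
  H.back (i := 6) (by decide) (f4615 H)

theorem f4617 : g 9 • path g [3, 9, 6, 8, 6] p = path g [3, 6, 3, 6] p :=
  scan (u := [6]) (w := [1, 4]) (i := 9) (r14_0_2 H) (step (f4615 H) rfl) (step (H.back (i := 6) (by decide) (f1120 H)) (step (H.back (i := 9) (by decide) (f1010 H)) rfl))

theorem f4619 : g 5 • path g [3, 9, 6, 8, 6] p = path g [8, 9, 6, 8, 6] p :=
  scan (u := [6]) (w := [6, 6, 9, 1, 1, 0, 1, 4]) (i := 5) (r12_0_5 H) (step (f4615 H) rfl) (step (H.back (i := 1) (by decide) (f3933 H)) (step (H.back (i := 1) (by decide) (f3931 H)) (step (H.back (i := 4) (by decide) (f707 H)) (step (H.back (i := 6) (by decide) (f853 H)) (step (H.back (i := 6) (by decide) (f855 H)) (step (H.back (i := 5) (by decide) (f4301 H)) (step (H.back (i := 6) (by decide) (f1120 H)) (step (H.back (i := 9) (by decide) (f1010 H)) rfl))))))))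

theorem f4620 : g 0 • path g [8, 9, 6, 8, 6] p = path g [3, 9, 6, 8, 6] p :=
  H.back (i := 5) (by decide) (f4619 H)

theorem f4621 : g 5 • path g [8, 9, 6, 8, 6] p = path g [3, 9, 6, 8, 6] p :=
  scan (u := [5]) (w := []) (i := 5) (r0_1_0 H) (step (f4619 H) rfl) rfl

theorem f4622 : g 0 • path g [3, 9, 6, 8, 6] p = path g [8, 9, 6, 8, 6] p :=
  H.back (i := 5) (by decide) (f4621 H)

theorem f4623 : g 1 • path g [3, 9, 6, 8] p = path g [3, 9, 6, 8, 1] p :=
  rfl

theorem f4625 : g 1 • path g [3, 9, 6, 8, 1] p = path g [3, 9, 6, 8, 6] p :=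
  scan (u := [1]) (w := [1]) (i := 1) (r1_0_0 H) (step (f4623 H) rfl) (step (H.back (i := 6) (by decide) (f4615 H)) rfl)

theorem f4626 : g 6 • path g [3, 9, 6, 8, 6] p = path g [3, 9, 6, 8, 1] p :=
  H.back (i := 1) (by decide) (f4625 H)

theorem f4627 : g 9 • path g [3, 9, 6, 8, 1] p = path g [3, 6, 3, 1] p :=
  scan (u := [1]) (w := [6, 4]) (i := 9) (r14_1_1 H) (step (f4623 H) rfl) (step (H.back (i := 1) (by decide) (f1122 H)) (step (H.back (i := 9) (by decide) (f1010 H)) rfl))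

theorem f4628 : g 4 • path g [3, 6, 3, 1] p = path g [3, 9, 6, 8, 1] p :=
  H.back (i := 9) (by decide) (f4627 H)

theorem f4629 : g 2 • path g [3, 9, 6, 3] p = path g [3, 9, 6, 3, 2] p :=
  rfl

theorem f4631 : g 2 • path g [3, 9, 6, 3, 2] p = path g [3, 9, 6, 3] p :=
  scan (u := [2]) (w := []) (i := 2) (r2_0_0 H) (step (f4629 H) rfl) rfl

theorem f4632 : g 7 • path g [3, 9, 6, 3] p = path g [3, 9, 6, 3, 2] p :=
  H.back (i := 2) (by decide) (f4631 H)

theorem f4633 : g 5 • path g [3, 9, 6, 3] p = path g [3, 9, 6, 3, 5] p :=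
  rfl

theorem f4634 : g 0 • path g [3, 9, 6, 3, 5] p = path g [3, 9, 6, 3] p :=
  H.back (i := 5) (by decide) (f4633 H)

theorem f4635 : g 5 • path g [3, 9, 6, 3, 5] p = path g [3, 9, 6, 3] p :=
  scan (u := [5]) (w := []) (i := 5) (r0_1_0 H) (step (f4633 H) rfl) rfl

theorem f4636 : g 0 • path g [3, 9, 6, 3] p = path g [3, 9, 6, 3, 5] p :=
  H.back (i := 5) (by decide) (f4635 H)

theorem f4637 : g 4 • path g [3, 9, 6, 3, 5] p = path g [9, 8, 6, 8, 5] p :=
  scan (u := [5]) (w := [0, 9]) (i := 4) (r13_1_1 H) (step (f4633 H) rfl) (step (H.back (i := 5) (by decide) (f2865 H)) (step (H.back (i := 4) (by decide) (f1016 H)) rfl))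

theorem f4638 : g 9 • path g [9, 8, 6, 8, 5] p = path g [3, 9, 6, 3, 5] p :=
  H.back (i := 4) (by decide) (f4637 H)

theorem f4639 : g 6 • path g [3, 9, 6, 3] p = path g [3, 9, 6, 3, 6] p :=
  rfl

theorem f4640 : g 1 • path g [3, 9, 6, 3, 6] p = path g [3, 9, 6, 3] p :=
  H.back (i := 6) (by decide) (f4639 H)

theorem f4641 : g 4 • path g [3, 9, 6, 3, 6] p = path g [9, 8, 6, 8, 6] p :=
  scan (u := [6]) (w := [1, 9]) (i := 4) (r14_1_3 H) (step (f4639 H) rfl) (step (H.back (i := 6) (by decide) (f2869 H)) (step (H.back (i := 4) (by decide) (f1016 H)) rfl))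

theorem f4642 : g 9 • path g [9, 8, 6, 8, 6] p = path g [3, 9, 6, 3, 6] p :=
  H.back (i := 4) (by decide) (f4641 H)

theorem f4643 : g 1 • path g [3, 9, 6, 3] p = path g [3, 9, 6, 3, 1] p :=
  rfl

theorem f4644 : g 6 • path g [3, 9, 6, 3, 1] p = path g [3, 9, 6, 3] p :=
  H.back (i := 1) (by decide) (f4643 H)

theorem f4647 : g 4 • path g [3, 9, 6, 3, 1] p = path g [9, 8, 6, 8, 1] p :=
  scan (u := [1]) (w := [6, 9]) (i := 4) (r14_0_0 H) (step (f4643 H) rfl) (step (H.back (i := 1) (by decide) (f2871 H)) (step (H.back (i := 4) (by decide) (f1016 H)) rfl))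

theorem f4648 : g 9 • path g [9, 8, 6, 8, 1] p = path g [3, 9, 6, 3, 1] p :=
  H.back (i := 4) (by decide) (f4647 H)

theorem f4649 : g 5 • path g [3, 9, 1, 8] p = path g [3, 9, 1, 8, 5] p :=
  rfl

theorem f4651 : g 5 • path g [3, 9, 1, 8, 5] p = path g [3, 9, 1, 8] p :=
  scan (u := [5]) (w := []) (i := 5) (r0_1_0 H) (step (f4649 H) rfl) rfl

theorem f4652 : g 0 • path g [3, 9, 1, 8] p = path g [3, 9, 1, 8, 5] p :=
  H.back (i := 5) (by decide) (f4651 H)

theorem f4653 : g 9 • path g [3, 9, 1, 8, 5] p = path g [3, 1, 3, 5] p :=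
  scan (u := [5]) (w := [0, 4]) (i := 9) (r13_0_0 H) (step (f4649 H) rfl) (step (H.back (i := 5) (by decide) (f1158 H)) (step (H.back (i := 9) (by decide) (f1020 H)) rfl))

theorem f4655 : g 6 • path g [3, 9, 1, 8] p = path g [3, 9, 1, 8, 6] p :=
  rfl

theorem f4656 : g 1 • path g [3, 9, 1, 8, 6] p = path g [3, 9, 1, 8] p :=
  H.back (i := 6) (by decide) (f4655 H)

theorem f4657 : g 9 • path g [3, 9, 1, 8, 6] p = path g [3, 1, 3, 6] p :=
  scan (u := [6]) (w := [1, 4]) (i := 9) (r14_0_2 H) (step (f4655 H) rfl) (step (H.back (i := 6) (by decide) (f1162 H)) (step (H.back (i := 9) (by decide) (f1020 H)) rfl))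

theorem f4658 : g 4 • path g [3, 1, 3, 6] p = path g [3, 9, 1, 8, 6] p :=
  H.back (i := 9) (by decide) (f4657 H)

theorem f4659 : g 5 • path g [3, 9, 1, 8, 6] p = path g [8, 9, 1, 8, 6] p :=
  scan (u := [6]) (w := [6, 6, 9, 1, 1, 0, 1, 4]) (i := 5) (r12_0_5 H) (step (f4655 H) rfl) (step (H.back (i := 1) (by decide) (f3975 H)) (step (H.back (i := 1) (by decide) (f3973 H)) (step (H.back (i := 4) (by decide) (f715 H)) (step (H.back (i := 6) (by decide) (f911 H)) (step (H.back (i := 6) (by decide) (f913 H)) (step (H.back (i := 5) (by decide) (f4432 H)) (step (H.back (i := 6) (by decide) (f1162 H)) (step (H.back (i := 9) (by decide) (f1020 H)) rfl))))))))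

theorem f4660 : g 0 • path g [8, 9, 1, 8, 6] p = path g [3, 9, 1, 8, 6] p :=
  H.back (i := 5) (by decide) (f4659 H)

theorem f4661 : g 5 • path g [8, 9, 1, 8, 6] p = path g [3, 9, 1, 8, 6] p :=
  scan (u := [5]) (w := []) (i := 5) (r0_1_0 H) (step (f4659 H) rfl) rfl

theorem f4662 : g 0 • path g [3, 9, 1, 8, 6] p = path g [8, 9, 1, 8, 6] p :=
  H.back (i := 5) (by decide) (f4661 H)

theorem f4663 : g 1 • path g [3, 9, 1, 8] p = path g [3, 9, 1, 8, 1] p :=
  rfl

theorem f4664 : g 6 • path g [3, 9, 1, 8, 1] p = path g [3, 9, 1, 8] p :=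
  H.back (i := 1) (by decide) (f4663 H)

theorem f4665 : g 1 • path g [3, 9, 1, 8, 1] p = path g [3, 9, 1, 8, 6] p :=
  scan (u := [1]) (w := [1]) (i := 1) (r1_0_0 H) (step (f4663 H) rfl) (step (H.back (i := 6) (by decide) (f4655 H)) rfl)

theorem f4667 : g 9 • path g [3, 9, 1, 8, 1] p = path g [3, 1, 3, 1] p :=
  scan (u := [1]) (w := [6, 4]) (i := 9) (r14_1_1 H) (step (f4663 H) rfl) (step (H.back (i := 1) (by decide) (f1164 H)) (step (H.back (i := 9) (by decide) (f1020 H)) rfl))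

theorem f4669 : g 2 • path g [3, 9, 1, 3] p = path g [3, 9, 1, 3, 2] p :=
  rfl

theorem f4670 : g 7 • path g [3, 9, 1, 3, 2] p = path g [3, 9, 1, 3] p :=
  H.back (i := 2) (by decide) (f4669 H)

theorem f4671 : g 2 • path g [3, 9, 1, 3, 2] p = path g [3, 9, 1, 3] p :=
  scan (u := [2]) (w := []) (i := 2) (r2_0_0 H) (step (f4669 H) rfl) rfl

theorem f4672 : g 7 • path g [3, 9, 1, 3] p = path g [3, 9, 1, 3, 2] p :=
  H.back (i := 2) (by decide) (f4671 H)

theorem f4673 : g 5 • path g [3, 9, 1, 3] p = path g [3, 9, 1, 3, 5] p :=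
  rfl

theorem f4674 : g 0 • path g [3, 9, 1, 3, 5] p = path g [3, 9, 1, 3] p :=
  H.back (i := 5) (by decide) (f4673 H)

theorem f4675 : g 5 • path g [3, 9, 1, 3, 5] p = path g [3, 9, 1, 3] p :=
  scan (u := [5]) (w := []) (i := 5) (r0_1_0 H) (step (f4673 H) rfl) rfl

theorem f4676 : g 0 • path g [3, 9, 1, 3] p = path g [3, 9, 1, 3, 5] p :=
  H.back (i := 5) (by decide) (f4675 H)

theorem f4677 : g 4 • path g [3, 9, 1, 3, 5] p = path g [9, 8, 1, 8, 5] p :=
  scan (u := [5]) (w := [0, 9]) (i := 4) (r13_1_1 H) (step (f4673 H) rfl) (step (H.back (i := 5) (by decide) (f2911 H)) (step (H.back (i := 4) (by decide) (f1026 H)) rfl))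

theorem f4678 : g 9 • path g [9, 8, 1, 8, 5] p = path g [3, 9, 1, 3, 5] p :=
  H.back (i := 4) (by decide) (f4677 H)

theorem f4679 : g 6 • path g [3, 9, 1, 3] p = path g [3, 9, 1, 3, 6] p :=
  rfl

theorem f4680 : g 1 • path g [3, 9, 1, 3, 6] p = path g [3, 9, 1, 3] p :=
  H.back (i := 6) (by decide) (f4679 H)

theorem f4681 : g 4 • path g [3, 9, 1, 3, 6] p = path g [9, 8, 1, 8, 6] p :=
  scan (u := [6]) (w := [1, 9]) (i := 4) (r14_1_3 H) (step (f4679 H) rfl) (step (H.back (i := 6) (by decide) (f2915 H)) (step (H.back (i := 4) (by decide) (f1026 H)) rfl))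

theorem f4682 : g 9 • path g [9, 8, 1, 8, 6] p = path g [3, 9, 1, 3, 6] p :=
  H.back (i := 4) (by decide) (f4681 H)

theorem f4683 : g 1 • path g [3, 9, 1, 3] p = path g [3, 9, 1, 3, 1] p :=
  rfl

theorem f4684 : g 6 • path g [3, 9, 1, 3, 1] p = path g [3, 9, 1, 3] p :=
  H.back (i := 1) (by decide) (f4683 H)

theorem f4685 : g 1 • path g [3, 9, 1, 3, 1] p = path g [3, 9, 1, 3, 6] p :=
  scan (u := [1]) (w := [1]) (i := 1) (r1_0_0 H) (step (f4683 H) rfl) (step (H.back (i := 6) (by decide) (f4679 H)) rfl)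

theorem f4686 : g 6 • path g [3, 9, 1, 3, 6] p = path g [3, 9, 1, 3, 1] p :=
  H.back (i := 1) (by decide) (f4685 H)

theorem f4687 : g 4 • path g [3, 9, 1, 3, 1] p = path g [9, 8, 1, 8, 1] p :=
  scan (u := [1]) (w := [6, 9]) (i := 4) (r14_0_0 H) (step (f4683 H) rfl) (step (H.back (i := 1) (by decide) (f2917 H)) (step (H.back (i := 4) (by decide) (f1026 H)) rfl))

theorem f4690 : g 8 • path g [3, 6, 8, 5] p = path g [3, 6, 8, 5, 8] p :=
  rfl

theorem f4692 : g 3 • path g [3, 6, 8, 5] p = path g [3, 6, 8, 5, 3] p :=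
  rfl

theorem f4694 : g 3 • path g [3, 6, 8, 5, 3] p = path g [3, 6, 8, 5, 8] p :=
  scan (u := [3]) (w := [3]) (i := 3) (r6_0_0 H) (step (f4692 H) rfl) (step (H.back (i := 8) (by decide) (f4690 H)) rfl)

theorem f4695 : g 8 • path g [3, 6, 8, 5, 8] p = path g [3, 6, 8, 5, 3] p :=
  H.back (i := 3) (by decide) (f4694 H)

theorem f4696 : g 6 • path g [3, 6, 8, 5] p = path g [3, 6, 8, 5, 6] p :=
  rfl

theorem f4697 : g 1 • path g [3, 6, 8, 5, 6] p = path g [3, 6, 8, 5] p :=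
  H.back (i := 6) (by decide) (f4696 H)

theorem f4698 : g 6 • path g [3, 6, 8, 5, 6] p = path g [8, 6, 8, 1, 5] p :=
  scan (u := [6]) (w := [6]) (i := 6) (r1_1_0 H) (step (f4696 H) rfl) (step (H.back (i := 1) (by decide) (f4108 H)) rfl)

theorem f4699 : g 1 • path g [8, 6, 8, 1, 5] p = path g [3, 6, 8, 5, 6] p :=
  H.back (i := 6) (by decide) (f4698 H)

theorem f4700 : g 7 • path g [3, 6, 8, 5, 6] p = path g [8, 1, 8, 1, 5] p :=
  scan (u := [6]) (w := [6, 7]) (i := 7) (r3_1_1 H) (step (f4696 H) rfl) (step (H.back (i := 1) (by decide) (f4358 H)) (step (H.back (i := 2) (by decide) (f1131 H)) rfl))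

theorem f4701 : g 2 • path g [8, 1, 8, 1, 5] p = path g [3, 6, 8, 5, 6] p :=
  H.back (i := 7) (by decide) (f4700 H)

theorem f4702 : g 0 • path g [3, 6, 8, 5, 6] p = path g [8, 6, 8, 5, 6] p :=
  scan (u := [6]) (w := [1, 0, 1, 0, 6]) (i := 0) (r4_0_2 H) (step (f4696 H) rfl) (step (H.back (i := 6) (by decide) (f4032 H)) (step (H.back (i := 5) (by decide) (f818 H)) (step (H.back (i := 6) (by decide) (f825 H)) (step (H.back (i := 5) (by decide) (f4105 H)) (step (H.back (i := 1) (by decide) (f4108 H)) rfl)))))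

theorem f4704 : g 5 • path g [3, 6, 8, 5, 6] p = path g [8, 6, 8, 5, 6] p :=
  scan (u := [6]) (w := [6, 5, 1, 1, 5]) (i := 5) (r4_1_0 H) (step (f4696 H) rfl) (step (H.back (i := 1) (by decide) (f4036 H)) (step (H.back (i := 0) (by decide) (f4074 H)) (step (H.back (i := 6) (by decide) (f1097 H)) (step (H.back (i := 6) (by decide) (f1092 H)) (step (H.back (i := 0) (by decide) (f1089 H)) rfl)))))

theorem f4705 : g 0 • path g [8, 6, 8, 5, 6] p = path g [3, 6, 8, 5, 6] p :=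
  H.back (i := 5) (by decide) (f4704 H)

theorem f4706 : g 2 • path g [8, 1, 8, 5, 8] p = path g [3, 6, 8, 5, 8] p :=
  scan (u := [6, 5, 7, 6, 5, 7, 5, 8]) (w := [3]) (i := 2) (r7_0_2 H) (step (f4696 H) (step (f4704 H) (step (f4290 H) (step (f4286 H) (step (f874 H) (step (f243 H) (step (f872 H) (step (f4270 H) rfl)))))))) (step (H.back (i := 8) (by decide) (f4690 H)) rfl)

theorem f4708 : g 2 • path g [3, 6, 8, 5, 6] p = path g [8, 1, 8, 1, 5] p :=
  scan (u := [6]) (w := [0, 2, 1, 0, 2, 1, 0, 6, 2, 0]) (i := 2) (r5_0_1 H) (step (f4696 H) rfl) (step (H.back (i := 5) (by decide) (f4353 H)) (step (H.back (i := 7) (by decide) (f887 H)) (step (H.back (i := 6) (by decide) (f880 H)) (step (H.back (i := 5) (by decide) (f874 H)) (step (H.back (i := 7) (by decide) (f878 H)) (step (H.back (i := 6) (by decide) (f4035 H)) (step (H.back (i := 5) (by decide) (f4062 H)) (step (H.back (i := 1) (by decide) (f1094 H)) (step (H.back (i := 7) (by decide)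 (f315 H)) (step (H.back (i := 5) (by decide) (f1090 H)) rfl))))))))))

theorem f4710 : g 2 • path g [3, 6, 8, 5, 8] p = path g [8, 1, 8, 5, 8] p :=
  scan (u := [2]) (w := []) (i := 2) (r2_0_0 H) (step (f4706 H) rfl) rfl

theorem f4711 : g 7 • path g [8, 1, 8, 5, 8] p = path g [3, 6, 8, 5, 8] p :=
  H.back (i := 2) (by decide) (f4710 H)

theorem f4712 : g 7 • path g [8, 1, 8, 1, 8] p = path g [8, 1, 8, 1, 8] p :=
  scan (u := [0, 1, 2, 0, 1, 8]) (w := [3, 0, 2]) (i := 7) (r7_1_3 H) (step (f4702 H) (step (f4033 H) (step (f877 H) (step (f873 H) (step (f882 H) (step (f4351 H) rfl)))))) (step (H.back (i := 8) (by decide) (f4351 H)) (step (H.back (i := 5) (by decide) (f4355 H)) (step (H.back (i := 7) (by decide) (f4700 H)) rfl)))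

theorem f4713 : g 2 • path g [8, 1, 8, 1, 8] p = path g [8, 1, 8, 1, 8] p :=
  H.back (i := 7) (by decide) (f4712 H)

theorem f4714 : g 4 • path g [3, 6, 8, 5] p = path g [3, 6, 8, 5, 4] p :=
  rfl

theorem f4715 : g 9 • path g [3, 6, 8, 5, 4] p = path g [3, 6, 8, 5] p :=
  H.back (i := 4) (by decide) (f4714 H)

theorem f4716 : g 4 • path g [3, 6, 8, 5, 4] p = path g [9, 8, 6, 3, 5] p :=
  scan (u := [4]) (w := [4]) (i := 4) (r10_0_0 H) (step (f4714 H) rfl) (step (H.back (i := 9) (by decide) (f2892 H)) rfl)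

theorem f4717 : g 9 • path g [9, 8, 6, 3, 5] p = path g [3, 6, 8, 5, 4] p :=
  H.back (i := 4) (by decide) (f4716 H)

theorem f4718 : g 5 • path g [3, 6, 8, 5, 4] p = path g [3, 6, 8, 4] p :=
  scan (u := [4]) (w := [9, 0]) (i := 5) (r13_0_3 H) (step (f4714 H) rfl) (step (H.back (i := 4) (by decide) (f1102 H)) (step (H.back (i := 5) (by decide) (f1090 H)) rfl))

theorem f4719 : g 0 • path g [3, 6, 8, 4] p = path g [3, 6, 8, 5, 4] p :=
  H.back (i := 5) (by decide) (f4718 H)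

theorem f4720 : g 0 • path g [3, 6, 8, 5, 4] p = path g [3, 6, 8, 4] p :=
  scan (u := [4]) (w := [9, 5]) (i := 0) (r13_1_2 H) (step (f4714 H) rfl) (step (H.back (i := 4) (by decide) (f1102 H)) (step (H.back (i := 0) (by decide) (f1089 H)) rfl))

theorem f4722 : g 8 • path g [3, 6, 8, 6] p = path g [3, 6, 8, 6, 8] p :=
  rfl

theorem f4723 : g 3 • path g [3, 6, 8, 6, 8] p = path g [3, 6, 8, 6] p :=
  H.back (i := 8) (by decide) (f4722 H)

theorem f4724 : g 2 • path g [3, 6, 8, 6, 8] p = path g [8, 1, 8, 6, 8] p :=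
  scan (u := [8]) (w := [3, 6, 5, 7, 6, 5, 7, 5]) (i := 2) (r7_0_9 H) (step (f4722 H) rfl) (step (H.back (i := 8) (by decide) (f4339 H)) (step (H.back (i := 1) (by decide) (f884 H)) (step (H.back (i := 0) (by decide) (f4354 H)) (step (H.back (i := 2) (by decide) (f4708 H)) (step (H.back (i := 1) (by decide) (f4699 H)) (step (H.back (i := 0) (by decide) (f4106 H)) (step (H.back (i := 2) (by decide) (f830 H)) (step (H.back (i := 0) (by decide) (f4053 H)) rfl))))))))

theorem f4725 : g 7 • path g [8, 1, 8, 6, 8] p = path g [3, 6, 8, 6, 8] p :=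
  H.back (i := 2) (by decide) (f4724 H)

theorem f4726 : g 7 • path g [3, 6, 8, 6, 8] p = path g [8, 1, 8, 6, 8] p :=
  scan (u := [8]) (w := [3, 0, 2, 0, 1, 2, 0, 1]) (i := 7) (r7_1_8 H) (step (f4722 H) rfl) (step (H.back (i := 8) (by decide) (f4339 H)) (step (H.back (i := 5) (by decide) (f4326 H)) (step (H.back (i := 7) (by decide) (f1143 H)) (step (H.back (i := 5) (by decide) (f4294 H)) (step (H.back (i := 6) (by decide) (f4288 H)) (step (H.back (i := 7) (by decide) (f4283 H)) (step (H.back (i := 5) (by decide) (f4062 H)) (step (H.back (i := 6) (by decide) (f1097 H)) rfl))))))))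

theorem f4727 : g 2 • path g [8, 1, 8, 6, 8] p = path g [3, 6, 8, 6, 8] p :=
  H.back (i := 7) (by decide) (f4726 H)

theorem f4728 : g 3 • path g [3, 6, 8, 6] p = path g [3, 6, 8, 6, 3] p :=
  rfl

theorem f4729 : g 8 • path g [3, 6, 8, 6, 3] p = path g [3, 6, 8, 6] p :=
  H.back (i := 3) (by decide) (f4728 H)

theorem f4730 : g 3 • path g [3, 6, 8, 6, 3] p = path g [3, 6, 8, 6, 8] p :=
  scan (u := [3]) (w := [3]) (i := 3) (r6_0_0 H) (step (f4728 H) rfl) (step (H.back (i := 8) (by decide) (f4722 H)) rfl)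

theorem f4732 : g 4 • path g [3, 6, 8, 6] p = path g [3, 6, 8, 6, 4] p :=
  rfl

theorem f4733 : g 9 • path g [3, 6, 8, 6, 4] p = path g [3, 6, 8, 6] p :=
  H.back (i := 4) (by decide) (f4732 H)

theorem f4734 : g 4 • path g [3, 6, 8, 6, 4] p = path g [9, 8, 6, 3, 6] p :=
  scan (u := [4]) (w := [4]) (i := 4) (r10_0_0 H) (step (f4732 H) rfl) (step (H.back (i := 9) (by decide) (f2896 H)) rfl)

theorem f4735 : g 9 • path g [9, 8, 6, 3, 6] p = path g [3, 6, 8, 6, 4] p :=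
  H.back (i := 4) (by decide) (f4734 H)

theorem f4736 : g 5 • path g [3, 6, 8, 6, 4] p = path g [8, 6, 8, 6, 4] p :=
  scan (u := [4]) (w := [9, 0]) (i := 5) (r13_0_3 H) (step (f4732 H) rfl) (step (H.back (i := 4) (by decide) (f4095 H)) (step (H.back (i := 5) (by decide) (f4056 H)) rfl))

theorem f4737 : g 0 • path g [8, 6, 8, 6, 4] p = path g [3, 6, 8, 6, 4] p :=
  H.back (i := 5) (by decide) (f4736 H)

theorem f4738 : g 0 • path g [3, 6, 8, 6, 4] p = path g [8, 6, 8, 6, 4] p :=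
  scan (u := [4]) (w := [9, 5]) (i := 0) (r13_1_2 H) (step (f4732 H) rfl) (step (H.back (i := 4) (by decide) (f4095 H)) (step (H.back (i := 0) (by decide) (f4053 H)) rfl))

theorem f4740 : g 1 • path g [3, 6, 8, 6, 4] p = path g [3, 6, 8, 4] p :=
  scan (u := [4]) (w := [9, 6]) (i := 1) (r14_1_0 H) (step (f4732 H) rfl) (step (H.back (i := 4) (by decide) (f1102 H)) (step (H.back (i := 1) (by decide) (f1093 H)) rfl))

theorem f4741 : g 6 • path g [3, 6, 8, 4] p = path g [3, 6, 8, 6, 4] p :=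
  H.back (i := 1) (by decide) (f4740 H)

theorem f4742 : g 8 • path g [3, 6, 8, 1] p = path g [3, 6, 8, 1, 8] p :=
  rfl

theorem f4743 : g 3 • path g [3, 6, 8, 1, 8] p = path g [3, 6, 8, 1] p :=
  H.back (i := 8) (by decide) (f4742 H)

theorem f4744 : g 3 • path g [3, 6, 8, 1] p = path g [3, 6, 8, 1, 3] p :=
  rfl

theorem f4746 : g 3 • path g [3, 6, 8, 1, 3] p = path g [3, 6, 8, 1, 8] p :=
  scan (u := [3]) (w := [3]) (i := 3) (r6_0_0 H) (step (f4744 H) rfl) (step (H.back (i := 8) (by decide) (f4742 H)) rfl)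

theorem f4748 : g 4 • path g [3, 6, 8, 1] p = path g [3, 6, 8, 1, 4] p :=
  rfl

theorem f4750 : g 4 • path g [3, 6, 8, 1, 4] p = path g [9, 8, 6, 3, 1] p :=
  scan (u := [4]) (w := [4]) (i := 4) (r10_0_0 H) (step (f4748 H) rfl) (step (H.back (i := 9) (by decide) (f2902 H)) rfl)

theorem f4751 : g 9 • path g [9, 8, 6, 3, 1] p = path g [3, 6, 8, 1, 4] p :=
  H.back (i := 4) (by decide) (f4750 H)

theorem f4752 : g 6 • path g [3, 6, 8, 1, 4] p = path g [3, 6, 8, 4] p :=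
  scan (u := [4]) (w := [9, 1]) (i := 6) (r14_0_1 H) (step (f4748 H) rfl) (step (H.back (i := 4) (by decide) (f1102 H)) (step (H.back (i := 6) (by decide) (f1095 H)) rfl))

theorem f4753 : g 1 • path g [3, 6, 8, 4] p = path g [3, 6, 8, 1, 4] p :=
  H.back (i := 6) (by decide) (f4752 H)

theorem f4754 : g 1 • path g [3, 6, 8, 1, 4] p = path g [3, 6, 8, 6, 4] p :=
  scan (u := [4]) (w := [9, 6]) (i := 1) (r14_1_0 H) (step (f4748 H) rfl) (step (H.back (i := 4) (by decide) (f4732 H)) (step (H.back (i := 1) (by decide) (f1096 H)) rfl))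

theorem f4756 : g 2 • path g [3, 6, 8, 4] p = path g [3, 6, 8, 4, 2] p :=
  rfl

theorem f4757 : g 7 • path g [3, 6, 8, 4, 2] p = path g [3, 6, 8, 4] p :=
  H.back (i := 2) (by decide) (f4756 H)

theorem f4758 : g 2 • path g [3, 6, 8, 4, 2] p = path g [3, 6, 8, 4] p :=
  scan (u := [2]) (w := []) (i := 2) (r2_0_0 H) (step (f4756 H) rfl) rfl

theorem f4759 : g 7 • path g [3, 6, 8, 4] p = path g [3, 6, 8, 4, 2] p :=
  H.back (i := 2) (by decide) (f4758 H)

theorem f4760 : g 2 • path g [3, 6, 3, 9] p = path g [3, 6, 3, 9, 2] p :=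
  rfl

theorem f4762 : g 2 • path g [3, 6, 3, 9, 2] p = path g [3, 6, 3, 9] p :=
  scan (u := [2]) (w := []) (i := 2) (r2_0_0 H) (step (f4760 H) rfl) rfl

theorem f4763 : g 7 • path g [3, 6, 3, 9] p = path g [3, 6, 3, 9, 2] p :=
  H.back (i := 2) (by decide) (f4762 H)

theorem f4764 : g 5 • path g [3, 6, 3, 9] p = path g [3, 6, 3, 9, 5] p :=
  rfl

theorem f4766 : g 5 • path g [3, 6, 3, 9, 5] p = path g [3, 6, 3, 9] p :=
  scan (u := [5]) (w := []) (i := 5) (r0_1_0 H) (step (f4764 H) rfl) rfl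

theorem f4767 : g 0 • path g [3, 6, 3, 9] p = path g [3, 6, 3, 9, 5] p :=
  H.back (i := 5) (by decide) (f4766 H)

theorem f4768 : g 9 • path g [3, 6, 3, 9, 5] p = path g [3, 9, 6, 8, 5] p :=
  scan (u := [5]) (w := [0, 4]) (i := 9) (r13_0_0 H) (step (f4764 H) rfl) (step (H.back (i := 5) (by decide) (f4609 H)) (step (H.back (i := 9) (by decide) (f1108 H)) rfl))

theorem f4769 : g 4 • path g [3, 9, 6, 8, 5] p = path g [3, 6, 3, 9, 5] p :=
  H.back (i := 9) (by decide) (f4768 H)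

theorem f4772 : g 6 • path g [3, 6, 3, 9] p = path g [3, 6, 3, 9, 6] p :=
  rfl

theorem f4773 : g 1 • path g [3, 6, 3, 9, 6] p = path g [3, 6, 3, 9] p :=
  H.back (i := 6) (by decide) (f4772 H)

theorem f4774 : g 9 • path g [3, 6, 3, 9, 6] p = path g [3, 9, 6, 8, 6] p :=
  scan (u := [6]) (w := [1, 4]) (i := 9) (r14_0_2 H) (step (f4772 H) rfl) (step (H.back (i := 6) (by decide) (f4615 H)) (step (H.back (i := 9) (by decide) (f1108 H)) rfl))

theorem f4775 : g 4 • path g [3, 9, 6, 8, 6] p = path g [3, 6, 3, 9, 6] p :=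
  H.back (i := 9) (by decide) (f4774 H)

theorem f4776 : g 4 • path g [3, 6, 3, 9, 6] p = path g [3, 6, 3, 6] p :=
  scan (u := [6]) (w := [1, 9]) (i := 4) (r14_1_3 H) (step (f4772 H) rfl) (step (H.back (i := 6) (by decide) (f1120 H)) (step (H.back (i := 4) (by decide) (f1107 H)) rfl))

theorem f4778 : g 5 • path g [3, 6, 3, 9, 6] p = path g [8, 6, 3, 9, 6] p :=
  scan (u := [6]) (w := [6, 6, 9, 1, 1, 0, 1, 4]) (i := 5) (r12_0_5 H) (step (f4772 H) rfl) (step (H.back (i := 1) (by decide) (f4145 H)) (step (H.back (i := 1) (by decide) (f4143 H)) (step (H.back (i := 4) (by decide) (f839 H)) (step (H.back (i := 6) (by decide) (f3932 H)) (step (H.back (i := 6) (by decide) (f3934 H)) (step (H.back (i := 5) (by decide) (f4619 H)) (step (H.back (i := 6) (by decide) (f4615 H)) (step (H.back (i := 9) (by decide) (f1108 H)) rfl))))))))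

theorem f4779 : g 0 • path g [8, 6, 3, 9, 6] p = path g [3, 6, 3, 9, 6] p :=
  H.back (i := 5) (by decide) (f4778 H)

theorem f4780 : g 5 • path g [8, 6, 3, 9, 6] p = path g [3, 6, 3, 9, 6] p :=
  scan (u := [5]) (w := []) (i := 5) (r0_1_0 H) (step (f4778 H) rfl) rfl

theorem f4782 : g 1 • path g [3, 6, 3, 9] p = path g [3, 6, 3, 9, 1] p :=
  rfl

theorem f4783 : g 6 • path g [3, 6, 3, 9, 1] p = path g [3, 6, 3, 9] p :=
  H.back (i := 1) (by decide) (f4782 H)

theorem f4784 : g 1 • path g [3, 6, 3, 9, 1] p = path g [3, 6, 3, 9, 6] p :=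
  scan (u := [1]) (w := [1]) (i := 1) (r1_0_0 H) (step (f4782 H) rfl) (step (H.back (i := 6) (by decide) (f4772 H)) rfl)

theorem f4785 : g 6 • path g [3, 6, 3, 9, 6] p = path g [3, 6, 3, 9, 1] p :=
  H.back (i := 1) (by decide) (f4784 H)

theorem f4786 : g 4 • path g [3, 6, 3, 9, 1] p = path g [3, 6, 3, 1] p :=
  scan (u := [1]) (w := [6, 9]) (i := 4) (r14_0_0 H) (step (f4782 H) rfl) (step (H.back (i := 1) (by decide) (f1122 H)) (step (H.back (i := 4) (by decide) (f1107 H)) rfl))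

theorem f4787 : g 9 • path g [3, 6, 3, 1] p = path g [3, 6, 3, 9, 1] p :=
  H.back (i := 4) (by decide) (f4786 H)

theorem f4788 : g 9 • path g [3, 6, 3, 9, 1] p = path g [3, 9, 6, 8, 1] p :=
  scan (u := [1]) (w := [6, 4]) (i := 9) (r14_1_1 H) (step (f4782 H) rfl) (step (H.back (i := 1) (by decide) (f4623 H)) (step (H.back (i := 9) (by decide) (f1108 H)) rfl))

theorem f4789 : g 4 • path g [3, 9, 6, 8, 1] p = path g [3, 6, 3, 9, 1] p :=
  H.back (i := 9) (by decide) (f4788 H)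

theorem f4790 : g 8 • path g [3, 6, 3, 5] p = path g [3, 6, 3, 5, 8] p :=
  rfl

theorem f4792 : g 3 • path g [3, 6, 3, 5] p = path g [3, 6, 3, 5, 3] p :=
  rfl

theorem f4793 : g 8 • path g [3, 6, 3, 5, 3] p = path g [3, 6, 3, 5] p :=
  H.back (i := 3) (by decide) (f4792 H)

theorem f4794 : g 3 • path g [3, 6, 3, 5, 3] p = path g [3, 6, 3, 5, 8] p :=
  scan (u := [3]) (w := [3]) (i := 3) (r6_0_0 H) (step (f4792 H) rfl) (step (H.back (i := 8) (by decide) (f4790 H)) rfl)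

theorem f4795 : g 8 • path g [3, 6, 3, 5, 8] p = path g [3, 6, 3, 5, 3] p :=
  H.back (i := 3) (by decide) (f4794 H)

theorem f4796 : g 6 • path g [3, 6, 3, 5] p = path g [3, 6, 3, 5, 6] p :=
  rfl

theorem f4797 : g 1 • path g [3, 6, 3, 5, 6] p = path g [3, 6, 3, 5] p :=
  H.back (i := 6) (by decide) (f4796 H)

theorem f4798 : g 6 • path g [3, 6, 3, 5, 6] p = path g [8, 6, 3, 1, 5] p :=
  scan (u := [6]) (w := [6]) (i := 6) (r1_1_0 H) (step (f4796 H) rfl) (step (H.back (i := 1) (by decide) (f4305 H)) rfl)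

theorem f4800 : g 7 • path g [3, 6, 3, 5, 6] p = path g [8, 6, 3, 1, 5] p :=
  scan (u := [6]) (w := [6, 7]) (i := 7) (r3_1_1 H) (step (f4796 H) rfl) (step (H.back (i := 1) (by decide) (f4305 H)) (step (H.back (i := 2) (by decide) (f4280 H)) rfl))

theorem f4802 : g 0 • path g [3, 6, 3, 5, 6] p = path g [8, 6, 3, 5, 6] p :=
  scan (u := [6]) (w := [1, 0, 1, 0, 6]) (i := 0) (r4_0_2 H) (step (f4796 H) rfl) (step (H.back (i := 6) (by decide) (f4161 H)) (step (H.back (i := 5) (by decide) (f846 H)) (step (H.back (i := 6) (by decide) (f853 H)) (step (H.back (i := 5) (by decide) (f4198 H)) (step (H.back (i := 1) (by decide) (f4305 H)) rfl)))))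

theorem f4804 : g 5 • path g [3, 6, 3, 5, 6] p = path g [8, 6, 3, 5, 6] p :=
  scan (u := [6]) (w := [6, 5, 1, 1, 5]) (i := 5) (r4_1_0 H) (step (f4796 H) rfl) (step (H.back (i := 1) (by decide) (f4165 H)) (step (H.back (i := 0) (by decide) (f4308 H)) (step (H.back (i := 6) (by decide) (f1125 H)) (step (H.back (i := 6) (by decide) (f1120 H)) (step (H.back (i := 0) (by decide) (f1117 H)) rfl)))))

theorem f4805 : g 0 • path g [8, 6, 3, 5, 6] p = path g [3, 6, 3, 5, 6] p :=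
  H.back (i := 5) (by decide) (f4804 H)

theorem f4806 : g 2 • path g [3, 6, 3, 5, 6] p = path g [8, 6, 3, 1, 5] p :=
  scan (u := [6]) (w := [0, 2, 1, 0, 2, 1, 0, 6, 2, 0]) (i := 2) (r5_0_1 H) (step (f4796 H) rfl) (step (H.back (i := 5) (by decide) (f4196 H)) (step (H.back (i := 7) (by decide) (f4184 H)) (step (H.back (i := 6) (by decide) (f1162 H)) (step (H.back (i := 5) (by decide) (f1160 H)) (step (H.back (i := 7) (by decide) (f4296 H)) (step (H.back (i := 6) (by decide) (f4464 H)) (step (H.back (i := 5) (by decide) (f4460 H)) (step (H.back (i := 1) (by decide) (f910 H)) (step (H.back (i := 7) (by decide) (f4089 H)) (step (H.back (i := 5) (by decide) (f1118 H)) rfl))))))))))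

theorem f4808 : g 7 • path g [8, 6, 3, 6, 8] p = path g [8, 1, 3, 6, 8] p :=
  scan (u := [2, 0, 1, 8]) (w := [3, 0, 2, 0, 1]) (i := 7) (r7_1_5 H) (step (f4806 H) (step (f4197 H) (step (f854 H) (step (f4167 H) rfl)))) (step (H.back (i := 8) (by decide) (f4417 H)) (step (H.back (i := 5) (by decide) (f4432 H)) (step (H.back (i := 7) (by decide) (f4182 H)) (step (H.back (i := 5) (by decide) (f4198 H)) (step (H.back (i := 6) (by decide) (f4798 H)) rfl)))))

theorem f4809 : g 2 • path g [8, 1, 3, 6, 8] p = path g [8, 6, 3, 6, 8] p :=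
  H.back (i := 7) (by decide) (f4808 H)

theorem f4810 : g 7 • path g [8, 1, 3, 6, 8] p = path g [8, 6, 3, 6, 8] p :=
  scan (u := [7]) (w := []) (i := 7) (r2_1_0 H) (step (f4808 H) rfl) rfl

theorem f4811 : g 2 • path g [8, 6, 3, 6, 8] p = path g [8, 1, 3, 6, 8] p :=
  H.back (i := 7) (by decide) (f4810 H)

theorem f4812 : g 7 • path g [8, 6, 3, 1, 8] p = path g [8, 6, 3, 1, 8] p :=
  scan (u := [0, 1, 2, 0, 1, 8]) (w := [3, 0, 2]) (i := 7) (r7_1_3 H) (step (f4802 H) (step (f4162 H) (step (f4319 H) (step (f847 H) (step (f852 H) (step (f4194 H) rfl)))))) (step (H.back (i := 8) (by decide) (f4194 H)) (step (H.back (i := 5) (by decide) (f4198 H)) (step (H.back (i := 7) (by decide) (f4800 H)) rfl)))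

theorem f4813 : g 2 • path g [8, 6, 3, 1, 8] p = path g [8, 6, 3, 1, 8] p :=
  H.back (i := 7) (by decide) (f4812 H)

theorem f4818 : g 8 • path g [3, 6, 3, 6] p = path g [3, 6, 3, 6, 8] p :=
  rfl

theorem f4820 : g 3 • path g [3, 6, 3, 6] p = path g [3, 6, 3, 6, 3] p :=
  rfl

theorem f4822 : g 3 • path g [3, 6, 3, 6, 3] p = path g [3, 6, 3, 6, 8] p :=
  scan (u := [3]) (w := [3]) (i := 3) (r6_0_0 H) (step (f4820 H) rfl) (step (H.back (i := 8) (by decide) (f4818 H)) rfl)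

theorem f4823 : g 8 • path g [3, 6, 3, 6, 8] p = path g [3, 6, 3, 6, 3] p :=
  H.back (i := 3) (by decide) (f4822 H)

theorem f4824 : g 8 • path g [3, 6, 3, 1] p = path g [3, 6, 3, 1, 8] p :=
  rfl

theorem f4825 : g 3 • path g [3, 6, 3, 1, 8] p = path g [3, 6, 3, 1] p :=
  H.back (i := 8) (by decide) (f4824 H)

theorem f4828 : g 3 • path g [3, 6, 3, 1] p = path g [3, 6, 3, 1, 3] p :=
  rfl

theorem f4830 : g 3 • path g [3, 6, 3, 1, 3] p = path g [3, 6, 3, 1, 8] p :=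
  scan (u := [3]) (w := [3]) (i := 3) (r6_0_0 H) (step (f4828 H) rfl) (step (H.back (i := 8) (by decide) (f4824 H)) rfl)

theorem f4831 : g 8 • path g [3, 6, 3, 1, 8] p = path g [3, 6, 3, 1, 3] p :=
  H.back (i := 3) (by decide) (f4830 H)

theorem f4832 : g 8 • path g [3, 1, 8, 5] p = path g [3, 1, 8, 5, 8] p :=
  rfl

theorem f4834 : g 2 • path g [3, 1, 8, 5, 8] p = path g [8, 6, 8, 5, 8] p :=
  scan (u := [8]) (w := [3, 6, 5, 7, 6, 5, 7, 5]) (i := 2) (r7_0_9 H) (step (f4832 H) rfl) (step (H.back (i := 8) (by decide) (f4026 H)) (step (H.back (i := 1) (by decide) (f4033 H)) (step (H.back (i := 0) (by decide) (f4702 H)) (step (H.back (i := 2) (by decide) (f4701 H)) (step (H.back (i := 1) (by decide) (f4358 H)) (step (H.back (i := 0) (by decide) (f1129 H)) (step (H.back (i := 2) (by decide) (f322 H)) (step (H.back (i := 0) (by decide) (f1127 H)) rfl))))))))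

theorem f4836 : g 2 • path g [8, 6, 8, 5, 8] p = path g [3, 1, 8, 5, 8] p :=
  scan (u := [2]) (w := []) (i := 2) (r2_0_0 H) (step (f4834 H) rfl) rfl

theorem f4837 : g 7 • path g [3, 1, 8, 5, 8] p = path g [8, 6, 8, 5, 8] p :=
  H.back (i := 2) (by decide) (f4836 H)

theorem f4838 : g 3 • path g [3, 1, 8, 5] p = path g [3, 1, 8, 5, 3] p :=
  rfl

theorem f4840 : g 3 • path g [3, 1, 8, 5, 3] p = path g [3, 1, 8, 5, 8] p :=
  scan (u := [3]) (w := [3]) (i := 3) (r6_0_0 H) (step (f4838 H) rfl) (step (H.back (i := 8) (by decide) (f4832 H)) rfl)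

theorem f4842 : g 6 • path g [3, 1, 8, 5] p = path g [3, 1, 8, 5, 6] p :=
  rfl

theorem f4844 : g 6 • path g [3, 1, 8, 5, 6] p = path g [8, 1, 8, 1, 5] p :=
  scan (u := [6]) (w := [6]) (i := 6) (r1_1_0 H) (step (f4842 H) rfl) (step (H.back (i := 1) (by decide) (f4358 H)) rfl)

theorem f4845 : g 1 • path g [8, 1, 8, 1, 5] p = path g [3, 1, 8, 5, 6] p :=
  H.back (i := 6) (by decide) (f4844 H)

theorem f4846 : g 7 • path g [3, 1, 8, 5, 6] p = path g [8, 6, 8, 1, 5] p :=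
  scan (u := [6]) (w := [6, 7]) (i := 7) (r3_1_1 H) (step (f4842 H) rfl) (step (H.back (i := 1) (by decide) (f4108 H)) (step (H.back (i := 2) (by decide) (f1133 H)) rfl))

theorem f4848 : g 0 • path g [3, 1, 8, 5, 6] p = path g [8, 1, 8, 5, 6] p :=
  scan (u := [6]) (w := [1, 0, 1, 0, 6]) (i := 0) (r4_0_2 H) (step (f4842 H) rfl) (step (H.back (i := 6) (by decide) (f4276 H)) (step (H.back (i := 5) (by decide) (f872 H)) (step (H.back (i := 6) (by decide) (f883 H)) (step (H.back (i := 5) (by decide) (f4355 H)) (step (H.back (i := 1) (by decide) (f4358 H)) rfl)))))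

theorem f4850 : g 5 • path g [3, 1, 8, 5, 6] p = path g [8, 1, 8, 5, 6] p :=
  scan (u := [6]) (w := [6, 5, 1, 1, 5]) (i := 5) (r4_1_0 H) (step (f4842 H) rfl) (step (H.back (i := 1) (by decide) (f4287 H)) (step (H.back (i := 0) (by decide) (f4293 H)) (step (H.back (i := 6) (by decide) (f1139 H)) (step (H.back (i := 6) (by decide) (f1134 H)) (step (H.back (i := 0) (by decide) (f1127 H)) rfl)))))

theorem f4852 : g 2 • path g [3, 6, 8, 1, 8] p = path g [3, 6, 8, 1, 8] p :=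
  scan (u := [6, 5, 7, 5, 8]) (w := [3, 6, 5, 7]) (i := 2) (r7_0_5 H) (step (f4842 H) (step (f4850 H) (step (f4278 H) (step (f4075 H) (step (f4742 H) rfl))))) (step (H.back (i := 8) (by decide) (f4742 H)) (step (H.back (i := 1) (by decide) (f1094 H)) (step (H.back (i := 0) (by decide) (f1089 H)) (step (H.back (i := 2) (by decide) (f1133 H)) rfl))))

theorem f4853 : g 7 • path g [3, 6, 8, 1, 8] p = path g [3, 6, 8, 1, 8] p :=
  H.back (i := 2) (by decide) (f4852 H)

theorem f4854 : g 2 • path g [3, 1, 8, 5, 6] p = path g [8, 6, 8, 1, 5] p :=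
  scan (u := [6]) (w := [0, 2, 1, 0, 2, 1, 0, 6, 2, 0]) (i := 2) (r5_0_1 H) (step (f4842 H) rfl) (step (H.back (i := 5) (by decide) (f4103 H)) (step (H.back (i := 7) (by decide) (f829 H)) (step (H.back (i := 6) (by decide) (f822 H)) (step (H.back (i := 5) (by decide) (f820 H)) (step (H.back (i := 7) (by decide) (f876 H)) (step (H.back (i := 6) (by decide) (f4286 H)) (step (H.back (i := 5) (by decide) (f4322 H)) (step (H.back (i := 1) (by decide) (f1136 H)) (step (H.back (i := 7) (by decide) (f323 H)) (step (H.back (i := 5) (by decide) (f1128 H)) rfl))))))))))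

theorem f4856 : g 7 • path g [8, 6, 8, 1, 8] p = path g [8, 6, 8, 1, 8] p :=
  scan (u := [0, 1, 2, 0, 1, 8]) (w := [3, 0, 2]) (i := 7) (r7_1_3 H) (step (f4848 H) (step (f4277 H) (step (f879 H) (step (f819 H) (step (f824 H) (step (f4101 H) rfl)))))) (step (H.back (i := 8) (by decide) (f4101 H)) (step (H.back (i := 5) (by decide) (f4105 H)) (step (H.back (i := 7) (by decide) (f4846 H)) rfl)))

theorem f4857 : g 2 • path g [8, 6, 8, 1, 8] p = path g [8, 6, 8, 1, 8] p :=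
  H.back (i := 7) (by decide) (f4856 H)

theorem f4858 : g 4 • path g [3, 1, 8, 5] p = path g [3, 1, 8, 5, 4] p :=
  rfl

theorem f4862 : g 5 • path g [3, 1, 8, 5, 4] p = path g [3, 1, 8, 4] p :=
  scan (u := [4]) (w := [9, 0]) (i := 5) (r13_0_3 H) (step (f4858 H) rfl) (step (H.back (i := 4) (by decide) (f1144 H)) (step (H.back (i := 5) (by decide) (f1128 H)) rfl))

theorem f4863 : g 0 • path g [3, 1, 8, 4] p = path g [3, 1, 8, 5, 4] p :=
  H.back (i := 5) (by decide) (f4862 H)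

theorem f4864 : g 0 • path g [3, 1, 8, 5, 4] p = path g [3, 1, 8, 4] p :=
  scan (u := [4]) (w := [9, 5]) (i := 0) (r13_1_2 H) (step (f4858 H) rfl) (step (H.back (i := 4) (by decide) (f1144 H)) (step (H.back (i := 0) (by decide) (f1127 H)) rfl))

theorem f4865 : g 5 • path g [3, 1, 8, 4] p = path g [3, 1, 8, 5, 4] p :=
  H.back (i := 0) (by decide) (f4864 H)

theorem f4866 : g 8 • path g [3, 1, 8, 6] p = path g [3, 1, 8, 6, 8] p :=
  rfl

theorem f4867 : g 3 • path g [3, 1, 8, 6, 8] p = path g [3, 1, 8, 6] p :=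
  H.back (i := 8) (by decide) (f4866 H)

theorem f4868 : g 2 • path g [3, 1, 8, 6, 8] p = path g [8, 6, 8, 6, 8] p :=
  scan (u := [8]) (w := [3, 6, 5, 7, 6, 5, 7, 5]) (i := 2) (r7_0_9 H) (step (f4866 H) rfl) (step (H.back (i := 8) (by decide) (f4046 H)) (step (H.back (i := 1) (by decide) (f826 H)) (step (H.back (i := 0) (by decide) (f4104 H)) (step (H.back (i := 2) (by decide) (f4854 H)) (step (H.back (i := 1) (by decide) (f4845 H)) (step (H.back (i := 0) (by decide) (f4356 H)) (step (H.back (i := 2) (by decide) (f888 H)) (step (H.back (i := 0) (by decide) (f4323 H)) rfl))))))))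

theorem f4869 : g 7 • path g [8, 6, 8, 6, 8] p = path g [3, 1, 8, 6, 8] p :=
  H.back (i := 2) (by decide) (f4868 H)

theorem f4870 : g 7 • path g [3, 1, 8, 6, 8] p = path g [8, 6, 8, 6, 8] p :=
  scan (u := [8]) (w := [3, 0, 2, 0, 1, 2, 0, 1]) (i := 7) (r7_1_8 H) (step (f4866 H) rfl) (step (H.back (i := 8) (by decide) (f4046 H)) (step (H.back (i := 5) (by decide) (f4056 H)) (step (H.back (i := 7) (by decide) (f1101 H)) (step (H.back (i := 5) (by decide) (f4075 H)) (step (H.back (i := 6) (by decide) (f4037 H)) (step (H.back (i := 7) (by decide) (f4292 H)) (step (H.back (i := 5) (by decide) (f4322 H)) (step (H.back (i := 6) (by decide) (f1139 H)) rfl))))))))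

theorem f4871 : g 2 • path g [8, 6, 8, 6, 8] p = path g [3, 1, 8, 6, 8] p :=
  H.back (i := 7) (by decide) (f4870 H)

theorem f4872 : g 3 • path g [3, 1, 8, 6] p = path g [3, 1, 8, 6, 3] p :=
  rfl

theorem f4874 : g 3 • path g [3, 1, 8, 6, 3] p = path g [3, 1, 8, 6, 8] p :=
  scan (u := [3]) (w := [3]) (i := 3) (r6_0_0 H) (step (f4872 H) rfl) (step (H.back (i := 8) (by decide) (f4866 H)) rfl)

theorem f4875 : g 8 • path g [3, 1, 8, 6, 8] p = path g [3, 1, 8, 6, 3] p :=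
  H.back (i := 3) (by decide) (f4874 H)

theorem f4876 : g 4 • path g [3, 1, 8, 6] p = path g [3, 1, 8, 6, 4] p :=
  rfl

theorem f4878 : g 4 • path g [3, 1, 8, 6, 4] p = path g [9, 8, 1, 3, 6] p :=
  scan (u := [4]) (w := [4]) (i := 4) (r10_0_0 H) (step (f4876 H) rfl) (step (H.back (i := 9) (by decide) (f2942 H)) rfl)

theorem f4880 : g 5 • path g [3, 1, 8, 6, 4] p = path g [8, 1, 8, 6, 4] p :=
  scan (u := [4]) (w := [9, 0]) (i := 5) (r13_0_3 H) (step (f4876 H) rfl) (step (H.back (i := 4) (by decide) (f4345 H)) (step (H.back (i := 5) (by decide) (f4326 H)) rfl))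

theorem f4881 : g 0 • path g [8, 1, 8, 6, 4] p = path g [3, 1, 8, 6, 4] p :=
  H.back (i := 5) (by decide) (f4880 H)

theorem f4882 : g 0 • path g [3, 1, 8, 6, 4] p = path g [8, 1, 8, 6, 4] p :=
  scan (u := [4]) (w := [9, 5]) (i := 0) (r13_1_2 H) (step (f4876 H) rfl) (step (H.back (i := 4) (by decide) (f4345 H)) (step (H.back (i := 0) (by decide) (f4323 H)) rfl))

theorem f4883 : g 5 • path g [8, 1, 8, 6, 4] p = path g [3, 1, 8, 6, 4] p :=
  H.back (i := 0) (by decide) (f4882 H)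

theorem f4884 : g 1 • path g [3, 1, 8, 6, 4] p = path g [3, 1, 8, 4] p :=
  scan (u := [4]) (w := [9, 6]) (i := 1) (r14_1_0 H) (step (f4876 H) rfl) (step (H.back (i := 4) (by decide) (f1144 H)) (step (H.back (i := 1) (by decide) (f1135 H)) rfl))

theorem f4885 : g 6 • path g [3, 1, 8, 4] p = path g [3, 1, 8, 6, 4] p :=
  H.back (i := 1) (by decide) (f4884 H)

theorem f4886 : g 8 • path g [3, 1, 8, 1] p = path g [3, 1, 8, 1, 8] p :=
  rfl

theorem f4887 : g 3 • path g [3, 1, 8, 1, 8] p = path g [3, 1, 8, 1] p :=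
  H.back (i := 8) (by decide) (f4886 H)

theorem f4888 : g 2 • path g [3, 1, 8, 1, 8] p = path g [3, 1, 8, 1, 8] p :=
  scan (u := [8]) (w := [3, 6, 5, 7, 6, 5, 7, 5]) (i := 2) (r7_0_9 H) (step (f4886 H) rfl) (step (H.back (i := 8) (by decide) (f4886 H)) (step (H.back (i := 1) (by decide) (f1136 H)) (step (H.back (i := 0) (by decide) (f1127 H)) (step (H.back (i := 2) (by decide) (f1131 H)) (step (H.back (i := 1) (by decide) (f4697 H)) (step (H.back (i := 0) (by decide) (f4705 H)) (step (H.back (i := 2) (by decide) (f4289 H)) (step (H.back (i := 0) (by decide) (f4293 H)) rfl))))))))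

theorem f4889 : g 7 • path g [3, 1, 8, 1, 8] p = path g [3, 1, 8, 1, 8] p :=
  H.back (i := 2) (by decide) (f4888 H)

theorem f4890 : g 3 • path g [3, 1, 8, 1] p = path g [3, 1, 8, 1, 3] p :=
  rfl

theorem f4891 : g 8 • path g [3, 1, 8, 1, 3] p = path g [3, 1, 8, 1] p :=
  H.back (i := 3) (by decide) (f4890 H)

theorem f4892 : g 3 • path g [3, 1, 8, 1, 3] p = path g [3, 1, 8, 1, 8] p :=
  scan (u := [3]) (w := [3]) (i := 3) (r6_0_0 H) (step (f4890 H) rfl) (step (H.back (i := 8) (by decide) (f4886 H)) rfl)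

theorem f4894 : g 4 • path g [3, 1, 8, 1] p = path g [3, 1, 8, 1, 4] p :=
  rfl

theorem f4896 : g 4 • path g [3, 1, 8, 1, 4] p = path g [9, 8, 1, 3, 1] p :=
  scan (u := [4]) (w := [4]) (i := 4) (r10_0_0 H) (step (f4894 H) rfl) (step (H.back (i := 9) (by decide) (f2948 H)) rfl)

theorem f4897 : g 9 • path g [9, 8, 1, 3, 1] p = path g [3, 1, 8, 1, 4] p :=
  H.back (i := 4) (by decide) (f4896 H)

theorem f4898 : g 6 • path g [3, 1, 8, 1, 4] p = path g [3, 1, 8, 4] p :=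
  scan (u := [4]) (w := [9, 1]) (i := 6) (r14_0_1 H) (step (f4894 H) rfl) (step (H.back (i := 4) (by decide) (f1144 H)) (step (H.back (i := 6) (by decide) (f1137 H)) rfl))

theorem f4899 : g 1 • path g [3, 1, 8, 4] p = path g [3, 1, 8, 1, 4] p :=
  H.back (i := 6) (by decide) (f4898 H)

theorem f4900 : g 1 • path g [3, 1, 8, 1, 4] p = path g [3, 1, 8, 6, 4] p :=
  scan (u := [4]) (w := [9, 6]) (i := 1) (r14_1_0 H) (step (f4894 H) rfl) (step (H.back (i := 4) (by decide) (f4876 H)) (step (H.back (i := 1) (by decide) (f1138 H)) rfl))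

theorem f4901 : g 6 • path g [3, 1, 8, 6, 4] p = path g [3, 1, 8, 1, 4] p :=
  H.back (i := 1) (by decide) (f4900 H)

theorem f4902 : g 2 • path g [3, 1, 8, 4] p = path g [3, 1, 8, 4, 2] p :=
  rfl

theorem f4904 : g 2 • path g [3, 1, 8, 4, 2] p = path g [3, 1, 8, 4] p :=
  scan (u := [2]) (w := []) (i := 2) (r2_0_0 H) (step (f4902 H) rfl) rfl

theorem f4905 : g 7 • path g [3, 1, 8, 4] p = path g [3, 1, 8, 4, 2] p :=
  H.back (i := 2) (by decide) (f4904 H)

theorem f4906 : g 2 • path g [3, 1, 3, 9] p = path g [3, 1, 3, 9, 2] p :=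
  rfl

theorem f4908 : g 2 • path g [3, 1, 3, 9, 2] p = path g [3, 1, 3, 9] p :=
  scan (u := [2]) (w := []) (i := 2) (r2_0_0 H) (step (f4906 H) rfl) rfl

theorem f4909 : g 7 • path g [3, 1, 3, 9] p = path g [3, 1, 3, 9, 2] p :=
  H.back (i := 2) (by decide) (f4908 H)

theorem f4910 : g 5 • path g [3, 1, 3, 9] p = path g [3, 1, 3, 9, 5] p :=
  rfl

theorem f4912 : g 5 • path g [3, 1, 3, 9, 5] p = path g [3, 1, 3, 9] p :=
  scan (u := [5]) (w := []) (i := 5) (r0_1_0 H) (step (f4910 H) rfl) rfl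

theorem f4913 : g 0 • path g [3, 1, 3, 9] p = path g [3, 1, 3, 9, 5] p :=
  H.back (i := 5) (by decide) (f4912 H)

theorem f4914 : g 9 • path g [3, 1, 3, 9, 5] p = path g [3, 9, 1, 8, 5] p :=
  scan (u := [5]) (w := [0, 4]) (i := 9) (r13_0_0 H) (step (f4910 H) rfl) (step (H.back (i := 5) (by decide) (f4649 H)) (step (H.back (i := 9) (by decide) (f1150 H)) rfl))

theorem f4915 : g 4 • path g [3, 9, 1, 8, 5] p = path g [3, 1, 3, 9, 5] p :=
  H.back (i := 9) (by decide) (f4914 H)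

theorem f4916 : g 4 • path g [3, 1, 3, 9, 5] p = path g [3, 1, 3, 5] p :=
  scan (u := [5]) (w := [0, 9]) (i := 4) (r13_1_1 H) (step (f4910 H) rfl) (step (H.back (i := 5) (by decide) (f1158 H)) (step (H.back (i := 4) (by decide) (f1149 H)) rfl))

theorem f4917 : g 9 • path g [3, 1, 3, 5] p = path g [3, 1, 3, 9, 5] p :=
  H.back (i := 4) (by decide) (f4916 H)

theorem f4918 : g 6 • path g [3, 1, 3, 9] p = path g [3, 1, 3, 9, 6] p :=
  rfl

theorem f4919 : g 1 • path g [3, 1, 3, 9, 6] p = path g [3, 1, 3, 9] p :=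
  H.back (i := 6) (by decide) (f4918 H)

theorem f4920 : g 9 • path g [3, 1, 3, 9, 6] p = path g [3, 9, 1, 8, 6] p :=
  scan (u := [6]) (w := [1, 4]) (i := 9) (r14_0_2 H) (step (f4918 H) rfl) (step (H.back (i := 6) (by decide) (f4655 H)) (step (H.back (i := 9) (by decide) (f1150 H)) rfl))

theorem f4921 : g 4 • path g [3, 9, 1, 8, 6] p = path g [3, 1, 3, 9, 6] p :=
  H.back (i := 9) (by decide) (f4920 H)

theorem f4922 : g 4 • path g [3, 1, 3, 9, 6] p = path g [3, 1, 3, 6] p :=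
  scan (u := [6]) (w := [1, 9]) (i := 4) (r14_1_3 H) (step (f4918 H) rfl) (step (H.back (i := 6) (by decide) (f1162 H)) (step (H.back (i := 4) (by decide) (f1149 H)) rfl))

theorem f4924 : g 5 • path g [3, 1, 3, 9, 6] p = path g [8, 1, 3, 9, 6] p :=
  scan (u := [6]) (w := [6, 6, 9, 1, 1, 0, 1, 4]) (i := 5) (r12_0_5 H) (step (f4918 H) rfl) (step (H.back (i := 1) (by decide) (f4395 H)) (step (H.back (i := 1) (by decide) (f4393 H)) (step (H.back (i := 4) (by decide) (f897 H)) (step (H.back (i := 6) (by decide) (f3974 H)) (step (H.back (i := 6) (by decide) (f3976 H)) (step (H.back (i := 5) (by decide) (f4659 H)) (step (H.back (i := 6) (by decide) (f4655 H)) (step (H.back (i := 9) (by decide) (f1150 H)) rfl))))))))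

theorem f4926 : g 5 • path g [8, 1, 3, 9, 6] p = path g [3, 1, 3, 9, 6] p :=
  scan (u := [5]) (w := []) (i := 5) (r0_1_0 H) (step (f4924 H) rfl) rfl

theorem f4927 : g 0 • path g [3, 1, 3, 9, 6] p = path g [8, 1, 3, 9, 6] p :=
  H.back (i := 5) (by decide) (f4926 H)

theorem f4928 : g 1 • path g [3, 1, 3, 9] p = path g [3, 1, 3, 9, 1] p :=
  rfl

theorem f4929 : g 6 • path g [3, 1, 3, 9, 1] p = path g [3, 1, 3, 9] p :=
  H.back (i := 1) (by decide) (f4928 H)

theorem f4930 : g 1 • path g [3, 1, 3, 9, 1] p = path g [3, 1, 3, 9, 6] p :=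
  scan (u := [1]) (w := [1]) (i := 1) (r1_0_0 H) (step (f4928 H) rfl) (step (H.back (i := 6) (by decide) (f4918 H)) rfl)

theorem f4932 : g 4 • path g [3, 1, 3, 9, 1] p = path g [3, 1, 3, 1] p :=
  scan (u := [1]) (w := [6, 9]) (i := 4) (r14_0_0 H) (step (f4928 H) rfl) (step (H.back (i := 1) (by decide) (f1164 H)) (step (H.back (i := 4) (by decide) (f1149 H)) rfl))

theorem f4934 : g 9 • path g [3, 1, 3, 9, 1] p = path g [3, 9, 1, 8, 1] p :=
  scan (u := [1]) (w := [6, 4]) (i := 9) (r14_1_1 H) (step (f4928 H) rfl) (step (H.back (i := 1) (by decide) (f4663 H)) (step (H.back (i := 9) (by decide) (f1150 H)) rfl))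

theorem f4935 : g 4 • path g [3, 9, 1, 8, 1] p = path g [3, 1, 3, 9, 1] p :=
  H.back (i := 9) (by decide) (f4934 H)

theorem f4936 : g 8 • path g [3, 1, 3, 5] p = path g [3, 1, 3, 5, 8] p :=
  rfl

theorem f4938 : g 2 • path g [3, 1, 3, 5, 8] p = path g [3, 6, 3, 5, 8] p :=
  scan (u := [8]) (w := [3, 6, 5, 7, 6, 5, 7, 5]) (i := 2) (r7_0_9 H) (step (f4936 H) rfl) (step (H.back (i := 8) (by decide) (f4790 H)) (step (H.back (i := 1) (by decide) (f4797 H)) (step (H.back (i := 0) (by decide) (f4805 H)) (step (H.back (i := 2) (by decide) (f4310 H)) (step (H.back (i := 1) (by decide) (f4163 H)) (step (H.back (i := 0) (by decide) (f849 H)) (step (H.back (i := 2) (by decide) (f4090 H)) (step (H.back (i := 0) (by decide) (f1159 H)) rfl))))))))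

theorem f4940 : g 2 • path g [3, 6, 3, 5, 8] p = path g [3, 1, 3, 5, 8] p :=
  scan (u := [2]) (w := []) (i := 2) (r2_0_0 H) (step (f4938 H) rfl) rfl

theorem f4941 : g 7 • path g [3, 1, 3, 5, 8] p = path g [3, 6, 3, 5, 8] p :=
  H.back (i := 2) (by decide) (f4940 H)

theorem f4942 : g 3 • path g [3, 1, 3, 5] p = path g [3, 1, 3, 5, 3] p :=
  rfl

theorem f4944 : g 3 • path g [3, 1, 3, 5, 3] p = path g [3, 1, 3, 5, 8] p :=
  scan (u := [3]) (w := [3]) (i := 3) (r6_0_0 H) (step (f4942 H) rfl) (step (H.back (i := 8) (by decide) (f4936 H)) rfl)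

theorem f4946 : g 6 • path g [3, 1, 3, 5] p = path g [3, 1, 3, 5, 6] p :=
  rfl

theorem f4947 : g 1 • path g [3, 1, 3, 5, 6] p = path g [3, 1, 3, 5] p :=
  H.back (i := 6) (by decide) (f4946 H)

theorem f4950 : g 7 • path g [3, 1, 3, 5, 6] p = path g [8, 1, 3, 1, 5] p :=
  scan (u := [6]) (w := [6, 7]) (i := 7) (r3_1_1 H) (step (f4946 H) rfl) (step (H.back (i := 1) (by decide) (f4465 H)) (step (H.back (i := 2) (by decide) (f4295 H)) rfl))

theorem f4952 : g 0 • path g [3, 1, 3, 5, 6] p = path g [8, 1, 3, 5, 6] p :=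
  scan (u := [6]) (w := [1, 0, 1, 0, 6]) (i := 0) (r4_0_2 H) (step (f4946 H) rfl) (step (H.back (i := 6) (by decide) (f4411 H)) (step (H.back (i := 5) (by decide) (f904 H)) (step (H.back (i := 6) (by decide) (f911 H)) (step (H.back (i := 5) (by decide) (f4462 H)) (step (H.back (i := 1) (by decide) (f4465 H)) rfl)))))

theorem f4954 : g 5 • path g [3, 1, 3, 5, 6] p = path g [8, 1, 3, 5, 6] p :=
  scan (u := [6]) (w := [6, 5, 1, 1, 5]) (i := 5) (r4_1_0 H) (step (f4946 H) rfl) (step (H.back (i := 1) (by decide) (f4415 H)) (step (H.back (i := 0) (by decide) (f4448 H)) (step (H.back (i := 6) (by decide) (f1167 H)) (step (H.back (i := 6) (by decide) (f1162 H)) (step (H.back (i := 0) (by decide) (f1159 H)) rfl)))))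

theorem f4955 : g 0 • path g [8, 1, 3, 5, 6] p = path g [3, 1, 3, 5, 6] p :=
  H.back (i := 5) (by decide) (f4954 H)

theorem f4956 : g 2 • path g [3, 1, 3, 5, 6] p = path g [8, 1, 3, 1, 5] p :=
  scan (u := [6]) (w := [0, 2, 1, 0, 2, 1, 0, 6, 2, 0]) (i := 2) (r5_0_1 H) (step (f4946 H) rfl) (step (H.back (i := 5) (by decide) (f4460 H)) (step (H.back (i := 7) (by decide) (f4436 H)) (step (H.back (i := 6) (by decide) (f1120 H)) (step (H.back (i := 5) (by decide) (f1118 H)) (step (H.back (i := 7) (by decide) (f4281 H)) (step (H.back (i := 6) (by decide) (f4304 H)) (step (H.back (i := 5) (by decide) (f4196 H)) (step (H.back (i := 1) (by decide) (f852 H)) (step (H.back (i := 7) (by decide) (f4181 H)) (step (H.back (i := 5) (by decide) (f1160 H)) rfl))))))))))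

theorem f4958 : g 7 • path g [8, 1, 3, 1, 8] p = path g [8, 1, 3, 1, 8] p :=
  scan (u := [0, 1, 2, 0, 1, 8]) (w := [3, 0, 2]) (i := 7) (r7_1_3 H) (step (f4952 H) (step (f4412 H) (step (f4442 H) (step (f905 H) (step (f910 H) (step (f4458 H) rfl)))))) (step (H.back (i := 8) (by decide) (f4458 H)) (step (H.back (i := 5) (by decide) (f4462 H)) (step (H.back (i := 7) (by decide) (f4950 H)) rfl)))

theorem f4959 : g 2 • path g [8, 1, 3, 1, 8] p = path g [8, 1, 3, 1, 8] p :=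
  H.back (i := 7) (by decide) (f4958 H)

theorem f4960 : g 8 • path g [3, 1, 3, 6] p = path g [3, 1, 3, 6, 8] p :=
  rfl

theorem f4961 : g 3 • path g [3, 1, 3, 6, 8] p = path g [3, 1, 3, 6] p :=
  H.back (i := 8) (by decide) (f4960 H)

theorem f4962 : g 2 • path g [3, 1, 3, 6, 8] p = path g [3, 6, 3, 6, 8] p :=
  scan (u := [8]) (w := [3, 6, 5, 7, 6, 5, 7, 5]) (i := 2) (r7_0_9 H) (step (f4960 H) rfl) (step (H.back (i := 8) (by decide) (f4818 H)) (step (H.back (i := 1) (by decide) (f1124 H)) (step (H.back (i := 0) (by decide) (f4306 H)) (step (H.back (i := 2) (by decide) (f4312 H)) (step (H.back (i := 1) (by decide) (f4165 H)) (step (H.back (i := 0) (by decide) (f4308 H)) (step (H.back (i := 2) (by decide) (f4427 H)) (step (H.back (i := 0) (by decide) (f4444 H)) rfl))))))))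

theorem f4963 : g 7 • path g [3, 6, 3, 6, 8] p = path g [3, 1, 3, 6, 8] p :=
  H.back (i := 2) (by decide) (f4962 H)

theorem f4964 : g 7 • path g [3, 1, 3, 6, 8] p = path g [3, 6, 3, 6, 8] p :=
  scan (u := [8]) (w := [3, 0, 2, 0, 1, 2, 0, 1]) (i := 7) (r7_1_8 H) (step (f4960 H) rfl) (step (H.back (i := 8) (by decide) (f4818 H)) (step (H.back (i := 5) (by decide) (f4300 H)) (step (H.back (i := 7) (by decide) (f4175 H)) (step (H.back (i := 5) (by decide) (f4449 H)) (step (H.back (i := 6) (by decide) (f4416 H)) (step (H.back (i := 7) (by decide) (f4451 H)) (step (H.back (i := 5) (by decide) (f4447 H)) (step (H.back (i := 6) (by decide) (f1167 H)) rfl))))))))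

theorem f4965 : g 2 • path g [3, 6, 3, 6, 8] p = path g [3, 1, 3, 6, 8] p :=
  H.back (i := 7) (by decide) (f4964 H)

theorem f4966 : g 3 • path g [3, 1, 3, 6] p = path g [3, 1, 3, 6, 3] p :=
  rfl

theorem f4967 : g 8 • path g [3, 1, 3, 6, 3] p = path g [3, 1, 3, 6] p :=
  H.back (i := 3) (by decide) (f4966 H)

theorem f4968 : g 3 • path g [3, 1, 3, 6, 3] p = path g [3, 1, 3, 6, 8] p :=
  scan (u := [3]) (w := [3]) (i := 3) (r6_0_0 H) (step (f4966 H) rfl) (step (H.back (i := 8) (by decide) (f4960 H)) rfl)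

theorem f4969 : g 8 • path g [3, 1, 3, 6, 8] p = path g [3, 1, 3, 6, 3] p :=
  H.back (i := 3) (by decide) (f4968 H)

theorem f4970 : g 8 • path g [3, 1, 3, 1] p = path g [3, 1, 3, 1, 8] p :=
  rfl

theorem f4971 : g 3 • path g [3, 1, 3, 1, 8] p = path g [3, 1, 3, 1] p :=
  H.back (i := 8) (by decide) (f4970 H)

theorem f4972 : g 2 • path g [3, 1, 3, 1, 8] p = path g [3, 1, 3, 1, 8] p :=
  scan (u := [8]) (w := [3, 6, 5, 7, 6, 5, 7, 5]) (i := 2) (r7_0_9 H) (step (f4970 H) rfl) (step (H.back (i := 8) (by decide) (f4970 H)) (step (H.back (i := 1) (by decide) (f1164 H)) (step (H.back (i := 0) (by decide) (f1159 H)) (step (H.back (i := 2) (by decide) (f4295 H)) (step (H.back (i := 1) (by decide) (f4947 H)) (step (H.back (i := 0) (by decide) (f4955 H)) (step (H.back (i := 2) (by decide) (f4452 H)) (step (H.back (i := 0) (by decide) (f4448 H)) rfl))))))))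

theorem f4974 : g 3 • path g [3, 1, 3, 1] p = path g [3, 1, 3, 1, 3] p :=
  rfl

theorem f4975 : g 8 • path g [3, 1, 3, 1, 3] p = path g [3, 1, 3, 1] p :=
  H.back (i := 3) (by decide) (f4974 H)

theorem f4976 : g 3 • path g [3, 1, 3, 1, 3] p = path g [3, 1, 3, 1, 8] p :=
  scan (u := [3]) (w := [3]) (i := 3) (r6_0_0 H) (step (f4974 H) rfl) (step (H.back (i := 8) (by decide) (f4970 H)) rfl)

theorem f4977 : g 8 • path g [3, 1, 3, 1, 8] p = path g [3, 1, 3, 1, 3] p :=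
  H.back (i := 3) (by decide) (f4976 H)

theorem f4978 : g 2 • path g [4, 8, 2, 9] p = path g [4, 8, 2, 9, 2] p :=
  rfl

theorem f4980 : g 2 • path g [4, 8, 2, 9, 2] p = path g [4, 8, 2, 9] p :=
  scan (u := [2]) (w := []) (i := 2) (r2_0_0 H) (step (f4978 H) rfl) rfl

theorem f4981 : g 7 • path g [4, 8, 2, 9] p = path g [4, 8, 2, 9, 2] p :=
  H.back (i := 2) (by decide) (f4980 H)

theorem f4982 : g 6 • path g [4, 8, 2, 9] p = path g [4, 8, 2, 9, 6] p :=
  rfl

theorem f4983 : g 1 • path g [4, 8, 2, 9, 6] p = path g [4, 8, 2, 9] p :=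
  H.back (i := 6) (by decide) (f4982 H)

theorem f4984 : g 4 • path g [4, 8, 2, 9, 6] p = path g [4, 8, 2, 6] p :=
  scan (u := [6]) (w := [1, 9]) (i := 4) (r14_1_3 H) (step (f4982 H) rfl) (step (H.back (i := 6) (by decide) (f1178 H)) (step (H.back (i := 4) (by decide) (f1169 H)) rfl))

theorem f4985 : g 9 • path g [4, 8, 2, 6] p = path g [4, 8, 2, 9, 6] p :=
  H.back (i := 4) (by decide) (f4984 H)

theorem f4986 : g 5 • path g [4, 8, 2, 9, 6] p = path g [9, 8, 2, 9, 6] p :=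
  scan (u := [6]) (w := [6, 6, 4, 1, 1, 0, 1, 9]) (i := 5) (r12_1_6 H) (step (f4982 H) rfl) (step (H.back (i := 1) (by decide) (f1376 H)) (step (H.back (i := 1) (by decide) (f1374 H)) (step (H.back (i := 9) (by decide) (f368 H)) (step (H.back (i := 6) (by decide) (f387 H)) (step (H.back (i := 6) (by decide) (f389 H)) (step (H.back (i := 5) (by decide) (f1752 H)) (step (H.back (i := 6) (by decide) (f1178 H)) (step (H.back (i := 4) (by decide) (f1169 H)) rfl))))))))

theorem f4987 : g 0 • path g [9, 8, 2, 9, 6] p = path g [4, 8, 2, 9, 6] p :=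
  H.back (i := 5) (by decide) (f4986 H)

theorem f4988 : g 5 • path g [9, 8, 2, 9, 6] p = path g [4, 8, 2, 9, 6] p :=
  scan (u := [5]) (w := []) (i := 5) (r0_1_0 H) (step (f4986 H) rfl) rfl

theorem f4989 : g 0 • path g [4, 8, 2, 9, 6] p = path g [9, 8, 2, 9, 6] p :=
  H.back (i := 5) (by decide) (f4988 H)

theorem f4990 : g 1 • path g [4, 8, 2, 9] p = path g [4, 8, 2, 9, 1] p :=
  rfl

theorem f4991 : g 6 • path g [4, 8, 2, 9, 1] p = path g [4, 8, 2, 9] p :=
  H.back (i := 1) (by decide) (f4990 H)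

theorem f4992 : g 1 • path g [4, 8, 2, 9, 1] p = path g [4, 8, 2, 9, 6] p :=
  scan (u := [1]) (w := [1]) (i := 1) (r1_0_0 H) (step (f4990 H) rfl) (step (H.back (i := 6) (by decide) (f4982 H)) rfl)

theorem f4993 : g 6 • path g [4, 8, 2, 9, 6] p = path g [4, 8, 2, 9, 1] p :=
  H.back (i := 1) (by decide) (f4992 H)

theorem f4994 : g 4 • path g [4, 8, 2, 9, 1] p = path g [4, 8, 2, 1] p :=
  scan (u := [1]) (w := [6, 9]) (i := 4) (r14_0_0 H) (step (f4990 H) rfl) (step (H.back (i := 1) (by decide) (f1184 H)) (step (H.back (i := 4) (by decide) (f1169 H)) rfl))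

theorem f4995 : g 9 • path g [4, 8, 2, 1] p = path g [4, 8, 2, 9, 1] p :=
  H.back (i := 4) (by decide) (f4994 H)

theorem f4996 : g 9 • path g [4, 8, 2, 8] p = path g [4, 8, 2, 8, 9] p :=
  rfl

theorem f4997 : g 4 • path g [4, 8, 2, 8, 9] p = path g [4, 8, 2, 8] p :=
  H.back (i := 9) (by decide) (f4996 H)

theorem f4998 : g 9 • path g [4, 8, 2, 8, 9] p = path g [8, 1, 4, 8, 2] p :=
  scan (u := [9]) (w := [9]) (i := 9) (r10_1_0 H) (step (f4996 H) rfl) (step (H.back (i := 4) (by decide) (f4476 H)) rfl)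

theorem f5000 : g 0 • path g [4, 8, 2, 8, 9] p = path g [9, 3, 5, 2, 9] p :=
  scan (u := [9]) (w := [4, 5]) (i := 0) (r13_0_1 H) (step (f4996 H) rfl) (step (H.back (i := 9) (by decide) (f3689 H)) (step (H.back (i := 0) (by decide) (f3403 H)) rfl))

theorem f5002 : g 5 • path g [4, 8, 2, 8, 9] p = path g [9, 3, 5, 2, 9] p :=
  scan (u := [9]) (w := [4, 0]) (i := 5) (r13_1_0 H) (step (f4996 H) rfl) (step (H.back (i := 9) (by decide) (f3689 H)) (step (H.back (i := 5) (by decide) (f3406 H)) rfl))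

theorem f5004 : g 8 • path g [4, 8, 2, 8, 9] p = path g [4, 8, 2, 4] p :=
  scan (u := [9]) (w := [9, 8]) (i := 8) (r15_1_1 H) (step (f4996 H) rfl) (step (H.back (i := 4) (by decide) (f1192 H)) (step (H.back (i := 3) (by decide) (f1171 H)) rfl))

theorem f5005 : g 3 • path g [4, 8, 2, 4] p = path g [4, 8, 2, 8, 9] p :=
  H.back (i := 8) (by decide) (f5004 H)

theorem f5006 : g 6 • path g [4, 8, 2, 8] p = path g [4, 8, 2, 8, 6] p :=
  rfl

theorem f5007 : g 1 • path g [4, 8, 2, 8, 6] p = path g [4, 8, 2, 8] p :=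
  H.back (i := 6) (by decide) (f5006 H)

theorem f5008 : g 6 • path g [4, 8, 2, 8, 6] p = path g [3, 9, 2, 1, 5] p :=
  scan (u := [6]) (w := [6]) (i := 6) (r1_1_0 H) (step (f5006 H) rfl) (step (H.back (i := 1) (by decide) (f4577 H)) rfl)

theorem f5009 : g 1 • path g [3, 9, 2, 1, 5] p = path g [4, 8, 2, 8, 6] p :=
  H.back (i := 6) (by decide) (f5008 H)

theorem f5010 : g 0 • path g [4, 8, 2, 8, 6] p = path g [9, 8, 2, 8, 6] p :=
  scan (u := [6]) (w := [1, 0, 1, 0, 6]) (i := 0) (r4_0_2 H) (step (f5006 H) rfl) (step (H.back (i := 6) (by decide) (f1392 H)) (step (H.back (i := 5) (by decide) (f3393 H)) (step (H.back (i := 6) (by decide) (f963 H)) (step (H.back (i := 5) (by decide) (f4574 H)) (step (H.back (i := 1) (by decide) (f4577 H)) rfl)))))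

theorem f5011 : g 5 • path g [9, 8, 2, 8, 6] p = path g [4, 8, 2, 8, 6] p :=
  H.back (i := 0) (by decide) (f5010 H)

theorem f5012 : g 5 • path g [4, 8, 2, 8, 6] p = path g [9, 8, 2, 8, 6] p :=
  scan (u := [6]) (w := [6, 5, 1, 1, 5]) (i := 5) (r4_1_0 H) (step (f5006 H) rfl) (step (H.back (i := 1) (by decide) (f1396 H)) (step (H.back (i := 0) (by decide) (f3715 H)) (step (H.back (i := 6) (by decide) (f3710 H)) (step (H.back (i := 6) (by decide) (f3693 H)) (step (H.back (i := 0) (by decide) (f3403 H)) rfl)))))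

theorem f5013 : g 0 • path g [9, 8, 2, 8, 6] p = path g [4, 8, 2, 8, 6] p :=
  H.back (i := 5) (by decide) (f5012 H)

theorem f5015 : g 8 • path g [4, 8, 2, 6] p = path g [4, 8, 2, 6, 8] p :=
  rfl

theorem f5016 : g 3 • path g [4, 8, 2, 6, 8] p = path g [4, 8, 2, 6] p :=
  H.back (i := 8) (by decide) (f5015 H)

theorem f5017 : g 2 • path g [4, 8, 2, 6, 8] p = path g [9, 2, 8, 6, 8] p :=
  scan (u := [8]) (w := [3, 6, 5, 7, 6, 5, 7, 5]) (i := 2) (r7_0_9 H) (step (f5015 H) rfl) (step (H.back (i := 8) (by decide) (f3297 H)) (step (H.back (i := 1) (by decide) (f478 H)) (step (H.back (i := 0) (by decide) (f3154 H)) (step (H.back (i := 2) (by decide) (f862 H)) (step (H.back (i := 1) (by decide) (f254 H)) (step (H.back (i := 0) (by decide) (f2845 H)) (step (H.back (i := 2) (by decide) (f385 H)) (step (H.back (i := 0) (by decide) (f1749 H)) rfl))))))))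

theorem f5018 : g 7 • path g [9, 2, 8, 6, 8] p = path g [4, 8, 2, 6, 8] p :=
  H.back (i := 2) (by decide) (f5017 H)

theorem f5019 : g 7 • path g [4, 8, 2, 6, 8] p = path g [9, 2, 8, 6, 8] p :=
  scan (u := [8]) (w := [3, 0, 2, 0, 1, 2, 0, 1]) (i := 7) (r7_1_8 H) (step (f5015 H) rfl) (step (H.back (i := 8) (by decide) (f3297 H)) (step (H.back (i := 5) (by decide) (f3301 H)) (step (H.back (i := 7) (by decide) (f3395 H)) (step (H.back (i := 5) (by decide) (f3357 H)) (step (H.back (i := 6) (by decide) (f1339 H)) (step (H.back (i := 7) (by decide) (f3399 H)) (step (H.back (i := 5) (by decide) (f1758 H)) (step (H.back (i := 6) (by decide) (f1187 H)) rfl))))))))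

theorem f5020 : g 2 • path g [9, 2, 8, 6, 8] p = path g [4, 8, 2, 6, 8] p :=
  H.back (i := 7) (by decide) (f5019 H)

theorem f5021 : g 3 • path g [4, 8, 2, 6] p = path g [4, 8, 2, 6, 3] p :=
  rfl

theorem f5022 : g 8 • path g [4, 8, 2, 6, 3] p = path g [4, 8, 2, 6] p :=
  H.back (i := 3) (by decide) (f5021 H)

theorem f5023 : g 3 • path g [4, 8, 2, 6, 3] p = path g [4, 8, 2, 6, 8] p :=
  scan (u := [3]) (w := [3]) (i := 3) (r6_0_0 H) (step (f5021 H) rfl) (step (H.back (i := 8) (by decide) (f5015 H)) rfl)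

theorem f5025 : g 4 • path g [4, 8, 2, 6] p = path g [4, 8, 2, 6, 4] p :=
  rfl

theorem f5026 : g 9 • path g [4, 8, 2, 6, 4] p = path g [4, 8, 2, 6] p :=
  H.back (i := 4) (by decide) (f5025 H)

theorem f5027 : g 4 • path g [4, 8, 2, 6, 4] p = path g [4, 8, 2, 9, 6] p :=
  scan (u := [4]) (w := [4]) (i := 4) (r10_0_0 H) (step (f5025 H) rfl) (step (H.back (i := 9) (by decide) (f4985 H)) rfl)

theorem f5029 : g 5 • path g [4, 8, 2, 6, 4] p = path g [9, 8, 2, 6, 4] p :=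
  scan (u := [4]) (w := [9, 0]) (i := 5) (r13_0_3 H) (step (f5025 H) rfl) (step (H.back (i := 4) (by decide) (f1678 H)) (step (H.back (i := 5) (by decide) (f1752 H)) rfl))

theorem f5030 : g 0 • path g [9, 8, 2, 6, 4] p = path g [4, 8, 2, 6, 4] p :=
  H.back (i := 5) (by decide) (f5029 H)

theorem f5031 : g 0 • path g [4, 8, 2, 6, 4] p = path g [9, 8, 2, 6, 4] p :=
  scan (u := [4]) (w := [9, 5]) (i := 0) (r13_1_2 H) (step (f5025 H) rfl) (step (H.back (i := 4) (by decide) (f1678 H)) (step (H.back (i := 0) (by decide) (f1749 H)) rfl))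

theorem f5032 : g 5 • path g [9, 8, 2, 6, 4] p = path g [4, 8, 2, 6, 4] p :=
  H.back (i := 0) (by decide) (f5031 H)

theorem f5033 : g 1 • path g [4, 8, 2, 6, 4] p = path g [4, 8, 2, 4] p :=
  scan (u := [4]) (w := [9, 6]) (i := 1) (r14_1_0 H) (step (f5025 H) rfl) (step (H.back (i := 4) (by decide) (f1192 H)) (step (H.back (i := 1) (by decide) (f1179 H)) rfl))

theorem f5035 : g 8 • path g [4, 8, 2, 1] p = path g [4, 8, 2, 1, 8] p :=
  rfl

theorem f5036 : g 3 • path g [4, 8, 2, 1, 8] p = path g [4, 8, 2, 1] p :=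
  H.back (i := 8) (by decide) (f5035 H)

theorem f5037 : g 7 • path g [4, 8, 2, 1, 8] p = path g [3, 9, 2, 1, 8] p :=
  scan (u := [8]) (w := [3, 0, 2, 0, 1, 2, 0, 1]) (i := 7) (r7_1_8 H) (step (f5035 H) rfl) (step (H.back (i := 8) (by decide) (f4570 H)) (step (H.back (i := 5) (by decide) (f4574 H)) (step (H.back (i := 7) (by decide) (f4581 H)) (step (H.back (i := 5) (by decide) (f3496 H)) (step (H.back (i := 6) (by decide) (f536 H)) (step (H.back (i := 7) (by decide) (f529 H)) (step (H.back (i := 5) (by decide) (f3121 H)) (step (H.back (i := 6) (by decide) (f1185 H)) rfl))))))))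

theorem f5038 : g 2 • path g [3, 9, 2, 1, 8] p = path g [4, 8, 2, 1, 8] p :=
  H.back (i := 7) (by decide) (f5037 H)

theorem f5039 : g 7 • path g [3, 9, 2, 1, 8] p = path g [4, 8, 2, 1, 8] p :=
  scan (u := [7]) (w := []) (i := 7) (r2_1_0 H) (step (f5037 H) rfl) rfl

theorem f5041 : g 3 • path g [4, 8, 2, 1] p = path g [4, 8, 2, 1, 3] p :=
  rfl

theorem f5042 : g 8 • path g [4, 8, 2, 1, 3] p = path g [4, 8, 2, 1] p :=
  H.back (i := 3) (by decide) (f5041 H)

theorem f5043 : g 3 • path g [4, 8, 2, 1, 3] p = path g [4, 8, 2, 1, 8] p :=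
  scan (u := [3]) (w := [3]) (i := 3) (r6_0_0 H) (step (f5041 H) rfl) (step (H.back (i := 8) (by decide) (f5035 H)) rfl)

theorem f5045 : g 4 • path g [4, 8, 2, 1] p = path g [4, 8, 2, 1, 4] p :=
  rfl

theorem f5046 : g 9 • path g [4, 8, 2, 1, 4] p = path g [4, 8, 2, 1] p :=
  H.back (i := 4) (by decide) (f5045 H)

theorem f5047 : g 4 • path g [4, 8, 2, 1, 4] p = path g [4, 8, 2, 9, 1] p :=
  scan (u := [4]) (w := [4]) (i := 4) (r10_0_0 H) (step (f5045 H) rfl) (step (H.back (i := 9) (by decide) (f4995 H)) rfl)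

theorem f5048 : g 9 • path g [4, 8, 2, 9, 1] p = path g [4, 8, 2, 1, 4] p :=
  H.back (i := 4) (by decide) (f5047 H)

theorem f5049 : g 6 • path g [4, 8, 2, 1, 4] p = path g [4, 8, 2, 4] p :=
  scan (u := [4]) (w := [9, 1]) (i := 6) (r14_0_1 H) (step (f5045 H) rfl) (step (H.back (i := 4) (by decide) (f1192 H)) (step (H.back (i := 6) (by decide) (f1185 H)) rfl))

theorem f5050 : g 1 • path g [4, 8, 2, 4] p = path g [4, 8, 2, 1, 4] p :=
  H.back (i := 6) (by decide) (f5049 H)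

theorem f5051 : g 1 • path g [4, 8, 2, 1, 4] p = path g [4, 8, 2, 6, 4] p :=
  scan (u := [4]) (w := [9, 6]) (i := 1) (r14_1_0 H) (step (f5045 H) rfl) (step (H.back (i := 4) (by decide) (f5025 H)) (step (H.back (i := 1) (by decide) (f1186 H)) rfl))

theorem f5053 : g 8 • path g [4, 8, 2, 4] p = path g [4, 8, 2, 4, 8] p :=
  rfl

theorem f5055 : g 8 • path g [4, 8, 2, 4, 8] p = path g [4, 8, 2, 8, 9] p :=
  scan (u := [8]) (w := [8]) (i := 8) (r6_1_0 H) (step (f5053 H) rfl) (step (H.back (i := 3) (by decide) (f5005 H)) rfl)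

theorem f5056 : g 3 • path g [4, 8, 2, 8, 9] p = path g [4, 8, 2, 4, 8] p :=
  H.back (i := 8) (by decide) (f5055 H)

theorem f5057 : g 9 • path g [4, 8, 2, 4, 8] p = path g [9, 8, 1, 8, 2] p :=
  scan (u := [8]) (w := [8, 9]) (i := 9) (r15_1_0 H) (step (f5053 H) rfl) (step (H.back (i := 3) (by decide) (f2909 H)) (step (H.back (i := 4) (by decide) (f1194 H)) rfl))

theorem f5058 : g 4 • path g [9, 8, 1, 8, 2] p = path g [4, 8, 2, 4, 8] p :=
  H.back (i := 9) (by decide) (f5057 H)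

theorem f5059 : g 2 • path g [4, 8, 2, 4] p = path g [4, 8, 2, 4, 2] p :=
  rfl

theorem f5060 : g 7 • path g [4, 8, 2, 4, 2] p = path g [4, 8, 2, 4] p :=
  H.back (i := 2) (by decide) (f5059 H)

theorem f5061 : g 2 • path g [4, 8, 2, 4, 2] p = path g [4, 8, 2, 4] p :=
  scan (u := [2]) (w := []) (i := 2) (r2_0_0 H) (step (f5059 H) rfl) rfl

theorem f5062 : g 7 • path g [4, 8, 2, 4] p = path g [4, 8, 2, 4, 2] p :=
  H.back (i := 2) (by decide) (f5061 H)

theorem f5063 : g 9 • path g [4, 8, 5, 2] p = path g [4, 8, 5, 2, 9] p :=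
  rfl

theorem f5064 : g 4 • path g [4, 8, 5, 2, 9] p = path g [4, 8, 5, 2] p :=
  H.back (i := 9) (by decide) (f5063 H)

theorem f5065 : g 1 • path g [4, 8, 5, 2] p = path g [4, 8, 5, 2, 1] p :=
  rfl

theorem f5066 : g 6 • path g [4, 8, 5, 2, 1] p = path g [4, 8, 5, 2] p :=
  H.back (i := 1) (by decide) (f5065 H)

theorem f5067 : g 1 • path g [4, 8, 5, 2, 1] p = path g [8, 9, 2, 6, 5] p :=
  scan (u := [1]) (w := [1]) (i := 1) (r1_0_0 H) (step (f5065 H) rfl) (step (H.back (i := 6) (by decide) (f3870 H)) rfl)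

theorem f5068 : g 6 • path g [8, 9, 2, 6, 5] p = path g [4, 8, 5, 2, 1] p :=
  H.back (i := 1) (by decide) (f5067 H)

theorem f5069 : g 2 • path g [4, 8, 5, 2, 1] p = path g [4, 8, 5, 6] p :=
  scan (u := [1]) (w := [1, 2]) (i := 2) (r3_0_0 H) (step (f5065 H) rfl) (step (H.back (i := 6) (by decide) (f1208 H)) (step (H.back (i := 7) (by decide) (f1199 H)) rfl))

theorem f5070 : g 7 • path g [4, 8, 5, 6] p = path g [4, 8, 5, 2, 1] p :=
  H.back (i := 2) (by decide) (f5069 H)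

theorem f5071 : g 5 • path g [4, 8, 5, 2, 1] p = path g [4, 2, 8, 1] p :=
  scan (u := [1]) (w := [6, 5, 6, 5, 1]) (i := 5) (r4_1_5 H) (step (f5065 H) rfl) (step (H.back (i := 1) (by decide) (f1280 H)) (step (H.back (i := 0) (by decide) (f2193 H)) (step (H.back (i := 1) (by decide) (f659 H)) (step (H.back (i := 0) (by decide) (f3860 H)) (step (H.back (i := 6) (by decide) (f3870 H)) rfl)))))

theorem f5072 : g 0 • path g [4, 2, 8, 1] p = path g [4, 8, 5, 2, 1] p :=
  H.back (i := 5) (by decide) (f5071 H)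

theorem f5073 : g 0 • path g [4, 8, 5, 2, 1] p = path g [4, 2, 8, 1] p :=
  scan (u := [1]) (w := [2, 1, 0, 8, 7, 5, 7, 5, 3]) (i := 0) (r8_1_2 H) (step (f5065 H) rfl) (step (H.back (i := 7) (by decide) (f3625 H)) (step (H.back (i := 6) (by decide) (f3623 H)) (step (H.back (i := 5) (by decide) (f3210 H)) (step (H.back (i := 3) (by decide) (f358 H)) (step (H.back (i := 2) (by decide) (f96 H)) (step (H.back (i := 0) (by decide) (f25 H)) (step (H.back (i := 2) (by decide) (f98 H)) (step (H.back (i := 0) (by decide) (f355 H)) (step (H.back (i := 8) (by decide) (f3575 H)) rfl)))))))))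

theorem f5074 : g 5 • path g [4, 2, 8, 1] p = path g [4, 8, 5, 2, 1] p :=
  H.back (i := 0) (by decide) (f5073 H)

theorem f5075 : g 2 • path g [4, 8, 5, 6] p = path g [4, 8, 5, 2, 1] p :=
  scan (u := [0, 6, 2, 0, 2, 1, 0, 2, 1, 0, 6]) (w := []) (i := 2) (r5_0_0 H) (step (f5073 H) (step (f1281 H) (step (f1466 H) (step (f2166 H) (step (f2159 H) (step (f1426 H) (step (f1757 H) (step (f1188 H) (step (f339 H) (step (f335 H) (step (f1208 H) rfl))))))))))) rfl

theorem f5076 : g 7 • path g [4, 8, 5, 2, 1] p = path g [4, 8, 5, 6] p :=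
  H.back (i := 2) (by decide) (f5075 H)

theorem f5077 : g 4 • path g [4, 8, 5, 2] p = path g [4, 8, 5, 2, 4] p :=
  rfl

theorem f5079 : g 4 • path g [4, 8, 5, 2, 4] p = path g [4, 8, 5, 2, 9] p :=
  scan (u := [4]) (w := [4]) (i := 4) (r10_0_0 H) (step (f5077 H) rfl) (step (H.back (i := 9) (by decide) (f5063 H)) rfl)

theorem f5080 : g 9 • path g [4, 8, 5, 2, 9] p = path g [4, 8, 5, 2, 4] p :=
  H.back (i := 4) (by decide) (f5079 H)

theorem f5081 : g 3 • path g [4, 8, 5, 2, 4] p = path g [4, 2, 9, 5] p :=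
  scan (u := [4]) (w := [4, 3]) (i := 3) (r15_0_0 H) (step (f5077 H) rfl) (step (H.back (i := 9) (by decide) (f1261 H)) (step (H.back (i := 8) (by decide) (f3575 H)) rfl))

theorem f5082 : g 8 • path g [4, 2, 9, 5] p = path g [4, 8, 5, 2, 4] p :=
  H.back (i := 3) (by decide) (f5081 H)

theorem f5083 : g 3 • path g [4, 8, 5, 6] p = path g [4, 8, 5, 6, 3] p :=
  rfl

theorem f5084 : g 8 • path g [4, 8, 5, 6, 3] p = path g [4, 8, 5, 6] p :=
  H.back (i := 3) (by decide) (f5083 H)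

theorem f5085 : g 3 • path g [4, 8, 5, 6, 3] p = path g [9, 8, 2, 5, 4] p :=
  scan (u := [3]) (w := [3]) (i := 3) (r6_0_0 H) (step (f5083 H) rfl) (step (H.back (i := 8) (by decide) (f2860 H)) rfl)

theorem f5086 : g 8 • path g [9, 8, 2, 5, 4] p = path g [4, 8, 5, 6, 3] p :=
  H.back (i := 3) (by decide) (f5085 H)

theorem f5087 : g 4 • path g [4, 8, 5, 6, 3] p = path g [9, 3, 5, 6, 8] p :=
  scan (u := [3]) (w := [3, 4]) (i := 4) (r15_0_1 H) (step (f5083 H) rfl) (step (H.back (i := 8) (by decide) (f3725 H)) (step (H.back (i := 9) (by decide) (f1210 H)) rfl))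

theorem f5088 : g 9 • path g [9, 3, 5, 6, 8] p = path g [4, 8, 5, 6, 3] p :=
  H.back (i := 4) (by decide) (f5087 H)

theorem f5089 : g 3 • path g [4, 8, 5, 1] p = path g [4, 8, 5, 1, 3] p :=
  rfl

theorem f5090 : g 8 • path g [4, 8, 5, 1, 3] p = path g [4, 8, 5, 1] p :=
  H.back (i := 3) (by decide) (f5089 H)

theorem f5091 : g 3 • path g [4, 8, 5, 1, 3] p = path g [8, 1, 4, 8, 2] p :=
  scan (u := [3]) (w := [3]) (i := 3) (r6_0_0 H) (step (f5089 H) rfl) (step (H.back (i := 8) (by decide) (f4475 H)) rfl)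

theorem f5093 : g 4 • path g [4, 8, 5, 1, 3] p = path g [9, 8, 1, 8, 2] p :=
  scan (u := [3]) (w := [3, 4]) (i := 4) (r15_0_1 H) (step (f5089 H) rfl) (step (H.back (i := 8) (by decide) (f2908 H)) (step (H.back (i := 9) (by decide) (f1216 H)) rfl))

theorem f5095 : g 4 • path g [4, 8, 2, 4, 8] p = path g [4, 8, 5, 1, 3] p :=
  scan (u := [4, 4]) (w := []) (i := 4) (r10_0_0 H) (step (f5093 H) (step (f5058 H) rfl)) rfl

theorem f5097 : g 2 • path g [4, 8, 6, 8] p = path g [4, 8, 6, 8, 2] p :=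
  rfl

theorem f5099 : g 2 • path g [4, 8, 6, 8, 2] p = path g [4, 8, 6, 8] p :=
  scan (u := [2]) (w := []) (i := 2) (r2_0_0 H) (step (f5097 H) rfl) rfl

theorem f5100 : g 7 • path g [4, 8, 6, 8] p = path g [4, 8, 6, 8, 2] p :=
  H.back (i := 2) (by decide) (f5099 H)

theorem f5101 : g 3 • path g [4, 8, 6, 8, 2] p = path g [9, 2, 5, 8, 6] p :=
  scan (u := [2]) (w := [6, 5, 7, 6, 5, 7, 5, 8]) (i := 3) (r7_0_0 H) (step (f5097 H) rfl) (step (H.back (i := 1) (by decide) (f3352 H)) (step (H.back (i := 0) (by decide) (f3359 H)) (step (H.back (i := 2) (by decide) (f3361 H)) (step (H.back (i := 1) (by decide) (f1428 H)) (step (H.back (i := 0) (by decide) (f1759 H)) (step (H.back (i := 2) (by decide) (f1190 H)) (step (H.back (i := 0) (by decide) (f1640 H)) (step (H.back (i := 3) (by decide) (f1219 H)) rfl))))))))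

theorem f5102 : g 8 • path g [9, 2, 5, 8, 6] p = path g [4, 8, 6, 8, 2] p :=
  H.back (i := 3) (by decide) (f5101 H)

theorem f5103 : g 6 • path g [4, 8, 6, 8] p = path g [4, 8, 6, 8, 6] p :=
  rfl

theorem f5104 : g 1 • path g [4, 8, 6, 8, 6] p = path g [4, 8, 6, 8] p :=
  H.back (i := 6) (by decide) (f5103 H)

theorem f5105 : g 9 • path g [4, 8, 6, 8, 6] p = path g [9, 2, 3, 2, 6] p :=
  scan (u := [6]) (w := [1, 4]) (i := 9) (r14_0_2 H) (step (f5103 H) rfl) (step (H.back (i := 6) (by decide) (f3482 H)) (step (H.back (i := 9) (by decide) (f3118 H)) rfl))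

theorem f5106 : g 4 • path g [9, 2, 3, 2, 6] p = path g [4, 8, 6, 8, 6] p :=
  H.back (i := 9) (by decide) (f5105 H)

theorem f5107 : g 1 • path g [4, 8, 6, 8] p = path g [4, 8, 6, 8, 1] p :=
  rfl

theorem f5109 : g 1 • path g [4, 8, 6, 8, 1] p = path g [4, 8, 6, 8, 6] p :=
  scan (u := [1]) (w := [1]) (i := 1) (r1_0_0 H) (step (f5107 H) rfl) (step (H.back (i := 6) (by decide) (f5103 H)) rfl)

theorem f5110 : g 6 • path g [4, 8, 6, 8, 6] p = path g [4, 8, 6, 8, 1] p :=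
  H.back (i := 1) (by decide) (f5109 H)

theorem f5111 : g 9 • path g [4, 8, 6, 8, 1] p = path g [9, 8, 2, 1, 5] p :=
  scan (u := [1]) (w := [6, 4]) (i := 9) (r14_1_1 H) (step (f5107 H) rfl) (step (H.back (i := 1) (by decide) (f3125 H)) (step (H.back (i := 9) (by decide) (f3118 H)) rfl))

theorem f5112 : g 4 • path g [9, 8, 2, 1, 5] p = path g [4, 8, 6, 8, 1] p :=
  H.back (i := 9) (by decide) (f5111 H)

theorem f5113 : g 0 • path g [4, 8, 6, 8, 1] p = path g [9, 8, 2, 1, 4] p :=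
  scan (u := [1]) (w := [1, 0, 6, 6, 0]) (i := 0) (r4_0_4 H) (step (f5107 H) rfl) (step (H.back (i := 6) (by decide) (f1701 H)) (step (H.back (i := 5) (by decide) (f5029 H)) (step (H.back (i := 1) (by decide) (f5051 H)) (step (H.back (i := 1) (by decide) (f5050 H)) (step (H.back (i := 5) (by decide) (f2850 H)) rfl)))))

theorem f5114 : g 5 • path g [9, 8, 2, 1, 4] p = path g [4, 8, 6, 8, 1] p :=
  H.back (i := 0) (by decide) (f5113 H)

theorem f5115 : g 0 • path g [9, 8, 2, 1, 4] p = path g [4, 8, 6, 8, 1] p :=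
  scan (u := [0]) (w := []) (i := 0) (r0_0_0 H) (step (f5113 H) rfl) rfl

theorem f5116 : g 5 • path g [4, 8, 6, 8, 1] p = path g [9, 8, 2, 1, 4] p :=
  H.back (i := 0) (by decide) (f5115 H)

theorem f5117 : g 2 • path g [4, 8, 6, 3] p = path g [4, 8, 6, 3, 2] p :=
  rfl

theorem f5118 : g 7 • path g [4, 8, 6, 3, 2] p = path g [4, 8, 6, 3] p :=
  H.back (i := 2) (by decide) (f5117 H)

theorem f5119 : g 2 • path g [4, 8, 6, 3, 2] p = path g [4, 8, 6, 3] p :=
  scan (u := [2]) (w := []) (i := 2) (r2_0_0 H) (step (f5117 H) rfl) rfl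

theorem f5120 : g 7 • path g [4, 8, 6, 3] p = path g [4, 8, 6, 3, 2] p :=
  H.back (i := 2) (by decide) (f5119 H)

theorem f5121 : g 5 • path g [4, 8, 6, 3] p = path g [4, 8, 6, 3, 5] p :=
  rfl

theorem f5122 : g 0 • path g [4, 8, 6, 3, 5] p = path g [4, 8, 6, 3] p :=
  H.back (i := 5) (by decide) (f5121 H)

theorem f5123 : g 5 • path g [4, 8, 6, 3, 5] p = path g [4, 8, 6, 3] p :=
  scan (u := [5]) (w := []) (i := 5) (r0_1_0 H) (step (f5121 H) rfl) rfl

theorem f5124 : g 0 • path g [4, 8, 6, 3] p = path g [4, 8, 6, 3, 5] p :=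
  H.back (i := 5) (by decide) (f5123 H)

theorem f5125 : g 4 • path g [4, 8, 6, 3, 5] p = path g [9, 3, 6, 8, 5] p :=
  scan (u := [5]) (w := [0, 9]) (i := 4) (r13_1_1 H) (step (f5121 H) rfl) (step (H.back (i := 5) (by decide) (f3735 H)) (step (H.back (i := 4) (by decide) (f1230 H)) rfl))

theorem f5126 : g 9 • path g [9, 3, 6, 8, 5] p = path g [4, 8, 6, 3, 5] p :=
  H.back (i := 4) (by decide) (f5125 H)

theorem f5127 : g 6 • path g [4, 8, 6, 3] p = path g [4, 8, 6, 3, 6] p :=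
  rfl

theorem f5128 : g 1 • path g [4, 8, 6, 3, 6] p = path g [4, 8, 6, 3] p :=
  H.back (i := 6) (by decide) (f5127 H)

theorem f5129 : g 4 • path g [4, 8, 6, 3, 6] p = path g [9, 3, 6, 8, 6] p :=
  scan (u := [6]) (w := [1, 9]) (i := 4) (r14_1_3 H) (step (f5127 H) rfl) (step (H.back (i := 6) (by decide) (f3739 H)) (step (H.back (i := 4) (by decide) (f1230 H)) rfl))

theorem f5130 : g 9 • path g [9, 3, 6, 8, 6] p = path g [4, 8, 6, 3, 6] p :=
  H.back (i := 4) (by decide) (f5129 H)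

theorem f5131 : g 1 • path g [4, 8, 6, 3] p = path g [4, 8, 6, 3, 1] p :=
  rfl

theorem f5132 : g 6 • path g [4, 8, 6, 3, 1] p = path g [4, 8, 6, 3] p :=
  H.back (i := 1) (by decide) (f5131 H)

theorem f5133 : g 1 • path g [4, 8, 6, 3, 1] p = path g [4, 8, 6, 3, 6] p :=
  scan (u := [1]) (w := [1]) (i := 1) (r1_0_0 H) (step (f5131 H) rfl) (step (H.back (i := 6) (by decide) (f5127 H)) rfl)

theorem f5134 : g 6 • path g [4, 8, 6, 3, 6] p = path g [4, 8, 6, 3, 1] p :=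
  H.back (i := 1) (by decide) (f5133 H)

theorem f5135 : g 4 • path g [4, 8, 6, 3, 1] p = path g [9, 3, 6, 8, 1] p :=
  scan (u := [1]) (w := [6, 9]) (i := 4) (r14_0_0 H) (step (f5131 H) rfl) (step (H.back (i := 1) (by decide) (f3741 H)) (step (H.back (i := 4) (by decide) (f1230 H)) rfl))

theorem f5136 : g 9 • path g [9, 3, 6, 8, 1] p = path g [4, 8, 6, 3, 1] p :=
  H.back (i := 4) (by decide) (f5135 H)

theorem f5137 : g 6 • path g [4, 8, 1, 8] p = path g [4, 8, 1, 8, 6] p :=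
  rfl

theorem f5138 : g 1 • path g [4, 8, 1, 8, 6] p = path g [4, 8, 1, 8] p :=
  H.back (i := 6) (by decide) (f5137 H)

theorem f5139 : g 7 • path g [4, 8, 1, 8, 6] p = path g [3, 9, 1, 8, 1] p :=
  scan (u := [6]) (w := [6, 7]) (i := 7) (r3_1_1 H) (step (f5137 H) rfl) (step (H.back (i := 1) (by decide) (f4663 H)) (step (H.back (i := 2) (by decide) (f3865 H)) rfl))

theorem f5140 : g 2 • path g [3, 9, 1, 8, 1] p = path g [4, 8, 1, 8, 6] p :=
  H.back (i := 7) (by decide) (f5139 H)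

theorem f5141 : g 9 • path g [4, 8, 1, 8, 6] p = path g [9, 8, 2, 8, 6] p :=
  scan (u := [6]) (w := [1, 4]) (i := 9) (r14_0_2 H) (step (f5137 H) rfl) (step (H.back (i := 6) (by decide) (f1392 H)) (step (H.back (i := 9) (by decide) (f1567 H)) rfl))

theorem f5142 : g 4 • path g [9, 8, 2, 8, 6] p = path g [4, 8, 1, 8, 6] p :=
  H.back (i := 9) (by decide) (f5141 H)

theorem f5143 : g 7 • path g [3, 9, 1, 8, 1] p = path g [4, 8, 1, 8, 6] p :=
  scan (u := [7]) (w := []) (i := 7) (r2_1_0 H) (step (f5139 H) rfl) rfl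

theorem f5144 : g 2 • path g [4, 8, 1, 8, 6] p = path g [3, 9, 1, 8, 1] p :=
  H.back (i := 7) (by decide) (f5143 H)

theorem f5145 : g 1 • path g [4, 8, 1, 8] p = path g [4, 8, 1, 8, 1] p :=
  rfl

theorem f5146 : g 6 • path g [4, 8, 1, 8, 1] p = path g [4, 8, 1, 8] p :=
  H.back (i := 1) (by decide) (f5145 H)

theorem f5147 : g 1 • path g [4, 8, 1, 8, 1] p = path g [4, 8, 1, 8, 6] p :=
  scan (u := [1]) (w := [1]) (i := 1) (r1_0_0 H) (step (f5145 H) rfl) (step (H.back (i := 6) (by decide) (f5137 H)) rfl)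

theorem f5148 : g 6 • path g [4, 8, 1, 8, 6] p = path g [4, 8, 1, 8, 1] p :=
  H.back (i := 1) (by decide) (f5147 H)

theorem f5149 : g 2 • path g [4, 8, 1, 8, 1] p = path g [3, 9, 1, 8, 6] p :=
  scan (u := [1]) (w := [1, 2]) (i := 2) (r3_0_0 H) (step (f5145 H) rfl) (step (H.back (i := 6) (by decide) (f4655 H)) (step (H.back (i := 7) (by decide) (f3871 H)) rfl))

theorem f5151 : g 9 • path g [4, 8, 1, 8, 1] p = path g [9, 8, 2, 8, 1] p :=
  scan (u := [1]) (w := [6, 4]) (i := 9) (r14_1_1 H) (step (f5145 H) rfl) (step (H.back (i := 1) (by decide) (f1394 H)) (step (H.back (i := 9) (by decide) (f1567 H)) rfl))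

theorem f5152 : g 4 • path g [9, 8, 2, 8, 1] p = path g [4, 8, 1, 8, 1] p :=
  H.back (i := 9) (by decide) (f5151 H)

theorem f5153 : g 2 • path g [3, 9, 1, 8, 6] p = path g [4, 8, 1, 8, 1] p :=
  scan (u := [2]) (w := []) (i := 2) (r2_0_0 H) (step (f5149 H) rfl) rfl

theorem f5154 : g 7 • path g [4, 8, 1, 8, 1] p = path g [3, 9, 1, 8, 6] p :=
  H.back (i := 2) (by decide) (f5153 H)

theorem f5155 : g 2 • path g [4, 8, 1, 3] p = path g [4, 8, 1, 3, 2] p :=
  rfl

theorem f5157 : g 2 • path g [4, 8, 1, 3, 2] p = path g [4, 8, 1, 3] p :=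
  scan (u := [2]) (w := []) (i := 2) (r2_0_0 H) (step (f5155 H) rfl) rfl

theorem f5158 : g 7 • path g [4, 8, 1, 3] p = path g [4, 8, 1, 3, 2] p :=
  H.back (i := 2) (by decide) (f5157 H)

theorem f5159 : g 5 • path g [4, 8, 1, 3] p = path g [4, 8, 1, 3, 5] p :=
  rfl

theorem f5161 : g 5 • path g [4, 8, 1, 3, 5] p = path g [4, 8, 1, 3] p :=
  scan (u := [5]) (w := []) (i := 5) (r0_1_0 H) (step (f5159 H) rfl) rfl

theorem f5162 : g 0 • path g [4, 8, 1, 3] p = path g [4, 8, 1, 3, 5] p :=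
  H.back (i := 5) (by decide) (f5161 H)

theorem f5165 : g 6 • path g [4, 8, 1, 3] p = path g [4, 8, 1, 3, 6] p :=
  rfl

theorem f5169 : g 1 • path g [4, 8, 1, 3] p = path g [4, 8, 1, 3, 1] p :=
  rfl

theorem f5170 : g 6 • path g [4, 8, 1, 3, 1] p = path g [4, 8, 1, 3] p :=
  H.back (i := 1) (by decide) (f5169 H)

theorem f5171 : g 1 • path g [4, 8, 1, 3, 1] p = path g [4, 8, 1, 3, 6] p :=
  scan (u := [1]) (w := [1]) (i := 1) (r1_0_0 H) (step (f5169 H) rfl) (step (H.back (i := 6) (by decide) (f5165 H)) rfl)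

theorem f5173 : g 4 • path g [4, 8, 1, 3, 1] p = path g [9, 3, 1, 8, 1] p :=
  scan (u := [1]) (w := [6, 9]) (i := 4) (r14_0_0 H) (step (f5169 H) rfl) (step (H.back (i := 1) (by decide) (f3788 H)) (step (H.back (i := 4) (by decide) (f1244 H)) rfl))

theorem f5174 : g 9 • path g [9, 3, 1, 8, 1] p = path g [4, 8, 1, 3, 1] p :=
  H.back (i := 4) (by decide) (f5173 H)

theorem f5175 : g 2 • path g [4, 2, 9, 8] p = path g [4, 2, 9, 8, 2] p :=
  rfl

theorem f5176 : g 7 • path g [4, 2, 9, 8, 2] p = path g [4, 2, 9, 8] p :=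
  H.back (i := 2) (by decide) (f5175 H)

theorem f5177 : g 2 • path g [4, 2, 9, 8, 2] p = path g [4, 2, 9, 8] p :=
  scan (u := [2]) (w := []) (i := 2) (r2_0_0 H) (step (f5175 H) rfl) rfl

theorem f5178 : g 7 • path g [4, 2, 9, 8] p = path g [4, 2, 9, 8, 2] p :=
  H.back (i := 2) (by decide) (f5177 H)

theorem f5179 : g 6 • path g [4, 2, 9, 8] p = path g [4, 2, 9, 8, 6] p :=
  rfl

theorem f5180 : g 1 • path g [4, 2, 9, 8, 6] p = path g [4, 2, 9, 8] p :=
  H.back (i := 6) (by decide) (f5179 H)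

theorem f5181 : g 9 • path g [4, 2, 9, 8, 6] p = path g [4, 2, 3, 6] p :=
  scan (u := [6]) (w := [1, 4]) (i := 9) (r14_0_2 H) (step (f5179 H) rfl) (step (H.back (i := 6) (by decide) (f1334 H)) (step (H.back (i := 9) (by decide) (f1248 H)) rfl))

theorem f5182 : g 4 • path g [4, 2, 3, 6] p = path g [4, 2, 9, 8, 6] p :=
  H.back (i := 9) (by decide) (f5181 H)

theorem f5183 : g 1 • path g [4, 2, 9, 8] p = path g [4, 2, 9, 8, 1] p :=
  rfl

theorem f5184 : g 6 • path g [4, 2, 9, 8, 1] p = path g [4, 2, 9, 8] p :=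
  H.back (i := 1) (by decide) (f5183 H)

theorem f5185 : g 1 • path g [4, 2, 9, 8, 1] p = path g [4, 2, 9, 8, 6] p :=
  scan (u := [1]) (w := [1]) (i := 1) (r1_0_0 H) (step (f5183 H) rfl) (step (H.back (i := 6) (by decide) (f5179 H)) rfl)

theorem f5187 : g 9 • path g [4, 2, 9, 8, 1] p = path g [4, 2, 3, 1] p :=
  scan (u := [1]) (w := [6, 4]) (i := 9) (r14_1_1 H) (step (f5183 H) rfl) (step (H.back (i := 1) (by decide) (f1336 H)) (step (H.back (i := 9) (by decide) (f1248 H)) rfl))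

theorem f5188 : g 4 • path g [4, 2, 3, 1] p = path g [4, 2, 9, 8, 1] p :=
  H.back (i := 9) (by decide) (f5187 H)

theorem f5195 : g 5 • path g [4, 2, 9, 2] p = path g [4, 2, 9, 2, 5] p :=
  rfl

theorem f5197 : g 5 • path g [4, 2, 9, 2, 5] p = path g [4, 2, 9, 2] p :=
  scan (u := [5]) (w := []) (i := 5) (r0_1_0 H) (step (f5195 H) rfl) rfl

theorem f5198 : g 0 • path g [4, 2, 9, 2] p = path g [4, 2, 9, 2, 5] p :=
  H.back (i := 5) (by decide) (f5197 H)

theorem f5209 : g 2 • path g [4, 2, 9, 5] p = path g [4, 2, 9, 5, 2] p :=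
  rfl

theorem f5211 : g 2 • path g [4, 2, 9, 5, 2] p = path g [4, 2, 9, 5] p :=
  scan (u := [2]) (w := []) (i := 2) (r2_0_0 H) (step (f5209 H) rfl) rfl

theorem f5212 : g 7 • path g [4, 2, 9, 5] p = path g [4, 2, 9, 5, 2] p :=
  H.back (i := 2) (by decide) (f5211 H)

theorem f5213 : g 3 • path g [4, 2, 9, 5] p = path g [4, 2, 9, 5, 3] p :=
  rfl

theorem f5215 : g 3 • path g [4, 2, 9, 5, 3] p = path g [4, 8, 5, 2, 4] p :=
  scan (u := [3]) (w := [3]) (i := 3) (r6_0_0 H) (step (f5213 H) rfl) (step (H.back (i := 8) (by decide) (f5082 H)) rfl)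

theorem f5216 : g 8 • path g [4, 8, 5, 2, 4] p = path g [4, 2, 9, 5, 3] p :=
  H.back (i := 3) (by decide) (f5215 H)

theorem f5217 : g 9 • path g [4, 2, 9, 3] p = path g [4, 2, 9, 3, 9] p :=
  rfl

theorem f5218 : g 4 • path g [4, 2, 9, 3, 9] p = path g [4, 2, 9, 3] p :=
  H.back (i := 9) (by decide) (f5217 H)

theorem f5219 : g 9 • path g [4, 2, 9, 3, 9] p = path g [4, 2, 4, 8] p :=
  scan (u := [9]) (w := [9]) (i := 9) (r10_1_0 H) (step (f5217 H) rfl) (step (H.back (i := 4) (by decide) (f1345 H)) rfl)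

theorem f5220 : g 4 • path g [4, 2, 4, 8] p = path g [4, 2, 9, 3, 9] p :=
  H.back (i := 9) (by decide) (f5219 H)

theorem f5221 : g 8 • path g [4, 2, 9, 3, 9] p = path g [4, 2, 3, 9] p :=
  scan (u := [9]) (w := [9, 8]) (i := 8) (r15_1_1 H) (step (f5217 H) rfl) (step (H.back (i := 4) (by decide) (f1315 H)) (step (H.back (i := 3) (by decide) (f1264 H)) rfl))

theorem f5222 : g 3 • path g [4, 2, 3, 9] p = path g [4, 2, 9, 3, 9] p :=
  H.back (i := 8) (by decide) (f5221 H)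

theorem f5223 : g 8 • path g [4, 2, 8, 4] p = path g [4, 2, 9, 3, 9] p :=
  scan (u := [8, 8]) (w := []) (i := 8) (r6_1_0 H) (step (f5221 H) (step (f1316 H) rfl)) rfl

theorem f5224 : g 3 • path g [4, 2, 9, 3, 9] p = path g [4, 2, 8, 4] p :=
  H.back (i := 8) (by decide) (f5223 H)

theorem f5225 : g 2 • path g [4, 2, 9, 3] p = path g [4, 2, 9, 3, 2] p :=
  rfl

theorem f5226 : g 7 • path g [4, 2, 9, 3, 2] p = path g [4, 2, 9, 3] p :=
  H.back (i := 2) (by decide) (f5225 H)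

theorem f5227 : g 2 • path g [4, 2, 9, 3, 2] p = path g [4, 2, 9, 3] p :=
  scan (u := [2]) (w := []) (i := 2) (r2_0_0 H) (step (f5225 H) rfl) rfl

theorem f5228 : g 7 • path g [4, 2, 9, 3] p = path g [4, 2, 9, 3, 2] p :=
  H.back (i := 2) (by decide) (f5227 H)

theorem f5229 : g 5 • path g [4, 2, 9, 3] p = path g [4, 2, 9, 3, 5] p :=
  rfl

theorem f5230 : g 0 • path g [4, 2, 9, 3, 5] p = path g [4, 2, 9, 3] p :=
  H.back (i := 5) (by decide) (f5229 H)

theorem f5231 : g 5 • path g [4, 2, 9, 3, 5] p = path g [4, 2, 9, 3] p :=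
  scan (u := [5]) (w := []) (i := 5) (r0_1_0 H) (step (f5229 H) rfl) rfl

theorem f5232 : g 0 • path g [4, 2, 9, 3] p = path g [4, 2, 9, 3, 5] p :=
  H.back (i := 5) (by decide) (f5231 H)

theorem f5233 : g 6 • path g [4, 2, 9, 3] p = path g [4, 2, 9, 3, 6] p :=
  rfl

theorem f5234 : g 1 • path g [4, 2, 9, 3, 6] p = path g [4, 2, 9, 3] p :=
  H.back (i := 6) (by decide) (f5233 H)

theorem f5235 : g 1 • path g [4, 2, 9, 3] p = path g [4, 2, 9, 3, 1] p :=
  rfl

theorem f5236 : g 6 • path g [4, 2, 9, 3, 1] p = path g [4, 2, 9, 3] p :=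
  H.back (i := 1) (by decide) (f5235 H)

theorem f5237 : g 1 • path g [4, 2, 9, 3, 1] p = path g [4, 2, 9, 3, 6] p :=
  scan (u := [1]) (w := [1]) (i := 1) (r1_0_0 H) (step (f5235 H) rfl) (step (H.back (i := 6) (by decide) (f5233 H)) rfl)

theorem f5238 : g 6 • path g [4, 2, 9, 3, 6] p = path g [4, 2, 9, 3, 1] p :=
  H.back (i := 1) (by decide) (f5237 H)

theorem f5239 : g 2 • path g [4, 2, 8, 9] p = path g [4, 2, 8, 9, 2] p :=
  rfl

theorem f5240 : g 7 • path g [4, 2, 8, 9, 2] p = path g [4, 2, 8, 9] p :=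
  H.back (i := 2) (by decide) (f5239 H)

theorem f5241 : g 2 • path g [4, 2, 8, 9, 2] p = path g [4, 2, 8, 9] p :=
  scan (u := [2]) (w := []) (i := 2) (r2_0_0 H) (step (f5239 H) rfl) rfl

theorem f5242 : g 7 • path g [4, 2, 8, 9] p = path g [4, 2, 8, 9, 2] p :=
  H.back (i := 2) (by decide) (f5241 H)

theorem f5243 : g 6 • path g [4, 2, 8, 9] p = path g [4, 2, 8, 9, 6] p :=
  rfl

theorem f5244 : g 1 • path g [4, 2, 8, 9, 6] p = path g [4, 2, 8, 9] p :=
  H.back (i := 6) (by decide) (f5243 H)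

theorem f5245 : g 4 • path g [4, 2, 8, 9, 6] p = path g [4, 2, 8, 6] p :=
  scan (u := [6]) (w := [1, 9]) (i := 4) (r14_1_3 H) (step (f5243 H) rfl) (step (H.back (i := 6) (by decide) (f1278 H)) (step (H.back (i := 4) (by decide) (f1267 H)) rfl))

theorem f5246 : g 9 • path g [4, 2, 8, 6] p = path g [4, 2, 8, 9, 6] p :=
  H.back (i := 4) (by decide) (f5245 H)

theorem f5247 : g 1 • path g [4, 2, 8, 9] p = path g [4, 2, 8, 9, 1] p :=
  rfl

theorem f5248 : g 6 • path g [4, 2, 8, 9, 1] p = path g [4, 2, 8, 9] p :=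
  H.back (i := 1) (by decide) (f5247 H)

theorem f5249 : g 1 • path g [4, 2, 8, 9, 1] p = path g [4, 2, 8, 9, 6] p :=
  scan (u := [1]) (w := [1]) (i := 1) (r1_0_0 H) (step (f5247 H) rfl) (step (H.back (i := 6) (by decide) (f5243 H)) rfl)

theorem f5250 : g 6 • path g [4, 2, 8, 9, 6] p = path g [4, 2, 8, 9, 1] p :=
  H.back (i := 1) (by decide) (f5249 H)

theorem f5251 : g 4 • path g [4, 2, 8, 9, 1] p = path g [4, 2, 8, 1] p :=
  scan (u := [1]) (w := [6, 9]) (i := 4) (r14_0_0 H) (step (f5247 H) rfl) (step (H.back (i := 1) (by decide) (f1280 H)) (step (H.back (i := 4) (by decide) (f1267 H)) rfl))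

theorem f5252 : g 9 • path g [4, 2, 8, 1] p = path g [4, 2, 8, 9, 1] p :=
  H.back (i := 4) (by decide) (f5251 H)

theorem f5254 : g 8 • path g [4, 2, 8, 6] p = path g [4, 2, 8, 6, 8] p :=
  rfl

theorem f5255 : g 3 • path g [4, 2, 8, 6, 8] p = path g [4, 2, 8, 6] p :=
  H.back (i := 8) (by decide) (f5254 H)

theorem f5256 : g 7 • path g [4, 2, 8, 6, 8] p = path g [9, 8, 2, 6, 8] p :=
  scan (u := [8]) (w := [3, 0, 2, 0, 1, 2, 0, 1]) (i := 7) (r7_1_8 H) (step (f5254 H) rfl) (step (H.back (i := 8) (by decide) (f1668 H)) (step (H.back (i := 5) (by decide) (f1752 H)) (step (H.back (i := 7) (by decide) (f1182 H)) (step (H.back (i := 5) (by decide) (f1626 H)) (step (H.back (i := 6) (by decide) (f1215 H)) (step (H.back (i := 7) (by decide) (f5076 H)) (step (H.back (i := 5) (by decide) (f5074 H)) (step (H.back (i := 6) (by decide) (f1283 H)) rfl))))))))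

theorem f5257 : g 2 • path g [9, 8, 2, 6, 8] p = path g [4, 2, 8, 6, 8] p :=
  H.back (i := 7) (by decide) (f5256 H)

theorem f5258 : g 0 • path g [4, 2, 8, 6, 8] p = path g [3, 9, 2, 4, 2] p :=
  scan (u := [8]) (w := [2, 0, 2, 3, 5, 6, 7, 5, 6]) (i := 0) (r8_0_9 H) (step (f5254 H) rfl) (step (H.back (i := 7) (by decide) (f4604 H)) (step (H.back (i := 5) (by decide) (f3770 H)) (step (H.back (i := 7) (by decide) (f3866 H)) (step (H.back (i := 8) (by decide) (f1018 H)) (step (H.back (i := 0) (by decide) (f3407 H)) (step (H.back (i := 1) (by decide) (f180 H)) (step (H.back (i := 2) (by decide) (f166 H)) (step (H.back (i := 0) (by decide) (f2853 H)) (step (H.back (i := 1) (by decide) (f1279 H)) rfl)))))))))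

theorem f5260 : g 0 • path g [3, 9, 2, 4, 2] p = path g [4, 2, 8, 6, 8] p :=
  scan (u := [0]) (w := []) (i := 0) (r0_0_0 H) (step (f5258 H) rfl) rfl

theorem f5261 : g 5 • path g [4, 2, 8, 6, 8] p = path g [3, 9, 2, 4, 2] p :=
  H.back (i := 0) (by decide) (f5260 H)

theorem f5262 : g 3 • path g [8, 9, 1, 3, 2] p = path g [4, 2, 8, 6, 8] p :=
  scan (u := [0, 2, 0, 1, 2, 0, 1, 8, 7]) (w := []) (i := 3) (r7_1_1 H) (step (f5258 H) (step (f4603 H) (step (f3771 H) (step (f5145 H) (step (f5149 H) (step (f4662 H) (step (f3966 H) (step (f719 H) (step (f3994 H) rfl))))))))) rfl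

theorem f5263 : g 8 • path g [4, 2, 8, 6, 8] p = path g [8, 9, 1, 3, 2] p :=
  H.back (i := 3) (by decide) (f5262 H)

theorem f5264 : g 3 • path g [4, 2, 8, 6] p = path g [8, 9, 1, 3, 2] p :=
  scan (u := [3, 3]) (w := []) (i := 3) (r6_0_0 H) (step (f5262 H) (step (f5255 H) rfl)) rfl

theorem f5265 : g 8 • path g [8, 9, 1, 3, 2] p = path g [4, 2, 8, 6] p :=
  H.back (i := 3) (by decide) (f5264 H)

theorem f5266 : g 2 • path g [4, 2, 8, 6, 8] p = path g [9, 8, 2, 6, 8] p :=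
  scan (u := [0]) (w := [3, 5, 6, 7, 5, 6, 8, 0, 2]) (i := 2) (r8_0_1 H) (step (f5260 H) rfl) (step (H.back (i := 8) (by decide) (f1668 H)) (step (H.back (i := 0) (by decide) (f1749 H)) (step (H.back (i := 1) (by decide) (f1186 H)) (step (H.back (i := 2) (by decide) (f1190 H)) (step (H.back (i := 0) (by decide) (f1640 H)) (step (H.back (i := 1) (by decide) (f344 H)) (step (H.back (i := 3) (by decide) (f1233 H)) (step (H.back (i := 5) (by decide) (f3768 H)) (step (H.back (i := 7) (by decide) (f4602 H)) rfl)))))))))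

theorem f5268 : g 5 • path g [4, 2, 8, 6] p = path g [4, 2, 8, 6, 5] p :=
  rfl

theorem f5269 : g 0 • path g [4, 2, 8, 6, 5] p = path g [4, 2, 8, 6] p :=
  H.back (i := 5) (by decide) (f5268 H)

theorem f5270 : g 5 • path g [4, 2, 8, 6, 5] p = path g [4, 2, 8, 6] p :=
  scan (u := [5]) (w := []) (i := 5) (r0_1_0 H) (step (f5268 H) rfl) rfl

theorem f5271 : g 0 • path g [4, 2, 8, 6] p = path g [4, 2, 8, 6, 5] p :=
  H.back (i := 5) (by decide) (f5270 H)

theorem f5272 : g 6 • path g [4, 2, 8, 6, 5] p = path g [8, 9, 2, 1, 5] p :=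
  scan (u := [5]) (w := [5, 1, 1, 5, 6]) (i := 6) (r4_1_1 H) (step (f5268 H) rfl) (step (H.back (i := 0) (by decide) (f3892 H)) (step (H.back (i := 6) (by decide) (f667 H)) (step (H.back (i := 6) (by decide) (f658 H)) (step (H.back (i := 0) (by decide) (f2853 H)) (step (H.back (i := 1) (by decide) (f1279 H)) rfl)))))

theorem f5273 : g 1 • path g [8, 9, 2, 1, 5] p = path g [4, 2, 8, 6, 5] p :=
  H.back (i := 6) (by decide) (f5272 H)

theorem f5274 : g 1 • path g [4, 2, 8, 6, 5] p = path g [9, 3, 9, 2, 8] p :=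
  scan (u := [5]) (w := [1, 5, 6, 5, 6]) (i := 1) (r4_1_3 H) (step (f5268 H) rfl) (step (H.back (i := 6) (by decide) (f3893 H)) (step (H.back (i := 0) (by decide) (f3892 H)) (step (H.back (i := 1) (by decide) (f664 H)) (step (H.back (i := 0) (by decide) (f2853 H)) (step (H.back (i := 1) (by decide) (f1279 H)) rfl)))))

theorem f5275 : g 6 • path g [9, 3, 9, 2, 8] p = path g [4, 2, 8, 6, 5] p :=
  H.back (i := 1) (by decide) (f5274 H)

theorem f5276 : g 7 • path g [4, 2, 8, 6, 5] p = path g [9, 2, 3, 1, 5] p :=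
  scan (u := [5]) (w := [6, 5, 7, 5, 8, 2, 3, 6]) (i := 7) (r7_0_3 H) (step (f5268 H) rfl) (step (H.back (i := 1) (by decide) (f3513 H)) (step (H.back (i := 0) (by decide) (f3431 H)) (step (H.back (i := 2) (by decide) (f3424 H)) (step (H.back (i := 0) (by decide) (f3405 H)) (step (H.back (i := 3) (by decide) (f3198 H)) (step (H.back (i := 7) (by decide) (f2156 H)) (step (H.back (i := 8) (by decide) (f361 H)) (step (H.back (i := 1) (by decide) (f1279 H)) rfl))))))))

theorem f5277 : g 2 • path g [9, 2, 3, 1, 5] p = path g [4, 2, 8, 6, 5] p :=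
  H.back (i := 7) (by decide) (f5276 H)

theorem f5278 : g 7 • path g [9, 2, 3, 1, 5] p = path g [4, 2, 8, 6, 5] p :=
  scan (u := [7]) (w := []) (i := 7) (r2_1_0 H) (step (f5276 H) rfl) rfl

theorem f5279 : g 2 • path g [4, 2, 8, 6, 5] p = path g [9, 2, 3, 1, 5] p :=
  H.back (i := 7) (by decide) (f5278 H)

theorem f5280 : g 4 • path g [4, 2, 8, 6] p = path g [4, 2, 8, 6, 4] p :=
  rfl

theorem f5282 : g 4 • path g [4, 2, 8, 6, 4] p = path g [4, 2, 8, 9, 6] p :=
  scan (u := [4]) (w := [4]) (i := 4) (r10_0_0 H) (step (f5280 H) rfl) (step (H.back (i := 9) (by decide) (f5246 H)) rfl)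

theorem f5283 : g 9 • path g [4, 2, 8, 9, 6] p = path g [4, 2, 8, 6, 4] p :=
  H.back (i := 4) (by decide) (f5282 H)

theorem f5284 : g 1 • path g [4, 2, 8, 6, 4] p = path g [4, 2, 8, 4] p :=
  scan (u := [4]) (w := [9, 6]) (i := 1) (r14_1_0 H) (step (f5280 H) rfl) (step (H.back (i := 4) (by decide) (f1284 H)) (step (H.back (i := 1) (by decide) (f1279 H)) rfl))

theorem f5285 : g 6 • path g [4, 2, 8, 4] p = path g [4, 2, 8, 6, 4] p :=
  H.back (i := 1) (by decide) (f5284 H)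

theorem f5286 : g 8 • path g [4, 2, 8, 1] p = path g [4, 2, 8, 1, 8] p :=
  rfl

theorem f5287 : g 3 • path g [4, 2, 8, 1, 8] p = path g [4, 2, 8, 1] p :=
  H.back (i := 8) (by decide) (f5286 H)

theorem f5288 : g 3 • path g [4, 2, 8, 1] p = path g [4, 2, 8, 1, 3] p :=
  rfl

theorem f5290 : g 3 • path g [4, 2, 8, 1, 3] p = path g [4, 2, 8, 1, 8] p :=
  scan (u := [3]) (w := [3]) (i := 3) (r6_0_0 H) (step (f5288 H) rfl) (step (H.back (i := 8) (by decide) (f5286 H)) rfl)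

theorem f5291 : g 8 • path g [4, 2, 8, 1, 8] p = path g [4, 2, 8, 1, 3] p :=
  H.back (i := 3) (by decide) (f5290 H)

theorem f5292 : g 4 • path g [4, 2, 8, 1] p = path g [4, 2, 8, 1, 4] p :=
  rfl

theorem f5293 : g 9 • path g [4, 2, 8, 1, 4] p = path g [4, 2, 8, 1] p :=
  H.back (i := 4) (by decide) (f5292 H)

theorem f5294 : g 4 • path g [4, 2, 8, 1, 4] p = path g [4, 2, 8, 9, 1] p :=
  scan (u := [4]) (w := [4]) (i := 4) (r10_0_0 H) (step (f5292 H) rfl) (step (H.back (i := 9) (by decide) (f5252 H)) rfl)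

theorem f5296 : g 6 • path g [4, 2, 8, 1, 4] p = path g [4, 2, 8, 4] p :=
  scan (u := [4]) (w := [9, 1]) (i := 6) (r14_0_1 H) (step (f5292 H) rfl) (step (H.back (i := 4) (by decide) (f1284 H)) (step (H.back (i := 6) (by decide) (f1281 H)) rfl))

theorem f5298 : g 1 • path g [4, 2, 8, 1, 4] p = path g [4, 2, 8, 6, 4] p :=
  scan (u := [4]) (w := [9, 6]) (i := 1) (r14_1_0 H) (step (f5292 H) rfl) (step (H.back (i := 4) (by decide) (f5280 H)) (step (H.back (i := 1) (by decide) (f1282 H)) rfl))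

theorem f5300 : g 2 • path g [4, 2, 8, 4] p = path g [4, 2, 8, 4, 2] p :=
  rfl

theorem f5301 : g 7 • path g [4, 2, 8, 4, 2] p = path g [4, 2, 8, 4] p :=
  H.back (i := 2) (by decide) (f5300 H)

theorem f5302 : g 2 • path g [4, 2, 8, 4, 2] p = path g [4, 2, 8, 4] p :=
  scan (u := [2]) (w := []) (i := 2) (r2_0_0 H) (step (f5300 H) rfl) rfl

theorem f5303 : g 7 • path g [4, 2, 8, 4] p = path g [4, 2, 8, 4, 2] p :=
  H.back (i := 2) (by decide) (f5302 H)

theorem f5304 : g 9 • path g [4, 2, 5, 8] p = path g [4, 2, 5, 8, 9] p :=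
  rfl

theorem f5305 : g 4 • path g [4, 2, 5, 8, 9] p = path g [4, 2, 5, 8] p :=
  H.back (i := 9) (by decide) (f5304 H)

theorem f5306 : g 8 • path g [4, 2, 5, 8, 9] p = path g [4, 2, 5, 4] p :=
  scan (u := [9]) (w := [9, 8]) (i := 8) (r15_1_1 H) (step (f5304 H) rfl) (step (H.back (i := 4) (by decide) (f1304 H)) (step (H.back (i := 3) (by decide) (f1289 H)) rfl))

theorem f5307 : g 3 • path g [4, 2, 5, 4] p = path g [4, 2, 5, 8, 9] p :=
  H.back (i := 8) (by decide) (f5306 H)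

theorem f5308 : g 6 • path g [4, 2, 5, 8] p = path g [4, 2, 5, 8, 6] p :=
  rfl

theorem f5309 : g 1 • path g [4, 2, 5, 8, 6] p = path g [4, 2, 5, 8] p :=
  H.back (i := 6) (by decide) (f5308 H)

theorem f5310 : g 6 • path g [4, 2, 5, 8, 6] p = path g [9, 2, 3, 1, 5] p :=
  scan (u := [6]) (w := [6]) (i := 6) (r1_1_0 H) (step (f5308 H) rfl) (step (H.back (i := 1) (by decide) (f3513 H)) rfl)

theorem f5311 : g 1 • path g [9, 2, 3, 1, 5] p = path g [4, 2, 5, 8, 6] p :=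
  H.back (i := 6) (by decide) (f5310 H)

theorem f5312 : g 7 • path g [4, 2, 5, 8, 6] p = path g [8, 9, 2, 1, 5] p :=
  scan (u := [6]) (w := [6, 7]) (i := 7) (r3_1_1 H) (step (f5308 H) rfl) (step (H.back (i := 1) (by decide) (f3894 H)) (step (H.back (i := 2) (by decide) (f3569 H)) rfl))

theorem f5313 : g 2 • path g [8, 9, 2, 1, 5] p = path g [4, 2, 5, 8, 6] p :=
  H.back (i := 7) (by decide) (f5312 H)

theorem f5314 : g 0 • path g [4, 2, 5, 8, 6] p = path g [9, 2, 8, 2, 6] p :=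
  scan (u := [6]) (w := [1, 0, 1, 0, 6]) (i := 0) (r4_0_2 H) (step (f5308 H) rfl) (step (H.back (i := 6) (by decide) (f3253 H)) (step (H.back (i := 5) (by decide) (f3146 H)) (step (H.back (i := 6) (by decide) (f539 H)) (step (H.back (i := 5) (by decide) (f3510 H)) (step (H.back (i := 1) (by decide) (f3513 H)) rfl)))))

theorem f5315 : g 5 • path g [9, 2, 8, 2, 6] p = path g [4, 2, 5, 8, 6] p :=
  H.back (i := 0) (by decide) (f5314 H)

theorem f5316 : g 5 • path g [4, 2, 5, 8, 6] p = path g [9, 2, 8, 2, 6] p :=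
  scan (u := [6]) (w := [7, 6, 5, 7, 5, 8, 2, 3]) (i := 5) (r7_0_2 H) (step (f5308 H) rfl) (step (H.back (i := 2) (by decide) (f3256 H)) (step (H.back (i := 1) (by decide) (f476 H)) (step (H.back (i := 0) (by decide) (f3079 H)) (step (H.back (i := 2) (by decide) (f150 H)) (step (H.back (i := 0) (by decide) (f155 H)) (step (H.back (i := 3) (by decide) (f3184 H)) (step (H.back (i := 7) (by decide) (f1199 H)) (step (H.back (i := 8) (by decide) (f3580 H)) rfl))))))))

theorem f5317 : g 0 • path g [9, 2, 8, 2, 6] p = path g [4, 2, 5, 8, 6] p :=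
  H.back (i := 5) (by decide) (f5316 H)

theorem f5318 : g 2 • path g [4, 2, 5, 8, 6] p = path g [8, 9, 2, 1, 5] p :=
  scan (u := [6]) (w := [0, 2, 1, 0, 2, 1, 0, 6, 2, 0]) (i := 2) (r5_0_1 H) (step (f5308 H) rfl) (step (H.back (i := 5) (by decide) (f3889 H)) (step (H.back (i := 7) (by decide) (f669 H)) (step (H.back (i := 6) (by decide) (f174 H)) (step (H.back (i := 5) (by decide) (f2785 H)) (step (H.back (i := 7) (by decide) (f261 H)) (step (H.back (i := 6) (by decide) (f963 H)) (step (H.back (i := 5) (by decide) (f4574 H)) (step (H.back (i := 1) (by decide) (f4577 H)) (step (H.back (i := 7) (by decide) (f3425 H)) (step (H.back (i := 5) (by decide) (f3430 H)) rfl))))))))))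

theorem f5319 : g 7 • path g [8, 9, 2, 1, 5] p = path g [4, 2, 5, 8, 6] p :=
  H.back (i := 2) (by decide) (f5318 H)

theorem f5320 : g 3 • path g [3, 9, 6, 8, 2] p = path g [9, 2, 8, 2, 6] p :=
  scan (u := [2, 0, 1, 2, 0, 1, 8, 7]) (w := [0]) (i := 3) (r7_1_2 H) (step (f5318 H) (step (f3890 H) (step (f666 H) (step (f663 H) (step (f3407 H) (step (f282 H) (step (f1008 H) (step (f4608 H) rfl)))))))) (step (H.back (i := 5) (by decide) (f5316 H)) rfl)

theorem f5321 : g 8 • path g [9, 2, 8, 2, 6] p = path g [3, 9, 6, 8, 2] p :=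
  H.back (i := 3) (by decide) (f5320 H)

theorem f5322 : g 3 • path g [9, 8, 6, 8, 2] p = path g [4, 2, 5, 8, 6] p :=
  scan (u := [0, 2, 0, 1, 2, 0, 1, 8, 7]) (w := []) (i := 3) (r7_1_1 H) (step (f5314 H) (step (f3286 H) (step (f3072 H) (step (f926 H) (step (f922 H) (step (f2495 H) (step (f118 H) (step (f426 H) (step (f2864 H) rfl))))))))) rfl

theorem f5323 : g 8 • path g [4, 2, 5, 8, 6] p = path g [9, 8, 6, 8, 2] p :=
  H.back (i := 3) (by decide) (f5322 H)

theorem f5324 : g 4 • path g [4, 2, 5, 8] p = path g [4, 2, 5, 8, 4] p :=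
  rfl

theorem f5325 : g 9 • path g [4, 2, 5, 8, 4] p = path g [4, 2, 5, 8] p :=
  H.back (i := 4) (by decide) (f5324 H)

theorem f5326 : g 4 • path g [4, 2, 5, 8, 4] p = path g [4, 2, 5, 8, 9] p :=
  scan (u := [4]) (w := [4]) (i := 4) (r10_0_0 H) (step (f5324 H) rfl) (step (H.back (i := 9) (by decide) (f5304 H)) rfl)

theorem f5328 : g 3 • path g [4, 2, 5, 8, 4] p = path g [4, 8, 5, 2, 9] p :=
  scan (u := [4]) (w := [4, 3]) (i := 3) (r15_0_0 H) (step (f5324 H) rfl) (step (H.back (i := 9) (by decide) (f5063 H)) (step (H.back (i := 8) (by decide) (f3580 H)) rfl))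

theorem f5329 : g 8 • path g [4, 8, 5, 2, 9] p = path g [4, 2, 5, 8, 4] p :=
  H.back (i := 3) (by decide) (f5328 H)

theorem f5330 : g 8 • path g [4, 2, 5, 4] p = path g [4, 2, 5, 4, 8] p :=
  rfl

theorem f5331 : g 3 • path g [4, 2, 5, 4, 8] p = path g [4, 2, 5, 4] p :=
  H.back (i := 8) (by decide) (f5330 H)

theorem f5332 : g 8 • path g [4, 2, 5, 4, 8] p = path g [4, 2, 5, 8, 9] p :=
  scan (u := [8]) (w := [8]) (i := 8) (r6_1_0 H) (step (f5330 H) rfl) (step (H.back (i := 3) (by decide) (f5307 H)) rfl)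

theorem f5333 : g 3 • path g [4, 2, 5, 8, 9] p = path g [4, 2, 5, 4, 8] p :=
  H.back (i := 8) (by decide) (f5332 H)

theorem f5334 : g 9 • path g [4, 2, 5, 4, 8] p = path g [4, 2, 9, 5, 3] p :=
  scan (u := [8]) (w := [8, 9]) (i := 9) (r15_1_0 H) (step (f5330 H) rfl) (step (H.back (i := 3) (by decide) (f5213 H)) (step (H.back (i := 4) (by decide) (f1306 H)) rfl))

theorem f5335 : g 4 • path g [4, 2, 9, 5, 3] p = path g [4, 2, 5, 4, 8] p :=
  H.back (i := 9) (by decide) (f5334 H)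

theorem f5336 : g 2 • path g [4, 2, 5, 4] p = path g [4, 2, 5, 4, 2] p :=
  rfl

theorem f5337 : g 7 • path g [4, 2, 5, 4, 2] p = path g [4, 2, 5, 4] p :=
  H.back (i := 2) (by decide) (f5336 H)

theorem f5338 : g 2 • path g [4, 2, 5, 4, 2] p = path g [4, 2, 5, 4] p :=
  scan (u := [2]) (w := []) (i := 2) (r2_0_0 H) (step (f5336 H) rfl) rfl

theorem f5339 : g 7 • path g [4, 2, 5, 4] p = path g [4, 2, 5, 4, 2] p :=
  H.back (i := 2) (by decide) (f5338 H)

theorem f5340 : g 2 • path g [4, 2, 3, 9] p = path g [4, 2, 3, 9, 2] p :=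
  rfl

theorem f5342 : g 2 • path g [4, 2, 3, 9, 2] p = path g [4, 2, 3, 9] p :=
  scan (u := [2]) (w := []) (i := 2) (r2_0_0 H) (step (f5340 H) rfl) rfl

theorem f5343 : g 7 • path g [4, 2, 3, 9] p = path g [4, 2, 3, 9, 2] p :=
  H.back (i := 2) (by decide) (f5342 H)

theorem f5344 : g 6 • path g [4, 2, 3, 9] p = path g [4, 2, 3, 9, 6] p :=
  rfl

theorem f5346 : g 9 • path g [4, 2, 3, 9, 6] p = path g [4, 2, 9, 8, 6] p :=
  scan (u := [6]) (w := [1, 4]) (i := 9) (r14_0_2 H) (step (f5344 H) rfl) (step (H.back (i := 6) (by decide) (f5179 H)) (step (H.back (i := 9) (by decide) (f1314 H)) rfl))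

theorem f5347 : g 4 • path g [4, 2, 9, 8, 6] p = path g [4, 2, 3, 9, 6] p :=
  H.back (i := 9) (by decide) (f5346 H)

theorem f5348 : g 4 • path g [4, 2, 3, 9, 6] p = path g [4, 2, 3, 6] p :=
  scan (u := [6]) (w := [1, 9]) (i := 4) (r14_1_3 H) (step (f5344 H) rfl) (step (H.back (i := 6) (by decide) (f1334 H)) (step (H.back (i := 4) (by decide) (f1313 H)) rfl))

theorem f5350 : g 1 • path g [4, 2, 3, 9] p = path g [4, 2, 3, 9, 1] p :=
  rfl

theorem f5352 : g 1 • path g [4, 2, 3, 9, 1] p = path g [4, 2, 3, 9, 6] p :=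
  scan (u := [1]) (w := [1]) (i := 1) (r1_0_0 H) (step (f5350 H) rfl) (step (H.back (i := 6) (by decide) (f5344 H)) rfl)

theorem f5354 : g 4 • path g [4, 2, 3, 9, 1] p = path g [4, 2, 3, 1] p :=
  scan (u := [1]) (w := [6, 9]) (i := 4) (r14_0_0 H) (step (f5350 H) rfl) (step (H.back (i := 1) (by decide) (f1336 H)) (step (H.back (i := 4) (by decide) (f1313 H)) rfl))

theorem f5355 : g 9 • path g [4, 2, 3, 1] p = path g [4, 2, 3, 9, 1] p :=
  H.back (i := 4) (by decide) (f5354 H)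

theorem f5356 : g 9 • path g [4, 2, 3, 9, 1] p = path g [4, 2, 9, 8, 1] p :=
  scan (u := [1]) (w := [6, 4]) (i := 9) (r14_1_1 H) (step (f5350 H) rfl) (step (H.back (i := 1) (by decide) (f5183 H)) (step (H.back (i := 9) (by decide) (f1314 H)) rfl))

theorem f5357 : g 4 • path g [4, 2, 9, 8, 1] p = path g [4, 2, 3, 9, 1] p :=
  H.back (i := 9) (by decide) (f5356 H)

theorem f5358 : g 5 • path g [4, 2, 3, 6] p = path g [4, 2, 3, 6, 5] p :=
  rfl

theorem f5359 : g 0 • path g [4, 2, 3, 6, 5] p = path g [4, 2, 3, 6] p :=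
  H.back (i := 5) (by decide) (f5358 H)

theorem f5360 : g 5 • path g [4, 2, 3, 6, 5] p = path g [4, 2, 3, 6] p :=
  scan (u := [5]) (w := []) (i := 5) (r0_1_0 H) (step (f5358 H) rfl) rfl

theorem f5361 : g 0 • path g [4, 2, 3, 6] p = path g [4, 2, 3, 6, 5] p :=
  H.back (i := 5) (by decide) (f5360 H)

theorem f5362 : g 7 • path g [4, 2, 3, 6, 5] p = path g [9, 8, 2, 8, 1] p :=
  scan (u := [5]) (w := [6, 5, 7, 5, 8, 2, 3, 6]) (i := 7) (r7_0_3 H) (step (f5358 H) rfl) (step (H.back (i := 1) (by decide) (f1394 H)) (step (H.back (i := 0) (by decide) (f3390 H)) (step (H.back (i := 2) (by decide) (f260 H)) (step (H.back (i := 0) (by decide) (f2854 H)) (step (H.back (i := 3) (by decide) (f45 H)) (step (H.back (i := 7) (by decide) (f97 H)) (step (H.back (i := 8) (by decide) (f359 H)) (step (H.back (i := 1) (by decide) (f1335 H)) rfl))))))))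

theorem f5363 : g 2 • path g [9, 8, 2, 8, 1] p = path g [4, 2, 3, 6, 5] p :=
  H.back (i := 7) (by decide) (f5362 H)

theorem f5364 : g 7 • path g [9, 8, 2, 8, 1] p = path g [4, 2, 3, 6, 5] p :=
  scan (u := [7]) (w := []) (i := 7) (r2_1_0 H) (step (f5362 H) rfl) rfl

theorem f5365 : g 2 • path g [4, 2, 3, 6, 5] p = path g [9, 8, 2, 8, 1] p :=
  H.back (i := 7) (by decide) (f5364 H)

theorem f5366 : g 6 • path g [9, 8, 2, 8, 2] p = path g [4, 2, 3, 6, 5] p :=
  scan (u := [7, 6, 7]) (w := []) (i := 6) (r3_1_0 H) (step (f5362 H) (step (f1395 H) (step (f1387 H) rfl))) rfl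

theorem f5367 : g 1 • path g [4, 2, 3, 6, 5] p = path g [9, 8, 2, 8, 2] p :=
  H.back (i := 6) (by decide) (f5366 H)

theorem f5368 : g 3 • path g [4, 2, 3, 6] p = path g [4, 2, 3, 6, 3] p :=
  rfl

theorem f5370 : g 3 • path g [4, 2, 3, 6, 3] p = path g [9, 3, 6, 8, 2] p :=
  scan (u := [3]) (w := [3]) (i := 3) (r6_0_0 H) (step (f5368 H) rfl) (step (H.back (i := 8) (by decide) (f3734 H)) rfl)

theorem f5372 : g 8 • path g [4, 2, 3, 1] p = path g [4, 2, 3, 1, 8] p :=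
  rfl

theorem f5373 : g 3 • path g [4, 2, 3, 1, 8] p = path g [4, 2, 3, 1] p :=
  H.back (i := 8) (by decide) (f5372 H)

theorem f5376 : g 7 • path g [4, 2, 3, 1, 8] p = path g [9, 2, 3, 1, 8] p :=
  scan (u := [8]) (w := [3, 0, 2, 0, 1, 2, 0, 1]) (i := 7) (r7_1_8 H) (step (f5372 H) rfl) (step (H.back (i := 8) (by decide) (f3506 H)) (step (H.back (i := 5) (by decide) (f3510 H)) (step (H.back (i := 7) (by decide) (f5276 H)) (step (H.back (i := 5) (by decide) (f5268 H)) (step (H.back (i := 6) (by decide) (f1278 H)) (step (H.back (i := 7) (by decide) (f1464 H)) (step (H.back (i := 5) (by decide) (f3210 H)) (step (H.back (i := 6) (by decide) (f1337 H)) rfl))))))))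

theorem f5377 : g 2 • path g [9, 2, 3, 1, 8] p = path g [4, 2, 3, 1, 8] p :=
  H.back (i := 7) (by decide) (f5376 H)

theorem f5378 : g 3 • path g [4, 2, 3, 1] p = path g [4, 2, 3, 1, 3] p :=
  rfl

theorem f5380 : g 3 • path g [4, 2, 3, 1, 3] p = path g [4, 2, 3, 1, 8] p :=
  scan (u := [3]) (w := [3]) (i := 3) (r6_0_0 H) (step (f5378 H) rfl) (step (H.back (i := 8) (by decide) (f5372 H)) rfl)

theorem f5381 : g 8 • path g [4, 2, 3, 1, 8] p = path g [4, 2, 3, 1, 3] p :=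
  H.back (i := 3) (by decide) (f5380 H)

theorem f5382 : g 2 • path g [4, 2, 4, 8] p = path g [4, 2, 4, 8, 2] p :=
  rfl

theorem f5386 : g 5 • path g [4, 2, 4, 8] p = path g [4, 2, 4, 8, 5] p :=
  rfl

theorem f5387 : g 0 • path g [4, 2, 4, 8, 5] p = path g [4, 2, 4, 8] p :=
  H.back (i := 5) (by decide) (f5386 H)

theorem f5388 : g 5 • path g [4, 2, 4, 8, 5] p = path g [4, 2, 4, 8] p :=
  scan (u := [5]) (w := []) (i := 5) (r0_1_0 H) (step (f5386 H) rfl) rfl

theorem f5389 : g 0 • path g [4, 2, 4, 8] p = path g [4, 2, 4, 8, 5] p :=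
  H.back (i := 5) (by decide) (f5388 H)

theorem f5390 : g 9 • path g [4, 2, 4, 8, 5] p = path g [4, 2, 9, 3, 5] p :=
  scan (u := [5]) (w := [0, 4]) (i := 9) (r13_0_0 H) (step (f5386 H) rfl) (step (H.back (i := 5) (by decide) (f5229 H)) (step (H.back (i := 9) (by decide) (f1344 H)) rfl))

theorem f5391 : g 4 • path g [4, 2, 9, 3, 5] p = path g [4, 2, 4, 8, 5] p :=
  H.back (i := 9) (by decide) (f5390 H)

theorem f5392 : g 6 • path g [4, 2, 4, 8] p = path g [4, 2, 4, 8, 6] p :=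
  rfl

theorem f5394 : g 9 • path g [4, 2, 4, 8, 6] p = path g [4, 2, 9, 3, 6] p :=
  scan (u := [6]) (w := [1, 4]) (i := 9) (r14_0_2 H) (step (f5392 H) rfl) (step (H.back (i := 6) (by decide) (f5233 H)) (step (H.back (i := 9) (by decide) (f1344 H)) rfl))

theorem f5395 : g 4 • path g [4, 2, 9, 3, 6] p = path g [4, 2, 4, 8, 6] p :=
  H.back (i := 9) (by decide) (f5394 H)

theorem f5396 : g 1 • path g [4, 2, 4, 8] p = path g [4, 2, 4, 8, 1] p :=
  rfl

theorem f5400 : g 9 • path g [4, 2, 4, 8, 1] p = path g [4, 2, 9, 3, 1] p :=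
  scan (u := [1]) (w := [6, 4]) (i := 9) (r14_1_1 H) (step (f5396 H) rfl) (step (H.back (i := 1) (by decide) (f5235 H)) (step (H.back (i := 9) (by decide) (f1344 H)) rfl))

theorem f5408 : g 5 • path g [4, 2, 4, 2] p = path g [4, 2, 4, 2, 5] p :=
  rfl

theorem f5410 : g 5 • path g [4, 2, 4, 2, 5] p = path g [4, 2, 4, 2] p :=
  scan (u := [5]) (w := []) (i := 5) (r0_1_0 H) (step (f5408 H) rfl) rfl

theorem f5422 : g 9 • path g [9, 8, 2, 9, 2] p = path g [9, 8, 2, 9, 2, 9] p :=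
  rfl

theorem f5426 : g 5 • path g [9, 8, 2, 9, 2] p = path g [9, 8, 2, 9, 2, 5] p :=
  rfl

theorem f5427 : g 0 • path g [9, 8, 2, 9, 2, 5] p = path g [9, 8, 2, 9, 2] p :=
  H.back (i := 5) (by decide) (f5426 H)

theorem f5428 : g 5 • path g [9, 8, 2, 9, 2, 5] p = path g [9, 8, 2, 9, 2] p :=
  scan (u := [5]) (w := []) (i := 5) (r0_1_0 H) (step (f5426 H) rfl) rfl

theorem f5429 : g 0 • path g [9, 8, 2, 9, 2] p = path g [9, 8, 2, 9, 2, 5] p :=
  H.back (i := 5) (by decide) (f5428 H)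

theorem f5430 : g 3 • path g [9, 8, 2, 9, 2] p = path g [9, 8, 2, 9, 2, 3] p :=
  rfl

theorem f5434 : g 6 • path g [9, 8, 2, 9, 2] p = path g [9, 8, 2, 9, 2, 6] p :=
  rfl

theorem f5435 : g 1 • path g [9, 8, 2, 9, 2, 6] p = path g [9, 8, 2, 9, 2] p :=
  H.back (i := 6) (by decide) (f5434 H)

theorem f5436 : g 7 • path g [9, 8, 2, 9, 2, 6] p = path g [9, 8, 2, 9, 1] p :=
  scan (u := [6]) (w := [6, 7]) (i := 7) (r3_1_1 H) (step (f5434 H) rfl) (step (H.back (i := 1) (by decide) (f1374 H)) (step (H.back (i := 2) (by decide) (f1358 H)) rfl))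

theorem f5438 : g 7 • path g [9, 8, 2, 9, 1] p = path g [9, 8, 2, 9, 2, 6] p :=
  scan (u := [7]) (w := []) (i := 7) (r2_1_0 H) (step (f5436 H) rfl) rfl

theorem f5439 : g 2 • path g [9, 8, 2, 9, 2, 6] p = path g [9, 8, 2, 9, 1] p :=
  H.back (i := 7) (by decide) (f5438 H)

theorem f5440 : g 1 • path g [9, 8, 2, 9, 2] p = path g [9, 8, 2, 9, 2, 1] p :=
  rfl

theorem f5442 : g 1 • path g [9, 8, 2, 9, 2, 1] p = path g [9, 8, 2, 9, 2, 6] p :=
  scan (u := [1]) (w := [1]) (i := 1) (r1_0_0 H) (step (f5440 H) rfl) (step (H.back (i := 6) (by decide) (f5434 H)) rfl)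

theorem f5444 : g 2 • path g [9, 8, 2, 9, 2, 1] p = path g [9, 8, 2, 9, 6] p :=
  scan (u := [1]) (w := [1, 2]) (i := 2) (r3_0_0 H) (step (f5440 H) rfl) (step (H.back (i := 6) (by decide) (f1370 H)) (step (H.back (i := 7) (by decide) (f1357 H)) rfl))

theorem f5446 : g 2 • path g [9, 8, 2, 9, 6] p = path g [9, 8, 2, 9, 2, 1] p :=
  scan (u := [2]) (w := []) (i := 2) (r2_0_0 H) (step (f5444 H) rfl) rfl

theorem f5448 : g 4 • path g [9, 8, 2, 9, 2] p = path g [9, 8, 2, 9, 2, 4] p :=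
  rfl

theorem f5450 : g 4 • path g [9, 8, 2, 9, 2, 4] p = path g [9, 8, 2, 9, 2, 9] p :=
  scan (u := [4]) (w := [4]) (i := 4) (r10_0_0 H) (step (f5448 H) rfl) (step (H.back (i := 9) (by decide) (f5422 H)) rfl)

theorem f5452 : g 2 • path g [9, 8, 2, 9, 5] p = path g [9, 8, 2, 9, 5, 2] p :=
  rfl

theorem f5454 : g 2 • path g [9, 8, 2, 9, 5, 2] p = path g [9, 8, 2, 9, 5] p :=
  scan (u := [2]) (w := []) (i := 2) (r2_0_0 H) (step (f5452 H) rfl) rfl

theorem f5455 : g 7 • path g [9, 8, 2, 9, 5] p = path g [9, 8, 2, 9, 5, 2] p :=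
  H.back (i := 2) (by decide) (f5454 H)

theorem f5456 : g 3 • path g [9, 8, 2, 9, 5] p = path g [9, 8, 2, 9, 5, 3] p :=
  rfl

theorem f5457 : g 8 • path g [9, 8, 2, 9, 5, 3] p = path g [9, 8, 2, 9, 5] p :=
  H.back (i := 3) (by decide) (f5456 H)

theorem f5458 : g 3 • path g [9, 8, 2, 9, 5, 3] p = path g [9, 3, 5, 2, 4] p :=
  scan (u := [3]) (w := [3]) (i := 3) (r6_0_0 H) (step (f5456 H) rfl) (step (H.back (i := 8) (by decide) (f3724 H)) rfl)

theorem f5460 : g 4 • path g [9, 8, 2, 9, 5, 3] p = path g [4, 8, 5, 6, 3] p :=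
  scan (u := [3]) (w := [3, 4]) (i := 4) (r15_0_1 H) (step (f5456 H) rfl) (step (H.back (i := 8) (by decide) (f5086 H)) (step (H.back (i := 9) (by decide) (f1433 H)) rfl))

theorem f5462 : g 4 • path g [9, 3, 5, 6, 8] p = path g [9, 8, 2, 9, 5, 3] p :=
  scan (u := [4, 4]) (w := []) (i := 4) (r10_0_0 H) (step (f5460 H) (step (f5087 H) rfl)) rfl

theorem f5463 : g 9 • path g [9, 8, 2, 9, 5, 3] p = path g [9, 3, 5, 6, 8] p :=
  H.back (i := 4) (by decide) (f5462 H)

theorem f5464 : g 6 • path g [9, 8, 2, 9, 5] p = path g [9, 8, 2, 9, 5, 6] p :=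
  rfl

theorem f5465 : g 1 • path g [9, 8, 2, 9, 5, 6] p = path g [9, 8, 2, 9, 5] p :=
  H.back (i := 6) (by decide) (f5464 H)

theorem f5466 : g 4 • path g [9, 8, 2, 9, 5, 6] p = path g [9, 8, 2, 5, 6] p :=
  scan (u := [6]) (w := [1, 9]) (i := 4) (r14_1_3 H) (step (f5464 H) rfl) (step (H.back (i := 6) (by decide) (f1424 H)) (step (H.back (i := 4) (by decide) (f1364 H)) rfl))

theorem f5467 : g 9 • path g [9, 8, 2, 5, 6] p = path g [9, 8, 2, 9, 5, 6] p :=
  H.back (i := 4) (by decide) (f5466 H)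

theorem f5468 : g 1 • path g [9, 8, 2, 9, 5] p = path g [9, 8, 2, 9, 5, 1] p :=
  rfl

theorem f5469 : g 6 • path g [9, 8, 2, 9, 5, 1] p = path g [9, 8, 2, 9, 5] p :=
  H.back (i := 1) (by decide) (f5468 H)

theorem f5470 : g 1 • path g [9, 8, 2, 9, 5, 1] p = path g [9, 8, 2, 9, 5, 6] p :=
  scan (u := [1]) (w := [1]) (i := 1) (r1_0_0 H) (step (f5468 H) rfl) (step (H.back (i := 6) (by decide) (f5464 H)) rfl)

theorem f5471 : g 6 • path g [9, 8, 2, 9, 5, 6] p = path g [9, 8, 2, 9, 5, 1] p :=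
  H.back (i := 1) (by decide) (f5470 H)

theorem f5472 : g 4 • path g [9, 8, 2, 9, 5, 1] p = path g [9, 8, 2, 5, 1] p :=
  scan (u := [1]) (w := [6, 9]) (i := 4) (r14_0_0 H) (step (f5468 H) rfl) (step (H.back (i := 1) (by decide) (f1426 H)) (step (H.back (i := 4) (by decide) (f1364 H)) rfl))

theorem f5473 : g 9 • path g [9, 8, 2, 5, 1] p = path g [9, 8, 2, 9, 5, 1] p :=
  H.back (i := 4) (by decide) (f5472 H)

theorem f5474 : g 0 • path g [9, 8, 2, 9, 5, 1] p = path g [4, 8, 2, 9, 1] p :=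
  scan (u := [1]) (w := [1, 0, 6, 6, 0]) (i := 0) (r4_0_4 H) (step (f5468 H) rfl) (step (H.back (i := 6) (by decide) (f4993 H)) (step (H.back (i := 5) (by decide) (f4988 H)) (step (H.back (i := 1) (by decide) (f1376 H)) (step (H.back (i := 1) (by decide) (f1374 H)) (step (H.back (i := 5) (by decide) (f1362 H)) rfl)))))

theorem f5476 : g 0 • path g [4, 8, 2, 9, 1] p = path g [9, 8, 2, 9, 5, 1] p :=
  scan (u := [0]) (w := []) (i := 0) (r0_0_0 H) (step (f5474 H) rfl) rfl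

theorem f5477 : g 5 • path g [9, 8, 2, 9, 5, 1] p = path g [4, 8, 2, 9, 1] p :=
  H.back (i := 0) (by decide) (f5476 H)

theorem f5482 : g 3 • path g [9, 8, 2, 9, 6] p = path g [9, 8, 2, 9, 6, 3] p :=
  rfl

theorem f5486 : g 8 • path g [9, 8, 2, 9, 1] p = path g [9, 8, 2, 9, 1, 8] p :=
  rfl

theorem f5487 : g 3 • path g [9, 8, 2, 9, 1, 8] p = path g [9, 8, 2, 9, 1] p :=
  H.back (i := 8) (by decide) (f5486 H)

theorem f5488 : g 9 • path g [9, 8, 2, 9, 1, 8] p = path g [9, 8, 2, 1, 3] p :=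
  scan (u := [8]) (w := [8, 9]) (i := 9) (r15_1_0 H) (step (f5486 H) rfl) (step (H.back (i := 3) (by decide) (f1690 H)) (step (H.back (i := 4) (by decide) (f1378 H)) rfl))

theorem f5489 : g 4 • path g [9, 8, 2, 1, 3] p = path g [9, 8, 2, 9, 1, 8] p :=
  H.back (i := 9) (by decide) (f5488 H)

theorem f5490 : g 5 • path g [9, 8, 2, 9, 1] p = path g [9, 8, 2, 9, 1, 5] p :=
  rfl

theorem f5491 : g 0 • path g [9, 8, 2, 9, 1, 5] p = path g [9, 8, 2, 9, 1] p :=
  H.back (i := 5) (by decide) (f5490 H)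

theorem f5492 : g 5 • path g [9, 8, 2, 9, 1, 5] p = path g [9, 8, 2, 9, 1] p :=
  scan (u := [5]) (w := []) (i := 5) (r0_1_0 H) (step (f5490 H) rfl) rfl

theorem f5493 : g 0 • path g [9, 8, 2, 9, 1] p = path g [9, 8, 2, 9, 1, 5] p :=
  H.back (i := 5) (by decide) (f5492 H)

theorem f5494 : g 9 • path g [9, 8, 2, 9, 1, 5] p = path g [4, 8, 6, 8, 1] p :=
  scan (u := [5]) (w := [0, 4]) (i := 9) (r13_0_0 H) (step (f5490 H) rfl) (step (H.back (i := 5) (by decide) (f5114 H)) (step (H.back (i := 9) (by decide) (f1697 H)) rfl))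

theorem f5495 : g 4 • path g [4, 8, 6, 8, 1] p = path g [9, 8, 2, 9, 1, 5] p :=
  H.back (i := 9) (by decide) (f5494 H)

theorem f5496 : g 4 • path g [9, 8, 2, 9, 1, 5] p = path g [9, 8, 2, 1, 5] p :=
  scan (u := [5]) (w := [0, 9]) (i := 4) (r13_1_1 H) (step (f5490 H) rfl) (step (H.back (i := 5) (by decide) (f1686 H)) (step (H.back (i := 4) (by decide) (f1378 H)) rfl))

theorem f5498 : g 6 • path g [9, 8, 2, 9, 1, 5] p = path g [9, 2, 3, 2, 9] p :=
  scan (u := [5]) (w := [5, 1, 1, 5, 6]) (i := 6) (r4_1_1 H) (step (f5490 H) rfl) (step (H.back (i := 0) (by decide) (f3479 H)) (step (H.back (i := 6) (by decide) (f4991 H)) (step (H.back (i := 6) (by decide) (f4993 H)) (step (H.back (i := 0) (by decide) (f4987 H)) (step (H.back (i := 1) (by decide) (f1376 H)) rfl)))))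

theorem f5499 : g 1 • path g [9, 2, 3, 2, 9] p = path g [9, 8, 2, 9, 1, 5] p :=
  H.back (i := 6) (by decide) (f5498 H)

theorem f5500 : g 3 • path g [9, 8, 2, 9, 1] p = path g [9, 8, 2, 9, 1, 3] p :=
  rfl

theorem f5501 : g 8 • path g [9, 8, 2, 9, 1, 3] p = path g [9, 8, 2, 9, 1] p :=
  H.back (i := 3) (by decide) (f5500 H)

theorem f5502 : g 3 • path g [9, 8, 2, 9, 1, 3] p = path g [9, 8, 2, 9, 1, 8] p :=
  scan (u := [3]) (w := [3]) (i := 3) (r6_0_0 H) (step (f5500 H) rfl) (step (H.back (i := 8) (by decide) (f5486 H)) rfl)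

theorem f5504 : g 2 • path g [9, 8, 2, 8, 9] p = path g [9, 8, 2, 8, 9, 2] p :=
  rfl

theorem f5506 : g 2 • path g [9, 8, 2, 8, 9, 2] p = path g [9, 8, 2, 8, 9] p :=
  scan (u := [2]) (w := []) (i := 2) (r2_0_0 H) (step (f5504 H) rfl) rfl

theorem f5507 : g 7 • path g [9, 8, 2, 8, 9] p = path g [9, 8, 2, 8, 9, 2] p :=
  H.back (i := 2) (by decide) (f5506 H)

theorem f5508 : g 6 • path g [9, 8, 2, 8, 9] p = path g [9, 8, 2, 8, 9, 6] p :=
  rfl

theorem f5509 : g 1 • path g [9, 8, 2, 8, 9, 6] p = path g [9, 8, 2, 8, 9] p :=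
  H.back (i := 6) (by decide) (f5508 H)

theorem f5510 : g 9 • path g [9, 8, 2, 8, 9, 6] p = path g [4, 8, 1, 8, 6] p :=
  scan (u := [6]) (w := [1, 4]) (i := 9) (r14_0_2 H) (step (f5508 H) rfl) (step (H.back (i := 6) (by decide) (f5137 H)) (step (H.back (i := 9) (by decide) (f1572 H)) rfl))

theorem f5511 : g 4 • path g [4, 8, 1, 8, 6] p = path g [9, 8, 2, 8, 9, 6] p :=
  H.back (i := 9) (by decide) (f5510 H)

theorem f5512 : g 4 • path g [9, 8, 2, 8, 9, 6] p = path g [9, 8, 2, 8, 6] p :=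
  scan (u := [6]) (w := [1, 9]) (i := 4) (r14_1_3 H) (step (f5508 H) rfl) (step (H.back (i := 6) (by decide) (f1392 H)) (step (H.back (i := 4) (by decide) (f1381 H)) rfl))

theorem f5513 : g 9 • path g [9, 8, 2, 8, 6] p = path g [9, 8, 2, 8, 9, 6] p :=
  H.back (i := 4) (by decide) (f5512 H)

theorem f5514 : g 1 • path g [9, 8, 2, 8, 9] p = path g [9, 8, 2, 8, 9, 1] p :=
  rfl

theorem f5515 : g 6 • path g [9, 8, 2, 8, 9, 1] p = path g [9, 8, 2, 8, 9] p :=
  H.back (i := 1) (by decide) (f5514 H)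

theorem f5516 : g 1 • path g [9, 8, 2, 8, 9, 1] p = path g [9, 8, 2, 8, 9, 6] p :=
  scan (u := [1]) (w := [1]) (i := 1) (r1_0_0 H) (step (f5514 H) rfl) (step (H.back (i := 6) (by decide) (f5508 H)) rfl)

theorem f5517 : g 6 • path g [9, 8, 2, 8, 9, 6] p = path g [9, 8, 2, 8, 9, 1] p :=
  H.back (i := 1) (by decide) (f5516 H)

theorem f5518 : g 4 • path g [9, 8, 2, 8, 9, 1] p = path g [9, 8, 2, 8, 1] p :=
  scan (u := [1]) (w := [6, 9]) (i := 4) (r14_0_0 H) (step (f5514 H) rfl) (step (H.back (i := 1) (by decide) (f1394 H)) (step (H.back (i := 4) (by decide) (f1381 H)) rfl))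

theorem f5520 : g 9 • path g [9, 8, 2, 8, 9, 1] p = path g [4, 8, 1, 8, 1] p :=
  scan (u := [1]) (w := [6, 4]) (i := 9) (r14_1_1 H) (step (f5514 H) rfl) (step (H.back (i := 1) (by decide) (f5145 H)) (step (H.back (i := 9) (by decide) (f1572 H)) rfl))

theorem f5521 : g 4 • path g [4, 8, 1, 8, 1] p = path g [9, 8, 2, 8, 9, 1] p :=
  H.back (i := 9) (by decide) (f5520 H)

theorem f5522 : g 9 • path g [9, 8, 2, 8, 2] p = path g [9, 8, 2, 8, 2, 9] p :=
  rfl

theorem f5523 : g 4 • path g [9, 8, 2, 8, 2, 9] p = path g [9, 8, 2, 8, 2] p :=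
  H.back (i := 9) (by decide) (f5522 H)

theorem f5524 : g 0 • path g [9, 8, 2, 8, 2, 9] p = path g [9, 2, 5, 8, 9] p :=
  scan (u := [9]) (w := [4, 5]) (i := 0) (r13_0_1 H) (step (f5522 H) rfl) (step (H.back (i := 9) (by decide) (f3333 H)) (step (H.back (i := 0) (by decide) (f3374 H)) rfl))

theorem f5526 : g 5 • path g [9, 8, 2, 8, 2, 9] p = path g [9, 2, 5, 8, 9] p :=
  scan (u := [9]) (w := [4, 0]) (i := 5) (r13_1_0 H) (step (f5522 H) rfl) (step (H.back (i := 9) (by decide) (f3333 H)) (step (H.back (i := 5) (by decide) (f3377 H)) rfl))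

theorem f5528 : g 1 • path g [9, 8, 2, 8, 2] p = path g [9, 8, 2, 8, 2, 1] p :=
  rfl

theorem f5529 : g 6 • path g [9, 8, 2, 8, 2, 1] p = path g [9, 8, 2, 8, 2] p :=
  H.back (i := 1) (by decide) (f5528 H)

theorem f5530 : g 1 • path g [9, 8, 2, 8, 2, 1] p = path g [4, 2, 3, 6, 5] p :=
  scan (u := [1]) (w := [1]) (i := 1) (r1_0_0 H) (step (f5528 H) rfl) (step (H.back (i := 6) (by decide) (f5366 H)) rfl)

theorem f5532 : g 2 • path g [9, 8, 2, 8, 2, 1] p = path g [9, 8, 2, 8, 6] p :=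
  scan (u := [1]) (w := [1, 2]) (i := 2) (r3_0_0 H) (step (f5528 H) rfl) (step (H.back (i := 6) (by decide) (f1392 H)) (step (H.back (i := 7) (by decide) (f1385 H)) rfl))

theorem f5534 : g 0 • path g [9, 8, 2, 8, 2, 1] p = path g [9, 3, 2, 3, 1] p :=
  scan (u := [1]) (w := [1, 0, 6, 6, 0]) (i := 0) (r4_0_4 H) (step (f5528 H) rfl) (step (H.back (i := 6) (by decide) (f3636 H)) (step (H.back (i := 5) (by decide) (f3629 H)) (step (H.back (i := 1) (by decide) (f3352 H)) (step (H.back (i := 1) (by decide) (f3350 H)) (step (H.back (i := 5) (by decide) (f3377 H)) rfl)))))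

theorem f5536 : g 5 • path g [9, 8, 2, 8, 2, 1] p = path g [9, 3, 2, 3, 1] p :=
  scan (u := [1]) (w := [6, 5, 6, 5, 1]) (i := 5) (r4_1_5 H) (step (f5528 H) rfl) (step (H.back (i := 1) (by decide) (f3633 H)) (step (H.back (i := 0) (by decide) (f2843 H)) (step (H.back (i := 1) (by decide) (f1335 H)) (step (H.back (i := 0) (by decide) (f5359 H)) (step (H.back (i := 6) (by decide) (f5366 H)) rfl)))))

theorem f5537 : g 0 • path g [9, 3, 2, 3, 1] p = path g [9, 8, 2, 8, 2, 1] p :=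
  H.back (i := 5) (by decide) (f5536 H)

theorem f5538 : g 2 • path g [9, 8, 2, 8, 6] p = path g [9, 8, 2, 8, 2, 1] p :=
  scan (u := [0, 6, 2, 0, 2, 1, 0, 2, 1, 0, 6]) (w := []) (i := 2) (r5_0_0 H) (step (f5534 H) (step (f3634 H) (step (f1467 H) (step (f2853 H) (step (f166 H) (step (f180 H) (step (f3407 H) (step (f959 H) (step (f957 H) (step (f3390 H) (step (f1392 H) rfl))))))))))) rfl

theorem f5539 : g 7 • path g [9, 8, 2, 8, 2, 1] p = path g [9, 8, 2, 8, 6] p :=
  H.back (i := 2) (by decide) (f5538 H)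

theorem f5540 : g 4 • path g [9, 8, 2, 8, 2] p = path g [9, 8, 2, 8, 2, 4] p :=
  rfl

theorem f5541 : g 9 • path g [9, 8, 2, 8, 2, 4] p = path g [9, 8, 2, 8, 2] p :=
  H.back (i := 4) (by decide) (f5540 H)

theorem f5542 : g 4 • path g [9, 8, 2, 8, 2, 4] p = path g [9, 8, 2, 8, 2, 9] p :=
  scan (u := [4]) (w := [4]) (i := 4) (r10_0_0 H) (step (f5540 H) rfl) (step (H.back (i := 9) (by decide) (f5522 H)) rfl)

theorem f5544 : g 5 • path g [9, 8, 2, 8, 2, 4] p = path g [9, 2, 5, 8, 4] p :=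
  scan (u := [4]) (w := [9, 0]) (i := 5) (r13_0_3 H) (step (f5540 H) rfl) (step (H.back (i := 4) (by decide) (f3408 H)) (step (H.back (i := 5) (by decide) (f3377 H)) rfl))

theorem f5546 : g 0 • path g [9, 8, 2, 8, 2, 4] p = path g [9, 2, 5, 8, 4] p :=
  scan (u := [4]) (w := [9, 5]) (i := 0) (r13_1_2 H) (step (f5540 H) rfl) (step (H.back (i := 4) (by decide) (f3408 H)) (step (H.back (i := 0) (by decide) (f3374 H)) rfl))

theorem f5548 : g 3 • path g [9, 8, 2, 8, 2, 4] p = path g [9, 3, 9, 2, 9] p :=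
  scan (u := [4]) (w := [4, 3]) (i := 3) (r15_0_0 H) (step (f5540 H) rfl) (step (H.back (i := 9) (by decide) (f3558 H)) (step (H.back (i := 8) (by decide) (f3380 H)) rfl))

theorem f5550 : g 8 • path g [9, 8, 2, 8, 6] p = path g [9, 8, 2, 8, 6, 8] p :=
  rfl

theorem f5551 : g 3 • path g [9, 8, 2, 8, 6, 8] p = path g [9, 8, 2, 8, 6] p :=
  H.back (i := 8) (by decide) (f5550 H)

theorem f5552 : g 7 • path g [9, 8, 2, 8, 6, 8] p = path g [8, 1, 4, 2, 8] p :=
  scan (u := [8]) (w := [3, 0, 2, 0, 1, 2, 0, 1]) (i := 7) (r7_1_8 H) (step (f5550 H) rfl) (step (H.back (i := 8) (by decide) (f4508 H)) (step (H.back (i := 5) (by decide) (f2518 H)) (step (H.back (i := 7) (by decide) (f596 H)) (step (H.back (i := 5) (by decide) (f1617 H)) (step (H.back (i := 6) (by decide) (f625 H)) (step (H.back (i := 7) (by decide) (f3718 H)) (step (H.back (i := 5) (by decide) (f3716 H)) (step (H.back (i := 6) (by decide) (f1397 H)) rfl))))))))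

theorem f5553 : g 2 • path g [8, 1, 4, 2, 8] p = path g [9, 8, 2, 8, 6, 8] p :=
  H.back (i := 7) (by decide) (f5552 H)

theorem f5554 : g 7 • path g [8, 1, 4, 2, 8] p = path g [9, 8, 2, 8, 6, 8] p :=
  scan (u := [7]) (w := []) (i := 7) (r2_1_0 H) (step (f5552 H) rfl) rfl

theorem f5556 : g 3 • path g [9, 8, 2, 8, 6] p = path g [9, 8, 2, 8, 6, 3] p :=
  rfl

theorem f5557 : g 8 • path g [9, 8, 2, 8, 6, 3] p = path g [9, 8, 2, 8, 6] p :=
  H.back (i := 3) (by decide) (f5556 H)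

theorem f5558 : g 3 • path g [9, 8, 2, 8, 6, 3] p = path g [9, 8, 2, 8, 6, 8] p :=
  scan (u := [3]) (w := [3]) (i := 3) (r6_0_0 H) (step (f5556 H) rfl) (step (H.back (i := 8) (by decide) (f5550 H)) rfl)

theorem f5559 : g 8 • path g [9, 8, 2, 8, 6, 8] p = path g [9, 8, 2, 8, 6, 3] p :=
  H.back (i := 3) (by decide) (f5558 H)

theorem f5560 : g 8 • path g [9, 8, 2, 8, 1] p = path g [9, 8, 2, 8, 1, 8] p :=
  rfl

theorem f5561 : g 3 • path g [9, 8, 2, 8, 1, 8] p = path g [9, 8, 2, 8, 1] p :=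
  H.back (i := 8) (by decide) (f5560 H)

theorem f5562 : g 3 • path g [9, 8, 2, 8, 1] p = path g [9, 8, 2, 8, 1, 3] p :=
  rfl

theorem f5563 : g 8 • path g [9, 8, 2, 8, 1, 3] p = path g [9, 8, 2, 8, 1] p :=
  H.back (i := 3) (by decide) (f5562 H)

theorem f5564 : g 3 • path g [9, 8, 2, 8, 1, 3] p = path g [9, 8, 2, 8, 1, 8] p :=
  scan (u := [3]) (w := [3]) (i := 3) (r6_0_0 H) (step (f5562 H) rfl) (step (H.back (i := 8) (by decide) (f5560 H)) rfl)

theorem f5566 : g 8 • path g [9, 8, 2, 5, 6] p = path g [9, 8, 2, 5, 6, 8] p :=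
  rfl

theorem f5567 : g 3 • path g [9, 8, 2, 5, 6, 8] p = path g [9, 8, 2, 5, 6] p :=
  H.back (i := 8) (by decide) (f5566 H)

theorem f5568 : g 2 • path g [9, 8, 2, 5, 6, 8] p = path g [8, 9, 2, 6, 8] p :=
  scan (u := [8]) (w := [3, 6, 5, 7, 6, 5, 7, 5]) (i := 2) (r7_0_9 H) (step (f5566 H) rfl) (step (H.back (i := 8) (by decide) (f3857 H)) (step (H.back (i := 1) (by decide) (f666 H)) (step (H.back (i := 0) (by decide) (f3890 H)) (step (H.back (i := 2) (by decide) (f5318 H)) (step (H.back (i := 1) (by decide) (f5311 H)) (step (H.back (i := 0) (by decide) (f3511 H)) (step (H.back (i := 2) (by decide) (f3493 H)) (step (H.back (i := 0) (by decide) (f3491 H)) rfl))))))))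

theorem f5569 : g 7 • path g [8, 9, 2, 6, 8] p = path g [9, 8, 2, 5, 6, 8] p :=
  H.back (i := 2) (by decide) (f5568 H)

theorem f5570 : g 7 • path g [9, 8, 2, 5, 6, 8] p = path g [8, 9, 2, 6, 8] p :=
  scan (u := [8]) (w := [3, 0, 2, 0, 1, 2, 0, 1]) (i := 7) (r7_1_8 H) (step (f5566 H) rfl) (step (H.back (i := 8) (by decide) (f3857 H)) (step (H.back (i := 5) (by decide) (f3861 H)) (step (H.back (i := 7) (by decide) (f3867 H)) (step (H.back (i := 5) (by decide) (f1625 H)) (step (H.back (i := 6) (by decide) (f345 H)) (step (H.back (i := 7) (by decide) (f1191 H)) (step (H.back (i := 5) (by decide) (f1760 H)) (step (H.back (i := 6) (by decide) (f1429 H)) rfl))))))))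

theorem f5571 : g 2 • path g [8, 9, 2, 6, 8] p = path g [9, 8, 2, 5, 6, 8] p :=
  H.back (i := 7) (by decide) (f5570 H)

theorem f5572 : g 3 • path g [9, 8, 2, 5, 6] p = path g [9, 8, 2, 5, 6, 3] p :=
  rfl

theorem f5574 : g 3 • path g [9, 8, 2, 5, 6, 3] p = path g [9, 8, 2, 5, 6, 8] p :=
  scan (u := [3]) (w := [3]) (i := 3) (r6_0_0 H) (step (f5572 H) rfl) (step (H.back (i := 8) (by decide) (f5566 H)) rfl)

theorem f5575 : g 8 • path g [9, 8, 2, 5, 6, 8] p = path g [9, 8, 2, 5, 6, 3] p :=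
  H.back (i := 3) (by decide) (f5574 H)

theorem f5576 : g 4 • path g [9, 8, 2, 5, 6] p = path g [9, 8, 2, 5, 6, 4] p :=
  rfl

theorem f5578 : g 4 • path g [9, 8, 2, 5, 6, 4] p = path g [9, 8, 2, 9, 5, 6] p :=
  scan (u := [4]) (w := [4]) (i := 4) (r10_0_0 H) (step (f5576 H) rfl) (step (H.back (i := 9) (by decide) (f5467 H)) rfl)

theorem f5579 : g 9 • path g [9, 8, 2, 9, 5, 6] p = path g [9, 8, 2, 5, 6, 4] p :=
  H.back (i := 4) (by decide) (f5578 H)

theorem f5580 : g 5 • path g [9, 8, 2, 5, 6, 4] p = path g [4, 8, 6, 8, 6] p :=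
  scan (u := [4]) (w := [9, 0]) (i := 5) (r13_0_3 H) (step (f5576 H) rfl) (step (H.back (i := 4) (by decide) (f5106 H)) (step (H.back (i := 5) (by decide) (f3489 H)) rfl))

theorem f5581 : g 0 • path g [4, 8, 6, 8, 6] p = path g [9, 8, 2, 5, 6, 4] p :=
  H.back (i := 5) (by decide) (f5580 H)

theorem f5582 : g 0 • path g [9, 8, 2, 5, 6, 4] p = path g [4, 8, 6, 8, 6] p :=
  scan (u := [4]) (w := [9, 5]) (i := 0) (r13_1_2 H) (step (f5576 H) rfl) (step (H.back (i := 4) (by decide) (f5106 H)) (step (H.back (i := 0) (by decide) (f3491 H)) rfl))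

theorem f5583 : g 5 • path g [4, 8, 6, 8, 6] p = path g [9, 8, 2, 5, 6, 4] p :=
  H.back (i := 0) (by decide) (f5582 H)

theorem f5584 : g 1 • path g [9, 8, 2, 5, 6, 4] p = path g [9, 8, 2, 5, 4] p :=
  scan (u := [4]) (w := [9, 6]) (i := 1) (r14_1_0 H) (step (f5576 H) rfl) (step (H.back (i := 4) (by decide) (f1430 H)) (step (H.back (i := 1) (by decide) (f1425 H)) rfl))

theorem f5585 : g 6 • path g [9, 8, 2, 5, 4] p = path g [9, 8, 2, 5, 6, 4] p :=
  H.back (i := 1) (by decide) (f5584 H)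

theorem f5586 : g 8 • path g [9, 8, 2, 5, 1] p = path g [9, 8, 2, 5, 1, 8] p :=
  rfl

theorem f5587 : g 3 • path g [9, 8, 2, 5, 1, 8] p = path g [9, 8, 2, 5, 1] p :=
  H.back (i := 8) (by decide) (f5586 H)

theorem f5588 : g 3 • path g [9, 8, 2, 5, 1] p = path g [9, 8, 2, 5, 1, 3] p :=
  rfl

theorem f5589 : g 8 • path g [9, 8, 2, 5, 1, 3] p = path g [9, 8, 2, 5, 1] p :=
  H.back (i := 3) (by decide) (f5588 H)

theorem f5590 : g 3 • path g [9, 8, 2, 5, 1, 3] p = path g [9, 8, 2, 5, 1, 8] p :=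
  scan (u := [3]) (w := [3]) (i := 3) (r6_0_0 H) (step (f5588 H) rfl) (step (H.back (i := 8) (by decide) (f5586 H)) rfl)

theorem f5591 : g 8 • path g [9, 8, 2, 5, 1, 8] p = path g [9, 8, 2, 5, 1, 3] p :=
  H.back (i := 3) (by decide) (f5590 H)

theorem f5592 : g 4 • path g [9, 8, 2, 5, 1] p = path g [9, 8, 2, 5, 1, 4] p :=
  rfl

theorem f5593 : g 9 • path g [9, 8, 2, 5, 1, 4] p = path g [9, 8, 2, 5, 1] p :=
  H.back (i := 4) (by decide) (f5592 H)

theorem f5594 : g 4 • path g [9, 8, 2, 5, 1, 4] p = path g [9, 8, 2, 9, 5, 1] p :=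
  scan (u := [4]) (w := [4]) (i := 4) (r10_0_0 H) (step (f5592 H) rfl) (step (H.back (i := 9) (by decide) (f5473 H)) rfl)

theorem f5596 : g 5 • path g [9, 8, 2, 5, 1, 4] p = path g [4, 8, 2, 1, 4] p :=
  scan (u := [4]) (w := [9, 0]) (i := 5) (r13_0_3 H) (step (f5592 H) rfl) (step (H.back (i := 4) (by decide) (f5045 H)) (step (H.back (i := 5) (by decide) (f1760 H)) rfl))

theorem f5598 : g 0 • path g [9, 8, 2, 5, 1, 4] p = path g [4, 8, 2, 1, 4] p :=
  scan (u := [4]) (w := [9, 5]) (i := 0) (r13_1_2 H) (step (f5592 H) rfl) (step (H.back (i := 4) (by decide) (f5045 H)) (step (H.back (i := 0) (by decide) (f1757 H)) rfl))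

theorem f5599 : g 5 • path g [4, 8, 2, 1, 4] p = path g [9, 8, 2, 5, 1, 4] p :=
  H.back (i := 0) (by decide) (f5598 H)

theorem f5600 : g 6 • path g [9, 8, 2, 5, 1, 4] p = path g [9, 8, 2, 5, 4] p :=
  scan (u := [4]) (w := [9, 1]) (i := 6) (r14_0_1 H) (step (f5592 H) rfl) (step (H.back (i := 4) (by decide) (f1430 H)) (step (H.back (i := 6) (by decide) (f1427 H)) rfl))

theorem f5602 : g 1 • path g [9, 8, 2, 5, 1, 4] p = path g [9, 8, 2, 5, 6, 4] p :=
  scan (u := [4]) (w := [9, 6]) (i := 1) (r14_1_0 H) (step (f5592 H) rfl) (step (H.back (i := 4) (by decide) (f5576 H)) (step (H.back (i := 1) (by decide) (f1428 H)) rfl))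

theorem f5604 : g 2 • path g [9, 8, 2, 5, 4] p = path g [9, 8, 2, 5, 4, 2] p :=
  rfl

theorem f5605 : g 7 • path g [9, 8, 2, 5, 4, 2] p = path g [9, 8, 2, 5, 4] p :=
  H.back (i := 2) (by decide) (f5604 H)

theorem f5606 : g 2 • path g [9, 8, 2, 5, 4, 2] p = path g [9, 8, 2, 5, 4] p :=
  scan (u := [2]) (w := []) (i := 2) (r2_0_0 H) (step (f5604 H) rfl) rfl

theorem f5607 : g 7 • path g [9, 8, 2, 5, 4] p = path g [9, 8, 2, 5, 4, 2] p :=
  H.back (i := 2) (by decide) (f5606 H)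

theorem f5608 : g 3 • path g [9, 8, 2, 5, 4, 2] p = path g [4, 2, 3, 6, 5] p :=
  scan (u := [2]) (w := [6, 5, 7, 6, 5, 7, 5, 8]) (i := 3) (r7_0_0 H) (step (f5604 H) rfl) (step (H.back (i := 1) (by decide) (f5530 H)) (step (H.back (i := 0) (by decide) (f5537 H)) (step (H.back (i := 2) (by decide) (f3639 H)) (step (H.back (i := 1) (by decide) (f1282 H)) (step (H.back (i := 0) (by decide) (f5073 H)) (step (H.back (i := 2) (by decide) (f5075 H)) (step (H.back (i := 0) (by decide) (f1635 H)) (step (H.back (i := 3) (by decide) (f2859 H)) rfl))))))))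

theorem f5609 : g 8 • path g [4, 2, 3, 6, 5] p = path g [9, 8, 2, 5, 4, 2] p :=
  H.back (i := 3) (by decide) (f5608 H)

theorem f5610 : g 9 • path g [9, 8, 2, 6, 8] p = path g [9, 8, 2, 6, 8, 9] p :=
  rfl

theorem f5611 : g 4 • path g [9, 8, 2, 6, 8, 9] p = path g [9, 8, 2, 6, 8] p :=
  H.back (i := 9) (by decide) (f5610 H)

theorem f5612 : g 8 • path g [9, 8, 2, 6, 8, 9] p = path g [9, 8, 2, 6, 4] p :=
  scan (u := [9]) (w := [9, 8]) (i := 8) (r15_1_1 H) (step (f5610 H) rfl) (step (H.back (i := 4) (by decide) (f1678 H)) (step (H.back (i := 3) (by decide) (f1669 H)) rfl))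

theorem f5613 : g 3 • path g [9, 8, 2, 6, 4] p = path g [9, 8, 2, 6, 8, 9] p :=
  H.back (i := 8) (by decide) (f5612 H)

theorem f5614 : g 5 • path g [9, 8, 2, 6, 8] p = path g [9, 8, 2, 6, 8, 5] p :=
  rfl

theorem f5615 : g 0 • path g [9, 8, 2, 6, 8, 5] p = path g [9, 8, 2, 6, 8] p :=
  H.back (i := 5) (by decide) (f5614 H)

theorem f5616 : g 5 • path g [9, 8, 2, 6, 8, 5] p = path g [9, 8, 2, 6, 8] p :=
  scan (u := [5]) (w := []) (i := 5) (r0_1_0 H) (step (f5614 H) rfl) rfl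

theorem f5617 : g 0 • path g [9, 8, 2, 6, 8] p = path g [9, 8, 2, 6, 8, 5] p :=
  H.back (i := 5) (by decide) (f5616 H)

theorem f5618 : g 7 • path g [9, 8, 2, 6, 8, 5] p = path g [3, 1, 3, 9, 5] p :=
  scan (u := [5]) (w := [4, 2, 0, 2, 0, 2, 0, 2, 0, 4, 5, 7, 5, 7, 5, 7]) (i := 7) (r11_0_12 H) (step (f5614 H) rfl) (step (H.back (i := 9) (by decide) (f4917 H)) (step (H.back (i := 7) (by decide) (f4296 H)) (step (H.back (i := 5) (by decide) (f1158 H)) (step (H.back (i := 7) (by decide) (f4069 H)) (step (H.back (i := 5) (by decide) (f848 H)) (step (H.back (i := 7) (by decide) (f4316 H)) (step (H.back (i := 5) (by decide) (f846 H)) (step (H.back (i := 7) (by decide) (f4181 H)) (step (H.back (i := 5) (by decide) (f1160 H)) (step (H.back (i := 9) (by decide) (f4653 H)) (step (H.back (i := 0) (by decide) (f4652 H)) (step (H.back (i := 2) (by decide) (f3865 H)) (step (H.back (i := 0) (by decide) (f3771 H)) (step (H.back (i := 2) (by decide)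 (f4603 H)) (step (H.back (i := 0) (by decide) (f5258 H)) (step (H.back (i := 2) (by decide) (f5257 H)) rfl))))))))))))))))

theorem f5620 : path g [9, 2, 8, 2, 1] p = path g [9, 8, 1, 8, 4] p :=
  close (u := [0, 2, 3, 5, 6, 7, 5, 6]) (w := [8, 0, 2]) (r8_0_1 H) (step (f5615 H) (step (f5257 H) (step (f5255 H) (step (f5268 H) (step (f5272 H) (step (f5319 H) (step (f5316 H) (step (f3292 H) rfl)))))))) (step (H.back (i := 3) (by decide) (f2927 H)) (step (H.back (i := 5) (by decide) (f4912 H)) (step (H.back (i := 7) (by decide) (f5618 H)) rfl)))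

theorem f5621 : g 6 • path g [9, 8, 1, 8, 4] p = path g [9, 2, 8, 2] p :=
  (congrArg (g 6 • ·) (f5620 H).symm).trans (f3290 H)

theorem f5623 : g 1 • path g [9, 2, 8, 2] p = path g [9, 8, 1, 8, 4] p :=
  H.back (i := 6) (by decide) (f5621 H)

theorem f5624 : g 1 • path g [9, 8, 1, 8, 4] p = path g [9, 2, 8, 2, 6] p :=
  (congrArg (g 1 • ·) (f5620 H).symm).trans (f3291 H)

theorem f5627 : g 2 • path g [9, 8, 1, 8, 4] p = path g [9, 2, 8, 6] p :=
  (congrArg (g 2 • ·) (f5620 H).symm).trans (f3293 H)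

theorem f5629 : g 7 • path g [9, 2, 8, 6] p = path g [9, 8, 1, 8, 4] p :=
  H.back (i := 2) (by decide) (f5627 H)

theorem f5630 : g 7 • path g [9, 8, 1, 8, 4] p = path g [9, 2, 8, 6] p :=
  (congrArg (g 7 • ·) (f5620 H).symm).trans (f3296 H)

theorem f5632 : g 2 • path g [9, 2, 8, 6] p = path g [9, 8, 1, 8, 4] p :=
  H.back (i := 7) (by decide) (f5630 H)

theorem f5633 : path g [9, 8, 2, 9, 5, 2] p = path g [3, 1, 3, 9] p :=
  close (u := [0, 2, 0, 2, 0, 9, 5, 7, 5, 7, 5, 7, 5, 7, 9, 2]) (w := [0, 2]) (r11_1_7 H) (step (f5615 H) (step (f5257 H) (step (f5258 H) (step (f4603 H) (step (f3771 H) (step (f1567 H) (step (f3398 H) (step (f261 H) (step (f2785 H) (step (f167 H) (step (f2196 H) (step (f1469 H) (step (f2169 H) (step (f2156 H) (step (f1365 H) (step (f5452 H) rfl)))))))))))))))) (step (H.back (i := 5) (by decide) (f4912 H)) (step (H.back (i := 7) (by decide) (f5618 H)) rfl))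

theorem f5636 : g 2 • path g [3, 1, 3, 9] p = path g [9, 8, 2, 9, 5] p :=
  (congrArg (g 2 • ·) (f5633 H).symm).trans (f5454 H)

theorem f5637 : path g [3, 1, 3, 9, 2] p = path g [9, 8, 2, 9, 5] p :=
  (f4906 H).symm.trans (f5636 H)

theorem f5639 : g 7 • path g [9, 8, 2, 9, 5] p = path g [3, 1, 3, 9] p :=
  (f5455 H).trans (f5633 H)

theorem f5642 : g 2 • path g [9, 8, 2, 9, 5] p = path g [3, 1, 3, 9] p :=
  (f5452 H).trans (f5633 H)

theorem f5644 : g 7 • path g [3, 1, 3, 9] p = path g [9, 8, 2, 9, 5] p :=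
  (f4909 H).trans (f5637 H)

theorem f5645 : g 4 • path g [9, 2, 8, 2, 6] p = path g [3, 9, 1, 3, 1] p :=
  scan (u := [1]) (w := [6, 9]) (i := 4) (r14_0_0 H) (step (f5624 H) rfl) (step (H.back (i := 1) (by decide) (f4683 H)) (step (H.back (i := 4) (by decide) (f2923 H)) rfl))

theorem f5647 : g 9 • path g [9, 2, 8, 2, 6] p = path g [9, 8, 1, 8, 1] p :=
  scan (u := [1]) (w := [6, 4]) (i := 9) (r14_1_1 H) (step (f5624 H) rfl) (step (H.back (i := 1) (by decide) (f2917 H)) (step (H.back (i := 9) (by decide) (f2922 H)) rfl))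

theorem f5648 : g 4 • path g [9, 8, 1, 8, 1] p = path g [9, 2, 8, 2, 6] p :=
  H.back (i := 9) (by decide) (f5647 H)

theorem f5649 : path g [9, 2, 9, 8, 5] p = path g [3, 9, 1, 3, 6] p :=
  close (u := [1, 1, 0, 1, 4, 6, 5]) (w := [6, 6, 9]) (r12_0_0 H) (step (f5624 H) (step (f3254 H) (step (f3135 H) (step (f538 H) (step (f2968 H) (step (f2964 H) (step (f2953 H) rfl))))))) (step (H.back (i := 1) (by decide) (f4685 H)) (step (H.back (i := 1) (by decide) (f4683 H)) (step (H.back (i := 4) (by decide) (f2923 H)) rfl)))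

theorem f5650 : path g [3, 9, 1, 3, 6] p = path g [9, 2, 9, 8, 5] p :=
  (f5649 H).symm

theorem f5651 : g 1 • path g [9, 2, 9, 8, 5] p = path g [3, 9, 1, 3] p :=
  (congrArg (g 1 • ·) (f5650 H).symm).trans (f4680 H)

theorem f5653 : g 6 • path g [3, 9, 1, 3] p = path g [9, 2, 9, 8, 5] p :=
  H.back (i := 1) (by decide) (f5651 H)

theorem f5654 : g 4 • path g [9, 2, 9, 8, 5] p = path g [9, 8, 1, 8, 6] p :=
  (congrArg (g 4 • ·) (f5650 H).symm).trans (f4681 H)

theorem f5655 : path g [9, 2, 8, 2, 9] p = path g [9, 8, 1, 8, 6] p :=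
  (f3143 H).symm.trans (f5654 H)

theorem f5656 : g 6 • path g [9, 2, 9, 8, 5] p = path g [3, 9, 1, 3, 1] p :=
  (congrArg (g 6 • ·) (f5650 H).symm).trans (f4686 H)

theorem f5658 : g 1 • path g [3, 9, 1, 3, 1] p = path g [9, 2, 9, 8, 5] p :=
  H.back (i := 6) (by decide) (f5656 H)

theorem f5659 : g 4 • path g [9, 8, 1, 8, 6] p = path g [9, 2, 8, 2] p :=
  (congrArg (g 4 • ·) (f5655 H).symm).trans (f3060 H)

theorem f5663 : g 9 • path g [9, 8, 1, 8, 6] p = path g [9, 2, 9, 8, 5] p :=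
  (f4682 H).trans (f5650 H)

theorem f5665 : g 5 • path g [9, 8, 1, 8, 6] p = path g [9, 2, 3, 9] p :=
  (congrArg (g 5 • ·) (f5655 H).symm).trans (f3147 H)

theorem f5667 : g 0 • path g [9, 2, 3, 9] p = path g [9, 8, 1, 8, 6] p :=
  H.back (i := 5) (by decide) (f5665 H)

theorem f5668 : g 0 • path g [9, 8, 1, 8, 6] p = path g [9, 2, 3, 9] p :=
  (congrArg (g 0 • ·) (f5655 H).symm).trans (f3149 H)

theorem f5670 : g 5 • path g [9, 2, 3, 9] p = path g [9, 8, 1, 8, 6] p :=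
  H.back (i := 0) (by decide) (f5668 H)

theorem f5671 : g 8 • path g [9, 8, 1, 8, 6] p = path g [8, 9, 2, 8, 4] p :=
  (congrArg (g 8 • ·) (f5655 H).symm).trans (f3856 H)

theorem f5673 : g 3 • path g [8, 9, 2, 8, 4] p = path g [9, 8, 1, 8, 6] p :=
  H.back (i := 8) (by decide) (f5671 H)

theorem f5674 : g 4 • path g [9, 2, 9, 8, 5] p = path g [9, 8, 1, 8, 6] p :=
  (f3143 H).trans (f5655 H)

theorem f5675 : path g [9, 2, 5, 8, 1] p = path g [9, 8, 2, 9, 5, 3] p :=
  close (u := [6, 5, 7, 6, 5, 7, 5]) (w := [8, 2, 3]) (r7_0_2 H) (step (f5621 H) (step (f3138 H) (step (f531 H) (step (f3482 H) (step (f3490 H) (step (f3362 H) (step (f3357 H) rfl))))))) (step (H.back (i := 3) (by decide) (f5456 H)) (step (H.back (i := 7) (by decide) (f5644 H)) (step (H.back (i := 8) (by decide) (f2928 H)) rfl)))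

theorem f5676 : path g [9, 8, 2, 9, 5, 3] p = path g [9, 2, 5, 8, 1] p :=
  (f5675 H).symm

theorem f5677 : g 8 • path g [9, 2, 5, 8, 1] p = path g [9, 8, 2, 9, 5] p :=
  (congrArg (g 8 • ·) (f5676 H).symm).trans (f5457 H)

theorem f5679 : g 3 • path g [9, 8, 2, 9, 5] p = path g [9, 2, 5, 8, 1] p :=
  H.back (i := 8) (by decide) (f5677 H)

theorem f5680 : g 3 • path g [9, 2, 5, 8, 1] p = path g [9, 3, 5, 2, 4] p :=
  (congrArg (g 3 • ·) (f5676 H).symm).trans (f5458 H)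

theorem f5683 : g 4 • path g [9, 2, 5, 8, 1] p = path g [4, 8, 5, 6, 3] p :=
  (congrArg (g 4 • ·) (f5676 H).symm).trans (f5460 H)

theorem f5686 : g 9 • path g [9, 2, 5, 8, 1] p = path g [9, 3, 5, 6, 8] p :=
  (congrArg (g 9 • ·) (f5676 H).symm).trans (f5463 H)

theorem f5689 : g 0 • path g [9, 3, 5, 6, 8] p = path g [4, 2, 3, 9, 1] p :=
  scan (u := [9]) (w := [4, 5]) (i := 0) (r13_0_1 H) (step (f5686 H) rfl) (step (H.back (i := 9) (by decide) (f5355 H)) (step (H.back (i := 0) (by decide) (f3356 H)) rfl))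

theorem f5690 : g 5 • path g [4, 2, 3, 9, 1] p = path g [9, 3, 5, 6, 8] p :=
  H.back (i := 0) (by decide) (f5689 H)

theorem f5691 : g 5 • path g [9, 3, 5, 6, 8] p = path g [4, 2, 3, 9, 1] p :=
  scan (u := [9]) (w := [4, 0]) (i := 5) (r13_1_0 H) (step (f5686 H) rfl) (step (H.back (i := 9) (by decide) (f5355 H)) (step (H.back (i := 5) (by decide) (f3358 H)) rfl))

theorem f5692 : g 0 • path g [4, 2, 3, 9, 1] p = path g [9, 3, 5, 6, 8] p :=
  H.back (i := 5) (by decide) (f5691 H)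

theorem f5693 : g 6 • path g [9, 3, 5, 6, 8] p = path g [9, 2, 5, 8, 9] p :=
  scan (u := [9]) (w := [4, 1]) (i := 6) (r14_1_2 H) (step (f5686 H) rfl) (step (H.back (i := 9) (by decide) (f3333 H)) (step (H.back (i := 6) (by decide) (f3351 H)) rfl))

theorem f5694 : g 1 • path g [9, 2, 5, 8, 9] p = path g [9, 3, 5, 6, 8] p :=
  H.back (i := 6) (by decide) (f5693 H)

theorem f5695 : g 1 • path g [9, 2, 5, 8, 4] p = path g [4, 8, 5, 6, 3] p :=
  scan (u := [6, 9]) (w := [4]) (i := 1) (r14_0_2 H) (step (f5693 H) (step (f3411 H) rfl)) (step (H.back (i := 9) (by decide) (f5088 H)) rfl)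

theorem f5697 : g 0 • path g [4, 2, 9, 8, 1] p = path g [4, 8, 5, 6, 3] p :=
  scan (u := [5, 9]) (w := [4]) (i := 0) (r13_0_0 H) (step (f5691 H) (step (f5356 H) rfl)) (step (H.back (i := 9) (by decide) (f5088 H)) rfl)

theorem f5699 : g 0 • path g [4, 8, 5, 6, 3] p = path g [4, 2, 9, 8, 1] p :=
  scan (u := [0]) (w := []) (i := 0) (r0_0_0 H) (step (f5697 H) rfl) rfl

theorem f5700 : g 5 • path g [4, 2, 9, 8, 1] p = path g [4, 8, 5, 6, 3] p :=
  H.back (i := 0) (by decide) (f5699 H)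

theorem f5701 : g 7 • path g [3, 1, 3, 9, 5] p = path g [9, 8, 2, 6, 8, 5] p :=
  scan (u := [8, 7, 5]) (w := [5, 3, 1, 0, 2, 1, 0]) (i := 7) (r8_1_7 H) (step (f5677 H) (step (f5639 H) (step (f4910 H) rfl))) (step (H.back (i := 0) (by decide) (f5617 H)) (step (H.back (i := 8) (by decide) (f1668 H)) (step (H.back (i := 6) (by decide) (f380 H)) (step (H.back (i := 5) (by decide) (f374 H)) (step (H.back (i := 7) (by decide) (f2156 H)) (step (H.back (i := 6) (by decide) (f1337 H)) (step (H.back (i := 5) (by decide) (f3358 H)) rfl)))))))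

theorem f5703 : g 2 • path g [3, 1, 3, 9] p = path g [9, 8, 2, 9, 5] p :=
  (f4906 H).trans (f5637 H)

theorem f5704 : g 6 • path g [9, 8, 2, 6, 8] p = path g [9, 8, 2, 6, 8, 6] p :=
  rfl

theorem f5705 : g 1 • path g [9, 8, 2, 6, 8, 6] p = path g [9, 8, 2, 6, 8] p :=
  H.back (i := 6) (by decide) (f5704 H)

theorem f5706 : g 1 • path g [9, 8, 2, 6, 8] p = path g [9, 8, 2, 6, 8, 1] p :=
  rfl

theorem f5707 : g 6 • path g [9, 8, 2, 6, 8, 1] p = path g [9, 8, 2, 6, 8] p :=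
  H.back (i := 1) (by decide) (f5706 H)

theorem f5708 : g 1 • path g [9, 8, 2, 6, 8, 1] p = path g [9, 8, 2, 6, 8, 6] p :=
  scan (u := [1]) (w := [1]) (i := 1) (r1_0_0 H) (step (f5706 H) rfl) (step (H.back (i := 6) (by decide) (f5704 H)) rfl)

theorem f5709 : g 6 • path g [9, 8, 2, 6, 8, 6] p = path g [9, 8, 2, 6, 8, 1] p :=
  H.back (i := 1) (by decide) (f5708 H)

theorem f5710 : g 4 • path g [9, 8, 2, 6, 8] p = path g [9, 8, 2, 6, 8, 4] p :=
  rfl

theorem f5711 : g 9 • path g [9, 8, 2, 6, 8, 4] p = path g [9, 8, 2, 6, 8] p :=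
  H.back (i := 4) (by decide) (f5710 H)

theorem f5712 : g 4 • path g [9, 8, 2, 6, 8, 4] p = path g [9, 8, 2, 6, 8, 9] p :=
  scan (u := [4]) (w := [4]) (i := 4) (r10_0_0 H) (step (f5710 H) rfl) (step (H.back (i := 9) (by decide) (f5610 H)) rfl)

theorem f5713 : g 9 • path g [9, 8, 2, 6, 8, 9] p = path g [9, 8, 2, 6, 8, 4] p :=
  H.back (i := 4) (by decide) (f5712 H)

theorem f5714 : g 9 • path g [9, 8, 2, 6, 3] p = path g [9, 8, 2, 6, 3, 9] p :=
  rfl

theorem f5718 : g 8 • path g [9, 8, 2, 6, 3, 9] p = path g [9, 8, 2, 6, 8, 4] p :=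
  scan (u := [9]) (w := [9, 8]) (i := 8) (r15_1_1 H) (step (f5714 H) rfl) (step (H.back (i := 4) (by decide) (f5710 H)) (step (H.back (i := 3) (by decide) (f1676 H)) rfl))

theorem f5719 : g 3 • path g [9, 8, 2, 6, 8, 4] p = path g [9, 8, 2, 6, 3, 9] p :=
  H.back (i := 8) (by decide) (f5718 H)

theorem f5720 : g 2 • path g [9, 8, 2, 6, 3] p = path g [9, 8, 2, 6, 3, 2] p :=
  rfl

theorem f5722 : g 2 • path g [9, 8, 2, 6, 3, 2] p = path g [9, 8, 2, 6, 3] p :=
  scan (u := [2]) (w := []) (i := 2) (r2_0_0 H) (step (f5720 H) rfl) rfl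

theorem f5723 : g 7 • path g [9, 8, 2, 6, 3] p = path g [9, 8, 2, 6, 3, 2] p :=
  H.back (i := 2) (by decide) (f5722 H)

theorem f5734 : g 8 • path g [9, 8, 2, 6, 4] p = path g [9, 8, 2, 6, 4, 8] p :=
  rfl

theorem f5736 : g 8 • path g [9, 8, 2, 6, 4, 8] p = path g [9, 8, 2, 6, 8, 9] p :=
  scan (u := [8]) (w := [8]) (i := 8) (r6_1_0 H) (step (f5734 H) rfl) (step (H.back (i := 3) (by decide) (f5613 H)) rfl)

theorem f5738 : g 9 • path g [9, 8, 2, 6, 4, 8] p = path g [9, 8, 2, 9, 6, 3] p :=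
  scan (u := [8]) (w := [8, 9]) (i := 9) (r15_1_0 H) (step (f5734 H) rfl) (step (H.back (i := 3) (by decide) (f5482 H)) (step (H.back (i := 4) (by decide) (f1680 H)) rfl))

theorem f5740 : g 2 • path g [9, 8, 2, 6, 4] p = path g [9, 8, 2, 6, 4, 2] p :=
  rfl

theorem f5742 : g 2 • path g [9, 8, 2, 6, 4, 2] p = path g [9, 8, 2, 6, 4] p :=
  scan (u := [2]) (w := []) (i := 2) (r2_0_0 H) (step (f5740 H) rfl) rfl

theorem f5744 : g 1 • path g [9, 8, 2, 4, 2] p = path g [9, 8, 2, 6, 4, 2] p :=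
  scan (u := [2, 1, 2]) (w := []) (i := 1) (r3_0_1 H) (step (f5742 H) (step (f1682 H) (step (f1711 H) rfl))) rfl

theorem f5745 : g 6 • path g [9, 8, 2, 6, 4, 2] p = path g [9, 8, 2, 4, 2] p :=
  H.back (i := 1) (by decide) (f5744 H)

theorem f5746 : g 9 • path g [9, 8, 2, 1, 8] p = path g [9, 8, 2, 1, 8, 9] p :=
  rfl

theorem f5747 : g 4 • path g [9, 8, 2, 1, 8, 9] p = path g [9, 8, 2, 1, 8] p :=
  H.back (i := 9) (by decide) (f5746 H)

theorem f5748 : g 8 • path g [9, 8, 2, 1, 8, 9] p = path g [9, 8, 2, 1, 4] p :=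
  scan (u := [9]) (w := [9, 8]) (i := 8) (r15_1_1 H) (step (f5746 H) rfl) (step (H.back (i := 4) (by decide) (f1694 H)) (step (H.back (i := 3) (by decide) (f1685 H)) rfl))

theorem f5749 : g 3 • path g [9, 8, 2, 1, 4] p = path g [9, 8, 2, 1, 8, 9] p :=
  H.back (i := 8) (by decide) (f5748 H)

theorem f5750 : g 2 • path g [9, 8, 2, 1, 8] p = path g [9, 8, 2, 1, 8, 2] p :=
  rfl

theorem f5751 : g 7 • path g [9, 8, 2, 1, 8, 2] p = path g [9, 8, 2, 1, 8] p :=
  H.back (i := 2) (by decide) (f5750 H)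

theorem f5752 : g 2 • path g [9, 8, 2, 1, 8, 2] p = path g [9, 8, 2, 1, 8] p :=
  scan (u := [2]) (w := []) (i := 2) (r2_0_0 H) (step (f5750 H) rfl) rfl

end CfsgQS3.Zero.CertA
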