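import Cfsg.Agent.Lib.QS3.Zero.Cert.A1

/-!
Groups with an involution centraliser `Q.S₃`: a certificate of coset enumeration for the type 0, case A, part 2.
-/

set_option autoImplicit false
set_option maxRecDepth 10000
set_option linter.unusedSectionVars false

namespace CfsgQS3.Zero.CertA

variable {M α : Type*} [Group M] [MulAction M α] {g : ℕ → M} {p : α} (H : CosetData relsA 3 g p)
include H

theorem r4_0_1 : ∀ x : α, path g [6, 6, 0, 1, 0, 1, 0] x = x :=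
  trivial_rot 1 (H.trivial_rev (i := 4) (by decide)) (by decide)

theorem r4_0_3 : ∀ x : α, path g [0, 1, 0, 1, 0, 6, 6] x = x :=
  trivial_rot 3 (H.trivial_rev (i := 4) (by decide)) (by decide)

theorem r5_0_7 : ∀ x : α, path g [2, 1, 0, 6, 2, 0, 6, 2, 0, 2, 1, 0] x = x :=
  trivial_rot 7 (H.trivial_rev (i := 5) (by decide)) (by decide)

theorem r7_0_7 : ∀ x : α, path g [7, 5, 8, 2, 3, 6, 5, 7, 6, 5] x = x :=
  trivial_rot 7 (H.trivial_rev (i := 7) (by decide)) (by decide)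

theorem r8_0_2 : ∀ x : α, path g [2, 3, 5, 6, 7, 5, 6, 8, 0, 2, 0] x = x :=
  trivial_rot 2 (H.trivial_rev (i := 8) (by decide)) (by decide)

theorem r8_0_3 : ∀ x : α, path g [3, 5, 6, 7, 5, 6, 8, 0, 2, 0, 2] x = x :=
  trivial_rot 3 (H.trivial_rev (i := 8) (by decide)) (by decide)

theorem r8_0_4 : ∀ x : α, path g [5, 6, 7, 5, 6, 8, 0, 2, 0, 2, 3] x = x :=
  trivial_rot 4 (H.trivial_rev (i := 8) (by decide)) (by decide)

theorem r8_0_7 : ∀ x : α, path g [5, 6, 8, 0, 2, 0, 2, 3, 5, 6, 7] x = x :=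
  trivial_rot 7 (H.trivial_rev (i := 8) (by decide)) (by decide)

theorem r8_1_4 : ∀ x : α, path g [2, 1, 0, 8, 7, 5, 7, 5, 3, 1, 0] x = x :=
  trivial_rot 4 (H.trivial_inv (i := 8) (by decide) (by decide)) (by decide)

theorem r8_1_5 : ∀ x : α, path g [1, 0, 8, 7, 5, 7, 5, 3, 1, 0, 2] x = x :=
  trivial_rot 5 (H.trivial_inv (i := 8) (by decide) (by decide)) (by decide)

theorem r8_1_6 : ∀ x : α, path g [0, 8, 7, 5, 7, 5, 3, 1, 0, 2, 1] x = x :=
  trivial_rot 6 (H.trivial_inv (i := 8) (by decide) (by decide)) (by decide)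

theorem r9_0_2 : ∀ x : α, path g [6, 8, 0, 2, 0, 1, 2, 0, 1, 3, 5, 6, 5, 7, 5] x = x :=
  trivial_rot 2 (H.trivial_rev (i := 9) (by decide)) (by decide)

theorem r9_0_3 : ∀ x : α, path g [8, 0, 2, 0, 1, 2, 0, 1, 3, 5, 6, 5, 7, 5, 6] x = x :=
  trivial_rot 3 (H.trivial_rev (i := 9) (by decide)) (by decide)

theorem r9_0_4 : ∀ x : α, path g [0, 2, 0, 1, 2, 0, 1, 3, 5, 6, 5, 7, 5, 6, 8] x = x :=
  trivial_rot 4 (H.trivial_rev (i := 9) (by decide)) (by decide)

theorem r9_0_5 : ∀ x : α, path g [2, 0, 1, 2, 0, 1, 3, 5, 6, 5, 7, 5, 6, 8, 0] x = x :=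
  trivial_rot 5 (H.trivial_rev (i := 9) (by decide)) (by decide)

theorem r9_0_6 : ∀ x : α, path g [0, 1, 2, 0, 1, 3, 5, 6, 5, 7, 5, 6, 8, 0, 2] x = x :=
  trivial_rot 6 (H.trivial_rev (i := 9) (by decide)) (by decide)

theorem r9_0_11 : ∀ x : α, path g [3, 5, 6, 5, 7, 5, 6, 8, 0, 2, 0, 1, 2, 0, 1] x = x :=
  trivial_rot 11 (H.trivial_rev (i := 9) (by decide)) (by decide)

theorem r9_0_12 : ∀ x : α, path g [5, 6, 5, 7, 5, 6, 8, 0, 2, 0, 1, 2, 0, 1, 3] x = x :=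
  trivial_rot 12 (H.trivial_rev (i := 9) (by decide)) (by decide)

theorem r9_1_1 : ∀ x : α, path g [1, 0, 8, 6, 5, 7, 6, 5, 7, 5, 3, 1, 0, 2, 0] x = x :=
  trivial_rot 1 (H.trivial_inv (i := 9) (by decide) (by decide)) (by decide)

theorem r9_1_6 : ∀ x : α, path g [7, 6, 5, 7, 5, 3, 1, 0, 2, 0, 1, 0, 8, 6, 5] x = x :=
  trivial_rot 6 (H.trivial_inv (i := 9) (by decide) (by decide)) (by decide)

theorem r9_1_8 : ∀ x : α, path g [5, 7, 5, 3, 1, 0, 2, 0, 1, 0, 8, 6, 5, 7, 6] x = x :=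
  trivial_rot 8 (H.trivial_inv (i := 9) (by decide) (by decide)) (by decide)

theorem r9_1_11 : ∀ x : α, path g [3, 1, 0, 2, 0, 1, 0, 8, 6, 5, 7, 6, 5, 7, 5] x = x :=
  trivial_rot 11 (H.trivial_inv (i := 9) (by decide) (by decide)) (by decide)

theorem r11_0_0 : ∀ x : α, path g [0, 2, 0, 2, 0, 4, 5, 7, 5, 7, 5, 7, 5, 7, 4, 2, 0, 2] x = x :=
  trivial_rot 0 (H.trivial_rev (i := 11) (by decide)) (by decide)

theorem r11_0_4 : ∀ x : α, path g [0, 4, 5, 7, 5, 7, 5, 7, 5, 7, 4, 2, 0, 2, 0, 2, 0, 2] x = x :=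
  trivial_rot 4 (H.trivial_rev (i := 11) (by decide)) (by decide)

theorem r11_0_13 : ∀ x : α, path g [7, 4, 2, 0, 2, 0, 2, 0, 2, 0, 4, 5, 7, 5, 7, 5, 7, 5] x = x :=
  trivial_rot 13 (H.trivial_rev (i := 11) (by decide)) (by decide)

theorem r11_1_2 : ∀ x : α, path g [7, 9, 2, 0, 2, 0, 2, 0, 2, 0, 9, 5, 7, 5, 7, 5, 7, 5] x = x :=
  trivial_rot 2 (H.trivial_inv (i := 11) (by decide) (by decide)) (by decide)

theorem r11_1_10 : ∀ x : α, path g [2, 0, 9, 5, 7, 5, 7, 5, 7, 5, 7, 9, 2, 0, 2, 0, 2, 0] x = x :=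
  trivial_rot 10 (H.trivial_inv (i := 11) (by decide) (by decide)) (by decide)

theorem r12_0_1 : ∀ x : α, path g [1, 0, 1, 4, 6, 5, 6, 6, 9, 1] x = x :=
  trivial_rot 1 (H.trivial_rev (i := 12) (by decide)) (by decide)

theorem r12_0_6 : ∀ x : α, path g [5, 6, 6, 9, 1, 1, 0, 1, 4, 6] x = x :=
  trivial_rot 6 (H.trivial_rev (i := 12) (by decide)) (by decide)

theorem r12_1_2 : ∀ x : α, path g [1, 0, 1, 9, 6, 5, 6, 6, 4, 1] x = x :=
  trivial_rot 2 (H.trivial_inv (i := 12) (by decide) (by decide)) (by decide)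

theorem r13_0_2 : ∀ x : α, path g [0, 4, 5, 9] x = x :=
  trivial_rot 2 (H.trivial_rev (i := 13) (by decide)) (by decide)

theorem f5753 : g 7 • path g [9, 8, 2, 1, 8] p = path g [9, 8, 2, 1, 8, 2] p :=
  H.back (i := 2) (by decide) (f5752 H)

theorem f5754 : g 3 • path g [9, 8, 2, 1, 8, 2] p = path g [9, 3, 5, 2, 1] p :=
  scan (u := [2]) (w := [6, 5, 7, 6, 5, 7, 5, 8]) (i := 3) (r7_0_0 H) (step (f5750 H) rfl) (step (H.back (i := 1) (by decide) (f3707 H)) (step (H.back (i := 0) (by decide) (f3403 H)) (step (H.back (i := 2) (by decide) (f3427 H)) (step (H.back (i := 1) (by decide) (f3501 H)) (step (H.back (i := 0) (by decide) (f3499 H)) (step (H.back (i := 2) (by decide) (f3152 H)) (step (H.back (i := 0) (by decide) (f1689 H)) (step (H.back (i := 3) (by decide) (f1685 H)) rfl))))))))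

theorem f5756 : g 5 • path g [9, 8, 2, 1, 8] p = path g [9, 8, 2, 1, 8, 5] p :=
  rfl

theorem f5758 : g 5 • path g [9, 8, 2, 1, 8, 5] p = path g [9, 8, 2, 1, 8] p :=
  scan (u := [5]) (w := []) (i := 5) (r0_1_0 H) (step (f5756 H) rfl) rfl

theorem f5759 : g 0 • path g [9, 8, 2, 1, 8] p = path g [9, 8, 2, 1, 8, 5] p :=
  H.back (i := 5) (by decide) (f5758 H)

theorem f5760 : g 6 • path g [9, 8, 2, 1, 8] p = path g [9, 8, 2, 1, 8, 6] p :=
  rfl

theorem f5762 : g 1 • path g [9, 8, 2, 1, 8] p = path g [9, 8, 2, 1, 8, 1] p :=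
  rfl

theorem f5764 : g 1 • path g [9, 8, 2, 1, 8, 1] p = path g [9, 8, 2, 1, 8, 6] p :=
  scan (u := [1]) (w := [1]) (i := 1) (r1_0_0 H) (step (f5762 H) rfl) (step (H.back (i := 6) (by decide) (f5760 H)) rfl)

theorem f5765 : g 6 • path g [9, 8, 2, 1, 8, 6] p = path g [9, 8, 2, 1, 8, 1] p :=
  H.back (i := 1) (by decide) (f5764 H)

theorem f5766 : g 4 • path g [9, 8, 2, 1, 8] p = path g [9, 8, 2, 1, 8, 4] p :=
  rfl

theorem f5768 : g 4 • path g [9, 8, 2, 1, 8, 4] p = path g [9, 8, 2, 1, 8, 9] p :=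
  scan (u := [4]) (w := [4]) (i := 4) (r10_0_0 H) (step (f5766 H) rfl) (step (H.back (i := 9) (by decide) (f5746 H)) rfl)

theorem f5769 : g 9 • path g [9, 8, 2, 1, 8, 9] p = path g [9, 8, 2, 1, 8, 4] p :=
  H.back (i := 4) (by decide) (f5768 H)

theorem f5770 : g 8 • path g [9, 8, 2, 1, 5] p = path g [9, 8, 2, 1, 5, 8] p :=
  rfl

theorem f5771 : g 3 • path g [9, 8, 2, 1, 5, 8] p = path g [9, 8, 2, 1, 5] p :=
  H.back (i := 8) (by decide) (f5770 H)

theorem f5772 : g 2 • path g [9, 8, 2, 1, 5, 8] p = path g [9, 8, 2, 5, 1, 8] p :=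
  scan (u := [8]) (w := [3, 6, 5, 7, 6, 5, 7, 5]) (i := 2) (r7_0_9 H) (step (f5770 H) rfl) (step (H.back (i := 8) (by decide) (f5586 H)) (step (H.back (i := 1) (by decide) (f1426 H)) (step (H.back (i := 0) (by decide) (f375 H)) (step (H.back (i := 2) (by decide) (f102 H)) (step (H.back (i := 1) (by decide) (f113 H)) (step (H.back (i := 0) (by decide) (f212 H)) (step (H.back (i := 2) (by decide) (f390 H)) (step (H.back (i := 0) (by decide) (f1687 H)) rfl))))))))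

theorem f5774 : g 7 • path g [9, 8, 2, 1, 5, 8] p = path g [9, 8, 2, 5, 1, 8] p :=
  scan (u := [8]) (w := [3, 0, 2, 0, 1, 2, 0, 1]) (i := 7) (r7_1_8 H) (step (f5770 H) rfl) (step (H.back (i := 8) (by decide) (f5586 H)) (step (H.back (i := 5) (by decide) (f1758 H)) (step (H.back (i := 7) (by decide) (f1189 H)) (step (H.back (i := 5) (by decide) (f1643 H)) (step (H.back (i := 6) (by decide) (f338 H)) (step (H.back (i := 7) (by decide) (f329 H)) (step (H.back (i := 5) (by decide) (f3122 H)) (step (H.back (i := 6) (by decide) (f3127 H)) rfl))))))))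

theorem f5776 : g 0 • path g [9, 8, 2, 1, 5, 8] p = path g [9, 8, 2, 4, 2] p :=
  scan (u := [8]) (w := [2, 0, 2, 3, 5, 6, 7, 5, 6]) (i := 0) (r8_0_9 H) (step (f5770 H) rfl) (step (H.back (i := 7) (by decide) (f1714 H)) (step (H.back (i := 5) (by decide) (f1434 H)) (step (H.back (i := 7) (by decide) (f5605 H)) (step (H.back (i := 8) (by decide) (f5609 H)) (step (H.back (i := 0) (by decide) (f5361 H)) (step (H.back (i := 1) (by decide) (f1338 H)) (step (H.back (i := 2) (by decide) (f3361 H)) (step (H.back (i := 0) (by decide) (f3488 H)) (step (H.back (i := 1) (by decide) (f3485 H)) rfl)))))))))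

theorem f5778 : g 0 • path g [9, 8, 2, 4, 2] p = path g [9, 8, 2, 1, 5, 8] p :=
  scan (u := [0]) (w := []) (i := 0) (r0_0_0 H) (step (f5776 H) rfl) rfl

theorem f5780 : g 3 • path g [9, 8, 2, 1, 5] p = path g [9, 8, 2, 1, 5, 3] p :=
  rfl

theorem f5781 : g 8 • path g [9, 8, 2, 1, 5, 3] p = path g [9, 8, 2, 1, 5] p :=
  H.back (i := 3) (by decide) (f5780 H)

theorem f5782 : g 3 • path g [9, 8, 2, 1, 5, 3] p = path g [9, 8, 2, 1, 5, 8] p :=
  scan (u := [3]) (w := [3]) (i := 3) (r6_0_0 H) (step (f5780 H) rfl) (step (H.back (i := 8) (by decide) (f5770 H)) rfl)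

theorem f5783 : g 8 • path g [9, 8, 2, 1, 5, 8] p = path g [9, 8, 2, 1, 5, 3] p :=
  H.back (i := 3) (by decide) (f5782 H)

theorem f5784 : g 9 • path g [9, 8, 2, 1, 3] p = path g [9, 8, 2, 1, 3, 9] p :=
  rfl

theorem f5785 : g 4 • path g [9, 8, 2, 1, 3, 9] p = path g [9, 8, 2, 1, 3] p :=
  H.back (i := 9) (by decide) (f5784 H)

theorem f5786 : g 9 • path g [9, 8, 2, 1, 3, 9] p = path g [9, 8, 2, 9, 1, 8] p :=
  scan (u := [9]) (w := [9]) (i := 9) (r10_1_0 H) (step (f5784 H) rfl) (step (H.back (i := 4) (by decide) (f5489 H)) rfl)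

theorem f5788 : g 8 • path g [9, 8, 2, 1, 3, 9] p = path g [9, 8, 2, 1, 8, 4] p :=
  scan (u := [9]) (w := [9, 8]) (i := 8) (r15_1_1 H) (step (f5784 H) rfl) (step (H.back (i := 4) (by decide) (f5766 H)) (step (H.back (i := 3) (by decide) (f1692 H)) rfl))

theorem f5789 : g 3 • path g [9, 8, 2, 1, 8, 4] p = path g [9, 8, 2, 1, 3, 9] p :=
  H.back (i := 8) (by decide) (f5788 H)

theorem f5790 : g 2 • path g [9, 8, 2, 1, 3] p = path g [9, 8, 2, 1, 3, 2] p :=
  rfl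

theorem f5791 : g 7 • path g [9, 8, 2, 1, 3, 2] p = path g [9, 8, 2, 1, 3] p :=
  H.back (i := 2) (by decide) (f5790 H)

theorem f5792 : g 2 • path g [9, 8, 2, 1, 3, 2] p = path g [9, 8, 2, 1, 3] p :=
  scan (u := [2]) (w := []) (i := 2) (r2_0_0 H) (step (f5790 H) rfl) rfl

theorem f5793 : g 7 • path g [9, 8, 2, 1, 3] p = path g [9, 8, 2, 1, 3, 2] p :=
  H.back (i := 2) (by decide) (f5792 H)

theorem f5794 : g 5 • path g [9, 8, 2, 1, 3] p = path g [9, 8, 2, 1, 3, 5] p :=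
  rfl

theorem f5795 : g 0 • path g [9, 8, 2, 1, 3, 5] p = path g [9, 8, 2, 1, 3] p :=
  H.back (i := 5) (by decide) (f5794 H)

theorem f5796 : g 5 • path g [9, 8, 2, 1, 3, 5] p = path g [9, 8, 2, 1, 3] p :=
  scan (u := [5]) (w := []) (i := 5) (r0_1_0 H) (step (f5794 H) rfl) rfl

theorem f5797 : g 0 • path g [9, 8, 2, 1, 3] p = path g [9, 8, 2, 1, 3, 5] p :=
  H.back (i := 5) (by decide) (f5796 H)

theorem f5798 : g 6 • path g [9, 8, 2, 1, 3] p = path g [9, 8, 2, 1, 3, 6] p :=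
  rfl

theorem f5799 : g 1 • path g [9, 8, 2, 1, 3, 6] p = path g [9, 8, 2, 1, 3] p :=
  H.back (i := 6) (by decide) (f5798 H)

theorem f5800 : g 1 • path g [9, 8, 2, 1, 3] p = path g [9, 8, 2, 1, 3, 1] p :=
  rfl

theorem f5801 : g 6 • path g [9, 8, 2, 1, 3, 1] p = path g [9, 8, 2, 1, 3] p :=
  H.back (i := 1) (by decide) (f5800 H)

theorem f5802 : g 1 • path g [9, 8, 2, 1, 3, 1] p = path g [9, 8, 2, 1, 3, 6] p :=
  scan (u := [1]) (w := [1]) (i := 1) (r1_0_0 H) (step (f5800 H) rfl) (step (H.back (i := 6) (by decide) (f5798 H)) rfl)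

theorem f5803 : g 6 • path g [9, 8, 2, 1, 3, 6] p = path g [9, 8, 2, 1, 3, 1] p :=
  H.back (i := 1) (by decide) (f5802 H)

theorem f5804 : g 8 • path g [9, 8, 2, 1, 4] p = path g [9, 8, 2, 1, 4, 8] p :=
  rfl

theorem f5806 : g 8 • path g [9, 8, 2, 1, 4, 8] p = path g [9, 8, 2, 1, 8, 9] p :=
  scan (u := [8]) (w := [8]) (i := 8) (r6_1_0 H) (step (f5804 H) rfl) (step (H.back (i := 3) (by decide) (f5749 H)) rfl)

theorem f5808 : g 9 • path g [9, 8, 2, 1, 4, 8] p = path g [9, 8, 2, 9, 1, 3] p :=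
  scan (u := [8]) (w := [8, 9]) (i := 9) (r15_1_0 H) (step (f5804 H) rfl) (step (H.back (i := 3) (by decide) (f5500 H)) (step (H.back (i := 4) (by decide) (f1696 H)) rfl))

theorem f5810 : g 2 • path g [9, 8, 2, 1, 4] p = path g [9, 8, 2, 1, 4, 2] p :=
  rfl

theorem f5812 : g 2 • path g [9, 8, 2, 1, 4, 2] p = path g [9, 8, 2, 1, 4] p :=
  scan (u := [2]) (w := []) (i := 2) (r2_0_0 H) (step (f5810 H) rfl) rfl

theorem f5813 : g 7 • path g [9, 8, 2, 1, 4] p = path g [9, 8, 2, 1, 4, 2] p :=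
  H.back (i := 2) (by decide) (f5812 H)

theorem f5814 : g 1 • path g [9, 8, 2, 1, 4, 2] p = path g [9, 8, 2, 4, 2] p :=
  scan (u := [2]) (w := [2, 1]) (i := 1) (r3_0_1 H) (step (f5810 H) rfl) (step (H.back (i := 7) (by decide) (f1714 H)) (step (H.back (i := 6) (by decide) (f1698 H)) rfl))

theorem f5816 : g 1 • path g [9, 8, 2, 6, 4, 2] p = path g [9, 8, 2, 1, 4, 2] p :=
  scan (u := [1, 1]) (w := []) (i := 1) (r1_0_0 H) (step (f5814 H) (step (f5744 H) rfl)) rfl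

theorem f5817 : g 6 • path g [9, 8, 2, 1, 4, 2] p = path g [9, 8, 2, 6, 4, 2] p :=
  H.back (i := 1) (by decide) (f5816 H)

theorem f5818 : g 2 • path g [9, 8, 2, 4, 8] p = path g [9, 8, 2, 4, 8, 2] p :=
  rfl

theorem f5820 : g 2 • path g [9, 8, 2, 4, 8, 2] p = path g [9, 8, 2, 4, 8] p :=
  scan (u := [2]) (w := []) (i := 2) (r2_0_0 H) (step (f5818 H) rfl) rfl

theorem f5821 : g 7 • path g [9, 8, 2, 4, 8] p = path g [9, 8, 2, 4, 8, 2] p :=
  H.back (i := 2) (by decide) (f5820 H)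

theorem f5822 : g 5 • path g [9, 8, 2, 4, 8] p = path g [9, 8, 2, 4, 8, 5] p :=
  rfl

theorem f5824 : g 5 • path g [9, 8, 2, 4, 8, 5] p = path g [9, 8, 2, 4, 8] p :=
  scan (u := [5]) (w := []) (i := 5) (r0_1_0 H) (step (f5822 H) rfl) rfl

theorem f5825 : g 0 • path g [9, 8, 2, 4, 8] p = path g [9, 8, 2, 4, 8, 5] p :=
  H.back (i := 5) (by decide) (f5824 H)

theorem f5826 : g 9 • path g [9, 8, 2, 4, 8, 5] p = path g [9, 3, 1, 8, 5] p :=
  scan (u := [5]) (w := [0, 4]) (i := 9) (r13_0_0 H) (step (f5822 H) rfl) (step (H.back (i := 5) (by decide) (f3782 H)) (step (H.back (i := 9) (by decide) (f1706 H)) rfl))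

theorem f5827 : g 4 • path g [9, 3, 1, 8, 5] p = path g [9, 8, 2, 4, 8, 5] p :=
  H.back (i := 9) (by decide) (f5826 H)

theorem f5828 : g 4 • path g [9, 8, 2, 4, 8, 5] p = path g [4, 8, 1, 3, 5] p :=
  scan (u := [5]) (w := [0, 9]) (i := 4) (r13_1_1 H) (step (f5822 H) rfl) (step (H.back (i := 5) (by decide) (f5159 H)) (step (H.back (i := 4) (by decide) (f1710 H)) rfl))

theorem f5830 : g 6 • path g [9, 8, 2, 4, 8] p = path g [9, 8, 2, 4, 8, 6] p :=
  rfl

theorem f5831 : g 1 • path g [9, 8, 2, 4, 8, 6] p = path g [9, 8, 2, 4, 8] p :=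
  H.back (i := 6) (by decide) (f5830 H)

theorem f5832 : g 9 • path g [9, 8, 2, 4, 8, 6] p = path g [9, 3, 1, 8, 6] p :=
  scan (u := [6]) (w := [1, 4]) (i := 9) (r14_0_2 H) (step (f5830 H) rfl) (step (H.back (i := 6) (by decide) (f3786 H)) (step (H.back (i := 9) (by decide) (f1706 H)) rfl))

theorem f5833 : g 4 • path g [9, 3, 1, 8, 6] p = path g [9, 8, 2, 4, 8, 6] p :=
  H.back (i := 9) (by decide) (f5832 H)

theorem f5834 : g 4 • path g [9, 8, 2, 4, 8, 6] p = path g [4, 8, 1, 3, 6] p :=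
  scan (u := [6]) (w := [1, 9]) (i := 4) (r14_1_3 H) (step (f5830 H) rfl) (step (H.back (i := 6) (by decide) (f5165 H)) (step (H.back (i := 4) (by decide) (f1710 H)) rfl))

theorem f5836 : g 1 • path g [9, 8, 2, 4, 8] p = path g [9, 8, 2, 4, 8, 1] p :=
  rfl

theorem f5842 : g 9 • path g [9, 8, 2, 4, 8, 1] p = path g [9, 3, 1, 8, 1] p :=
  scan (u := [1]) (w := [6, 4]) (i := 9) (r14_1_1 H) (step (f5836 H) rfl) (step (H.back (i := 1) (by decide) (f3788 H)) (step (H.back (i := 9) (by decide) (f1706 H)) rfl))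

theorem f5843 : g 4 • path g [9, 3, 1, 8, 1] p = path g [9, 8, 2, 4, 8, 1] p :=
  H.back (i := 9) (by decide) (f5842 H)

theorem f5858 : g 9 • path g [9, 8, 6, 8, 2] p = path g [9, 8, 6, 8, 2, 9] p :=
  rfl

theorem f5860 : g 8 • path g [9, 8, 6, 8, 2] p = path g [9, 8, 6, 8, 2, 8] p :=
  rfl

theorem f5861 : g 3 • path g [9, 8, 6, 8, 2, 8] p = path g [9, 8, 6, 8, 2] p :=
  H.back (i := 8) (by decide) (f5860 H)

theorem f5862 : g 8 • path g [9, 8, 6, 8, 2, 8] p = path g [4, 2, 5, 8, 6] p :=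
  scan (u := [8]) (w := [8]) (i := 8) (r6_1_0 H) (step (f5860 H) rfl) (step (H.back (i := 3) (by decide) (f5322 H)) rfl)

theorem f5864 : g 5 • path g [9, 8, 6, 8, 2] p = path g [9, 8, 6, 8, 2, 5] p :=
  rfl

theorem f5866 : g 5 • path g [9, 8, 6, 8, 2, 5] p = path g [9, 8, 6, 8, 2] p :=
  scan (u := [5]) (w := []) (i := 5) (r0_1_0 H) (step (f5864 H) rfl) rfl

theorem f5867 : g 0 • path g [9, 8, 6, 8, 2] p = path g [9, 8, 6, 8, 2, 5] p :=
  H.back (i := 5) (by decide) (f5866 H)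

theorem f5868 : g 6 • path g [9, 8, 6, 8, 2] p = path g [9, 8, 6, 8, 2, 6] p :=
  rfl

theorem f5870 : g 7 • path g [9, 8, 6, 8, 2, 6] p = path g [9, 8, 6, 8, 1] p :=
  scan (u := [6]) (w := [6, 7]) (i := 7) (r3_1_1 H) (step (f5868 H) rfl) (step (H.back (i := 1) (by decide) (f2871 H)) (step (H.back (i := 2) (by decide) (f2863 H)) rfl))

theorem f5872 : g 7 • path g [9, 8, 6, 8, 1] p = path g [9, 8, 6, 8, 2, 6] p :=
  scan (u := [7]) (w := []) (i := 7) (r2_1_0 H) (step (f5870 H) rfl) rfl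

theorem f5873 : g 2 • path g [9, 8, 6, 8, 2, 6] p = path g [9, 8, 6, 8, 1] p :=
  H.back (i := 7) (by decide) (f5872 H)

theorem f5874 : g 1 • path g [9, 8, 6, 8, 2] p = path g [9, 8, 6, 8, 2, 1] p :=
  rfl

theorem f5875 : g 6 • path g [9, 8, 6, 8, 2, 1] p = path g [9, 8, 6, 8, 2] p :=
  H.back (i := 1) (by decide) (f5874 H)

theorem f5876 : g 1 • path g [9, 8, 6, 8, 2, 1] p = path g [9, 8, 6, 8, 2, 6] p :=
  scan (u := [1]) (w := [1]) (i := 1) (r1_0_0 H) (step (f5874 H) rfl) (step (H.back (i := 6) (by decide) (f5868 H)) rfl)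

theorem f5877 : g 6 • path g [9, 8, 6, 8, 2, 6] p = path g [9, 8, 6, 8, 2, 1] p :=
  H.back (i := 1) (by decide) (f5876 H)

theorem f5878 : g 2 • path g [9, 8, 6, 8, 2, 1] p = path g [9, 8, 6, 8, 6] p :=
  scan (u := [1]) (w := [1, 2]) (i := 2) (r3_0_0 H) (step (f5874 H) rfl) (step (H.back (i := 6) (by decide) (f2869 H)) (step (H.back (i := 7) (by decide) (f2862 H)) rfl))

theorem f5880 : g 2 • path g [9, 8, 6, 8, 6] p = path g [9, 8, 6, 8, 2, 1] p :=
  scan (u := [2]) (w := []) (i := 2) (r2_0_0 H) (step (f5878 H) rfl) rfl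

theorem f5881 : g 7 • path g [9, 8, 6, 8, 2, 1] p = path g [9, 8, 6, 8, 6] p :=
  H.back (i := 2) (by decide) (f5880 H)

theorem f5886 : g 8 • path g [9, 8, 6, 8, 5] p = path g [9, 8, 6, 8, 5, 8] p :=
  rfl

theorem f5887 : g 3 • path g [9, 8, 6, 8, 5, 8] p = path g [9, 8, 6, 8, 5] p :=
  H.back (i := 8) (by decide) (f5886 H)

theorem f5888 : g 2 • path g [9, 8, 6, 8, 5] p = path g [9, 8, 6, 8, 5, 2] p :=
  rfl

theorem f5889 : g 7 • path g [9, 8, 6, 8, 5, 2] p = path g [9, 8, 6, 8, 5] p :=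
  H.back (i := 2) (by decide) (f5888 H)

theorem f5890 : g 2 • path g [9, 8, 6, 8, 5, 2] p = path g [9, 8, 6, 8, 5] p :=
  scan (u := [2]) (w := []) (i := 2) (r2_0_0 H) (step (f5888 H) rfl) rfl

theorem f5891 : g 7 • path g [9, 8, 6, 8, 5] p = path g [9, 8, 6, 8, 5, 2] p :=
  H.back (i := 2) (by decide) (f5890 H)

theorem f5892 : g 3 • path g [9, 8, 6, 8, 5] p = path g [9, 8, 6, 8, 5, 3] p :=
  rfl

theorem f5893 : g 8 • path g [9, 8, 6, 8, 5, 3] p = path g [9, 8, 6, 8, 5] p :=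
  H.back (i := 3) (by decide) (f5892 H)

theorem f5894 : g 3 • path g [9, 8, 6, 8, 5, 3] p = path g [9, 8, 6, 8, 5, 8] p :=
  scan (u := [3]) (w := [3]) (i := 3) (r6_0_0 H) (step (f5892 H) rfl) (step (H.back (i := 8) (by decide) (f5886 H)) rfl)

theorem f5895 : g 8 • path g [9, 8, 6, 8, 5, 8] p = path g [9, 8, 6, 8, 5, 3] p :=
  H.back (i := 3) (by decide) (f5894 H)

theorem f5896 : g 6 • path g [9, 8, 6, 8, 5] p = path g [9, 8, 6, 8, 5, 6] p :=
  rfl

theorem f5897 : g 1 • path g [9, 8, 6, 8, 5, 6] p = path g [9, 8, 6, 8, 5] p :=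
  H.back (i := 6) (by decide) (f5896 H)

theorem f5898 : g 1 • path g [9, 8, 6, 8, 5] p = path g [9, 8, 6, 8, 5, 1] p :=
  rfl

theorem f5899 : g 6 • path g [9, 8, 6, 8, 5, 1] p = path g [9, 8, 6, 8, 5] p :=
  H.back (i := 1) (by decide) (f5898 H)

theorem f5900 : g 1 • path g [9, 8, 6, 8, 5, 1] p = path g [9, 8, 6, 8, 5, 6] p :=
  scan (u := [1]) (w := [1]) (i := 1) (r1_0_0 H) (step (f5898 H) rfl) (step (H.back (i := 6) (by decide) (f5896 H)) rfl)

theorem f5901 : g 6 • path g [9, 8, 6, 8, 5, 6] p = path g [9, 8, 6, 8, 5, 1] p :=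
  H.back (i := 1) (by decide) (f5900 H)

theorem f5902 : g 4 • path g [9, 8, 6, 8, 5] p = path g [9, 8, 6, 8, 5, 4] p :=
  rfl

theorem f5903 : g 9 • path g [9, 8, 6, 8, 5, 4] p = path g [9, 8, 6, 8, 5] p :=
  H.back (i := 4) (by decide) (f5902 H)

theorem f5904 : g 4 • path g [9, 8, 6, 8, 5, 4] p = path g [3, 9, 6, 3, 5] p :=
  scan (u := [4]) (w := [4]) (i := 4) (r10_0_0 H) (step (f5902 H) rfl) (step (H.back (i := 9) (by decide) (f4638 H)) rfl)

theorem f5906 : g 5 • path g [9, 8, 6, 8, 5, 4] p = path g [9, 8, 6, 8, 4] p :=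
  scan (u := [4]) (w := [9, 0]) (i := 5) (r13_0_3 H) (step (f5902 H) rfl) (step (H.back (i := 4) (by decide) (f2875 H)) (step (H.back (i := 5) (by decide) (f2867 H)) rfl))

theorem f5907 : g 0 • path g [9, 8, 6, 8, 4] p = path g [9, 8, 6, 8, 5, 4] p :=
  H.back (i := 5) (by decide) (f5906 H)

theorem f5908 : g 0 • path g [9, 8, 6, 8, 5, 4] p = path g [9, 8, 6, 8, 4] p :=
  scan (u := [4]) (w := [9, 5]) (i := 0) (r13_1_2 H) (step (f5902 H) rfl) (step (H.back (i := 4) (by decide) (f2875 H)) (step (H.back (i := 0) (by decide) (f2866 H)) rfl))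

theorem f5909 : g 5 • path g [9, 8, 6, 8, 4] p = path g [9, 8, 6, 8, 5, 4] p :=
  H.back (i := 0) (by decide) (f5908 H)

theorem f5910 : g 8 • path g [9, 8, 6, 8, 6] p = path g [9, 8, 6, 8, 6, 8] p :=
  rfl

theorem f5912 : g 5 • path g [9, 8, 6, 8, 6] p = path g [9, 8, 6, 8, 6, 5] p :=
  rfl

theorem f5914 : g 5 • path g [9, 8, 6, 8, 6, 5] p = path g [9, 8, 6, 8, 6] p :=
  scan (u := [5]) (w := []) (i := 5) (r0_1_0 H) (step (f5912 H) rfl) rfl

theorem f5915 : g 0 • path g [9, 8, 6, 8, 6] p = path g [9, 8, 6, 8, 6, 5] p :=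
  H.back (i := 5) (by decide) (f5914 H)

theorem f5916 : g 3 • path g [9, 8, 6, 8, 6] p = path g [9, 8, 6, 8, 6, 3] p :=
  rfl

theorem f5918 : g 3 • path g [9, 8, 6, 8, 6, 3] p = path g [9, 8, 6, 8, 6, 8] p :=
  scan (u := [3]) (w := [3]) (i := 3) (r6_0_0 H) (step (f5916 H) rfl) (step (H.back (i := 8) (by decide) (f5910 H)) rfl)

theorem f5919 : g 8 • path g [9, 8, 6, 8, 6, 8] p = path g [9, 8, 6, 8, 6, 3] p :=
  H.back (i := 3) (by decide) (f5918 H)

theorem f5920 : g 4 • path g [9, 8, 6, 8, 6] p = path g [9, 8, 6, 8, 6, 4] p :=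
  rfl

theorem f5922 : g 4 • path g [9, 8, 6, 8, 6, 4] p = path g [3, 9, 6, 3, 6] p :=
  scan (u := [4]) (w := [4]) (i := 4) (r10_0_0 H) (step (f5920 H) rfl) (step (H.back (i := 9) (by decide) (f4642 H)) rfl)

theorem f5923 : g 9 • path g [3, 9, 6, 3, 6] p = path g [9, 8, 6, 8, 6, 4] p :=
  H.back (i := 4) (by decide) (f5922 H)

theorem f5924 : g 1 • path g [9, 8, 6, 8, 6, 4] p = path g [9, 8, 6, 8, 4] p :=
  scan (u := [4]) (w := [9, 6]) (i := 1) (r14_1_0 H) (step (f5920 H) rfl) (step (H.back (i := 4) (by decide) (f2875 H)) (step (H.back (i := 1) (by decide) (f2870 H)) rfl))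

theorem f5925 : g 6 • path g [9, 8, 6, 8, 4] p = path g [9, 8, 6, 8, 6, 4] p :=
  H.back (i := 1) (by decide) (f5924 H)

theorem f5926 : g 8 • path g [9, 8, 6, 8, 1] p = path g [9, 8, 6, 8, 1, 8] p :=
  rfl

theorem f5928 : g 5 • path g [9, 8, 6, 8, 1] p = path g [9, 8, 6, 8, 1, 5] p :=
  rfl

theorem f5930 : g 5 • path g [9, 8, 6, 8, 1, 5] p = path g [9, 8, 6, 8, 1] p :=
  scan (u := [5]) (w := []) (i := 5) (r0_1_0 H) (step (f5928 H) rfl) rfl

theorem f5931 : g 0 • path g [9, 8, 6, 8, 1] p = path g [9, 8, 6, 8, 1, 5] p :=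
  H.back (i := 5) (by decide) (f5930 H)

theorem f5932 : g 3 • path g [9, 8, 6, 8, 1] p = path g [9, 8, 6, 8, 1, 3] p :=
  rfl

theorem f5934 : g 3 • path g [9, 8, 6, 8, 1, 3] p = path g [9, 8, 6, 8, 1, 8] p :=
  scan (u := [3]) (w := [3]) (i := 3) (r6_0_0 H) (step (f5932 H) rfl) (step (H.back (i := 8) (by decide) (f5926 H)) rfl)

theorem f5936 : g 4 • path g [9, 8, 6, 8, 1] p = path g [9, 8, 6, 8, 1, 4] p :=
  rfl

theorem f5938 : g 4 • path g [9, 8, 6, 8, 1, 4] p = path g [3, 9, 6, 3, 1] p :=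
  scan (u := [4]) (w := [4]) (i := 4) (r10_0_0 H) (step (f5936 H) rfl) (step (H.back (i := 9) (by decide) (f4648 H)) rfl)

theorem f5940 : g 6 • path g [9, 8, 6, 8, 1, 4] p = path g [9, 8, 6, 8, 4] p :=
  scan (u := [4]) (w := [9, 1]) (i := 6) (r14_0_1 H) (step (f5936 H) rfl) (step (H.back (i := 4) (by decide) (f2875 H)) (step (H.back (i := 6) (by decide) (f2872 H)) rfl))

theorem f5941 : g 1 • path g [9, 8, 6, 8, 4] p = path g [9, 8, 6, 8, 1, 4] p :=
  H.back (i := 6) (by decide) (f5940 H)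

theorem f5942 : g 1 • path g [9, 8, 6, 8, 1, 4] p = path g [9, 8, 6, 8, 6, 4] p :=
  scan (u := [4]) (w := [9, 6]) (i := 1) (r14_1_0 H) (step (f5936 H) rfl) (step (H.back (i := 4) (by decide) (f5920 H)) (step (H.back (i := 1) (by decide) (f2873 H)) rfl))

theorem f5943 : g 6 • path g [9, 8, 6, 8, 6, 4] p = path g [9, 8, 6, 8, 1, 4] p :=
  H.back (i := 1) (by decide) (f5942 H)

theorem f5944 : g 2 • path g [9, 8, 6, 8, 4] p = path g [9, 8, 6, 8, 4, 2] p :=
  rfl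

theorem f5946 : g 2 • path g [9, 8, 6, 8, 4, 2] p = path g [9, 8, 6, 8, 4] p :=
  scan (u := [2]) (w := []) (i := 2) (r2_0_0 H) (step (f5944 H) rfl) rfl

theorem f5947 : g 7 • path g [9, 8, 6, 8, 4] p = path g [9, 8, 6, 8, 4, 2] p :=
  H.back (i := 2) (by decide) (f5946 H)

theorem f5948 : g 9 • path g [9, 8, 6, 3, 2] p = path g [9, 8, 6, 3, 2, 9] p :=
  rfl

theorem f5950 : g 8 • path g [9, 8, 6, 3, 2] p = path g [9, 8, 6, 3, 2, 8] p :=
  rfl

theorem f5952 : g 5 • path g [9, 8, 6, 3, 2] p = path g [9, 8, 6, 3, 2, 5] p :=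
  rfl

theorem f5954 : g 5 • path g [9, 8, 6, 3, 2, 5] p = path g [9, 8, 6, 3, 2] p :=
  scan (u := [5]) (w := []) (i := 5) (r0_1_0 H) (step (f5952 H) rfl) rfl

theorem f5955 : g 0 • path g [9, 8, 6, 3, 2] p = path g [9, 8, 6, 3, 2, 5] p :=
  H.back (i := 5) (by decide) (f5954 H)

theorem f5956 : g 3 • path g [9, 8, 6, 3, 2] p = path g [9, 8, 6, 3, 2, 3] p :=
  rfl

theorem f5958 : g 3 • path g [9, 8, 6, 3, 2, 3] p = path g [9, 8, 6, 3, 2, 8] p :=
  scan (u := [3]) (w := [3]) (i := 3) (r6_0_0 H) (step (f5956 H) rfl) (step (H.back (i := 8) (by decide) (f5950 H)) rfl)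

theorem f5960 : g 6 • path g [9, 8, 6, 3, 2] p = path g [9, 8, 6, 3, 2, 6] p :=
  rfl

theorem f5961 : g 1 • path g [9, 8, 6, 3, 2, 6] p = path g [9, 8, 6, 3, 2] p :=
  H.back (i := 6) (by decide) (f5960 H)

theorem f5962 : g 7 • path g [9, 8, 6, 3, 2, 6] p = path g [9, 8, 6, 3, 1] p :=
  scan (u := [6]) (w := [6, 7]) (i := 7) (r3_1_1 H) (step (f5960 H) rfl) (step (H.back (i := 1) (by decide) (f2897 H)) (step (H.back (i := 2) (by decide) (f2885 H)) rfl))

theorem f5963 : g 2 • path g [9, 8, 6, 3, 1] p = path g [9, 8, 6, 3, 2, 6] p :=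
  H.back (i := 7) (by decide) (f5962 H)

theorem f5964 : g 7 • path g [9, 8, 6, 3, 1] p = path g [9, 8, 6, 3, 2, 6] p :=
  scan (u := [7]) (w := []) (i := 7) (r2_1_0 H) (step (f5962 H) rfl) rfl

theorem f5966 : g 1 • path g [9, 8, 6, 3, 2] p = path g [9, 8, 6, 3, 2, 1] p :=
  rfl

theorem f5968 : g 1 • path g [9, 8, 6, 3, 2, 1] p = path g [9, 8, 6, 3, 2, 6] p :=
  scan (u := [1]) (w := [1]) (i := 1) (r1_0_0 H) (step (f5966 H) rfl) (step (H.back (i := 6) (by decide) (f5960 H)) rfl)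

theorem f5970 : g 2 • path g [9, 8, 6, 3, 2, 1] p = path g [9, 8, 6, 3, 6] p :=
  scan (u := [1]) (w := [1, 2]) (i := 2) (r3_0_0 H) (step (f5966 H) rfl) (step (H.back (i := 6) (by decide) (f2893 H)) (step (H.back (i := 7) (by decide) (f2884 H)) rfl))

theorem f5972 : g 2 • path g [9, 8, 6, 3, 6] p = path g [9, 8, 6, 3, 2, 1] p :=
  scan (u := [2]) (w := []) (i := 2) (r2_0_0 H) (step (f5970 H) rfl) rfl

theorem f5974 : g 4 • path g [9, 8, 6, 3, 2] p = path g [9, 8, 6, 3, 2, 4] p :=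
  rfl

theorem f5976 : g 4 • path g [9, 8, 6, 3, 2, 4] p = path g [9, 8, 6, 3, 2, 9] p :=
  scan (u := [4]) (w := [4]) (i := 4) (r10_0_0 H) (step (f5974 H) rfl) (step (H.back (i := 9) (by decide) (f5948 H)) rfl)

theorem f5977 : g 9 • path g [9, 8, 6, 3, 2, 9] p = path g [9, 8, 6, 3, 2, 4] p :=
  H.back (i := 4) (by decide) (f5976 H)

theorem f5978 : g 8 • path g [9, 8, 6, 3, 5] p = path g [9, 8, 6, 3, 5, 8] p :=
  rfl

theorem f5980 : g 9 • path g [9, 8, 6, 3, 5, 8] p = path g [3, 6, 8, 5, 3] p :=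
  scan (u := [8]) (w := [8, 9]) (i := 9) (r15_1_0 H) (step (f5978 H) rfl) (step (H.back (i := 3) (by decide) (f4692 H)) (step (H.back (i := 4) (by decide) (f2891 H)) rfl))

theorem f5981 : g 4 • path g [3, 6, 8, 5, 3] p = path g [9, 8, 6, 3, 5, 8] p :=
  H.back (i := 9) (by decide) (f5980 H)

theorem f5986 : g 3 • path g [9, 8, 6, 3, 5] p = path g [9, 8, 6, 3, 5, 3] p :=
  rfl

theorem f5987 : g 8 • path g [9, 8, 6, 3, 5, 3] p = path g [9, 8, 6, 3, 5] p :=
  H.back (i := 3) (by decide) (f5986 H)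

theorem f5988 : g 3 • path g [9, 8, 6, 3, 5, 3] p = path g [9, 8, 6, 3, 5, 8] p :=
  scan (u := [3]) (w := [3]) (i := 3) (r6_0_0 H) (step (f5986 H) rfl) (step (H.back (i := 8) (by decide) (f5978 H)) rfl)

theorem f5989 : g 8 • path g [9, 8, 6, 3, 5, 8] p = path g [9, 8, 6, 3, 5, 3] p :=
  H.back (i := 3) (by decide) (f5988 H)

theorem f5990 : g 6 • path g [9, 8, 6, 3, 5] p = path g [9, 8, 6, 3, 5, 6] p :=
  rfl

theorem f5992 : g 4 • path g [9, 8, 6, 3, 5, 6] p = path g [3, 6, 8, 5, 6] p :=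
  scan (u := [6]) (w := [1, 9]) (i := 4) (r14_1_3 H) (step (f5990 H) rfl) (step (H.back (i := 6) (by decide) (f4696 H)) (step (H.back (i := 4) (by decide) (f2891 H)) rfl))

theorem f5994 : g 1 • path g [9, 8, 6, 3, 5] p = path g [9, 8, 6, 3, 5, 1] p :=
  rfl

theorem f5996 : g 1 • path g [9, 8, 6, 3, 5, 1] p = path g [9, 8, 6, 3, 5, 6] p :=
  scan (u := [1]) (w := [1]) (i := 1) (r1_0_0 H) (step (f5994 H) rfl) (step (H.back (i := 6) (by decide) (f5990 H)) rfl)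

theorem f5998 : g 4 • path g [9, 8, 6, 3, 5, 1] p = path g [8, 6, 8, 1, 5] p :=
  scan (u := [1]) (w := [6, 9]) (i := 4) (r14_0_0 H) (step (f5994 H) rfl) (step (H.back (i := 1) (by decide) (f4108 H)) (step (H.back (i := 4) (by decide) (f2891 H)) rfl))

theorem f5999 : g 9 • path g [8, 6, 8, 1, 5] p = path g [9, 8, 6, 3, 5, 1] p :=
  H.back (i := 4) (by decide) (f5998 H)

theorem f6000 : g 0 • path g [9, 8, 6, 3, 5, 1] p = path g [8, 6, 8, 9, 1] p :=
  scan (u := [1]) (w := [1, 0, 6, 6, 0]) (i := 0) (r4_0_4 H) (step (f5994 H) rfl) (step (H.back (i := 6) (by decide) (f4023 H)) (step (H.back (i := 5) (by decide) (f4076 H)) (step (H.back (i := 1) (by decide) (f2899 H)) (step (H.back (i := 1) (by decide) (f2897 H)) (step (H.back (i := 5) (by decide) (f2889 H)) rfl)))))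

theorem f6002 : g 0 • path g [8, 6, 8, 9, 1] p = path g [9, 8, 6, 3, 5, 1] p :=
  scan (u := [0]) (w := []) (i := 0) (r0_0_0 H) (step (f6000 H) rfl) rfl

theorem f6003 : g 5 • path g [9, 8, 6, 3, 5, 1] p = path g [8, 6, 8, 9, 1] p :=
  H.back (i := 0) (by decide) (f6002 H)

theorem f6004 : g 8 • path g [9, 8, 6, 3, 6] p = path g [9, 8, 6, 3, 6, 8] p :=
  rfl

theorem f6006 : g 9 • path g [9, 8, 6, 3, 6, 8] p = path g [3, 6, 8, 6, 3] p :=
  scan (u := [8]) (w := [8, 9]) (i := 9) (r15_1_0 H) (step (f6004 H) rfl) (step (H.back (i := 3) (by decide) (f4728 H)) (step (H.back (i := 4) (by decide) (f2895 H)) rfl))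

theorem f6008 : g 3 • path g [9, 8, 6, 3, 6] p = path g [9, 8, 6, 3, 6, 3] p :=
  rfl

theorem f6010 : g 3 • path g [9, 8, 6, 3, 6, 3] p = path g [9, 8, 6, 3, 6, 8] p :=
  scan (u := [3]) (w := [3]) (i := 3) (r6_0_0 H) (step (f6008 H) rfl) (step (H.back (i := 8) (by decide) (f6004 H)) rfl)

theorem f6012 : g 8 • path g [9, 8, 6, 3, 1] p = path g [9, 8, 6, 3, 1, 8] p :=
  rfl

theorem f6013 : g 3 • path g [9, 8, 6, 3, 1, 8] p = path g [9, 8, 6, 3, 1] p :=
  H.back (i := 8) (by decide) (f6012 H)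

theorem f6014 : g 9 • path g [9, 8, 6, 3, 1, 8] p = path g [3, 6, 8, 1, 3] p :=
  scan (u := [8]) (w := [8, 9]) (i := 9) (r15_1_0 H) (step (f6012 H) rfl) (step (H.back (i := 3) (by decide) (f4744 H)) (step (H.back (i := 4) (by decide) (f2901 H)) rfl))

theorem f6015 : g 4 • path g [3, 6, 8, 1, 3] p = path g [9, 8, 6, 3, 1, 8] p :=
  H.back (i := 9) (by decide) (f6014 H)

theorem f6016 : g 5 • path g [9, 8, 6, 3, 1] p = path g [9, 8, 6, 3, 1, 5] p :=
  rfl

theorem f6017 : g 0 • path g [9, 8, 6, 3, 1, 5] p = path g [9, 8, 6, 3, 1] p :=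
  H.back (i := 5) (by decide) (f6016 H)

theorem f6018 : g 5 • path g [9, 8, 6, 3, 1, 5] p = path g [9, 8, 6, 3, 1] p :=
  scan (u := [5]) (w := []) (i := 5) (r0_1_0 H) (step (f6016 H) rfl) rfl

theorem f6020 : g 4 • path g [9, 8, 6, 3, 1, 5] p = path g [8, 6, 8, 5, 1] p :=
  scan (u := [5]) (w := [0, 9]) (i := 4) (r13_1_1 H) (step (f6016 H) rfl) (step (H.back (i := 5) (by decide) (f4062 H)) (step (H.back (i := 4) (by decide) (f2901 H)) rfl))

theorem f6021 : g 9 • path g [8, 6, 8, 5, 1] p = path g [9, 8, 6, 3, 1, 5] p :=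
  H.back (i := 4) (by decide) (f6020 H)

theorem f6022 : g 6 • path g [9, 8, 6, 3, 1, 5] p = path g [8, 6, 8, 9, 5] p :=
  scan (u := [5]) (w := [5, 1, 1, 5, 6]) (i := 6) (r4_1_1 H) (step (f6016 H) rfl) (step (H.back (i := 0) (by decide) (f4013 H)) (step (H.back (i := 6) (by decide) (f4021 H)) (step (H.back (i := 6) (by decide) (f4023 H)) (step (H.back (i := 0) (by decide) (f4060 H)) (step (H.back (i := 1) (by decide) (f2899 H)) rfl)))))

theorem f6024 : g 3 • path g [9, 8, 6, 3, 1] p = path g [9, 8, 6, 3, 1, 3] p :=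
  rfl

theorem f6026 : g 3 • path g [9, 8, 6, 3, 1, 3] p = path g [9, 8, 6, 3, 1, 8] p :=
  scan (u := [3]) (w := [3]) (i := 3) (r6_0_0 H) (step (f6024 H) rfl) (step (H.back (i := 8) (by decide) (f6012 H)) rfl)

theorem f6028 : g 5 • path g [9, 8, 1, 8, 2] p = path g [9, 8, 1, 8, 2, 5] p :=
  rfl

theorem f6029 : g 0 • path g [9, 8, 1, 8, 2, 5] p = path g [9, 8, 1, 8, 2] p :=
  H.back (i := 5) (by decide) (f6028 H)

theorem f6030 : g 5 • path g [9, 8, 1, 8, 2, 5] p = path g [9, 8, 1, 8, 2] p :=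
  scan (u := [5]) (w := []) (i := 5) (r0_1_0 H) (step (f6028 H) rfl) rfl

theorem f6031 : g 0 • path g [9, 8, 1, 8, 2] p = path g [9, 8, 1, 8, 2, 5] p :=
  H.back (i := 5) (by decide) (f6030 H)

theorem f6032 : g 6 • path g [9, 8, 1, 8, 2] p = path g [9, 8, 1, 8, 2, 6] p :=
  rfl

theorem f6033 : g 1 • path g [9, 8, 1, 8, 2, 6] p = path g [9, 8, 1, 8, 2] p :=
  H.back (i := 6) (by decide) (f6032 H)

theorem f6034 : g 7 • path g [9, 8, 1, 8, 2, 6] p = path g [9, 8, 1, 8, 1] p :=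
  scan (u := [6]) (w := [6, 7]) (i := 7) (r3_1_1 H) (step (f6032 H) rfl) (step (H.back (i := 1) (by decide) (f2917 H)) (step (H.back (i := 2) (by decide) (f2905 H)) rfl))

theorem f6035 : g 2 • path g [9, 8, 1, 8, 1] p = path g [9, 8, 1, 8, 2, 6] p :=
  H.back (i := 7) (by decide) (f6034 H)

theorem f6038 : g 1 • path g [9, 8, 1, 8, 2] p = path g [9, 8, 1, 8, 2, 1] p :=
  rfl

theorem f6039 : g 6 • path g [9, 8, 1, 8, 2, 1] p = path g [9, 8, 1, 8, 2] p :=
  H.back (i := 1) (by decide) (f6038 H)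

theorem f6040 : g 1 • path g [9, 8, 1, 8, 2, 1] p = path g [9, 8, 1, 8, 2, 6] p :=
  scan (u := [1]) (w := [1]) (i := 1) (r1_0_0 H) (step (f6038 H) rfl) (step (H.back (i := 6) (by decide) (f6032 H)) rfl)

theorem f6041 : g 6 • path g [9, 8, 1, 8, 2, 6] p = path g [9, 8, 1, 8, 2, 1] p :=
  H.back (i := 1) (by decide) (f6040 H)

theorem f6042 : g 2 • path g [9, 8, 1, 8, 2, 1] p = path g [9, 8, 1, 8, 6] p :=
  scan (u := [1]) (w := [1, 2]) (i := 2) (r3_0_0 H) (step (f6038 H) rfl) (step (H.back (i := 6) (by decide) (f2915 H)) (step (H.back (i := 7) (by decide) (f2904 H)) rfl))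

theorem f6043 : g 7 • path g [9, 8, 1, 8, 6] p = path g [9, 8, 1, 8, 2, 1] p :=
  H.back (i := 2) (by decide) (f6042 H)

theorem f6044 : g 2 • path g [9, 8, 1, 8, 6] p = path g [9, 8, 1, 8, 2, 1] p :=
  scan (u := [2]) (w := []) (i := 2) (r2_0_0 H) (step (f6042 H) rfl) rfl

theorem f6046 : g 8 • path g [9, 8, 1, 8, 5] p = path g [9, 8, 1, 8, 5, 8] p :=
  rfl

theorem f6047 : g 3 • path g [9, 8, 1, 8, 5, 8] p = path g [9, 8, 1, 8, 5] p :=
  H.back (i := 8) (by decide) (f6046 H)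

theorem f6048 : g 2 • path g [9, 8, 1, 8, 5] p = path g [9, 8, 1, 8, 5, 2] p :=
  rfl

theorem f6050 : g 2 • path g [9, 8, 1, 8, 5, 2] p = path g [9, 8, 1, 8, 5] p :=
  scan (u := [2]) (w := []) (i := 2) (r2_0_0 H) (step (f6048 H) rfl) rfl

theorem f6052 : g 0 • path g [9, 8, 1, 8, 5, 2] p = path g [9, 2, 8, 6, 8] p :=
  scan (u := [2]) (w := [2, 3, 5, 6, 7, 5, 6, 8, 0]) (i := 0) (r8_0_0 H) (step (f6048 H) rfl) (step (H.back (i := 7) (by decide) (f5019 H)) (step (H.back (i := 8) (by decide) (f5015 H)) (step (H.back (i := 0) (by decide) (f1754 H)) (step (H.back (i := 1) (by decide) (f388 H)) (step (H.back (i := 2) (by decide) (f392 H)) (step (H.back (i := 0) (by decide) (f212 H)) (step (H.back (i := 1) (by decide) (f118 H)) (step (H.back (i := 3) (by decide) (f435 H)) (step (H.back (i := 5) (by decide) (f2913 H)) rfl)))))))))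

theorem f6053 : g 5 • path g [9, 2, 8, 6, 8] p = path g [9, 8, 1, 8, 5, 2] p :=
  H.back (i := 0) (by decide) (f6052 H)

theorem f6054 : g 0 • path g [9, 2, 8, 6, 8] p = path g [9, 8, 1, 8, 5, 2] p :=
  scan (u := [0]) (w := []) (i := 0) (r0_0_0 H) (step (f6052 H) rfl) rfl

theorem f6055 : g 5 • path g [9, 8, 1, 8, 5, 2] p = path g [9, 2, 8, 6, 8] p :=
  H.back (i := 0) (by decide) (f6054 H)

theorem f6056 : g 0 • path g [9, 8, 1, 8, 2, 6] p = path g [9, 3, 1, 8, 6] p :=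
  scan (u := [0, 2, 0, 1, 2]) (w := [1, 3, 5, 6, 5, 7, 5, 6, 8]) (i := 0) (r9_0_4 H) (step (f6054 H) (step (f6050 H) (step (f2912 H) (step (f2917 H) (step (f6035 H) rfl))))) (step (H.back (i := 6) (by decide) (f3786 H)) (step (H.back (i := 8) (by decide) (f636 H)) (step (H.back (i := 0) (by decide) (f1614 H)) (step (H.back (i := 1) (by decide) (f622 H)) (step (H.back (i := 0) (by decide) (f157 H)) (step (H.back (i := 2) (by decide) (f152 H)) (step (H.back (i := 0) (by decide) (f3096 H)) (step (H.back (i := 1) (by decide) (f475 H)) (step (H.back (i := 3) (by decide) (f3298 H)) rfl)))))))))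

theorem f6058 : path g [9, 2, 8, 6, 3] p = path g [9, 8, 2, 9, 2] p :=
  close (u := [5, 8]) (w := [2, 3, 6, 5, 7, 6, 5, 7]) (r7_0_8 H) (step (f6055 H) (step (f3308 H) rfl)) (step (H.back (i := 7) (by decide) (f1359 H)) (step (H.back (i := 8) (by decide) (f1708 H)) (step (H.back (i := 1) (by decide) (f3787 H)) (step (H.back (i := 0) (by decide) (f6056 H)) (step (H.back (i := 2) (by decide) (f6035 H)) (step (H.back (i := 1) (by decide) (f2917 H)) (step (H.back (i := 0) (by decide) (f2912 H)) (step (H.back (i := 2) (by decide) (f6050 H)) rfl))))))))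

theorem f6061 : g 3 • path g [9, 8, 2, 9, 2] p = path g [9, 2, 8, 6, 8] p :=
  (congrArg (g 3 • ·) (f6058 H).symm).trans (f3307 H)

theorem f6062 : path g [9, 8, 2, 9, 2, 3] p = path g [9, 2, 8, 6, 8] p :=
  (f5430 H).symm.trans (f6061 H)

theorem f6064 : g 8 • path g [9, 2, 8, 6, 8] p = path g [9, 8, 2, 9, 2] p :=
  (f3308 H).trans (f6058 H)

theorem f6070 : g 3 • path g [9, 2, 8, 6] p = path g [9, 8, 2, 9, 2] p :=
  (f3305 H).trans (f6058 H)

theorem f6075 : g 0 • path g [9, 3, 1, 8, 6] p = path g [9, 8, 1, 8, 2, 6] p :=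
  scan (u := [0]) (w := []) (i := 0) (r0_0_0 H) (step (f6056 H) rfl) rfl

theorem f6077 : g 3 • path g [9, 8, 2, 9, 2] p = path g [9, 2, 8, 6, 8] p :=
  (f5430 H).trans (f6062 H)

theorem f6078 : g 3 • path g [9, 8, 1, 8, 5] p = path g [9, 8, 1, 8, 5, 3] p :=
  rfl

theorem f6079 : g 8 • path g [9, 8, 1, 8, 5, 3] p = path g [9, 8, 1, 8, 5] p :=
  H.back (i := 3) (by decide) (f6078 H)

theorem f6080 : g 3 • path g [9, 8, 1, 8, 5, 3] p = path g [9, 8, 1, 8, 5, 8] p :=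
  scan (u := [3]) (w := [3]) (i := 3) (r6_0_0 H) (step (f6078 H) rfl) (step (H.back (i := 8) (by decide) (f6046 H)) rfl)

theorem f6081 : g 8 • path g [9, 8, 1, 8, 5, 8] p = path g [9, 8, 1, 8, 5, 3] p :=
  H.back (i := 3) (by decide) (f6080 H)

theorem f6082 : g 6 • path g [9, 8, 1, 8, 5] p = path g [9, 8, 1, 8, 5, 6] p :=
  rfl

theorem f6084 : g 1 • path g [9, 8, 1, 8, 5] p = path g [9, 8, 1, 8, 5, 1] p :=
  rfl

theorem f6086 : g 1 • path g [9, 8, 1, 8, 5, 1] p = path g [9, 8, 1, 8, 5, 6] p :=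
  scan (u := [1]) (w := [1]) (i := 1) (r1_0_0 H) (step (f6084 H) rfl) (step (H.back (i := 6) (by decide) (f6082 H)) rfl)

theorem f6087 : g 6 • path g [9, 8, 1, 8, 5, 6] p = path g [9, 8, 1, 8, 5, 1] p :=
  H.back (i := 1) (by decide) (f6086 H)

theorem f6088 : g 0 • path g [9, 8, 1, 8, 5, 1] p = path g [9, 2, 3, 9, 6] p :=
  scan (u := [1]) (w := [1, 0, 6, 6, 0]) (i := 0) (r4_0_4 H) (step (f6084 H) rfl) (step (H.back (i := 6) (by decide) (f3458 H)) (step (H.back (i := 5) (by decide) (f5665 H)) (step (H.back (i := 1) (by decide) (f2919 H)) (step (H.back (i := 1) (by decide) (f2917 H)) (step (H.back (i := 5) (by decide) (f2913 H)) rfl)))))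

theorem f6090 : g 0 • path g [9, 2, 3, 9, 6] p = path g [9, 8, 1, 8, 5, 1] p :=
  scan (u := [0]) (w := []) (i := 0) (r0_0_0 H) (step (f6088 H) rfl) rfl

theorem f6091 : g 5 • path g [9, 8, 1, 8, 5, 1] p = path g [9, 2, 3, 9, 6] p :=
  H.back (i := 0) (by decide) (f6090 H)

theorem f6092 : g 9 • path g [9, 2, 3, 6, 5] p = path g [9, 8, 1, 8, 5, 1] p :=
  scan (u := [0, 4, 5]) (w := []) (i := 9) (r13_0_2 H) (step (f6088 H) (step (f3462 H) (step (f3496 H) rfl))) rfl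

theorem f6093 : g 4 • path g [9, 8, 1, 8, 5, 1] p = path g [9, 2, 3, 6, 5] p :=
  H.back (i := 9) (by decide) (f6092 H)

theorem f6094 : g 4 • path g [9, 8, 1, 8, 5, 6] p = path g [9, 2, 5, 1, 3] p :=
  scan (u := [9, 1]) (w := [6]) (i := 4) (r14_0_3 H) (step (f6092 H) (step (f6086 H) rfl)) (step (H.back (i := 1) (by decide) (f3501 H)) rfl)

theorem f6095 : g 9 • path g [9, 2, 5, 1, 3] p = path g [9, 8, 1, 8, 5, 6] p :=
  H.back (i := 4) (by decide) (f6094 H)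

theorem f6096 : g 0 • path g [4, 2, 5, 8, 9] p = path g [9, 8, 1, 8, 5, 6] p :=
  scan (u := [4, 5, 9]) (w := []) (i := 0) (r13_0_3 H) (step (f6094 H) (step (f3428 H) (step (f5304 H) rfl))) rfl

theorem f6097 : g 5 • path g [9, 8, 1, 8, 5, 6] p = path g [4, 2, 5, 8, 9] p :=
  H.back (i := 0) (by decide) (f6096 H)

theorem f6098 : g 5 • path g [4, 2, 5, 8, 9] p = path g [9, 8, 1, 8, 5, 6] p :=
  scan (u := [4, 0, 9]) (w := []) (i := 5) (r13_1_2 H) (step (f6094 H) (step (f3431 H) (step (f5304 H) rfl))) rfl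

theorem f6099 : g 0 • path g [9, 8, 1, 8, 5, 6] p = path g [4, 2, 5, 8, 9] p :=
  H.back (i := 5) (by decide) (f6098 H)

theorem f6100 : g 3 • path g [8, 4, 2, 5, 4] p = path g [9, 8, 1, 8, 5, 6] p :=
  scan (u := [4, 3, 4]) (w := []) (i := 3) (r15_0_0 H) (step (f6094 H) (step (f3422 H) (step (f4546 H) rfl))) rfl

theorem f6101 : g 8 • path g [9, 8, 1, 8, 5, 6] p = path g [8, 4, 2, 5, 4] p :=
  H.back (i := 3) (by decide) (f6100 H)

theorem f6102 : g 4 • path g [9, 8, 1, 8, 5] p = path g [9, 8, 1, 8, 5, 4] p :=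
  rfl

theorem f6103 : g 9 • path g [9, 8, 1, 8, 5, 4] p = path g [9, 8, 1, 8, 5] p :=
  H.back (i := 4) (by decide) (f6102 H)

theorem f6104 : g 4 • path g [9, 8, 1, 8, 5, 4] p = path g [3, 9, 1, 3, 5] p :=
  scan (u := [4]) (w := [4]) (i := 4) (r10_0_0 H) (step (f6102 H) rfl) (step (H.back (i := 9) (by decide) (f4678 H)) rfl)

theorem f6105 : g 9 • path g [3, 9, 1, 3, 5] p = path g [9, 8, 1, 8, 5, 4] p :=
  H.back (i := 4) (by decide) (f6104 H)

theorem f6106 : g 5 • path g [9, 8, 1, 8, 5, 4] p = path g [9, 8, 1, 8, 4] p :=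
  scan (u := [4]) (w := [9, 0]) (i := 5) (r13_0_3 H) (step (f6102 H) rfl) (step (H.back (i := 4) (by decide) (f2921 H)) (step (H.back (i := 5) (by decide) (f2913 H)) rfl))

theorem f6107 : g 0 • path g [9, 8, 1, 8, 4] p = path g [9, 8, 1, 8, 5, 4] p :=
  H.back (i := 5) (by decide) (f6106 H)

theorem f6108 : g 0 • path g [9, 8, 1, 8, 5, 4] p = path g [9, 8, 1, 8, 4] p :=
  scan (u := [4]) (w := [9, 5]) (i := 0) (r13_1_2 H) (step (f6102 H) rfl) (step (H.back (i := 4) (by decide) (f2921 H)) (step (H.back (i := 0) (by decide) (f2912 H)) rfl))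

theorem f6109 : g 5 • path g [9, 8, 1, 8, 4] p = path g [9, 8, 1, 8, 5, 4] p :=
  H.back (i := 0) (by decide) (f6108 H)

theorem f6110 : g 6 • path g [9, 8, 1, 8, 5, 4] p = path g [9, 2, 5, 1, 3] p :=
  scan (u := [4]) (w := [9, 1]) (i := 6) (r14_0_1 H) (step (f6102 H) rfl) (step (H.back (i := 4) (by decide) (f6094 H)) (step (H.back (i := 6) (by decide) (f6082 H)) rfl))

theorem f6111 : g 1 • path g [9, 2, 5, 1, 3] p = path g [9, 8, 1, 8, 5, 4] p :=
  H.back (i := 6) (by decide) (f6110 H)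

theorem f6112 : g 1 • path g [9, 8, 1, 8, 5, 4] p = path g [9, 2, 3, 6, 5] p :=
  scan (u := [4]) (w := [9, 6]) (i := 1) (r14_1_0 H) (step (f6102 H) rfl) (step (H.back (i := 4) (by decide) (f6093 H)) (step (H.back (i := 1) (by decide) (f6084 H)) rfl))

theorem f6114 : g 2 • path g [4, 8, 2, 8, 6] p = path g [9, 8, 1, 8, 5, 4] p :=
  scan (u := [1, 2, 1]) (w := []) (i := 2) (r3_0_0 H) (step (f6112 H) (step (f4579 H) (step (f5009 H) rfl))) rfl

theorem f6115 : g 7 • path g [9, 8, 1, 8, 5, 4] p = path g [4, 8, 2, 8, 6] p :=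
  H.back (i := 2) (by decide) (f6114 H)

theorem f6116 : g 7 • path g [4, 8, 2, 8, 6] p = path g [9, 8, 1, 8, 5, 4] p :=
  scan (u := [1, 5, 6, 7, 5, 6, 7, 5, 7, 1, 5]) (w := []) (i := 7) (r5_1_1 H) (step (f6112 H) (step (f3498 H) (step (f541 H) (step (f3492 H) (step (f3490 H) (step (f1429 H) (step (f3399 H) (step (f5358 H) (step (f5362 H) (step (f1396 H) (step (f5011 H) rfl))))))))))) rfl

theorem f6117 : g 2 • path g [9, 8, 1, 8, 5, 4] p = path g [4, 8, 2, 8, 6] p :=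
  H.back (i := 7) (by decide) (f6116 H)

theorem f6118 : g 8 • path g [9, 3, 5, 2, 6] p = path g [9, 8, 2, 9, 2, 5] p :=
  scan (u := [6, 7, 5, 6]) (w := [0, 2, 0, 2, 3, 5]) (i := 8) (r8_0_5 H) (step (f6110 H) (step (f3425 H) (step (f3406 H) (step (f3693 H) rfl)))) (step (H.back (i := 5) (by decide) (f5426 H)) (step (H.back (i := 7) (by decide) (f1359 H)) (step (H.back (i := 5) (by decide) (f1362 H)) (step (H.back (i := 7) (by decide) (f5644 H)) (step (H.back (i := 8) (by decide) (f2928 H)) (step (H.back (i := 0) (by decide) (f6108 H)) rfl))))))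

theorem f6119 : g 3 • path g [9, 8, 2, 9, 2, 5] p = path g [9, 3, 5, 2, 6] p :=
  H.back (i := 8) (by decide) (f6118 H)

theorem f6120 : g 3 • path g [9, 8, 1, 8, 6] p = path g [9, 8, 1, 8, 6, 3] p :=
  rfl

theorem f6122 : g 3 • path g [9, 8, 1, 8, 6, 3] p = path g [8, 9, 2, 8, 4] p :=
  scan (u := [3]) (w := [3]) (i := 3) (r6_0_0 H) (step (f6120 H) rfl) (step (H.back (i := 8) (by decide) (f5671 H)) rfl)

theorem f6124 : g 4 • path g [9, 8, 1, 8, 6, 3] p = path g [8, 9, 2, 9, 3] p :=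
  scan (u := [3]) (w := [3, 4]) (i := 4) (r15_0_1 H) (step (f6120 H) rfl) (step (H.back (i := 8) (by decide) (f3820 H)) (step (H.back (i := 9) (by decide) (f5663 H)) rfl))

theorem f6125 : g 9 • path g [8, 9, 2, 9, 3] p = path g [9, 8, 1, 8, 6, 3] p :=
  H.back (i := 4) (by decide) (f6124 H)

theorem f6126 : g 4 • path g [8, 9, 2, 4, 8] p = path g [9, 8, 1, 8, 6, 3] p :=
  scan (u := [4, 4]) (w := []) (i := 4) (r10_0_0 H) (step (f6124 H) (step (f3912 H) rfl)) rfl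

theorem f6128 : g 8 • path g [9, 8, 1, 8, 1] p = path g [9, 8, 1, 8, 1, 8] p :=
  rfl

theorem f6130 : g 5 • path g [9, 8, 1, 8, 1] p = path g [9, 8, 1, 8, 1, 5] p :=
  rfl

theorem f6131 : g 0 • path g [9, 8, 1, 8, 1, 5] p = path g [9, 8, 1, 8, 1] p :=
  H.back (i := 5) (by decide) (f6130 H)

theorem f6132 : g 5 • path g [9, 8, 1, 8, 1, 5] p = path g [9, 8, 1, 8, 1] p :=
  scan (u := [5]) (w := []) (i := 5) (r0_1_0 H) (step (f6130 H) rfl) rfl

theorem f6133 : g 0 • path g [9, 8, 1, 8, 1] p = path g [9, 8, 1, 8, 1, 5] p :=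
  H.back (i := 5) (by decide) (f6132 H)

theorem f6134 : g 4 • path g [9, 8, 1, 8, 1, 5] p = path g [4, 2, 5, 8, 6] p :=
  scan (u := [5]) (w := [0, 9]) (i := 4) (r13_1_1 H) (step (f6130 H) rfl) (step (H.back (i := 5) (by decide) (f5315 H)) (step (H.back (i := 4) (by decide) (f5648 H)) rfl))

theorem f6135 : g 9 • path g [4, 2, 5, 8, 6] p = path g [9, 8, 1, 8, 1, 5] p :=
  H.back (i := 4) (by decide) (f6134 H)

theorem f6136 : g 6 • path g [4, 2, 5, 8, 9] p = path g [9, 8, 1, 8, 1, 5] p :=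
  scan (u := [4, 1, 9]) (w := []) (i := 6) (r14_1_0 H) (step (f6134 H) (step (f5309 H) (step (f5304 H) rfl))) rfl

theorem f6137 : g 1 • path g [9, 8, 1, 8, 1, 5] p = path g [4, 2, 5, 8, 9] p :=
  H.back (i := 6) (by decide) (f6136 H)

theorem f6138 : g 3 • path g [9, 8, 1, 8, 1] p = path g [9, 8, 1, 8, 1, 3] p :=
  rfl

theorem f6140 : g 3 • path g [9, 8, 1, 8, 1, 3] p = path g [9, 8, 1, 8, 1, 8] p :=
  scan (u := [3]) (w := [3]) (i := 3) (r6_0_0 H) (step (f6138 H) rfl) (step (H.back (i := 8) (by decide) (f6128 H)) rfl)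

theorem f6146 : g 5 • path g [9, 8, 1, 3, 2] p = path g [9, 8, 1, 3, 2, 5] p :=
  rfl

theorem f6147 : g 0 • path g [9, 8, 1, 3, 2, 5] p = path g [9, 8, 1, 3, 2] p :=
  H.back (i := 5) (by decide) (f6146 H)

theorem f6148 : g 5 • path g [9, 8, 1, 3, 2, 5] p = path g [9, 8, 1, 3, 2] p :=
  scan (u := [5]) (w := []) (i := 5) (r0_1_0 H) (step (f6146 H) rfl) rfl

theorem f6150 : g 3 • path g [9, 8, 1, 3, 2] p = path g [9, 8, 1, 3, 2, 3] p :=
  rfl

theorem f6154 : g 6 • path g [9, 8, 1, 3, 2] p = path g [9, 8, 1, 3, 2, 6] p :=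
  rfl

theorem f6155 : g 1 • path g [9, 8, 1, 3, 2, 6] p = path g [9, 8, 1, 3, 2] p :=
  H.back (i := 6) (by decide) (f6154 H)

theorem f6156 : g 7 • path g [9, 8, 1, 3, 2, 6] p = path g [9, 8, 1, 3, 1] p :=
  scan (u := [6]) (w := [6, 7]) (i := 7) (r3_1_1 H) (step (f6154 H) rfl) (step (H.back (i := 1) (by decide) (f2943 H)) (step (H.back (i := 2) (by decide) (f2931 H)) rfl))

theorem f6157 : g 2 • path g [9, 8, 1, 3, 1] p = path g [9, 8, 1, 3, 2, 6] p :=
  H.back (i := 7) (by decide) (f6156 H)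

theorem f6158 : g 7 • path g [9, 8, 1, 3, 1] p = path g [9, 8, 1, 3, 2, 6] p :=
  scan (u := [7]) (w := []) (i := 7) (r2_1_0 H) (step (f6156 H) rfl) rfl

theorem f6159 : g 2 • path g [9, 8, 1, 3, 2, 6] p = path g [9, 8, 1, 3, 1] p :=
  H.back (i := 7) (by decide) (f6158 H)

theorem f6160 : g 1 • path g [9, 8, 1, 3, 2] p = path g [9, 8, 1, 3, 2, 1] p :=
  rfl

theorem f6162 : g 1 • path g [9, 8, 1, 3, 2, 1] p = path g [9, 8, 1, 3, 2, 6] p :=
  scan (u := [1]) (w := [1]) (i := 1) (r1_0_0 H) (step (f6160 H) rfl) (step (H.back (i := 6) (by decide) (f6154 H)) rfl)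

theorem f6164 : g 2 • path g [9, 8, 1, 3, 2, 1] p = path g [9, 8, 1, 3, 6] p :=
  scan (u := [1]) (w := [1, 2]) (i := 2) (r3_0_0 H) (step (f6160 H) rfl) (step (H.back (i := 6) (by decide) (f2939 H)) (step (H.back (i := 7) (by decide) (f2930 H)) rfl))

theorem f6165 : g 7 • path g [9, 8, 1, 3, 6] p = path g [9, 8, 1, 3, 2, 1] p :=
  H.back (i := 2) (by decide) (f6164 H)

theorem f6166 : g 2 • path g [9, 8, 1, 3, 6] p = path g [9, 8, 1, 3, 2, 1] p :=
  scan (u := [2]) (w := []) (i := 2) (r2_0_0 H) (step (f6164 H) rfl) rfl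

theorem f6167 : g 7 • path g [9, 8, 1, 3, 2, 1] p = path g [9, 8, 1, 3, 6] p :=
  H.back (i := 2) (by decide) (f6166 H)

theorem f6168 : g 4 • path g [9, 8, 1, 3, 2] p = path g [9, 8, 1, 3, 2, 4] p :=
  rfl

theorem f6172 : g 8 • path g [9, 8, 1, 3, 5] p = path g [9, 8, 1, 3, 5, 8] p :=
  rfl

theorem f6174 : g 9 • path g [9, 8, 1, 3, 5, 8] p = path g [3, 1, 8, 5, 3] p :=
  scan (u := [8]) (w := [8, 9]) (i := 9) (r15_1_0 H) (step (f6172 H) rfl) (step (H.back (i := 3) (by decide) (f4838 H)) (step (H.back (i := 4) (by decide) (f2937 H)) rfl))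

theorem f6180 : g 3 • path g [9, 8, 1, 3, 5] p = path g [9, 8, 1, 3, 5, 3] p :=
  rfl

theorem f6182 : g 3 • path g [9, 8, 1, 3, 5, 3] p = path g [9, 8, 1, 3, 5, 8] p :=
  scan (u := [3]) (w := [3]) (i := 3) (r6_0_0 H) (step (f6180 H) rfl) (step (H.back (i := 8) (by decide) (f6172 H)) rfl)

theorem f6184 : g 6 • path g [9, 8, 1, 3, 5] p = path g [9, 8, 1, 3, 5, 6] p :=
  rfl

theorem f6186 : g 4 • path g [9, 8, 1, 3, 5, 6] p = path g [3, 1, 8, 5, 6] p :=
  scan (u := [6]) (w := [1, 9]) (i := 4) (r14_1_3 H) (step (f6184 H) rfl) (step (H.back (i := 6) (by decide) (f4842 H)) (step (H.back (i := 4) (by decide) (f2937 H)) rfl))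

theorem f6188 : g 1 • path g [9, 8, 1, 3, 5] p = path g [9, 8, 1, 3, 5, 1] p :=
  rfl

theorem f6190 : g 1 • path g [9, 8, 1, 3, 5, 1] p = path g [9, 8, 1, 3, 5, 6] p :=
  scan (u := [1]) (w := [1]) (i := 1) (r1_0_0 H) (step (f6188 H) rfl) (step (H.back (i := 6) (by decide) (f6184 H)) rfl)

theorem f6192 : g 4 • path g [9, 8, 1, 3, 5, 1] p = path g [8, 1, 8, 1, 5] p :=
  scan (u := [1]) (w := [6, 9]) (i := 4) (r14_0_0 H) (step (f6188 H) rfl) (step (H.back (i := 1) (by decide) (f4358 H)) (step (H.back (i := 4) (by decide) (f2937 H)) rfl))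

theorem f6193 : g 9 • path g [8, 1, 8, 1, 5] p = path g [9, 8, 1, 3, 5, 1] p :=
  H.back (i := 4) (by decide) (f6192 H)

theorem f6194 : g 0 • path g [9, 8, 1, 3, 5, 1] p = path g [8, 1, 8, 9, 1] p :=
  scan (u := [1]) (w := [1, 0, 6, 6, 0]) (i := 0) (r4_0_4 H) (step (f6188 H) rfl) (step (H.back (i := 6) (by decide) (f4267 H)) (step (H.back (i := 5) (by decide) (f4329 H)) (step (H.back (i := 1) (by decide) (f2945 H)) (step (H.back (i := 1) (by decide) (f2943 H)) (step (H.back (i := 5) (by decide) (f2935 H)) rfl)))))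

theorem f6196 : g 0 • path g [8, 1, 8, 9, 1] p = path g [9, 8, 1, 3, 5, 1] p :=
  scan (u := [0]) (w := []) (i := 0) (r0_0_0 H) (step (f6194 H) rfl) rfl

theorem f6197 : g 5 • path g [9, 8, 1, 3, 5, 1] p = path g [8, 1, 8, 9, 1] p :=
  H.back (i := 0) (by decide) (f6196 H)

theorem f6198 : g 8 • path g [9, 8, 1, 3, 6] p = path g [9, 8, 1, 3, 6, 8] p :=
  rfl

theorem f6199 : g 3 • path g [9, 8, 1, 3, 6, 8] p = path g [9, 8, 1, 3, 6] p :=
  H.back (i := 8) (by decide) (f6198 H)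

theorem f6200 : g 9 • path g [9, 8, 1, 3, 6, 8] p = path g [3, 1, 8, 6, 3] p :=
  scan (u := [8]) (w := [8, 9]) (i := 9) (r15_1_0 H) (step (f6198 H) rfl) (step (H.back (i := 3) (by decide) (f4872 H)) (step (H.back (i := 4) (by decide) (f2941 H)) rfl))

theorem f6201 : g 4 • path g [3, 1, 8, 6, 3] p = path g [9, 8, 1, 3, 6, 8] p :=
  H.back (i := 9) (by decide) (f6200 H)

theorem f6202 : g 3 • path g [9, 8, 1, 3, 6] p = path g [9, 8, 1, 3, 6, 3] p :=
  rfl

theorem f6203 : g 8 • path g [9, 8, 1, 3, 6, 3] p = path g [9, 8, 1, 3, 6] p :=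
  H.back (i := 3) (by decide) (f6202 H)

theorem f6204 : g 3 • path g [9, 8, 1, 3, 6, 3] p = path g [9, 8, 1, 3, 6, 8] p :=
  scan (u := [3]) (w := [3]) (i := 3) (r6_0_0 H) (step (f6202 H) rfl) (step (H.back (i := 8) (by decide) (f6198 H)) rfl)

theorem f6206 : g 8 • path g [9, 8, 1, 3, 1] p = path g [9, 8, 1, 3, 1, 8] p :=
  rfl

theorem f6207 : g 3 • path g [9, 8, 1, 3, 1, 8] p = path g [9, 8, 1, 3, 1] p :=
  H.back (i := 8) (by decide) (f6206 H)

theorem f6208 : g 9 • path g [9, 8, 1, 3, 1, 8] p = path g [3, 1, 8, 1, 3] p :=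
  scan (u := [8]) (w := [8, 9]) (i := 9) (r15_1_0 H) (step (f6206 H) rfl) (step (H.back (i := 3) (by decide) (f4890 H)) (step (H.back (i := 4) (by decide) (f2947 H)) rfl))

theorem f6210 : g 5 • path g [9, 8, 1, 3, 1] p = path g [9, 8, 1, 3, 1, 5] p :=
  rfl

theorem f6211 : g 0 • path g [9, 8, 1, 3, 1, 5] p = path g [9, 8, 1, 3, 1] p :=
  H.back (i := 5) (by decide) (f6210 H)

theorem f6212 : g 5 • path g [9, 8, 1, 3, 1, 5] p = path g [9, 8, 1, 3, 1] p :=
  scan (u := [5]) (w := []) (i := 5) (r0_1_0 H) (step (f6210 H) rfl) rfl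

theorem f6214 : g 4 • path g [9, 8, 1, 3, 1, 5] p = path g [8, 1, 8, 5, 1] p :=
  scan (u := [5]) (w := [0, 9]) (i := 4) (r13_1_1 H) (step (f6210 H) rfl) (step (H.back (i := 5) (by decide) (f4322 H)) (step (H.back (i := 4) (by decide) (f2947 H)) rfl))

theorem f6216 : g 6 • path g [9, 8, 1, 3, 1, 5] p = path g [8, 1, 8, 9, 5] p :=
  scan (u := [5]) (w := [5, 1, 1, 5, 6]) (i := 6) (r4_1_1 H) (step (f6210 H) rfl) (step (H.back (i := 0) (by decide) (f4257 H)) (step (H.back (i := 6) (by decide) (f4265 H)) (step (H.back (i := 6) (by decide) (f4267 H)) (step (H.back (i := 0) (by decide) (f4328 H)) (step (H.back (i := 1) (by decide) (f2945 H)) rfl)))))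

theorem f6217 : g 1 • path g [8, 1, 8, 9, 5] p = path g [9, 8, 1, 3, 1, 5] p :=
  H.back (i := 6) (by decide) (f6216 H)

theorem f6218 : g 7 • path g [9, 8, 2, 9, 5, 6] p = path g [9, 8, 1, 3, 1, 5] p :=
  scan (u := [5, 6, 8, 0, 2, 0, 2, 3, 5, 6]) (w := []) (i := 7) (r8_0_7 H) (step (f6212 H) (step (f2944 H) (step (f437 H) (step (f2845 H) (step (f920 H) (step (f2516 H) (step (f597 H) (step (f1657 H) (step (f1360 H) (step (f5464 H) rfl)))))))))) rfl

theorem f6219 : g 2 • path g [9, 8, 1, 3, 1, 5] p = path g [9, 8, 2, 9, 5, 6] p :=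
  H.back (i := 7) (by decide) (f6218 H)

theorem f6220 : g 7 • path g [9, 8, 1, 3, 1, 5] p = path g [9, 8, 2, 9, 5, 6] p :=
  scan (u := [7]) (w := []) (i := 7) (r2_1_0 H) (step (f6218 H) rfl) rfl

theorem f6222 : path g [8, 1, 8, 9, 5] p = path g [3, 1, 3, 9] p :=
  close (u := [7, 6]) (w := [7, 6]) (r3_1_0 H) (step (f6218 H) (step (f6216 H) rfl)) (step (H.back (i := 2) (by decide) (f5642 H)) (step (H.back (i := 1) (by decide) (f5465 H)) rfl))

theorem f6231 : g 1 • path g [3, 1, 3, 9] p = path g [9, 8, 1, 3, 1, 5] p :=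
  (congrArg (g 1 • ·) (f6222 H).symm).trans (f6217 H)

theorem f6232 : path g [3, 1, 3, 9, 1] p = path g [9, 8, 1, 3, 1, 5] p :=
  (f4928 H).symm.trans (f6231 H)

theorem f6233 : path g [9, 8, 1, 3, 1, 5] p = path g [3, 1, 3, 9, 1] p :=
  (f6232 H).symm

theorem f6234 : g 0 • path g [3, 1, 3, 9, 1] p = path g [9, 8, 1, 3, 1] p :=
  (congrArg (g 0 • ·) (f6233 H).symm).trans (f6211 H)

theorem f6236 : g 5 • path g [9, 8, 1, 3, 1] p = path g [3, 1, 3, 9, 1] p :=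
  H.back (i := 0) (by decide) (f6234 H)

theorem f6237 : g 5 • path g [3, 1, 3, 9, 1] p = path g [9, 8, 1, 3, 1] p :=
  (congrArg (g 5 • ·) (f6233 H).symm).trans (f6212 H)

theorem f6239 : g 0 • path g [9, 8, 1, 3, 1] p = path g [3, 1, 3, 9, 1] p :=
  H.back (i := 5) (by decide) (f6237 H)

theorem f6240 : g 4 • path g [3, 1, 3, 9, 1] p = path g [8, 1, 8, 5, 1] p :=
  (congrArg (g 4 • ·) (f6233 H).symm).trans (f6214 H)

theorem f6241 : path g [3, 1, 3, 1] p = path g [8, 1, 8, 5, 1] p :=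
  (f4932 H).symm.trans (f6240 H)

theorem f6245 : g 2 • path g [3, 1, 3, 9, 1] p = path g [9, 8, 2, 9, 5, 6] p :=
  (congrArg (g 2 • ·) (f6233 H).symm).trans (f6219 H)

theorem f6247 : g 7 • path g [9, 8, 2, 9, 5, 6] p = path g [3, 1, 3, 9, 1] p :=
  H.back (i := 2) (by decide) (f6245 H)

theorem f6248 : g 7 • path g [3, 1, 3, 9, 1] p = path g [9, 8, 2, 9, 5, 6] p :=
  (congrArg (g 7 • ·) (f6233 H).symm).trans (f6220 H)

theorem f6250 : g 2 • path g [9, 8, 2, 9, 5, 6] p = path g [3, 1, 3, 9, 1] p :=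
  H.back (i := 7) (by decide) (f6248 H)

theorem f6251 : path g [8, 1, 8, 5, 1] p = path g [3, 1, 3, 1] p :=
  (f6241 H).symm

theorem f6262 : g 0 • path g [3, 1, 3, 1] p = path g [3, 1, 8, 1] p :=
  (congrArg (g 0 • ·) (f6251 H).symm).trans (f4321 H)

theorem f6263 : path g [8, 1, 3, 5, 1] p = path g [3, 1, 8, 1] p :=
  (f4448 H).symm.trans (f6262 H)

theorem f6272 : g 0 • path g [3, 1, 8, 1] p = path g [3, 1, 3, 1] p :=
  (f4293 H).trans (f6251 H)

theorem f6279 : g 2 • path g [3, 1, 8, 1] p = path g [8, 1, 3, 5, 6] p :=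
  (congrArg (g 2 • ·) (f6263 H).symm).trans (f4452 H)

theorem f6280 : path g [3, 1, 8, 6] p = path g [8, 1, 3, 5, 6] p :=
  (f1140 H).symm.trans (f6279 H)

theorem f6281 : path g [8, 1, 3, 5, 6] p = path g [3, 1, 8, 6] p :=
  (f6280 H).symm

theorem f6295 : g 0 • path g [3, 1, 8, 6] p = path g [3, 1, 3, 5, 6] p :=
  (congrArg (g 0 • ·) (f6281 H).symm).trans (f4955 H)

theorem f6296 : path g [8, 1, 8, 6] p = path g [3, 1, 3, 5, 6] p :=
  (f4323 H).symm.trans (f6295 H)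

theorem f6297 : path g [3, 1, 3, 5, 6] p = path g [8, 1, 8, 6] p :=
  (f6296 H).symm

theorem f6310 : g 2 • path g [8, 1, 8, 6] p = path g [8, 1, 3, 1, 5] p :=
  (congrArg (g 2 • ·) (f6297 H).symm).trans (f4956 H)

theorem f6311 : path g [8, 1, 8, 1] p = path g [8, 1, 3, 1, 5] p :=
  (f888 H).symm.trans (f6310 H)

theorem f6312 : path g [8, 1, 3, 1, 5] p = path g [8, 1, 8, 1] p :=
  (f6311 H).symm

theorem f6317 : g 6 • path g [8, 1, 8, 1] p = path g [3, 1, 3, 5] p :=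
  (congrArg (g 6 • ·) (f6312 H).symm).trans (f4464 H)

theorem f6318 : path g [8, 1, 8] p = path g [3, 1, 3, 5] p :=
  (f883 H).symm.trans (f6317 H)

theorem f6328 : path g [3, 1, 3, 5] p = path g [8, 1, 8] p :=
  (f6318 H).symm

theorem f6348 : g 3 • path g [8, 1, 8] p = path g [3, 1, 3, 5, 3] p :=
  (congrArg (g 3 • ·) (f6328 H).symm).trans (f4942 H)

theorem f6349 : path g [8, 1] p = path g [3, 1, 3, 5, 3] p :=
  (f241 H).symm.trans (f6348 H)

theorem f6353 : path g [3, 1, 3, 5, 3] p = path g [8, 1] p :=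
  (f6349 H).symm

theorem f6357 : g 3 • path g [8, 1] p = path g [3, 1, 3, 5, 8] p :=
  (congrArg (g 3 • ·) (f6353 H).symm).trans (f4944 H)

theorem f6358 : path g [8, 1, 3] p = path g [3, 1, 3, 5, 8] p :=
  (f244 H).symm.trans (f6357 H)

theorem f6359 : path g [3, 1, 3, 5, 8] p = path g [8, 1, 3] p :=
  (f6358 H).symm

theorem f6365 : g 7 • path g [8, 1, 3] p = path g [3, 6, 3, 5, 8] p :=
  (congrArg (g 7 • ·) (f6359 H).symm).trans (f4941 H)

theorem f6366 : path g [3, 6, 3] p = path g [3, 6, 3, 5, 8] p :=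
  (f4084 H).symm.trans (f6365 H)

theorem f6370 : path g [3, 6, 3, 5, 8] p = path g [3, 6, 3] p :=
  (f6366 H).symm

theorem f6373 : g 8 • path g [3, 6, 3] p = path g [3, 6, 3, 5, 3] p :=
  (congrArg (g 8 • ·) (f6370 H).symm).trans (f4795 H)

theorem f6374 : path g [3, 6] p = path g [3, 6, 3, 5, 3] p :=
  (f317 H).symm.trans (f6373 H)

theorem f6381 : path g [3, 6, 3, 5, 3] p = path g [3, 6] p :=
  (f6374 H).symm

theorem f6382 : g 8 • path g [3, 6] p = path g [3, 6, 3, 5] p :=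
  (congrArg (g 8 • ·) (f6381 H).symm).trans (f4793 H)

theorem f6383 : path g [3, 6, 8] p = path g [3, 6, 3, 5] p :=
  (f312 H).symm.trans (f6382 H)

theorem f6387 : path g [3, 6, 3, 5] p = path g [3, 6, 8] p :=
  (f6383 H).symm

theorem f6410 : g 6 • path g [3, 6, 8] p = path g [3, 6, 3, 5, 6] p :=
  (congrArg (g 6 • ·) (f6387 H).symm).trans (f4796 H)

theorem f6411 : path g [3, 6, 8, 6] p = path g [3, 6, 3, 5, 6] p :=
  (f1092 H).symm.trans (f6410 H)

theorem f6412 : path g [3, 6, 3, 5, 6] p = path g [3, 6, 8, 6] p :=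
  (f6411 H).symm

theorem f6424 : g 2 • path g [3, 6, 8, 6] p = path g [8, 6, 3, 1, 5] p :=
  (congrArg (g 2 • ·) (f6412 H).symm).trans (f4806 H)

theorem f6425 : path g [3, 6, 8, 1] p = path g [8, 6, 3, 1, 5] p :=
  (f1100 H).symm.trans (f6424 H)

theorem f6426 : path g [8, 6, 3, 1, 5] p = path g [3, 6, 8, 1] p :=
  (f6425 H).symm

theorem f6429 : g 5 • path g [3, 6, 8, 1] p = path g [8, 6, 3, 1] p :=
  (congrArg (g 5 • ·) (f6426 H).symm).trans (f4198 H)

theorem f6430 : path g [8, 6, 8, 5, 1] p = path g [8, 6, 3, 1] p :=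
  (f4062 H).symm.trans (f6429 H)

theorem f6448 : g 0 • path g [8, 6, 3, 1] p = path g [3, 6, 8, 1] p :=
  (f4199 H).trans (f6426 H)

theorem f6457 : g 9 • path g [8, 6, 3, 1] p = path g [9, 8, 6, 3, 1, 5] p :=
  (congrArg (g 9 • ·) (f6430 H).symm).trans (f6021 H)

theorem f6458 : path g [8, 6, 3, 9, 1] p = path g [9, 8, 6, 3, 1, 5] p :=
  (f4148 H).symm.trans (f6457 H)

theorem f6459 : path g [9, 8, 6, 3, 1, 5] p = path g [8, 6, 3, 9, 1] p :=
  (f6458 H).symm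

theorem f6460 : g 0 • path g [8, 6, 3, 9, 1] p = path g [9, 8, 6, 3, 1] p :=
  (congrArg (g 0 • ·) (f6459 H).symm).trans (f6017 H)

theorem f6462 : g 5 • path g [9, 8, 6, 3, 1] p = path g [8, 6, 3, 9, 1] p :=
  H.back (i := 0) (by decide) (f6460 H)

theorem f6463 : g 5 • path g [8, 6, 3, 9, 1] p = path g [9, 8, 6, 3, 1] p :=
  (congrArg (g 5 • ·) (f6459 H).symm).trans (f6018 H)

theorem f6465 : g 0 • path g [9, 8, 6, 3, 1] p = path g [8, 6, 3, 9, 1] p :=
  H.back (i := 5) (by decide) (f6463 H)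

theorem f6469 : g 6 • path g [8, 6, 3, 9, 1] p = path g [8, 6, 8, 9, 5] p :=
  (congrArg (g 6 • ·) (f6459 H).symm).trans (f6022 H)

theorem f6470 : path g [8, 6, 3, 9] p = path g [8, 6, 8, 9, 5] p :=
  (f4144 H).symm.trans (f6469 H)

theorem f6471 : path g [8, 6, 8, 9, 5] p = path g [8, 6, 3, 9] p :=
  (f6470 H).symm

theorem f6478 : g 9 • path g [8, 6, 3, 9] p = path g [8, 6, 8, 5, 4] p :=
  (congrArg (g 9 • ·) (f6471 H).symm).trans (f4041 H)

theorem f6479 : path g [8, 9, 6, 8] p = path g [8, 6, 8, 5, 4] p :=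
  (f838 H).symm.trans (f6478 H)

theorem f6483 : path g [8, 6, 8, 5, 4] p = path g [8, 9, 6, 8] p :=
  (f6479 H).symm

theorem f6491 : g 0 • path g [8, 9, 6, 8] p = path g [8, 6, 8, 4] p :=
  (congrArg (g 0 • ·) (f6483 H).symm).trans (f4044 H)

theorem f6492 : path g [8, 9, 6, 8, 5] p = path g [8, 6, 8, 4] p :=
  (f3924 H).symm.trans (f6491 H)

theorem f6494 : g 0 • path g [8, 6, 8, 4] p = path g [8, 9, 6, 8] p :=
  (f4043 H).trans (f6483 H)

theorem f6497 : g 5 • path g [8, 6, 8, 4] p = path g [8, 9, 6, 8] p :=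
  (f4045 H).trans (f6483 H)

theorem f6501 : g 4 • path g [8, 6, 8, 4] p = path g [8, 6, 3, 9, 5] p :=
  (congrArg (g 4 • ·) (f6492 H).symm).trans (f4134 H)

theorem f6502 : path g [8, 6, 8, 9] p = path g [8, 6, 3, 9, 5] p :=
  (f834 H).symm.trans (f6501 H)

theorem f6503 : path g [8, 6, 3, 9, 5] p = path g [8, 6, 8, 9] p :=
  (f6502 H).symm

theorem f6505 : g 0 • path g [8, 6, 8, 9] p = path g [8, 6, 3, 9] p :=
  (f4013 H).trans (f6471 H)

theorem f6513 : g 4 • path g [8, 6, 8, 9] p = path g [8, 6, 3, 5] p :=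
  (congrArg (g 4 • ·) (f6503 H).symm).trans (f4135 H)

theorem f6514 : path g [8, 6, 8] p = path g [8, 6, 3, 5] p :=
  (f815 H).symm.trans (f6513 H)

theorem f6515 : path g [8, 6, 3, 5] p = path g [8, 6, 8] p :=
  (f6514 H).symm

theorem f6538 : g 1 • path g [8, 6, 8] p = path g [8, 6, 3, 5, 1] p :=
  (congrArg (g 1 • ·) (f6515 H).symm).trans (f4163 H)

theorem f6539 : path g [8, 6, 8, 1] p = path g [8, 6, 3, 5, 1] p :=
  (f824 H).symm.trans (f6538 H)

theorem f6540 : path g [8, 6, 3, 5, 1] p = path g [8, 6, 8, 1] p :=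
  (f6539 H).symm

theorem f6548 : g 5 • path g [8, 6, 8, 1] p = path g [3, 6, 3, 1] p :=
  (congrArg (g 5 • ·) (f6540 H).symm).trans (f4309 H)

theorem f6549 : path g [8, 6, 8, 1, 5] p = path g [3, 6, 3, 1] p :=
  (f4103 H).symm.trans (f6548 H)

theorem f6574 : g 0 • path g [3, 6, 3, 1] p = path g [8, 6, 8, 1] p :=
  (f4308 H).trans (f6540 H)

theorem f6577 : g 5 • path g [3, 6, 3, 1] p = path g [8, 6, 8, 1] p :=
  (f4307 H).trans (f6540 H)

theorem f6587 : g 9 • path g [3, 6, 3, 1] p = path g [9, 8, 6, 3, 5, 1] p :=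
  (congrArg (g 9 • ·) (f6549 H).symm).trans (f5999 H)

theorem f6588 : path g [3, 6, 3, 9, 1] p = path g [9, 8, 6, 3, 5, 1] p :=
  (f4787 H).symm.trans (f6587 H)

theorem f6589 : path g [9, 8, 6, 3, 5, 1] p = path g [3, 6, 3, 9, 1] p :=
  (f6588 H).symm

theorem f6592 : g 1 • path g [3, 6, 3, 9, 1] p = path g [9, 8, 6, 3, 5, 6] p :=
  (congrArg (g 1 • ·) (f6589 H).symm).trans (f5996 H)

theorem f6593 : path g [3, 6, 3, 9, 6] p = path g [9, 8, 6, 3, 5, 6] p :=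
  (f4784 H).symm.trans (f6592 H)

theorem f6597 : g 0 • path g [3, 6, 3, 9, 1] p = path g [8, 6, 8, 9, 1] p :=
  (congrArg (g 0 • ·) (f6589 H).symm).trans (f6000 H)

theorem f6599 : g 5 • path g [8, 6, 8, 9, 1] p = path g [3, 6, 3, 9, 1] p :=
  H.back (i := 0) (by decide) (f6597 H)

theorem f6600 : g 5 • path g [3, 6, 3, 9, 1] p = path g [8, 6, 8, 9, 1] p :=
  (congrArg (g 5 • ·) (f6589 H).symm).trans (f6003 H)

theorem f6602 : g 0 • path g [8, 6, 8, 9, 1] p = path g [3, 6, 3, 9, 1] p :=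
  H.back (i := 5) (by decide) (f6600 H)

theorem f6603 : path g [9, 8, 6, 3, 5, 6] p = path g [3, 6, 3, 9, 6] p :=
  (f6593 H).symm

theorem f6606 : g 4 • path g [3, 6, 3, 9, 6] p = path g [3, 6, 8, 5, 6] p :=
  (congrArg (g 4 • ·) (f6603 H).symm).trans (f5992 H)

theorem f6607 : path g [3, 6, 3, 6] p = path g [3, 6, 8, 5, 6] p :=
  (f4776 H).symm.trans (f6606 H)

theorem f6611 : path g [3, 6, 8, 5, 6] p = path g [3, 6, 3, 6] p :=
  (f6607 H).symm

theorem f6623 : g 2 • path g [3, 6, 3, 6] p = path g [8, 1, 8, 1, 5] p :=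
  (congrArg (g 2 • ·) (f6611 H).symm).trans (f4708 H)

theorem f6624 : path g [8, 1, 3, 1] p = path g [8, 1, 8, 1, 5] p :=
  (f4433 H).symm.trans (f6623 H)

theorem f6628 : path g [8, 1, 8, 1, 5] p = path g [8, 1, 3, 1] p :=
  (f6624 H).symm

theorem f6630 : g 0 • path g [8, 1, 3, 1] p = path g [8, 1, 8, 1] p :=
  (f4463 H).trans (f6312 H)

theorem f6645 : g 9 • path g [8, 1, 3, 1] p = path g [9, 8, 1, 3, 5, 1] p :=
  (congrArg (g 9 • ·) (f6628 H).symm).trans (f6193 H)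

theorem f6646 : path g [8, 1, 3, 9, 1] p = path g [9, 8, 1, 3, 5, 1] p :=
  (f4398 H).symm.trans (f6645 H)

theorem f6647 : path g [9, 8, 1, 3, 5, 1] p = path g [8, 1, 3, 9, 1] p :=
  (f6646 H).symm

theorem f6650 : g 1 • path g [8, 1, 3, 9, 1] p = path g [9, 8, 1, 3, 5, 6] p :=
  (congrArg (g 1 • ·) (f6647 H).symm).trans (f6190 H)

theorem f6651 : path g [8, 1, 3, 9, 6] p = path g [9, 8, 1, 3, 5, 6] p :=
  (f4395 H).symm.trans (f6650 H)

theorem f6655 : g 0 • path g [8, 1, 3, 9, 1] p = path g [8, 1, 8, 9, 1] p :=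
  (congrArg (g 0 • ·) (f6647 H).symm).trans (f6194 H)

theorem f6657 : g 5 • path g [8, 1, 8, 9, 1] p = path g [8, 1, 3, 9, 1] p :=
  H.back (i := 0) (by decide) (f6655 H)

theorem f6658 : g 5 • path g [8, 1, 3, 9, 1] p = path g [8, 1, 8, 9, 1] p :=
  (congrArg (g 5 • ·) (f6647 H).symm).trans (f6197 H)

theorem f6660 : g 0 • path g [8, 1, 8, 9, 1] p = path g [8, 1, 3, 9, 1] p :=
  H.back (i := 5) (by decide) (f6658 H)

theorem f6661 : path g [9, 8, 1, 3, 5, 6] p = path g [8, 1, 3, 9, 6] p :=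
  (f6651 H).symm

theorem f6664 : g 4 • path g [8, 1, 3, 9, 6] p = path g [3, 1, 8, 5, 6] p :=
  (congrArg (g 4 • ·) (f6661 H).symm).trans (f6186 H)

theorem f6665 : path g [8, 1, 3, 6] p = path g [3, 1, 8, 5, 6] p :=
  (f4391 H).symm.trans (f6664 H)

theorem f6669 : path g [3, 1, 8, 5, 6] p = path g [8, 1, 3, 6] p :=
  (f6665 H).symm

theorem f6680 : g 5 • path g [8, 1, 3, 6] p = path g [8, 1, 8, 5, 6] p :=
  (congrArg (g 5 • ·) (f6669 H).symm).trans (f4850 H)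

theorem f6681 : path g [3, 1, 3, 6] p = path g [8, 1, 8, 5, 6] p :=
  (f4445 H).symm.trans (f6680 H)

theorem f6688 : path g [8, 1, 8, 5, 6] p = path g [3, 1, 3, 6] p :=
  (f6681 H).symm

theorem f6689 : g 1 • path g [3, 1, 3, 6] p = path g [8, 1, 8, 5] p :=
  (congrArg (g 1 • ·) (f6688 H).symm).trans (f4277 H)

theorem f6690 : path g [3, 1, 3] p = path g [8, 1, 8, 5] p :=
  (f1163 H).symm.trans (f6689 H)

theorem f6706 : path g [8, 1, 8, 5] p = path g [3, 1, 3] p :=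
  (f6690 H).symm

theorem f6708 : g 0 • path g [3, 1, 3] p = path g [8, 1, 8] p :=
  (f1161 H).trans (f6328 H)

theorem f6722 : g 3 • path g [3, 1, 3] p = path g [8, 1, 8, 5, 3] p :=
  (congrArg (g 3 • ·) (f6706 H).symm).trans (f4272 H)

theorem f6723 : path g [3, 1, 8] p = path g [8, 1, 8, 5, 3] p :=
  (f326 H).symm.trans (f6722 H)

theorem f6730 : g 4 • path g [3, 1, 3] p = path g [8, 1, 8, 5, 4] p :=
  (congrArg (g 4 • ·) (f6706 H).symm).trans (f4331 H)

theorem f6731 : path g [3, 9, 1, 8] p = path g [8, 1, 8, 5, 4] p :=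
  (f1021 H).symm.trans (f6730 H)

theorem f6732 : path g [8, 1, 8, 5, 4] p = path g [3, 9, 1, 8] p :=
  (f6731 H).symm

theorem f6741 : g 0 • path g [3, 9, 1, 8] p = path g [8, 1, 8, 4] p :=
  (congrArg (g 0 • ·) (f6732 H).symm).trans (f4337 H)

theorem f6742 : path g [3, 9, 1, 8, 5] p = path g [8, 1, 8, 4] p :=
  (f4652 H).symm.trans (f6741 H)

theorem f6744 : g 0 • path g [8, 1, 8, 4] p = path g [3, 9, 1, 8] p :=
  (f4336 H).trans (f6732 H)

theorem f6752 : g 4 • path g [8, 1, 8, 4] p = path g [3, 1, 3, 9, 5] p :=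
  (congrArg (g 4 • ·) (f6742 H).symm).trans (f4915 H)

theorem f6753 : path g [8, 1, 8, 9] p = path g [3, 1, 3, 9, 5] p :=
  (f892 H).symm.trans (f6752 H)

theorem f6754 : path g [3, 1, 3, 9, 5] p = path g [8, 1, 8, 9] p :=
  (f6753 H).symm

theorem f6756 : g 0 • path g [8, 1, 8, 9] p = path g [3, 1, 3, 9] p :=
  (f4257 H).trans (f6222 H)

theorem f6759 : g 5 • path g [8, 1, 8, 9] p = path g [3, 1, 3, 9] p :=
  (f4254 H).trans (f6222 H)

theorem f6769 : g 7 • path g [8, 1, 8, 9] p = path g [9, 8, 2, 6, 8, 5] p :=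
  (congrArg (g 7 • ·) (f6754 H).symm).trans (f5701 H)

theorem f6770 : path g [8, 1, 8, 9, 2] p = path g [9, 8, 2, 6, 8, 5] p :=
  (f4253 H).symm.trans (f6769 H)

theorem f6771 : path g [9, 8, 2, 6, 8, 5] p = path g [8, 1, 8, 9, 2] p :=
  (f6770 H).symm

theorem f6772 : g 0 • path g [8, 1, 8, 9, 2] p = path g [9, 8, 2, 6, 8] p :=
  (congrArg (g 0 • ·) (f6771 H).symm).trans (f5615 H)

theorem f6774 : g 5 • path g [9, 8, 2, 6, 8] p = path g [8, 1, 8, 9, 2] p :=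
  H.back (i := 0) (by decide) (f6772 H)

theorem f6775 : g 5 • path g [8, 1, 8, 9, 2] p = path g [9, 8, 2, 6, 8] p :=
  (congrArg (g 5 • ·) (f6771 H).symm).trans (f5616 H)

theorem f6777 : g 0 • path g [9, 8, 2, 6, 8] p = path g [8, 1, 8, 9, 2] p :=
  H.back (i := 5) (by decide) (f6775 H)

theorem f6784 : path g [8, 1, 8, 5, 3] p = path g [3, 1, 8] p :=
  (f6723 H).symm

theorem f6788 : g 3 • path g [3, 1, 8] p = path g [8, 1, 8, 5, 8] p :=
  (congrArg (g 3 • ·) (f6784 H).symm).trans (f4274 H)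

theorem f6789 : path g [3, 1] p = path g [8, 1, 8, 5, 8] p :=
  (f321 H).symm.trans (f6788 H)

theorem f6790 : path g [8, 1, 8, 5, 8] p = path g [3, 1] p :=
  (f6789 H).symm

theorem f6799 : g 7 • path g [3, 1] p = path g [3, 6, 8, 5, 8] p :=
  (congrArg (g 7 • ·) (f6790 H).symm).trans (f4711 H)

theorem f6800 : path g [3, 6] p = path g [3, 6, 8, 5, 8] p :=
  (f89 H).symm.trans (f6799 H)

theorem f6801 : path g [3, 6, 8, 5, 8] p = path g [3, 6] p :=
  (f6800 H).symm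

theorem f6804 : g 8 • path g [3, 6] p = path g [3, 6, 8, 5, 3] p :=
  (congrArg (g 8 • ·) (f6801 H).symm).trans (f4695 H)

theorem f6805 : path g [3, 6, 8] p = path g [3, 6, 8, 5, 3] p :=
  (f312 H).symm.trans (f6804 H)

theorem f6812 : path g [3, 6, 8, 5, 3] p = path g [3, 6, 8] p :=
  (f6805 H).symm

theorem f6818 : g 4 • path g [3, 6, 8] p = path g [9, 8, 6, 3, 5, 8] p :=
  (congrArg (g 4 • ·) (f6812 H).symm).trans (f5981 H)

theorem f6819 : path g [3, 6, 8, 4] p = path g [9, 8, 6, 3, 5, 8] p :=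
  (f1102 H).symm.trans (f6818 H)

theorem f6820 : path g [9, 8, 6, 3, 5, 8] p = path g [3, 6, 8, 4] p :=
  (f6819 H).symm

theorem f6826 : g 8 • path g [3, 6, 8, 4] p = path g [9, 8, 6, 3, 5, 3] p :=
  (congrArg (g 8 • ·) (f6820 H).symm).trans (f5989 H)

theorem f6827 : path g [9, 8, 6, 8, 4] p = path g [9, 8, 6, 3, 5, 3] p :=
  (f2880 H).symm.trans (f6826 H)

theorem f6828 : path g [9, 8, 6, 3, 5, 3] p = path g [9, 8, 6, 8, 4] p :=
  (f6827 H).symm

theorem f6829 : g 8 • path g [9, 8, 6, 8, 4] p = path g [9, 8, 6, 3, 5] p :=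
  (congrArg (g 8 • ·) (f6828 H).symm).trans (f5987 H)

theorem f6830 : path g [3, 6, 3, 9] p = path g [9, 8, 6, 3, 5] p :=
  (f2882 H).symm.trans (f6829 H)

theorem f6834 : path g [9, 8, 6, 3, 5] p = path g [3, 6, 3, 9] p :=
  (f6830 H).symm

theorem f6841 : g 9 • path g [3, 6, 3, 9] p = path g [3, 6, 8, 5, 4] p :=
  (congrArg (g 9 • ·) (f6834 H).symm).trans (f4717 H)

theorem f6842 : path g [3, 9, 6, 8] p = path g [3, 6, 8, 5, 4] p :=
  (f1108 H).symm.trans (f6841 H)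

theorem f6866 : path g [3, 6, 8, 5, 4] p = path g [3, 9, 6, 8] p :=
  (f6842 H).symm

theorem f6867 : g 9 • path g [3, 9, 6, 8] p = path g [3, 6, 8, 5] p :=
  (congrArg (g 9 • ·) (f6866 H).symm).trans (f4715 H)

theorem f6868 : path g [3, 6, 3] p = path g [3, 6, 8, 5] p :=
  (f1010 H).symm.trans (f6867 H)

theorem f6874 : g 0 • path g [3, 9, 6, 8] p = path g [3, 6, 8, 4] p :=
  (congrArg (g 0 • ·) (f6866 H).symm).trans (f4720 H)

theorem f6875 : path g [3, 9, 6, 8, 5] p = path g [3, 6, 8, 4] p :=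
  (f4612 H).symm.trans (f6874 H)

theorem f6877 : g 0 • path g [3, 6, 8, 4] p = path g [3, 9, 6, 8] p :=
  (f4719 H).trans (f6866 H)

theorem f6885 : g 4 • path g [3, 6, 8, 4] p = path g [3, 6, 3, 9, 5] p :=
  (congrArg (g 4 • ·) (f6875 H).symm).trans (f4769 H)

theorem f6886 : path g [9, 8, 6, 3] p = path g [3, 6, 3, 9, 5] p :=
  (f1104 H).symm.trans (f6885 H)

theorem f6887 : path g [3, 6, 3, 9, 5] p = path g [9, 8, 6, 3] p :=
  (f6886 H).symm

theorem f6889 : g 0 • path g [9, 8, 6, 3] p = path g [3, 6, 3, 9] p :=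
  (f2890 H).trans (f6834 H)

theorem f6892 : g 5 • path g [9, 8, 6, 3] p = path g [3, 6, 3, 9] p :=
  (f2887 H).trans (f6834 H)

theorem f6900 : path g [3, 6, 8, 5] p = path g [3, 6, 3] p :=
  (f6868 H).symm

theorem f6902 : g 0 • path g [3, 6, 3] p = path g [3, 6, 8] p :=
  (f1119 H).trans (f6387 H)

theorem f6909 : g 7 • path g [3, 6, 3] p = path g [3, 1, 8, 5] p :=
  (congrArg (g 7 • ·) (f6900 H).symm).trans (f1132 H)

theorem f6910 : path g [8, 1, 3] p = path g [3, 1, 8, 5] p :=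
  (f4089 H).symm.trans (f6909 H)

theorem f6929 : path g [3, 1, 8, 5] p = path g [8, 1, 3] p :=
  (f6910 H).symm

theorem f6952 : g 4 • path g [8, 1, 3] p = path g [3, 1, 8, 5, 4] p :=
  (congrArg (g 4 • ·) (f6929 H).symm).trans (f4858 H)

theorem f6953 : path g [8, 9, 1, 8] p = path g [3, 1, 8, 5, 4] p :=
  (f715 H).symm.trans (f6952 H)

theorem f6954 : path g [3, 1, 8, 5, 4] p = path g [8, 9, 1, 8] p :=
  (f6953 H).symm

theorem f6962 : g 0 • path g [8, 9, 1, 8] p = path g [3, 1, 8, 4] p :=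
  (congrArg (g 0 • ·) (f6954 H).symm).trans (f4864 H)

theorem f6963 : path g [8, 9, 1, 8, 5] p = path g [3, 1, 8, 4] p :=
  (f3962 H).symm.trans (f6962 H)

theorem f6965 : g 0 • path g [3, 1, 8, 4] p = path g [8, 9, 1, 8] p :=
  (f4863 H).trans (f6954 H)

theorem f6968 : g 5 • path g [3, 1, 8, 4] p = path g [8, 9, 1, 8] p :=
  (f4865 H).trans (f6954 H)

theorem f6972 : g 4 • path g [3, 1, 8, 4] p = path g [8, 1, 3, 9, 5] p :=
  (congrArg (g 4 • ·) (f6963 H).symm).trans (f4384 H)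

theorem f6973 : path g [9, 8, 1, 3] p = path g [8, 1, 3, 9, 5] p :=
  (f1146 H).symm.trans (f6972 H)

theorem f6974 : path g [8, 1, 3, 9, 5] p = path g [9, 8, 1, 3] p :=
  (f6973 H).symm

theorem f6977 : g 5 • path g [9, 8, 1, 3] p = path g [8, 1, 3, 9] p :=
  (congrArg (g 5 • ·) (f6974 H).symm).trans (f4381 H)

theorem f6978 : path g [9, 8, 1, 3, 5] p = path g [8, 1, 3, 9] p :=
  (f2933 H).symm.trans (f6977 H)

theorem f6982 : g 4 • path g [9, 8, 1, 3] p = path g [8, 1, 3, 5] p :=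
  (congrArg (g 4 • ·) (f6974 H).symm).trans (f4385 H)

theorem f6983 : path g [3, 1, 8] p = path g [8, 1, 3, 5] p :=
  (f440 H).symm.trans (f6982 H)

theorem f6984 : path g [8, 1, 3, 5] p = path g [3, 1, 8] p :=
  (f6983 H).symm

theorem f6986 : g 0 • path g [3, 1, 8] p = path g [8, 1, 3] p :=
  (f1129 H).trans (f6929 H)

theorem f6989 : g 5 • path g [3, 1, 8] p = path g [8, 1, 3] p :=
  (f1126 H).trans (f6929 H)

theorem f7050 : g 0 • path g [8, 1, 3, 9] p = path g [9, 8, 1, 3] p :=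
  (f4382 H).trans (f6974 H)

theorem f7053 : g 5 • path g [8, 1, 3, 9] p = path g [9, 8, 1, 3] p :=
  (f4379 H).trans (f6974 H)

theorem f7067 : g 3 • path g [8, 1, 3, 9] p = path g [9, 8, 1, 3, 5, 3] p :=
  (congrArg (g 3 • ·) (f6978 H).symm).trans (f6180 H)

theorem f7068 : path g [8, 9, 1, 3, 9] p = path g [9, 8, 1, 3, 5, 3] p :=
  (f3988 H).symm.trans (f7067 H)

theorem f7075 : path g [9, 8, 1, 3, 5, 3] p = path g [8, 9, 1, 3, 9] p :=
  (f7068 H).symm

theorem f7079 : g 3 • path g [8, 9, 1, 3, 9] p = path g [9, 8, 1, 3, 5, 8] p :=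
  (congrArg (g 3 • ·) (f7075 H).symm).trans (f6182 H)

theorem f7080 : path g [8, 1, 8, 4] p = path g [9, 8, 1, 3, 5, 8] p :=
  (f3990 H).symm.trans (f7079 H)

theorem f7081 : path g [9, 8, 1, 3, 5, 8] p = path g [8, 1, 8, 4] p :=
  (f7080 H).symm

theorem f7085 : g 9 • path g [8, 1, 8, 4] p = path g [3, 1, 8, 5, 3] p :=
  (congrArg (g 9 • ·) (f7081 H).symm).trans (f6174 H)

theorem f7086 : path g [8, 1, 8] p = path g [3, 1, 8, 5, 3] p :=
  (f891 H).symm.trans (f7085 H)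

theorem f7090 : path g [3, 1, 8, 5, 3] p = path g [8, 1, 8] p :=
  (f7086 H).symm

theorem f7094 : g 3 • path g [8, 1, 8] p = path g [3, 1, 8, 5, 8] p :=
  (congrArg (g 3 • ·) (f7090 H).symm).trans (f4840 H)

theorem f7095 : path g [8, 1] p = path g [3, 1, 8, 5, 8] p :=
  (f241 H).symm.trans (f7094 H)

theorem f7099 : path g [3, 1, 8, 5, 8] p = path g [8, 1] p :=
  (f7095 H).symm

theorem f7105 : g 7 • path g [8, 1] p = path g [8, 6, 8, 5, 8] p :=
  (congrArg (g 7 • ·) (f7099 H).symm).trans (f4837 H)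

theorem f7106 : path g [8, 6] p = path g [8, 6, 8, 5, 8] p :=
  (f65 H).symm.trans (f7105 H)

theorem f7110 : path g [8, 6, 8, 5, 8] p = path g [8, 6] p :=
  (f7106 H).symm

theorem f7113 : g 8 • path g [8, 6] p = path g [8, 6, 8, 5, 3] p :=
  (congrArg (g 8 • ·) (f7110 H).symm).trans (f4031 H)

theorem f7114 : path g [8, 6, 8] p = path g [8, 6, 8, 5, 3] p :=
  (f224 H).symm.trans (f7113 H)

theorem f7121 : path g [8, 6, 8, 5, 3] p = path g [8, 6, 8] p :=
  (f7114 H).symm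

theorem f7122 : g 8 • path g [8, 6, 8] p = path g [8, 6, 8, 5] p :=
  (congrArg (g 8 • ·) (f7121 H).symm).trans (f4029 H)

theorem f7123 : path g [8, 6, 3] p = path g [8, 6, 8, 5] p :=
  (f231 H).symm.trans (f7122 H)

theorem f7127 : path g [8, 6, 8, 5] p = path g [8, 6, 3] p :=
  (f7123 H).symm

theorem f7129 : g 0 • path g [8, 6, 3] p = path g [8, 6, 8] p :=
  (f849 H).trans (f6515 H)

theorem f7183 : g 5 • path g [3, 1, 3, 9] p = path g [8, 1, 8, 9] p :=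
  (f4910 H).trans (f6754 H)

theorem f7184 : g 5 • path g [3, 9, 1, 8] p = path g [8, 1, 8, 4] p :=
  (f4649 H).trans (f6742 H)

theorem f7185 : g 0 • path g [8, 6, 8] p = path g [8, 6, 3] p :=
  (f821 H).trans (f7127 H)

theorem f7186 : g 0 • path g [8, 1, 8] p = path g [3, 1, 3] p :=
  (f875 H).trans (f6706 H)

theorem f7188 : g 5 • path g [8, 6, 8] p = path g [8, 6, 3] p :=
  (f818 H).trans (f7127 H)

theorem f7189 : g 0 • path g [3, 1, 3, 9] p = path g [8, 1, 8, 9] p :=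
  (f4913 H).trans (f6754 H)

theorem f7190 : g 0 • path g [3, 9, 1, 8] p = path g [8, 1, 8, 4] p :=
  (f4652 H).trans (f6742 H)

theorem f7191 : g 0 • path g [8, 1, 8, 1, 4] p = path g [8, 9, 1, 8, 1] p :=
  scan (u := [5, 9]) (w := [4]) (i := 0) (r13_0_0 H) (step (f6658 H) (step (f4366 H) rfl)) (step (H.back (i := 9) (by decide) (f4399 H)) rfl)

theorem f7192 : g 5 • path g [8, 9, 1, 8, 1] p = path g [8, 1, 8, 1, 4] p :=
  H.back (i := 0) (by decide) (f7191 H)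

theorem f7193 : g 0 • path g [8, 1, 8, 1] p = path g [8, 1, 3, 1] p :=
  (f4356 H).trans (f6628 H)

theorem f7194 : g 0 • path g [8, 9, 1, 8, 1] p = path g [8, 1, 8, 1, 4] p :=
  scan (u := [0]) (w := []) (i := 0) (r0_0_0 H) (step (f7191 H) rfl) rfl

theorem f7195 : g 5 • path g [8, 1, 8, 1, 4] p = path g [8, 9, 1, 8, 1] p :=
  H.back (i := 0) (by decide) (f7194 H)

theorem f7196 : g 5 • path g [8, 1, 8, 1] p = path g [8, 1, 3, 1] p :=
  (f4353 H).trans (f6628 H)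

theorem f7197 : g 5 • path g [8, 9, 1, 8] p = path g [3, 1, 8, 4] p :=
  (f3959 H).trans (f6963 H)

theorem f7198 : g 5 • path g [3, 1, 3, 1] p = path g [3, 1, 8, 1] p :=
  (f4447 H).trans (f6263 H)

theorem f7199 : g 0 • path g [9, 8, 1, 3] p = path g [8, 1, 3, 9] p :=
  (f2936 H).trans (f6978 H)

theorem f7200 : g 0 • path g [8, 6, 8, 1, 4] p = path g [3, 9, 6, 8, 1] p :=
  scan (u := [5, 9]) (w := [4]) (i := 0) (r13_0_0 H) (step (f6600 H) (step (f4116 H) rfl)) (step (H.back (i := 9) (by decide) (f4788 H)) rfl)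

theorem f7201 : g 5 • path g [3, 9, 6, 8, 1] p = path g [8, 6, 8, 1, 4] p :=
  H.back (i := 0) (by decide) (f7200 H)

theorem f7202 : g 0 • path g [8, 6, 8, 1] p = path g [3, 6, 3, 1] p :=
  (f4106 H).trans (f6549 H)

theorem f7204 : g 0 • path g [8, 6, 3, 9] p = path g [8, 6, 8, 9] p :=
  (f4132 H).trans (f6503 H)

theorem f7205 : g 0 • path g [3, 9, 6, 8, 1] p = path g [8, 6, 8, 1, 4] p :=
  scan (u := [0]) (w := []) (i := 0) (r0_0_0 H) (step (f7200 H) rfl) rfl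

theorem f7207 : g 0 • path g [8, 9, 6, 8] p = path g [8, 6, 8, 4] p :=
  (f3924 H).trans (f6492 H)

theorem f7208 : g 5 • path g [8, 6, 8, 1] p = path g [3, 6, 3, 1] p :=
  (f4103 H).trans (f6549 H)

theorem f7209 : g 5 • path g [3, 9, 6, 8] p = path g [3, 6, 8, 4] p :=
  (f4609 H).trans (f6875 H)

theorem f7210 : g 5 • path g [3, 6, 3, 9] p = path g [9, 8, 6, 3] p :=
  (f4764 H).trans (f6887 H)

theorem f7211 : g 0 • path g [3, 6, 8, 1, 4] p = path g [8, 9, 6, 8, 1] p :=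
  scan (u := [5, 9]) (w := [4]) (i := 0) (r13_0_0 H) (step (f6463 H) (step (f4751 H) rfl)) (step (H.back (i := 9) (by decide) (f4149 H)) rfl)

theorem f7212 : g 5 • path g [8, 9, 6, 8, 1] p = path g [3, 6, 8, 1, 4] p :=
  H.back (i := 0) (by decide) (f7211 H)

theorem f7213 : g 0 • path g [3, 6, 8, 1] p = path g [8, 6, 3, 1] p :=
  (f4074 H).trans (f6430 H)

theorem f7214 : g 0 • path g [3, 6, 3, 9] p = path g [9, 8, 6, 3] p :=
  (f4767 H).trans (f6887 H)

theorem f7215 : g 0 • path g [8, 9, 6, 8, 1] p = path g [3, 6, 8, 1, 4] p :=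
  scan (u := [0]) (w := []) (i := 0) (r0_0_0 H) (step (f7211 H) rfl) rfl

theorem f7216 : g 5 • path g [3, 6, 8, 1, 4] p = path g [8, 9, 6, 8, 1] p :=
  H.back (i := 0) (by decide) (f7215 H)

theorem f7217 : g 0 • path g [3, 9, 6, 8] p = path g [3, 6, 8, 4] p :=
  (f4612 H).trans (f6875 H)

theorem f7218 : g 5 • path g [8, 9, 6, 8] p = path g [8, 6, 8, 4] p :=
  (f3921 H).trans (f6492 H)

theorem f7219 : g 5 • path g [8, 6, 3, 9] p = path g [8, 6, 8, 9] p :=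
  (f4129 H).trans (f6503 H)

theorem f7220 : g 7 • path g [9, 8, 2, 9, 5, 1] p = path g [3, 1, 3, 9, 6] p :=
  scan (u := [7, 6]) (w := [6]) (i := 7) (r3_1_0 H) (step (f6248 H) (step (f5471 H) rfl)) (step (H.back (i := 1) (by decide) (f4930 H)) rfl)

theorem f7221 : g 2 • path g [3, 1, 3, 9, 6] p = path g [9, 8, 2, 9, 5, 1] p :=
  H.back (i := 7) (by decide) (f7220 H)

theorem f7222 : g 7 • path g [3, 1, 3, 9, 6] p = path g [9, 8, 2, 9, 5, 1] p :=
  scan (u := [7]) (w := []) (i := 7) (r2_1_0 H) (step (f7220 H) rfl) rfl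

theorem f7223 : g 2 • path g [9, 8, 2, 9, 5, 1] p = path g [3, 1, 3, 9, 6] p :=
  H.back (i := 7) (by decide) (f7222 H)

theorem f7224 : g 8 • path g [9, 8, 2, 9, 2, 5] p = path g [8, 1, 8, 4, 2] p :=
  scan (u := [7, 6, 5, 7, 5]) (w := [2, 3, 6, 5]) (i := 8) (r7_0_4 H) (step (f7222 H) (step (f5469 H) (step (f1362 H) (step (f1359 H) (step (f5426 H) rfl))))) (step (H.back (i := 7) (by decide) (f4374 H)) (step (H.back (i := 8) (by decide) (f898 H)) (step (H.back (i := 1) (by decide) (f4388 H)) (step (H.back (i := 0) (by decide) (f4927 H)) rfl))))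

theorem f7225 : g 3 • path g [8, 1, 8, 4, 2] p = path g [9, 8, 2, 9, 2, 5] p :=
  H.back (i := 8) (by decide) (f7224 H)

theorem f7226 : g 5 • path g [9, 8, 1, 3] p = path g [8, 1, 3, 9] p :=
  (f2933 H).trans (f6978 H)

theorem f7227 : path g [9, 2, 3, 1, 8] p = path g [8, 1, 3, 9] p :=
  close (u := [7, 6, 5, 7, 5, 3, 1, 0, 2, 0, 1, 0, 8]) (w := [6, 5]) (r9_1_6 H) (step (f7222 H) (step (f5469 H) (step (f1362 H) (step (f1359 H) (step (f5426 H) (step (f6119 H) (step (f3694 H) (step (f3405 H) (step (f3424 H) (step (f3431 H) (step (f3513 H) (step (f3509 H) (step (f3506 H) rfl))))))))))))) (step (H.back (i := 1) (by decide) (f4388 H)) (step (H.back (i := 0) (by decide) (f4927 H)) rfl))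

theorem f7230 : g 8 • path g [8, 1, 3, 9] p = path g [9, 2, 3, 1, 3] p :=
  (congrArg (g 8 • ·) (f7227 H).symm).trans (f3517 H)

theorem f7231 : path g [8, 1, 8, 4] p = path g [9, 2, 3, 1, 3] p :=
  (f898 H).symm.trans (f7230 H)

theorem f7234 : g 2 • path g [8, 1, 3, 9] p = path g [4, 2, 3, 1, 8] p :=
  (congrArg (g 2 • ·) (f7227 H).symm).trans (f5377 H)

theorem f7235 : path g [8, 1, 3, 9, 2] p = path g [4, 2, 3, 1, 8] p :=
  (f4375 H).symm.trans (f7234 H)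

theorem f7236 : path g [4, 2, 3, 1, 8] p = path g [8, 1, 3, 9, 2] p :=
  (f7235 H).symm

theorem f7237 : g 3 • path g [8, 1, 3, 9, 2] p = path g [4, 2, 3, 1] p :=
  (congrArg (g 3 • ·) (f7236 H).symm).trans (f5373 H)

theorem f7246 : g 8 • path g [8, 1, 3, 9, 2] p = path g [4, 2, 3, 1, 3] p :=
  (congrArg (g 8 • ·) (f7236 H).symm).trans (f5381 H)

theorem f7248 : g 3 • path g [4, 2, 3, 1, 3] p = path g [8, 1, 3, 9, 2] p :=
  H.back (i := 8) (by decide) (f7246 H)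

theorem f7249 : path g [9, 2, 3, 1, 3] p = path g [8, 1, 8, 4] p :=
  (f7231 H).symm

theorem f7250 : g 8 • path g [8, 1, 8, 4] p = path g [9, 2, 3, 1] p :=
  (congrArg (g 8 • ·) (f7249 H).symm).trans (f3515 H)

theorem f7251 : path g [8, 9, 1, 3, 9] p = path g [9, 2, 3, 1] p :=
  (f3989 H).symm.trans (f7250 H)

theorem f7257 : g 9 • path g [9, 2, 3, 1] p = path g [8, 1, 4, 8] p :=
  (congrArg (g 9 • ·) (f7251 H).symm).trans (f3985 H)

theorem f7258 : path g [9, 2, 3, 9, 1] p = path g [8, 1, 4, 8] p :=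
  (f3469 H).symm.trans (f7257 H)

theorem f7260 : g 8 • path g [9, 2, 3, 1] p = path g [8, 1, 3, 9] p :=
  (f3506 H).trans (f7227 H)

theorem f7263 : g 3 • path g [9, 2, 3, 1] p = path g [8, 1, 8, 4] p :=
  (f3514 H).trans (f7249 H)

theorem f7270 : g 4 • path g [8, 1, 4, 8] p = path g [9, 2, 3, 1] p :=
  (f3986 H).trans (f7251 H)

theorem f7272 : g 9 • path g [8, 1, 4, 8] p = path g [9, 2, 9, 8, 1] p :=
  (congrArg (g 9 • ·) (f7258 H).symm).trans (f3470 H)

theorem f7273 : path g [8, 9, 1, 3] p = path g [9, 2, 9, 8, 1] p :=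
  (f918 H).symm.trans (f7272 H)

theorem f7274 : path g [9, 2, 9, 8, 1] p = path g [8, 9, 1, 3] p :=
  (f7273 H).symm

theorem f7277 : g 1 • path g [8, 9, 1, 3] p = path g [9, 2, 9, 8, 6] p :=
  (congrArg (g 1 • ·) (f7274 H).symm).trans (f2965 H)

theorem f7278 : path g [8, 9, 1, 3, 1] p = path g [9, 2, 9, 8, 6] p :=
  (f4001 H).symm.trans (f7277 H)

theorem f7290 : g 4 • path g [9, 2, 9, 8, 6] p = path g [8, 1, 4, 8, 1] p :=
  (congrArg (g 4 • ·) (f7278 H).symm).trans (f4497 H)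

theorem f7291 : path g [9, 2, 3, 9, 6] p = path g [8, 1, 4, 8, 1] p :=
  (f3461 H).symm.trans (f7290 H)

theorem f7292 : path g [8, 1, 4, 8, 1] p = path g [9, 2, 3, 9, 6] p :=
  (f7291 H).symm

theorem f7303 : g 1 • path g [9, 2, 3, 9] p = path g [8, 1, 4, 8] p :=
  (f3464 H).trans (f7258 H)

theorem f7312 : g 1 • path g [9, 2, 9, 8] p = path g [8, 9, 1, 3] p :=
  (f2963 H).trans (f7274 H)

theorem f7320 : g 3 • path g [8, 1, 3, 9] p = path g [9, 2, 3, 1] p :=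
  (f3988 H).trans (f7251 H)

theorem f7321 : path g [8, 1, 4, 2, 8] p = path g [9, 8, 1, 3, 2, 5] p :=
  close (u := [3, 5, 6, 7, 5, 6, 8]) (w := [0, 2, 0, 2]) (r8_0_3 H) (step (f7237 H) (step (f3357 H) (step (f3351 H) (step (f2568 H) (step (f934 H) (step (f925 H) (step (f4508 H) rfl))))))) (step (H.back (i := 5) (by decide) (f6146 H)) (step (H.back (i := 7) (by decide) (f2932 H)) (step (H.back (i := 5) (by decide) (f7053 H)) (step (H.back (i := 7) (by decide) (f4376 H)) rfl))))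

theorem f7322 : path g [9, 8, 1, 3, 2, 5] p = path g [8, 1, 4, 2, 8] p :=
  (f7321 H).symm

theorem f7323 : g 0 • path g [8, 1, 4, 2, 8] p = path g [9, 8, 1, 3, 2] p :=
  (congrArg (g 0 • ·) (f7322 H).symm).trans (f6147 H)

theorem f7325 : g 5 • path g [9, 8, 1, 3, 2] p = path g [8, 1, 4, 2, 8] p :=
  H.back (i := 0) (by decide) (f7323 H)

theorem f7326 : g 5 • path g [8, 1, 4, 2, 8] p = path g [9, 8, 1, 3, 2] p :=
  (congrArg (g 5 • ·) (f7322 H).symm).trans (f6148 H)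

theorem f7328 : g 0 • path g [9, 8, 1, 3, 2] p = path g [8, 1, 4, 2, 8] p :=
  H.back (i := 5) (by decide) (f7326 H)

theorem f7329 : g 2 • path g [9, 3, 1, 8, 5] p = path g [8, 1, 4, 2, 3] p :=
  scan (u := [5, 6, 7, 5, 6, 8, 0, 2, 0]) (w := [3]) (i := 2) (r8_0_4 H) (step (f7326 H) (step (f6154 H) (step (f6156 H) (step (f6236 H) (step (f4929 H) (step (f1152 H) (step (f6965 H) (step (f3699 H) (step (f3785 H) rfl))))))))) (step (H.back (i := 8) (by decide) (f4513 H)) rfl)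

theorem f7331 : g 0 • path g [3, 6, 8] p = path g [3, 6, 3] p :=
  (f1091 H).trans (f6900 H)

theorem f7332 : g 0 • path g [8, 1, 3] p = path g [3, 1, 8] p :=
  (f907 H).trans (f6984 H)

theorem f7333 : g 2 • path g [8, 1, 4, 2, 3] p = path g [9, 3, 1, 8, 5] p :=
  scan (u := [2]) (w := []) (i := 2) (r2_0_0 H) (step (f7329 H) rfl) rfl

theorem f7334 : g 7 • path g [9, 3, 1, 8, 5] p = path g [8, 1, 4, 2, 3] p :=
  H.back (i := 2) (by decide) (f7333 H)

theorem f7335 : g 0 • path g [8, 1, 4, 2, 3] p = path g [9, 8, 2, 8, 6, 8] p :=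
  scan (u := [2]) (w := [2, 3, 5, 6, 7, 5, 6, 8, 0]) (i := 0) (r8_0_0 H) (step (f7329 H) rfl) (step (H.back (i := 7) (by decide) (f5554 H)) (step (H.back (i := 8) (by decide) (f4508 H)) (step (H.back (i := 0) (by decide) (f2521 H)) (step (H.back (i := 1) (by decide) (f600 H)) (step (H.back (i := 2) (by decide) (f604 H)) (step (H.back (i := 0) (by decide) (f1649 H)) (step (H.back (i := 1) (by decide) (f162 H)) (step (H.back (i := 3) (by decide) (f637 H)) (step (H.back (i := 5) (by decide) (f3784 H)) rfl)))))))))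

theorem f7336 : g 5 • path g [9, 8, 2, 8, 6, 8] p = path g [8, 1, 4, 2, 3] p :=
  H.back (i := 0) (by decide) (f7335 H)

theorem f7337 : g 5 • path g [8, 1, 3] p = path g [3, 1, 8] p :=
  (f904 H).trans (f6984 H)

theorem f7339 : g 0 • path g [9, 8, 2, 8, 6, 8] p = path g [8, 1, 4, 2, 3] p :=
  scan (u := [0]) (w := []) (i := 0) (r0_0_0 H) (step (f7335 H) rfl) rfl

theorem f7341 : path g [3, 9, 1, 3, 2] p = path g [9, 8, 2, 8, 6, 3] p :=
  close (u := [0, 2, 0, 1, 2, 0, 1, 8, 7]) (w := [3]) (r7_1_1 H) (step (f7339 H) (step (f7333 H) (step (f3783 H) (step (f3788 H) (step (f3968 H) (step (f4660 H) (step (f4656 H) (step (f1025 H) (step (f4672 H) rfl))))))))) (step (H.back (i := 8) (by decide) (f5559 H)) rfl)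

theorem f7342 : path g [9, 8, 2, 8, 6, 3] p = path g [3, 9, 1, 3, 2] p :=
  (f7341 H).symm

theorem f7343 : g 8 • path g [3, 9, 1, 3, 2] p = path g [9, 8, 2, 8, 6] p :=
  (congrArg (g 8 • ·) (f7342 H).symm).trans (f5557 H)

theorem f7345 : g 3 • path g [9, 8, 2, 8, 6] p = path g [3, 9, 1, 3, 2] p :=
  H.back (i := 8) (by decide) (f7343 H)

theorem f7346 : g 3 • path g [3, 9, 1, 3, 2] p = path g [9, 8, 2, 8, 6, 8] p :=
  (congrArg (g 3 • ·) (f7342 H).symm).trans (f5558 H)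

theorem f7348 : g 8 • path g [9, 8, 2, 8, 6, 8] p = path g [3, 9, 1, 3, 2] p :=
  H.back (i := 3) (by decide) (f7346 H)

theorem f7349 : g 0 • path g [8, 9, 1, 8] p = path g [3, 1, 8, 4] p :=
  (f3962 H).trans (f6963 H)

theorem f7350 : g 8 • path g [8, 1, 8, 4, 2] p = path g [9, 3, 5, 2, 6] p :=
  scan (u := [8]) (w := [8]) (i := 8) (r6_1_0 H) (step (f7224 H) rfl) (step (H.back (i := 3) (by decide) (f6119 H)) rfl)

theorem f7351 : g 3 • path g [9, 3, 5, 2, 6] p = path g [8, 1, 8, 4, 2] p :=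
  H.back (i := 8) (by decide) (f7350 H)

theorem f7352 : g 0 • path g [3, 1, 8, 1, 4] p = path g [3, 9, 1, 8, 1] p :=
  scan (u := [5, 9]) (w := [4]) (i := 0) (r13_0_0 H) (step (f6237 H) (step (f4897 H) rfl)) (step (H.back (i := 9) (by decide) (f4934 H)) rfl)

theorem f7354 : g 0 • path g [3, 9, 1, 8, 1] p = path g [3, 1, 8, 1, 4] p :=
  scan (u := [0]) (w := []) (i := 0) (r0_0_0 H) (step (f7352 H) rfl) rfl

theorem f7355 : g 5 • path g [3, 1, 8, 1, 4] p = path g [3, 9, 1, 8, 1] p :=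
  H.back (i := 0) (by decide) (f7354 H)

theorem f7356 : path g [9, 3, 6, 8, 4] p = path g [9, 8, 2, 8, 2, 1] p :=
  close (u := [0, 2, 1, 0, 8]) (w := [7, 5, 7, 5, 3, 1]) (r8_1_3 H) (step (f7352 H) (step (f5140 H) (step (f5138 H) (step (f3769 H) (step (f3750 H) rfl))))) (step (H.back (i := 2) (by decide) (f5538 H)) (step (H.back (i := 0) (by decide) (f5010 H)) (step (H.back (i := 2) (by decide) (f6117 H)) (step (H.back (i := 0) (by decide) (f6107 H)) (step (H.back (i := 8) (by decide) (f2926 H)) (step (H.back (i := 6) (by decide) (f4898 H)) rfl))))))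

theorem f7357 : path g [9, 8, 2, 8, 2, 1] p = path g [9, 3, 6, 8, 4] p :=
  (f7356 H).symm

theorem f7358 : g 6 • path g [9, 3, 6, 8, 4] p = path g [9, 8, 2, 8, 2] p :=
  (congrArg (g 6 • ·) (f7357 H).symm).trans (f5529 H)

theorem f7360 : g 1 • path g [9, 8, 2, 8, 2] p = path g [9, 3, 6, 8, 4] p :=
  H.back (i := 6) (by decide) (f7358 H)

theorem f7361 : g 1 • path g [9, 3, 6, 8, 4] p = path g [4, 2, 3, 6, 5] p :=
  (congrArg (g 1 • ·) (f7357 H).symm).trans (f5530 H)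

theorem f7363 : g 6 • path g [4, 2, 3, 6, 5] p = path g [9, 3, 6, 8, 4] p :=
  H.back (i := 1) (by decide) (f7361 H)

theorem f7364 : g 2 • path g [9, 3, 6, 8, 4] p = path g [9, 8, 2, 8, 6] p :=
  (congrArg (g 2 • ·) (f7357 H).symm).trans (f5532 H)

theorem f7366 : g 7 • path g [9, 8, 2, 8, 6] p = path g [9, 3, 6, 8, 4] p :=
  H.back (i := 2) (by decide) (f7364 H)

theorem f7367 : g 0 • path g [9, 3, 6, 8, 4] p = path g [9, 3, 2, 3, 1] p :=
  (congrArg (g 0 • ·) (f7357 H).symm).trans (f5534 H)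

theorem f7369 : g 5 • path g [9, 3, 2, 3, 1] p = path g [9, 3, 6, 8, 4] p :=
  H.back (i := 0) (by decide) (f7367 H)

theorem f7370 : g 5 • path g [9, 3, 6, 8, 4] p = path g [9, 3, 2, 3, 1] p :=
  (congrArg (g 5 • ·) (f7357 H).symm).trans (f5536 H)

theorem f7372 : g 0 • path g [9, 3, 2, 3, 1] p = path g [9, 3, 6, 8, 4] p :=
  H.back (i := 5) (by decide) (f7370 H)

theorem f7373 : g 7 • path g [9, 3, 6, 8, 4] p = path g [9, 8, 2, 8, 6] p :=
  (congrArg (g 7 • ·) (f7357 H).symm).trans (f5539 H)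

theorem f7375 : g 2 • path g [9, 8, 2, 8, 6] p = path g [9, 3, 6, 8, 4] p :=
  H.back (i := 7) (by decide) (f7373 H)

theorem f7377 : g 4 • path g [9, 2, 3, 1] p = path g [8, 9, 1, 3] p :=
  (f2968 H).trans (f7274 H)

theorem f7378 : g 9 • path g [9, 3, 2, 3, 1] p = path g [9, 3, 6, 8, 5] p :=
  scan (u := [5]) (w := [0, 4]) (i := 9) (r13_0_0 H) (step (f7370 H) rfl) (step (H.back (i := 5) (by decide) (f3735 H)) (step (H.back (i := 9) (by decide) (f3746 H)) rfl))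

theorem f7379 : g 4 • path g [9, 3, 6, 8, 5] p = path g [9, 3, 2, 3, 1] p :=
  H.back (i := 9) (by decide) (f7378 H)

theorem f7380 : g 4 • path g [9, 3, 2, 3, 1] p = path g [4, 8, 6, 3, 5] p :=
  scan (u := [5]) (w := [0, 9]) (i := 4) (r13_1_1 H) (step (f7370 H) rfl) (step (H.back (i := 5) (by decide) (f5121 H)) (step (H.back (i := 4) (by decide) (f3747 H)) rfl))

theorem f7381 : g 9 • path g [4, 8, 6, 3, 5] p = path g [9, 3, 2, 3, 1] p :=
  H.back (i := 4) (by decide) (f7380 H)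

theorem f7382 : g 6 • path g [4, 8, 6, 3, 5] p = path g [9, 3, 2, 9, 8] p :=
  scan (u := [4]) (w := [9, 1]) (i := 6) (r14_0_1 H) (step (f7380 H) rfl) (step (H.back (i := 4) (by decide) (f3590 H)) (step (H.back (i := 6) (by decide) (f3634 H)) rfl))

theorem f7383 : g 1 • path g [9, 3, 2, 9, 8] p = path g [4, 8, 6, 3, 5] p :=
  H.back (i := 6) (by decide) (f7382 H)

theorem f7384 : g 1 • path g [9, 3, 2, 3, 9] p = path g [9, 3, 6, 8, 5] p :=
  scan (u := [6, 4]) (w := [9]) (i := 1) (r14_1_3 H) (step (f7382 H) (step (f3616 H) rfl)) (step (H.back (i := 4) (by decide) (f5125 H)) rfl)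

theorem f7385 : g 6 • path g [9, 3, 6, 8, 5] p = path g [9, 3, 2, 3, 9] p :=
  H.back (i := 1) (by decide) (f7384 H)

theorem f7386 : g 5 • path g [4, 2, 9, 8, 6] p = path g [4, 8, 6, 3, 1] p :=
  scan (u := [6, 5, 6]) (w := [1, 1, 5]) (i := 5) (r4_1_0 H) (step (f7382 H) (step (f3594 H) (step (f5179 H) rfl))) (step (H.back (i := 6) (by decide) (f5134 H)) (step (H.back (i := 6) (by decide) (f5127 H)) (step (H.back (i := 0) (by decide) (f5122 H)) rfl)))

theorem f7388 : g 5 • path g [4, 8, 6, 3, 1] p = path g [4, 2, 9, 8, 6] p :=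
  scan (u := [5]) (w := []) (i := 5) (r0_1_0 H) (step (f7386 H) rfl) rfl

theorem f7390 : g 9 • path g [4, 8, 6, 3, 1] p = path g [4, 2, 3, 6, 5] p :=
  scan (u := [5]) (w := [0, 4]) (i := 9) (r13_0_0 H) (step (f7386 H) rfl) (step (H.back (i := 5) (by decide) (f5358 H)) (step (H.back (i := 9) (by decide) (f5181 H)) rfl))

theorem f7392 : g 0 • path g [9, 3, 6, 8, 1] p = path g [4, 2, 3, 9, 6] p :=
  scan (u := [5, 4]) (w := [9]) (i := 0) (r13_1_1 H) (step (f7386 H) (step (f5135 H) rfl)) (step (H.back (i := 4) (by decide) (f5347 H)) rfl)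

theorem f7394 : path g [4, 8, 6, 3, 6] p = path g [9, 8, 2, 8, 2, 4] p :=
  close (u := [5, 6, 6]) (w := [9, 1, 1, 0, 1, 4, 6]) (r12_0_6 H) (step (f7386 H) (step (f5132 H) (step (f5127 H) rfl))) (step (H.back (i := 4) (by decide) (f5540 H)) (step (H.back (i := 6) (by decide) (f7358 H)) (step (H.back (i := 6) (by decide) (f7363 H)) (step (H.back (i := 5) (by decide) (f5358 H)) (step (H.back (i := 6) (by decide) (f1334 H)) (step (H.back (i := 9) (by decide) (f1248 H)) (step (H.back (i := 1) (by decide) (f5180 H)) rfl)))))))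

theorem f7395 : path g [9, 8, 2, 8, 2, 4] p = path g [4, 8, 6, 3, 6] p :=
  (f7394 H).symm

theorem f7396 : g 9 • path g [4, 8, 6, 3, 6] p = path g [9, 8, 2, 8, 2] p :=
  (congrArg (g 9 • ·) (f7395 H).symm).trans (f5541 H)

theorem f7398 : g 4 • path g [9, 8, 2, 8, 2] p = path g [4, 8, 6, 3, 6] p :=
  H.back (i := 9) (by decide) (f7396 H)

theorem f7399 : g 4 • path g [4, 8, 6, 3, 6] p = path g [9, 8, 2, 8, 2, 9] p :=
  (congrArg (g 4 • ·) (f7395 H).symm).trans (f5542 H)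

theorem f7400 : path g [9, 3, 6, 8, 6] p = path g [9, 8, 2, 8, 2, 9] p :=
  (f5129 H).symm.trans (f7399 H)

theorem f7401 : g 5 • path g [4, 8, 6, 3, 6] p = path g [9, 2, 5, 8, 4] p :=
  (congrArg (g 5 • ·) (f7395 H).symm).trans (f5544 H)

theorem f7403 : g 0 • path g [9, 2, 5, 8, 4] p = path g [4, 8, 6, 3, 6] p :=
  H.back (i := 5) (by decide) (f7401 H)

theorem f7404 : g 0 • path g [4, 8, 6, 3, 6] p = path g [9, 2, 5, 8, 4] p :=
  (congrArg (g 0 • ·) (f7395 H).symm).trans (f5546 H)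

theorem f7406 : g 5 • path g [9, 2, 5, 8, 4] p = path g [4, 8, 6, 3, 6] p :=
  H.back (i := 0) (by decide) (f7404 H)

theorem f7407 : g 3 • path g [4, 8, 6, 3, 6] p = path g [9, 3, 9, 2, 9] p :=
  (congrArg (g 3 • ·) (f7395 H).symm).trans (f5548 H)

theorem f7409 : g 8 • path g [9, 3, 9, 2, 9] p = path g [4, 8, 6, 3, 6] p :=
  H.back (i := 3) (by decide) (f7407 H)

theorem f7410 : path g [9, 8, 2, 8, 2, 9] p = path g [9, 3, 6, 8, 6] p :=
  (f7400 H).symm

theorem f7411 : g 4 • path g [9, 3, 6, 8, 6] p = path g [9, 8, 2, 8, 2] p :=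
  (congrArg (g 4 • ·) (f7410 H).symm).trans (f5523 H)

theorem f7413 : g 9 • path g [9, 8, 2, 8, 2] p = path g [9, 3, 6, 8, 6] p :=
  H.back (i := 4) (by decide) (f7411 H)

theorem f7414 : g 0 • path g [9, 3, 6, 8, 6] p = path g [9, 2, 5, 8, 9] p :=
  (congrArg (g 0 • ·) (f7410 H).symm).trans (f5524 H)

theorem f7417 : g 5 • path g [9, 3, 6, 8, 6] p = path g [9, 2, 5, 8, 9] p :=
  (congrArg (g 5 • ·) (f7410 H).symm).trans (f5526 H)

theorem f7419 : g 0 • path g [9, 2, 5, 8, 9] p = path g [9, 3, 6, 8, 6] p :=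
  H.back (i := 5) (by decide) (f7417 H)

theorem f7423 : g 0 • path g [4, 2, 3, 9, 6] p = path g [9, 3, 6, 8, 1] p :=
  scan (u := [0, 1, 0, 1]) (w := [6, 6]) (i := 0) (r4_0_3 H) (step (f7414 H) (step (f5694 H) (step (f5689 H) (step (f5352 H) rfl)))) (step (H.back (i := 1) (by decide) (f3741 H)) (step (H.back (i := 1) (by decide) (f3740 H)) rfl))

theorem f7424 : g 5 • path g [9, 3, 6, 8, 1] p = path g [4, 2, 3, 9, 6] p :=
  H.back (i := 0) (by decide) (f7423 H)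

theorem f7425 : g 4 • path g [9, 3, 6, 8, 1] p = path g [4, 2, 3, 6, 5] p :=
  scan (u := [0]) (w := [5, 9]) (i := 4) (r13_0_2 H) (step (f7423 H) rfl) (step (H.back (i := 0) (by decide) (f5361 H)) (step (H.back (i := 4) (by decide) (f5348 H)) rfl))

theorem f7427 : g 0 • path g [3, 1, 3, 1] p = path g [3, 1, 8, 1] p :=
  (f4448 H).trans (f6263 H)

theorem f7428 : g 3 • path g [9, 8, 1, 3, 1] p = path g [9, 8, 1, 3, 1, 3] p :=
  rfl

theorem f7429 : g 8 • path g [9, 8, 1, 3, 1, 3] p = path g [9, 8, 1, 3, 1] p :=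
  H.back (i := 3) (by decide) (f7428 H)

theorem f7430 : g 3 • path g [9, 8, 1, 3, 1, 3] p = path g [9, 8, 1, 3, 1, 8] p :=
  scan (u := [3]) (w := [3]) (i := 3) (r6_0_0 H) (step (f7428 H) rfl) (step (H.back (i := 8) (by decide) (f6206 H)) rfl)

theorem f7434 : g 8 • path g [9, 2, 9, 8, 2] p = path g [9, 2, 9, 8, 2, 8] p :=
  rfl

theorem f7435 : g 3 • path g [9, 2, 9, 8, 2, 8] p = path g [9, 2, 9, 8, 2] p :=
  H.back (i := 8) (by decide) (f7434 H)

theorem f7436 : g 5 • path g [9, 2, 9, 8, 2] p = path g [9, 2, 9, 8, 2, 5] p :=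
  rfl

theorem f7438 : g 5 • path g [9, 2, 9, 8, 2, 5] p = path g [9, 2, 9, 8, 2] p :=
  scan (u := [5]) (w := []) (i := 5) (r0_1_0 H) (step (f7436 H) rfl) rfl

theorem f7439 : g 0 • path g [9, 2, 9, 8, 2] p = path g [9, 2, 9, 8, 2, 5] p :=
  H.back (i := 5) (by decide) (f7438 H)

theorem f7440 : g 3 • path g [9, 2, 9, 8, 2] p = path g [9, 2, 9, 8, 2, 3] p :=
  rfl

theorem f7442 : g 3 • path g [9, 2, 9, 8, 2, 3] p = path g [9, 2, 9, 8, 2, 8] p :=
  scan (u := [3]) (w := [3]) (i := 3) (r6_0_0 H) (step (f7440 H) rfl) (step (H.back (i := 8) (by decide) (f7434 H)) rfl)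

theorem f7443 : g 8 • path g [9, 2, 9, 8, 2, 8] p = path g [9, 2, 9, 8, 2, 3] p :=
  H.back (i := 3) (by decide) (f7442 H)

theorem f7444 : g 6 • path g [9, 2, 9, 8, 2] p = path g [9, 2, 9, 8, 2, 6] p :=
  rfl

theorem f7445 : g 1 • path g [9, 2, 9, 8, 2, 6] p = path g [9, 2, 9, 8, 2] p :=
  H.back (i := 6) (by decide) (f7444 H)

theorem f7446 : path g [9, 2, 9, 8, 2, 6] p = path g [8, 9, 1, 3, 2] p :=
  close (u := [6]) (w := [7, 6, 7]) (r3_1_1 H) (step (f7444 H) rfl) (step (H.back (i := 2) (by decide) (f3991 H)) (step (H.back (i := 1) (by decide) (f7312 H)) (step (H.back (i := 2) (by decide) (f2951 H)) rfl)))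

theorem f7447 : g 1 • path g [8, 9, 1, 3, 2] p = path g [9, 2, 9, 8, 2] p :=
  (congrArg (g 1 • ·) (f7446 H).symm).trans (f7445 H)

theorem f7449 : g 6 • path g [9, 2, 9, 8, 2] p = path g [8, 9, 1, 3, 2] p :=
  H.back (i := 1) (by decide) (f7447 H)

theorem f7451 : g 1 • path g [9, 2, 9, 8, 2] p = path g [9, 2, 9, 8, 2, 1] p :=
  rfl

theorem f7453 : g 1 • path g [9, 2, 9, 8, 2, 1] p = path g [8, 9, 1, 3, 2] p :=
  scan (u := [1]) (w := [1]) (i := 1) (r1_0_0 H) (step (f7451 H) rfl) (step (H.back (i := 6) (by decide) (f7449 H)) rfl)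

theorem f7454 : g 6 • path g [8, 9, 1, 3, 2] p = path g [9, 2, 9, 8, 2, 1] p :=
  H.back (i := 1) (by decide) (f7453 H)

theorem f7455 : g 2 • path g [9, 2, 9, 8, 2, 1] p = path g [9, 2, 9, 8, 6] p :=
  scan (u := [1]) (w := [1, 2]) (i := 2) (r3_0_0 H) (step (f7451 H) rfl) (step (H.back (i := 6) (by decide) (f2959 H)) (step (H.back (i := 7) (by decide) (f2950 H)) rfl))

theorem f7457 : g 2 • path g [9, 2, 9, 8, 6] p = path g [9, 2, 9, 8, 2, 1] p :=
  scan (u := [2]) (w := []) (i := 2) (r2_0_0 H) (step (f7455 H) rfl) rfl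

theorem f7458 : g 7 • path g [9, 2, 9, 8, 2, 1] p = path g [9, 2, 9, 8, 6] p :=
  H.back (i := 2) (by decide) (f7457 H)

theorem f7459 : g 1 • path g [8, 9, 1, 3] p = path g [9, 2, 9, 8, 6] p :=
  (f4001 H).trans (f7278 H)

theorem f7460 : g 4 • path g [9, 2, 9, 8, 2] p = path g [9, 2, 9, 8, 2, 4] p :=
  rfl

theorem f7464 : g 2 • path g [9, 2, 9, 8, 5] p = path g [9, 2, 9, 8, 5, 2] p :=
  rfl

theorem f7466 : g 2 • path g [9, 2, 9, 8, 5, 2] p = path g [9, 2, 9, 8, 5] p :=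
  scan (u := [2]) (w := []) (i := 2) (r2_0_0 H) (step (f7464 H) rfl) rfl

theorem f7468 : g 1 • path g [3, 9, 1, 3, 2] p = path g [9, 2, 9, 8, 5, 2] p :=
  scan (u := [2, 1, 2]) (w := []) (i := 1) (r3_0_1 H) (step (f7466 H) (step (f5651 H) (step (f4669 H) rfl))) rfl

theorem f7469 : g 6 • path g [9, 2, 9, 8, 5, 2] p = path g [3, 9, 1, 3, 2] p :=
  H.back (i := 1) (by decide) (f7468 H)

theorem f7470 : g 8 • path g [9, 2, 9, 8, 6] p = path g [9, 2, 9, 8, 6, 8] p :=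
  rfl

theorem f7471 : g 3 • path g [9, 2, 9, 8, 6, 8] p = path g [9, 2, 9, 8, 6] p :=
  H.back (i := 8) (by decide) (f7470 H)

theorem f7472 : g 5 • path g [9, 2, 9, 8, 6] p = path g [9, 2, 9, 8, 6, 5] p :=
  rfl

theorem f7474 : g 5 • path g [9, 2, 9, 8, 6, 5] p = path g [9, 2, 9, 8, 6] p :=
  scan (u := [5]) (w := []) (i := 5) (r0_1_0 H) (step (f7472 H) rfl) rfl

theorem f7475 : g 0 • path g [9, 2, 9, 8, 6] p = path g [9, 2, 9, 8, 6, 5] p :=
  H.back (i := 5) (by decide) (f7474 H)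

theorem f7476 : g 9 • path g [9, 2, 9, 8, 6, 5] p = path g [9, 2, 3, 6, 5] p :=
  scan (u := [5]) (w := [0, 4]) (i := 9) (r13_0_0 H) (step (f7472 H) rfl) (step (H.back (i := 5) (by decide) (f3496 H)) (step (H.back (i := 9) (by decide) (f2961 H)) rfl))

theorem f7477 : g 4 • path g [9, 2, 3, 6, 5] p = path g [9, 2, 9, 8, 6, 5] p :=
  H.back (i := 9) (by decide) (f7476 H)

theorem f7480 : g 6 • path g [9, 2, 9, 8, 6, 5] p = path g [3, 9, 1, 3, 5] p :=
  scan (u := [5]) (w := [5, 1, 1, 5, 6]) (i := 6) (r4_1_1 H) (step (f7472 H) rfl) (step (H.back (i := 0) (by decide) (f4676 H)) (step (H.back (i := 6) (by decide) (f4684 H)) (step (H.back (i := 6) (by decide) (f5656 H)) (step (H.back (i := 0) (by decide) (f2956 H)) (step (H.back (i := 1) (by decide) (f2960 H)) rfl)))))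

theorem f7481 : g 1 • path g [3, 9, 1, 3, 5] p = path g [9, 2, 9, 8, 6, 5] p :=
  H.back (i := 6) (by decide) (f7480 H)

theorem f7482 : g 1 • path g [8, 1, 4, 8] p = path g [9, 2, 3, 9, 6] p :=
  (f4492 H).trans (f7292 H)

theorem f7483 : g 3 • path g [9, 2, 9, 8, 6] p = path g [9, 2, 9, 8, 6, 3] p :=
  rfl

theorem f7485 : g 3 • path g [9, 2, 9, 8, 6, 3] p = path g [9, 2, 9, 8, 6, 8] p :=
  scan (u := [3]) (w := [3]) (i := 3) (r6_0_0 H) (step (f7483 H) rfl) (step (H.back (i := 8) (by decide) (f7470 H)) rfl)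

theorem f7487 : g 4 • path g [9, 2, 9, 8, 6, 3] p = path g [9, 2, 3, 6, 8] p :=
  scan (u := [3]) (w := [3, 4]) (i := 4) (r15_0_1 H) (step (f7483 H) rfl) (step (H.back (i := 8) (by decide) (f3494 H)) (step (H.back (i := 9) (by decide) (f2961 H)) rfl))

theorem f7488 : g 9 • path g [9, 2, 3, 6, 8] p = path g [9, 2, 9, 8, 6, 3] p :=
  H.back (i := 4) (by decide) (f7487 H)

theorem f7489 : g 8 • path g [9, 2, 9, 2, 9] p = path g [9, 2, 9, 2, 9, 8] p :=
  rfl

theorem f7491 : g 9 • path g [9, 2, 9, 2, 9, 8] p = path g [9, 2, 9, 2, 3] p :=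
  scan (u := [8]) (w := [8, 9]) (i := 9) (r15_1_0 H) (step (f7489 H) rfl) (step (H.back (i := 3) (by decide) (f2979 H)) (step (H.back (i := 4) (by decide) (f2970 H)) rfl))

theorem f7492 : g 4 • path g [9, 2, 9, 2, 3] p = path g [9, 2, 9, 2, 9, 8] p :=
  H.back (i := 9) (by decide) (f7491 H)

theorem f7505 : g 3 • path g [9, 2, 9, 2, 9] p = path g [9, 2, 9, 2, 9, 3] p :=
  rfl

theorem f7507 : g 3 • path g [9, 2, 9, 2, 9, 3] p = path g [9, 2, 9, 2, 9, 8] p :=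
  scan (u := [3]) (w := [3]) (i := 3) (r6_0_0 H) (step (f7505 H) rfl) (step (H.back (i := 8) (by decide) (f7489 H)) rfl)

theorem f7509 : g 9 • path g [9, 2, 9, 2, 8] p = path g [9, 2, 9, 2, 8, 9] p :=
  rfl

theorem f7510 : g 4 • path g [9, 2, 9, 2, 8, 9] p = path g [9, 2, 9, 2, 8] p :=
  H.back (i := 9) (by decide) (f7509 H)

theorem f7527 : g 4 • path g [9, 2, 9, 2, 8] p = path g [9, 2, 9, 2, 8, 4] p :=
  rfl

theorem f7529 : g 4 • path g [9, 2, 9, 2, 8, 4] p = path g [9, 2, 9, 2, 8, 9] p :=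
  scan (u := [4]) (w := [4]) (i := 4) (r10_0_0 H) (step (f7527 H) rfl) (step (H.back (i := 9) (by decide) (f7509 H)) rfl)

theorem f7541 : g 6 • path g [9, 2, 9, 2, 5] p = path g [9, 2, 9, 2, 5, 6] p :=
  rfl

theorem f7542 : g 1 • path g [9, 2, 9, 2, 5, 6] p = path g [9, 2, 9, 2, 5] p :=
  H.back (i := 6) (by decide) (f7541 H)

theorem f7543 : g 1 • path g [9, 2, 9, 2, 5] p = path g [9, 2, 9, 2, 5, 1] p :=
  rfl

theorem f7547 : g 0 • path g [9, 2, 9, 2, 5, 1] p = path g [9, 2, 9, 2, 5, 6] p :=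
  scan (u := [1]) (w := [1, 0, 6, 6, 0]) (i := 0) (r4_0_4 H) (step (f7543 H) rfl) (step (H.back (i := 6) (by decide) (f7541 H)) (step (H.back (i := 5) (by decide) (f2975 H)) (step (H.back (i := 1) (by decide) (f450 H)) (step (H.back (i := 1) (by decide) (f450 H)) (step (H.back (i := 5) (by decide) (f2977 H)) rfl)))))

theorem f7549 : g 0 • path g [9, 2, 9, 2, 5, 6] p = path g [9, 2, 9, 2, 5, 1] p :=
  scan (u := [0]) (w := []) (i := 0) (r0_0_0 H) (step (f7547 H) rfl) rfl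

theorem f7550 : g 5 • path g [9, 2, 9, 2, 5, 1] p = path g [9, 2, 9, 2, 5, 6] p :=
  H.back (i := 0) (by decide) (f7549 H)

theorem f7551 : g 4 • path g [9, 2, 9, 2, 5] p = path g [9, 2, 9, 2, 5, 4] p :=
  rfl

theorem f7557 : g 0 • path g [9, 2, 9, 2, 5, 4] p = path g [9, 2, 9, 2, 4] p :=
  scan (u := [4]) (w := [9, 5]) (i := 0) (r13_1_2 H) (step (f7551 H) rfl) (step (H.back (i := 4) (by decide) (f2983 H)) (step (H.back (i := 0) (by decide) (f2976 H)) rfl))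

theorem f7559 : g 9 • path g [9, 2, 9, 2, 3] p = path g [9, 2, 9, 2, 3, 9] p :=
  rfl

theorem f7561 : g 9 • path g [9, 2, 9, 2, 3, 9] p = path g [9, 2, 9, 2, 9, 8] p :=
  scan (u := [9]) (w := [9]) (i := 9) (r10_1_0 H) (step (f7559 H) rfl) (step (H.back (i := 4) (by decide) (f7492 H)) rfl)

theorem f7562 : g 4 • path g [9, 2, 9, 2, 9, 8] p = path g [9, 2, 9, 2, 3, 9] p :=
  H.back (i := 9) (by decide) (f7561 H)

theorem f7563 : g 8 • path g [9, 2, 9, 2, 3, 9] p = path g [9, 2, 9, 2, 8, 4] p :=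
  scan (u := [9]) (w := [9, 8]) (i := 8) (r15_1_1 H) (step (f7559 H) rfl) (step (H.back (i := 4) (by decide) (f7527 H)) (step (H.back (i := 3) (by decide) (f2981 H)) rfl))

theorem f7579 : g 8 • path g [9, 2, 9, 2, 4] p = path g [9, 2, 9, 2, 4, 8] p :=
  rfl

theorem f7583 : g 9 • path g [9, 2, 9, 2, 4, 8] p = path g [9, 2, 9, 2, 9, 3] p :=
  scan (u := [8]) (w := [8, 9]) (i := 9) (r15_1_0 H) (step (f7579 H) rfl) (step (H.back (i := 3) (by decide) (f7505 H)) (step (H.back (i := 4) (by decide) (f2985 H)) rfl))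

theorem f7591 : g 9 • path g [9, 2, 9, 5, 2] p = path g [9, 2, 9, 5, 2, 9] p :=
  rfl

theorem f7592 : g 4 • path g [9, 2, 9, 5, 2, 9] p = path g [9, 2, 9, 5, 2] p :=
  H.back (i := 9) (by decide) (f7591 H)

theorem f7593 : g 8 • path g [9, 2, 9, 5, 2] p = path g [9, 2, 9, 5, 2, 8] p :=
  rfl

theorem f7594 : g 3 • path g [9, 2, 9, 5, 2, 8] p = path g [9, 2, 9, 5, 2] p :=
  H.back (i := 8) (by decide) (f7593 H)

theorem f7595 : g 5 • path g [9, 2, 9, 5, 2] p = path g [9, 2, 9, 5, 2, 5] p :=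
  rfl

theorem f7596 : g 0 • path g [9, 2, 9, 5, 2, 5] p = path g [9, 2, 9, 5, 2] p :=
  H.back (i := 5) (by decide) (f7595 H)

theorem f7597 : g 5 • path g [9, 2, 9, 5, 2, 5] p = path g [9, 2, 9, 5, 2] p :=
  scan (u := [5]) (w := []) (i := 5) (r0_1_0 H) (step (f7595 H) rfl) rfl

theorem f7598 : g 0 • path g [9, 2, 9, 5, 2] p = path g [9, 2, 9, 5, 2, 5] p :=
  H.back (i := 5) (by decide) (f7597 H)

theorem f7599 : g 3 • path g [9, 2, 9, 5, 2] p = path g [9, 2, 9, 5, 2, 3] p :=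
  rfl

theorem f7600 : g 8 • path g [9, 2, 9, 5, 2, 3] p = path g [9, 2, 9, 5, 2] p :=
  H.back (i := 3) (by decide) (f7599 H)

theorem f7601 : g 3 • path g [9, 2, 9, 5, 2, 3] p = path g [9, 2, 9, 5, 2, 8] p :=
  scan (u := [3]) (w := [3]) (i := 3) (r6_0_0 H) (step (f7599 H) rfl) (step (H.back (i := 8) (by decide) (f7593 H)) rfl)

theorem f7603 : g 6 • path g [9, 2, 9, 5, 2] p = path g [9, 2, 9, 5, 2, 6] p :=
  rfl

theorem f7604 : g 1 • path g [9, 2, 9, 5, 2, 6] p = path g [9, 2, 9, 5, 2] p :=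
  H.back (i := 6) (by decide) (f7603 H)

theorem f7605 : g 7 • path g [9, 2, 9, 5, 2, 6] p = path g [9, 2, 9, 5, 1] p :=
  scan (u := [6]) (w := [6, 7]) (i := 7) (r3_1_1 H) (step (f7603 H) rfl) (step (H.back (i := 1) (by decide) (f3007 H)) (step (H.back (i := 2) (by decide) (f2995 H)) rfl))

theorem f7606 : g 2 • path g [9, 2, 9, 5, 1] p = path g [9, 2, 9, 5, 2, 6] p :=
  H.back (i := 7) (by decide) (f7605 H)

theorem f7607 : g 7 • path g [9, 2, 9, 5, 1] p = path g [9, 2, 9, 5, 2, 6] p :=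
  scan (u := [7]) (w := []) (i := 7) (r2_1_0 H) (step (f7605 H) rfl) rfl

theorem f7608 : g 2 • path g [9, 2, 9, 5, 2, 6] p = path g [9, 2, 9, 5, 1] p :=
  H.back (i := 7) (by decide) (f7607 H)

theorem f7609 : g 1 • path g [9, 2, 9, 5, 2] p = path g [9, 2, 9, 5, 2, 1] p :=
  rfl

theorem f7610 : g 6 • path g [9, 2, 9, 5, 2, 1] p = path g [9, 2, 9, 5, 2] p :=
  H.back (i := 1) (by decide) (f7609 H)

theorem f7611 : g 1 • path g [9, 2, 9, 5, 2, 1] p = path g [9, 2, 9, 5, 2, 6] p :=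
  scan (u := [1]) (w := [1]) (i := 1) (r1_0_0 H) (step (f7609 H) rfl) (step (H.back (i := 6) (by decide) (f7603 H)) rfl)

theorem f7612 : g 6 • path g [9, 2, 9, 5, 2, 6] p = path g [9, 2, 9, 5, 2, 1] p :=
  H.back (i := 1) (by decide) (f7611 H)

theorem f7613 : g 2 • path g [9, 2, 9, 5, 2, 1] p = path g [9, 2, 9, 5, 6] p :=
  scan (u := [1]) (w := [1, 2]) (i := 2) (r3_0_0 H) (step (f7609 H) rfl) (step (H.back (i := 6) (by decide) (f3001 H)) (step (H.back (i := 7) (by decide) (f2994 H)) rfl))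

theorem f7614 : g 7 • path g [9, 2, 9, 5, 6] p = path g [9, 2, 9, 5, 2, 1] p :=
  H.back (i := 2) (by decide) (f7613 H)

theorem f7615 : g 2 • path g [9, 2, 9, 5, 6] p = path g [9, 2, 9, 5, 2, 1] p :=
  scan (u := [2]) (w := []) (i := 2) (r2_0_0 H) (step (f7613 H) rfl) rfl

theorem f7616 : g 7 • path g [9, 2, 9, 5, 2, 1] p = path g [9, 2, 9, 5, 6] p :=
  H.back (i := 2) (by decide) (f7615 H)

theorem f7617 : g 4 • path g [9, 2, 9, 5, 2] p = path g [9, 2, 9, 5, 2, 4] p :=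
  rfl

theorem f7618 : g 9 • path g [9, 2, 9, 5, 2, 4] p = path g [9, 2, 9, 5, 2] p :=
  H.back (i := 4) (by decide) (f7617 H)

theorem f7619 : g 4 • path g [9, 2, 9, 5, 2, 4] p = path g [9, 2, 9, 5, 2, 9] p :=
  scan (u := [4]) (w := [4]) (i := 4) (r10_0_0 H) (step (f7617 H) rfl) (step (H.back (i := 9) (by decide) (f7591 H)) rfl)

theorem f7620 : g 9 • path g [9, 2, 9, 5, 2, 9] p = path g [9, 2, 9, 5, 2, 4] p :=
  H.back (i := 4) (by decide) (f7619 H)

theorem f7621 : g 2 • path g [9, 2, 9, 5, 3] p = path g [9, 2, 9, 5, 3, 2] p :=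
  rfl

theorem f7623 : g 2 • path g [9, 2, 9, 5, 3, 2] p = path g [9, 2, 9, 5, 3] p :=
  scan (u := [2]) (w := []) (i := 2) (r2_0_0 H) (step (f7621 H) rfl) rfl

theorem f7624 : g 7 • path g [9, 2, 9, 5, 3] p = path g [9, 2, 9, 5, 3, 2] p :=
  H.back (i := 2) (by decide) (f7623 H)

theorem f7625 : g 5 • path g [9, 2, 9, 5, 3] p = path g [9, 2, 9, 5, 3, 5] p :=
  rfl

theorem f7626 : g 0 • path g [9, 2, 9, 5, 3, 5] p = path g [9, 2, 9, 5, 3] p :=
  H.back (i := 5) (by decide) (f7625 H)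

theorem f7627 : g 5 • path g [9, 2, 9, 5, 3, 5] p = path g [9, 2, 9, 5, 3] p :=
  scan (u := [5]) (w := []) (i := 5) (r0_1_0 H) (step (f7625 H) rfl) rfl

theorem f7628 : g 0 • path g [9, 2, 9, 5, 3] p = path g [9, 2, 9, 5, 3, 5] p :=
  H.back (i := 5) (by decide) (f7627 H)

theorem f7629 : g 6 • path g [9, 2, 9, 5, 3] p = path g [9, 2, 9, 5, 3, 6] p :=
  rfl

theorem f7631 : g 1 • path g [9, 2, 9, 5, 3] p = path g [9, 2, 9, 5, 3, 1] p :=
  rfl

theorem f7632 : g 6 • path g [9, 2, 9, 5, 3, 1] p = path g [9, 2, 9, 5, 3] p :=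
  H.back (i := 1) (by decide) (f7631 H)

theorem f7633 : g 1 • path g [9, 2, 9, 5, 3, 1] p = path g [9, 2, 9, 5, 3, 6] p :=
  scan (u := [1]) (w := [1]) (i := 1) (r1_0_0 H) (step (f7631 H) rfl) (step (H.back (i := 6) (by decide) (f7629 H)) rfl)

theorem f7634 : g 6 • path g [9, 2, 9, 5, 3, 6] p = path g [9, 2, 9, 5, 3, 1] p :=
  H.back (i := 1) (by decide) (f7633 H)

theorem f7635 : g 8 • path g [9, 2, 9, 5, 1] p = path g [9, 2, 9, 5, 1, 8] p :=
  rfl

theorem f7636 : g 3 • path g [9, 2, 9, 5, 1, 8] p = path g [9, 2, 9, 5, 1] p :=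
  H.back (i := 8) (by decide) (f7635 H)

theorem f7637 : g 9 • path g [9, 2, 9, 5, 1, 8] p = path g [9, 2, 5, 1, 3] p :=
  scan (u := [8]) (w := [8, 9]) (i := 9) (r15_1_0 H) (step (f7635 H) rfl) (step (H.back (i := 3) (by decide) (f3420 H)) (step (H.back (i := 4) (by decide) (f3011 H)) rfl))

theorem f7638 : g 4 • path g [9, 2, 5, 1, 3] p = path g [9, 2, 9, 5, 1, 8] p :=
  H.back (i := 9) (by decide) (f7637 H)

theorem f7639 : g 9 • path g [9, 8, 1, 8, 5, 6] p = path g [9, 2, 9, 5, 1, 8] p :=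
  scan (u := [9, 9]) (w := []) (i := 9) (r10_1_0 H) (step (f7637 H) (step (f6095 H) rfl)) rfl

theorem f7640 : g 4 • path g [9, 2, 9, 5, 1, 8] p = path g [9, 8, 1, 8, 5, 6] p :=
  H.back (i := 9) (by decide) (f7639 H)

theorem f7641 : g 5 • path g [4, 2, 5, 8, 4] p = path g [9, 2, 9, 5, 1, 8] p :=
  scan (u := [9, 0, 4]) (w := []) (i := 5) (r13_0_1 H) (step (f7637 H) (step (f3431 H) (step (f5324 H) rfl))) rfl

theorem f7642 : g 0 • path g [9, 2, 9, 5, 1, 8] p = path g [4, 2, 5, 8, 4] p :=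
  H.back (i := 5) (by decide) (f7641 H)

theorem f7643 : g 0 • path g [4, 2, 5, 8, 4] p = path g [9, 2, 9, 5, 1, 8] p :=
  scan (u := [9, 5, 4]) (w := []) (i := 0) (r13_1_0 H) (step (f7637 H) (step (f3428 H) (step (f5324 H) rfl))) rfl

theorem f7644 : g 5 • path g [9, 2, 9, 5, 1, 8] p = path g [4, 2, 5, 8, 4] p :=
  H.back (i := 0) (by decide) (f7643 H)

theorem f7645 : g 6 • path g [3, 9, 1, 3, 5] p = path g [9, 2, 9, 5, 1, 8] p :=
  scan (u := [9, 1, 4]) (w := []) (i := 6) (r14_0_3 H) (step (f7637 H) (step (f6111 H) (step (f6104 H) rfl))) rfl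

theorem f7646 : g 1 • path g [9, 2, 9, 5, 1, 8] p = path g [3, 9, 1, 3, 5] p :=
  H.back (i := 6) (by decide) (f7645 H)

theorem f7647 : g 1 • path g [9, 2, 9, 8, 6, 5] p = path g [9, 2, 9, 5, 1, 8] p :=
  scan (u := [9, 6, 4]) (w := []) (i := 1) (r14_1_2 H) (step (f7637 H) (step (f3500 H) (step (f7477 H) rfl))) rfl

theorem f7649 : g 1 • path g [4, 2, 5, 8, 4] p = path g [8, 9, 1, 3, 5] p :=
  scan (u := [1, 0]) (w := [0, 6, 6, 0]) (i := 1) (r4_0_4 H) (step (f7647 H) (step (f7642 H) rfl)) (step (H.back (i := 5) (by decide) (f3995 H)) (step (H.back (i := 1) (by decide) (f7312 H)) (step (H.back (i := 1) (by decide) (f2960 H)) (step (H.back (i := 5) (by decide) (f7474 H)) rfl))))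

theorem f7650 : g 6 • path g [8, 9, 1, 3, 5] p = path g [4, 2, 5, 8, 4] p :=
  H.back (i := 1) (by decide) (f7649 H)

theorem f7651 : g 6 • path g [8, 1, 4, 8, 5] p = path g [4, 2, 5, 8, 9] p :=
  scan (u := [1, 0, 1, 4]) (w := [5, 6, 6, 9, 1]) (i := 6) (r12_0_1 H) (step (f7647 H) (step (f7642 H) (step (f7649 H) (step (f4487 H) rfl)))) (step (H.back (i := 0) (by decide) (f6099 H)) (step (H.back (i := 1) (by decide) (f6086 H)) (step (H.back (i := 1) (by decide) (f6084 H)) (step (H.back (i := 4) (by decide) (f4677 H)) (step (H.back (i := 6) (by decide) (f7480 H)) rfl)))))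

theorem f7652 : g 1 • path g [4, 2, 5, 8, 9] p = path g [8, 1, 4, 8, 5] p :=
  H.back (i := 6) (by decide) (f7651 H)

theorem f7654 : g 9 • path g [8, 9, 1, 3, 5] p = path g [9, 2, 3, 1, 5] p :=
  scan (u := [1, 0, 1]) (w := [6, 5, 6, 6, 4, 1]) (i := 9) (r12_1_2 H) (step (f7647 H) (step (f7642 H) (step (f7649 H) rfl))) (step (H.back (i := 1) (by decide) (f3513 H)) (step (H.back (i := 0) (by decide) (f3431 H)) (step (H.back (i := 1) (by decide) (f3501 H)) (step (H.back (i := 1) (by decide) (f6112 H)) (step (H.back (i := 9) (by decide) (f6105 H)) (step (H.back (i := 6) (by decide) (f7480 H)) rfl))))))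

theorem f7655 : g 4 • path g [9, 2, 3, 1, 5] p = path g [8, 9, 1, 3, 5] p :=
  H.back (i := 9) (by decide) (f7654 H)

theorem f7656 : g 9 • path g [9, 2, 3, 1, 5] p = path g [8, 1, 4, 8, 5] p :=
  scan (u := [9]) (w := [9]) (i := 9) (r10_1_0 H) (step (f7654 H) rfl) (step (H.back (i := 4) (by decide) (f4487 H)) rfl)

theorem f7657 : g 4 • path g [8, 1, 4, 8, 5] p = path g [9, 2, 3, 1, 5] p :=
  H.back (i := 9) (by decide) (f7656 H)

theorem f7658 : g 1 • path g [8, 1, 4, 8, 5] p = path g [9, 8, 1, 8, 1, 5] p :=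
  scan (u := [9]) (w := [4, 6]) (i := 1) (r14_0_3 H) (step (f7656 H) rfl) (step (H.back (i := 9) (by decide) (f6135 H)) (step (H.back (i := 1) (by decide) (f5311 H)) rfl))

theorem f7659 : g 6 • path g [9, 8, 1, 8, 1, 5] p = path g [8, 1, 4, 8, 5] p :=
  H.back (i := 1) (by decide) (f7658 H)

theorem f7660 : g 2 • path g [9, 8, 2, 9, 1, 5] p = path g [9, 2, 9, 5, 1, 8] p :=
  scan (u := [1, 0, 8, 6, 5, 7, 6, 5, 7, 5, 3, 1, 0]) (w := [0]) (i := 2) (r9_1_1 H) (step (f7649 H) (step (f3996 H) (step (f717 H) (step (f181 H) (step (f2840 H) (step (f263 H) (step (f956 H) (step (f3703 H) (step (f3695 H) (step (f1617 H) (step (f1657 H) (step (f1374 H) (step (f5493 H) rfl))))))))))))) (step (H.back (i := 5) (by decide) (f7641 H)) rfl)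

theorem f7661 : g 7 • path g [9, 2, 9, 5, 1, 8] p = path g [9, 8, 2, 9, 1, 5] p :=
  H.back (i := 2) (by decide) (f7660 H)

theorem f7662 : g 2 • path g [9, 2, 9, 5, 1, 8] p = path g [9, 8, 2, 9, 1, 5] p :=
  scan (u := [2]) (w := []) (i := 2) (r2_0_0 H) (step (f7660 H) rfl) rfl

theorem f7664 : g 2 • path g [3, 9, 1, 3, 5] p = path g [9, 2, 3, 2, 9] p :=
  scan (u := [2, 1]) (w := [1]) (i := 2) (r3_0_1 H) (step (f7660 H) (step (f7646 H) rfl)) (step (H.back (i := 6) (by decide) (f5498 H)) rfl)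

theorem f7665 : g 7 • path g [9, 2, 3, 2, 9] p = path g [3, 9, 1, 3, 5] p :=
  H.back (i := 2) (by decide) (f7664 H)

theorem f7666 : g 2 • path g [9, 2, 3, 2, 9] p = path g [3, 9, 1, 3, 5] p :=
  scan (u := [2]) (w := []) (i := 2) (r2_0_0 H) (step (f7664 H) rfl) rfl

theorem f7667 : g 7 • path g [3, 9, 1, 3, 5] p = path g [9, 2, 3, 2, 9] p :=
  H.back (i := 2) (by decide) (f7666 H)

theorem f7668 : g 8 • path g [9, 8, 1, 8, 5, 4] p = path g [3, 9, 1, 3, 5] p :=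
  scan (u := [2, 3, 6, 5, 7, 6, 5, 7, 5]) (w := []) (i := 8) (r7_0_0 H) (step (f7664 H) (step (f3751 H) (step (f7358 H) (step (f3377 H) (step (f2568 H) (step (f3303 H) (step (f3301 H) (step (f5629 H) (step (f6109 H) rfl))))))))) rfl

theorem f7670 : g 0 • path g [8, 9, 2, 6, 8] p = path g [3, 9, 1, 3, 2] p :=
  scan (u := [2, 3, 5, 6, 7, 5, 6, 8]) (w := [2, 0]) (i := 0) (r8_0_2 H) (step (f7664 H) (step (f3751 H) (step (f7370 H) (step (f3634 H) (step (f1464 H) (step (f3211 H) (step (f658 H) (step (f3857 H) rfl)))))))) (step (H.back (i := 7) (by decide) (f4672 H)) (step (H.back (i := 5) (by decide) (f4675 H)) rfl))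

theorem f7671 : g 5 • path g [3, 9, 1, 3, 2] p = path g [8, 9, 2, 6, 8] p :=
  H.back (i := 0) (by decide) (f7670 H)

theorem f7672 : g 0 • path g [3, 9, 1, 3, 2] p = path g [8, 9, 2, 6, 8] p :=
  scan (u := [0]) (w := []) (i := 0) (r0_0_0 H) (step (f7670 H) rfl) rfl

theorem f7673 : g 5 • path g [8, 9, 2, 6, 8] p = path g [3, 9, 1, 3, 2] p :=
  H.back (i := 0) (by decide) (f7672 H)

theorem f7674 : g 0 • path g [8, 9, 2, 6, 3] p = path g [9, 8, 2, 5, 6, 8] p :=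
  scan (u := [0, 1, 2, 0, 1, 8, 7, 3]) (w := [2]) (i := 0) (r7_1_3 H) (step (f7670 H) (step (f7468 H) (step (f7466 H) (step (f2954 H) (step (f7312 H) (step (f717 H) (step (f662 H) (step (f3873 H) rfl)))))))) (step (H.back (i := 7) (by decide) (f5569 H)) rfl)

theorem f7675 : g 5 • path g [9, 8, 2, 5, 6, 8] p = path g [8, 9, 2, 6, 3] p :=
  H.back (i := 0) (by decide) (f7674 H)

theorem f7676 : g 2 • path g [9, 3, 5, 2, 4] p = path g [8, 9, 2, 6, 3] p :=
  scan (u := [0, 2, 0, 2, 0, 4, 5, 7, 5, 7, 5, 7, 5, 7, 4]) (w := [0, 2]) (i := 2) (r11_0_0 H) (step (f7670 H) (step (f4671 H) (step (f4676 H) (step (f7664 H) (step (f3476 H) (step (f1169 H) (step (f3121 H) (step (f529 H) (step (f3146 H) (step (f467 H) (step (f3151 H) (step (f151 H) (step (f154 H) (step (f615 H) (step (f3719 H) rfl))))))))))))))) (step (H.back (i := 5) (by decide) (f7675 H)) (step (H.back (i := 7) (by decide) (f5569 H)) rfl))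

theorem f7677 : g 7 • path g [8, 9, 2, 6, 3] p = path g [9, 3, 5, 2, 4] p :=
  H.back (i := 2) (by decide) (f7676 H)

theorem f7678 : g 2 • path g [8, 9, 2, 6, 3] p = path g [9, 3, 5, 2, 4] p :=
  scan (u := [2]) (w := []) (i := 2) (r2_0_0 H) (step (f7676 H) rfl) rfl

theorem f7679 : g 7 • path g [9, 3, 5, 2, 4] p = path g [8, 9, 2, 6, 3] p :=
  H.back (i := 2) (by decide) (f7678 H)

theorem f7680 : g 0 • path g [9, 8, 2, 5, 6, 8] p = path g [8, 9, 2, 6, 3] p :=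
  scan (u := [2, 0, 2, 3, 5, 6, 7, 5, 6, 8]) (w := []) (i := 0) (r8_0_0 H) (step (f7678 H) (step (f4479 H) (step (f4472 H) (step (f915 H) (step (f2498 H) (step (f117 H) (step (f105 H) (step (f372 H) (step (f1424 H) (step (f5566 H) rfl)))))))))) rfl

theorem f7681 : g 5 • path g [8, 9, 2, 6, 3] p = path g [9, 8, 2, 5, 6, 8] p :=
  H.back (i := 0) (by decide) (f7680 H)

theorem f7682 : g 1 • path g [8, 1, 4, 8, 2] p = path g [9, 2, 3, 9, 2] p :=
  scan (u := [2, 0]) (w := [2, 0, 1, 3, 5, 6, 5, 7, 5, 6, 8, 0]) (i := 1) (r9_0_5 H) (step (f7678 H) (step (f4479 H) rfl)) (step (H.back (i := 7) (by decide) (f3457 H)) (step (H.back (i := 5) (by decide) (f5665 H)) (step (H.back (i := 6) (by decide) (f2915 H)) (step (H.back (i := 8) (by decide) (f434 H)) (step (H.back (i := 0) (by decide) (f2495 H)) (step (H.back (i := 1) (by decide) (f253 H)) (step (H.back (i := 0) (by decide) (f2836 H)) (step (H.back (i := 2) (by decide)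 (f104 H)) (step (H.back (i := 0) (by decide) (f373 H)) (step (H.back (i := 1) (by decide) (f1425 H)) (step (H.back (i := 3) (by decide) (f5567 H)) (step (H.back (i := 5) (by decide) (f7681 H)) rfl))))))))))))

theorem f7683 : g 6 • path g [9, 2, 3, 9, 2] p = path g [8, 1, 4, 8, 2] p :=
  H.back (i := 1) (by decide) (f7682 H)

theorem f7684 : path g [9, 8, 2, 5, 6, 3] p = path g [9, 8, 1, 3, 2] p :=
  close (u := [7, 5, 8]) (w := [2, 3, 6, 5, 7, 6, 5]) (r7_0_7 H) (step (f7679 H) (step (f7681 H) (step (f5575 H) rfl))) (step (H.back (i := 7) (by decide) (f2932 H)) (step (H.back (i := 8) (by decide) (f439 H)) (step (H.back (i := 1) (by decide) (f2916 H)) (step (H.back (i := 0) (by decide) (f5667 H)) (step (H.back (i := 2) (by decide) (f3456 H)) (step (H.back (i := 1) (by decide) (f7682 H)) (step (H.back (i := 0) (by decide) (f4479 H)) rfl)))))))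

theorem f7687 : g 3 • path g [9, 8, 1, 3, 2] p = path g [9, 8, 2, 5, 6, 8] p :=
  (congrArg (g 3 • ·) (f7684 H).symm).trans (f5574 H)

theorem f7688 : path g [9, 8, 1, 3, 2, 3] p = path g [9, 8, 2, 5, 6, 8] p :=
  (f6150 H).symm.trans (f7687 H)

theorem f7690 : g 8 • path g [9, 8, 2, 5, 6, 8] p = path g [9, 8, 1, 3, 2] p :=
  (f5575 H).trans (f7684 H)

theorem f7696 : g 3 • path g [9, 8, 2, 5, 6] p = path g [9, 8, 1, 3, 2] p :=
  (f5572 H).trans (f7684 H)

theorem f7701 : g 9 • path g [9, 2, 3, 9, 2] p = path g [3, 9, 2, 1, 5] p :=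
  scan (u := [1]) (w := [6, 4]) (i := 9) (r14_1_1 H) (step (f7682 H) rfl) (step (H.back (i := 1) (by decide) (f4577 H)) (step (H.back (i := 9) (by decide) (f4477 H)) rfl))

theorem f7702 : g 4 • path g [3, 9, 2, 1, 5] p = path g [9, 2, 3, 9, 2] p :=
  H.back (i := 9) (by decide) (f7701 H)

theorem f7703 : g 3 • path g [9, 8, 1, 3, 2] p = path g [9, 8, 2, 5, 6, 8] p :=
  (f6150 H).trans (f7688 H)

theorem f7704 : g 5 • path g [3, 9, 2, 1, 4] p = path g [9, 2, 3, 9, 2] p :=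
  scan (u := [9, 0, 4]) (w := []) (i := 5) (r13_0_1 H) (step (f7701 H) (step (f4573 H) (step (f4593 H) rfl))) rfl

theorem f7705 : g 0 • path g [9, 2, 3, 9, 2] p = path g [3, 9, 2, 1, 4] p :=
  H.back (i := 5) (by decide) (f7704 H)

theorem f7706 : g 0 • path g [3, 9, 2, 1, 4] p = path g [9, 2, 3, 9, 2] p :=
  scan (u := [9, 5, 4]) (w := []) (i := 0) (r13_1_0 H) (step (f7701 H) (step (f4574 H) (step (f4593 H) rfl))) rfl

theorem f7707 : g 5 • path g [9, 2, 3, 9, 2] p = path g [3, 9, 2, 1, 4] p :=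
  H.back (i := 0) (by decide) (f7706 H)

theorem f7708 : g 8 • path g [8, 1, 4, 8, 5] p = path g [9, 2, 3, 1, 5] p :=
  scan (u := [0, 2, 1, 0]) (w := [7, 5, 7, 5, 3, 1]) (i := 8) (r8_1_3 H) (step (f7706 H) (step (f3456 H) (step (f7303 H) (step (f4485 H) rfl)))) (step (H.back (i := 2) (by decide) (f5279 H)) (step (H.back (i := 0) (by decide) (f5271 H)) (step (H.back (i := 2) (by decide) (f3637 H)) (step (H.back (i := 0) (by decide) (f7367 H)) (step (H.back (i := 8) (by decide) (f3750 H)) (step (H.back (i := 6) (by decide) (f4597 H)) rfl))))))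

theorem f7709 : g 3 • path g [9, 2, 3, 1, 5] p = path g [8, 1, 4, 8, 5] p :=
  H.back (i := 8) (by decide) (f7708 H)

theorem f7710 : path g [9, 8, 1, 8, 5, 8] p = path g [9, 8, 1, 8, 5, 4] p :=
  close (u := [0, 2, 0, 1, 0, 8]) (w := [6, 5, 7, 6, 5, 7, 5, 3, 1]) (r9_1_13 H) (step (f7706 H) (step (f3456 H) (step (f5667 H) (step (f2916 H) (step (f2914 H) (step (f6046 H) rfl)))))) (step (H.back (i := 1) (by decide) (f6111 H)) (step (H.back (i := 0) (by decide) (f3429 H)) (step (H.back (i := 2) (by decide) (f3566 H)) (step (H.back (i := 1) (by decide) (f5274 H)) (step (H.back (i := 0) (by decide) (f5271 H)) (step (H.back (i := 2) (by decide) (f3637 H)) (step (H.back (i := 0) (by decide) (f7367 H)) (step (H.back (i := 8) (by decide) (f3750 H)) (step (H.back (i := 6) (by decide) (f4597 H)) rfl)))))))))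

theorem f7711 : path g [9, 8, 1, 8, 5, 4] p = path g [9, 8, 1, 8, 5, 8] p :=
  (f7710 H).symm

theorem f7712 : g 9 • path g [9, 8, 1, 8, 5, 8] p = path g [9, 8, 1, 8, 5] p :=
  (congrArg (g 9 • ·) (f7711 H).symm).trans (f6103 H)

theorem f7714 : g 4 • path g [9, 8, 1, 8, 5] p = path g [9, 8, 1, 8, 5, 8] p :=
  H.back (i := 9) (by decide) (f7712 H)

theorem f7718 : g 5 • path g [9, 8, 1, 8, 5, 8] p = path g [9, 8, 1, 8, 4] p :=
  (congrArg (g 5 • ·) (f7711 H).symm).trans (f6106 H)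

theorem f7720 : g 0 • path g [9, 8, 1, 8, 4] p = path g [9, 8, 1, 8, 5, 8] p :=
  H.back (i := 5) (by decide) (f7718 H)

theorem f7721 : g 0 • path g [9, 8, 1, 8, 5, 8] p = path g [9, 8, 1, 8, 4] p :=
  (congrArg (g 0 • ·) (f7711 H).symm).trans (f6108 H)

theorem f7724 : g 6 • path g [9, 8, 1, 8, 5, 8] p = path g [9, 2, 5, 1, 3] p :=
  (congrArg (g 6 • ·) (f7711 H).symm).trans (f6110 H)

theorem f7726 : g 1 • path g [9, 2, 5, 1, 3] p = path g [9, 8, 1, 8, 5, 8] p :=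
  H.back (i := 6) (by decide) (f7724 H)

theorem f7727 : g 1 • path g [9, 8, 1, 8, 5, 8] p = path g [9, 2, 3, 6, 5] p :=
  (congrArg (g 1 • ·) (f7711 H).symm).trans (f6112 H)

theorem f7730 : g 7 • path g [9, 8, 1, 8, 5, 8] p = path g [4, 8, 2, 8, 6] p :=
  (congrArg (g 7 • ·) (f7711 H).symm).trans (f6115 H)

theorem f7733 : g 2 • path g [9, 8, 1, 8, 5, 8] p = path g [4, 8, 2, 8, 6] p :=
  (congrArg (g 2 • ·) (f7711 H).symm).trans (f6117 H)

theorem f7736 : g 8 • path g [9, 8, 1, 8, 5, 8] p = path g [3, 9, 1, 3, 5] p :=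
  (congrArg (g 8 • ·) (f7711 H).symm).trans (f7668 H)

theorem f7737 : path g [9, 8, 1, 8, 5, 3] p = path g [3, 9, 1, 3, 5] p :=
  (f6081 H).symm.trans (f7736 H)

theorem f7738 : g 8 • path g [3, 9, 1, 3, 5] p = path g [9, 8, 1, 8, 5] p :=
  (congrArg (g 8 • ·) (f7737 H).symm).trans (f6079 H)

theorem f7740 : g 3 • path g [9, 8, 1, 8, 5] p = path g [3, 9, 1, 3, 5] p :=
  H.back (i := 8) (by decide) (f7738 H)

theorem f7744 : g 8 • path g [9, 8, 1, 8, 5, 8] p = path g [3, 9, 1, 3, 5] p :=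
  (f6081 H).trans (f7737 H)

theorem f7745 : g 0 • path g [9, 8, 2, 8, 1, 8] p = path g [8, 6, 8, 4, 2] p :=
  scan (u := [7, 5, 6, 8]) (w := [2, 0, 2, 3, 5, 6]) (i := 0) (r8_0_6 H) (step (f7730 H) (step (f5012 H) (step (f1397 H) (step (f5560 H) rfl)))) (step (H.back (i := 7) (by decide) (f4124 H)) (step (H.back (i := 5) (by decide) (f7218 H)) (step (H.back (i := 7) (by decide) (f4583 H)) (step (H.back (i := 8) (by decide) (f3494 H)) (step (H.back (i := 0) (by decide) (f3497 H)) (step (H.back (i := 1) (by decide) (f7727 H)) rfl))))))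

theorem f7747 : g 0 • path g [8, 6, 8, 4, 2] p = path g [9, 8, 2, 8, 1, 8] p :=
  scan (u := [0]) (w := []) (i := 0) (r0_0_0 H) (step (f7745 H) rfl) rfl

theorem f7748 : g 5 • path g [9, 8, 2, 8, 1, 8] p = path g [8, 6, 8, 4, 2] p :=
  H.back (i := 0) (by decide) (f7747 H)

theorem f7749 : g 0 • path g [9, 3, 2, 6, 8] p = path g [4, 8, 2, 9, 2] p :=
  scan (u := [5, 6, 7, 5, 6, 8]) (w := [2, 0, 2, 3]) (i := 0) (r8_0_4 H) (step (f7718 H) (step (f5621 H) (step (f467 H) (step (f3151 H) (step (f592 H) (step (f3641 H) rfl)))))) (step (H.back (i := 7) (by decide) (f4981 H)) (step (H.back (i := 5) (by decide) (f3478 H)) (step (H.back (i := 7) (by decide) (f7667 H)) (step (H.back (i := 8) (by decide) (f7744 H)) rfl))))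

theorem f7750 : g 5 • path g [4, 8, 2, 9, 2] p = path g [9, 3, 2, 6, 8] p :=
  H.back (i := 0) (by decide) (f7749 H)

theorem f7751 : g 0 • path g [4, 8, 2, 9, 2] p = path g [9, 3, 2, 6, 8] p :=
  scan (u := [0]) (w := []) (i := 0) (r0_0_0 H) (step (f7749 H) rfl) rfl

theorem f7752 : g 5 • path g [9, 3, 2, 6, 8] p = path g [4, 8, 2, 9, 2] p :=
  H.back (i := 0) (by decide) (f7751 H)

theorem f7753 : g 3 • path g [8, 9, 1, 3, 5] p = path g [9, 2, 3, 1, 5] p :=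
  scan (u := [0, 2, 0, 1, 2, 0, 1]) (w := [5, 6, 5, 7, 5, 6, 8]) (i := 3) (r9_0_4 H) (step (f7749 H) (step (f4980 H) (step (f3479 H) (step (f5499 H) (step (f7660 H) (step (f7642 H) (step (f7649 H) rfl))))))) (step (H.back (i := 0) (by decide) (f3511 H)) (step (H.back (i := 1) (by decide) (f538 H)) (step (H.back (i := 0) (by decide) (f3135 H)) (step (H.back (i := 2) (by decide) (f466 H)) (step (H.back (i := 0) (by decide) (f3079 H)) (step (H.back (i := 1) (by decide) (f593 H)) (step (H.back (i := 3) (by decide) (f3642 H)) rfl)))))))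

theorem f7754 : g 8 • path g [9, 2, 3, 1, 5] p = path g [8, 9, 1, 3, 5] p :=
  H.back (i := 3) (by decide) (f7753 H)

theorem f7755 : g 3 • path g [8, 1, 4, 8, 5] p = path g [8, 9, 1, 3, 5] p :=
  scan (u := [3, 3]) (w := []) (i := 3) (r6_0_0 H) (step (f7753 H) (step (f7709 H) rfl)) rfl

theorem f7757 : g 2 • path g [9, 3, 2, 6, 3] p = path g [8, 1, 4, 8, 5] p :=
  scan (u := [3, 6, 5, 7, 6, 5, 7, 5, 8]) (w := []) (i := 2) (r7_0_1 H) (step (f7755 H) (step (f7650 H) (step (f7641 H) (step (f7661 H) (step (f5498 H) (step (f3478 H) (step (f4981 H) (step (f7750 H) (step (f3646 H) rfl))))))))) rfl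

theorem f7758 : g 7 • path g [8, 1, 4, 8, 5] p = path g [9, 3, 2, 6, 3] p :=
  H.back (i := 2) (by decide) (f7757 H)

theorem f7759 : g 2 • path g [8, 1, 4, 8, 5] p = path g [9, 3, 2, 6, 3] p :=
  scan (u := [2]) (w := []) (i := 2) (r2_0_0 H) (step (f7757 H) rfl) rfl

theorem f7760 : g 7 • path g [9, 3, 2, 6, 3] p = path g [8, 1, 4, 8, 5] p :=
  H.back (i := 2) (by decide) (f7759 H)

theorem f7761 : path g [4, 2, 3, 1, 3] p = path g [9, 8, 1, 8, 2, 5] p :=
  close (u := [8, 0, 2, 0, 2, 3]) (w := [5, 6, 7, 5, 6]) (r8_0_9 H) (step (f7708 H) (step (f3509 H) (step (f3487 H) (step (f3488 H) (step (f3361 H) (step (f5378 H) rfl)))))) (step (H.back (i := 0) (by decide) (f6031 H)) (step (H.back (i := 1) (by decide) (f6033 H)) (step (H.back (i := 2) (by decide) (f6035 H)) (step (H.back (i := 0) (by decide) (f6131 H)) (step (H.back (i := 1) (by decide) (f7658 H)) rfl)))))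

theorem f7762 : path g [9, 8, 1, 8, 2, 5] p = path g [4, 2, 3, 1, 3] p :=
  (f7761 H).symm

theorem f7763 : g 0 • path g [4, 2, 3, 1, 3] p = path g [9, 8, 1, 8, 2] p :=
  (congrArg (g 0 • ·) (f7762 H).symm).trans (f6029 H)

theorem f7766 : g 5 • path g [4, 2, 3, 1, 3] p = path g [9, 8, 1, 8, 2] p :=
  (congrArg (g 5 • ·) (f7762 H).symm).trans (f6030 H)

theorem f7768 : g 0 • path g [9, 8, 1, 8, 2] p = path g [4, 2, 3, 1, 3] p :=
  H.back (i := 5) (by decide) (f7766 H)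

theorem f7769 : g 3 • path g [9, 3, 2, 3, 1] p = path g [9, 3, 1, 8, 5] p :=
  scan (u := [8, 0, 2, 0, 1, 2, 0, 1]) (w := [5, 6, 5, 7, 5, 6]) (i := 3) (r9_0_3 H) (step (f7708 H) (step (f3509 H) (step (f3487 H) (step (f3488 H) (step (f1425 H) (step (f2841 H) (step (f2843 H) (step (f3633 H) rfl)))))))) (step (H.back (i := 0) (by decide) (f3785 H)) (step (H.back (i := 1) (by decide) (f3787 H)) (step (H.back (i := 0) (by decide) (f6056 H)) (step (H.back (i := 2) (by decide) (f6035 H)) (step (H.back (i := 0) (by decide) (f6131 H)) (step (H.back (i := 1) (by decide) (f7658 H)) rfl))))))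

theorem f7770 : g 8 • path g [9, 3, 1, 8, 5] p = path g [9, 3, 2, 3, 1] p :=
  H.back (i := 3) (by decide) (f7769 H)

theorem f7771 : g 3 • path g [9, 8, 2, 4, 8, 5] p = path g [9, 3, 6, 8, 5] p :=
  scan (u := [3, 4]) (w := [4]) (i := 3) (r15_0_1 H) (step (f7769 H) (step (f5827 H) rfl)) (step (H.back (i := 9) (by decide) (f7378 H)) rfl)

theorem f7774 : g 3 • path g [9, 2, 9, 5, 1] p = path g [9, 2, 9, 5, 1, 3] p :=
  rfl

theorem f7775 : g 8 • path g [9, 2, 9, 5, 1, 3] p = path g [9, 2, 9, 5, 1] p :=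
  H.back (i := 3) (by decide) (f7774 H)

theorem f7776 : g 3 • path g [9, 2, 9, 5, 1, 3] p = path g [9, 2, 9, 5, 1, 8] p :=
  scan (u := [3]) (w := [3]) (i := 3) (r6_0_0 H) (step (f7774 H) rfl) (step (H.back (i := 8) (by decide) (f7635 H)) rfl)

theorem f7777 : g 8 • path g [9, 2, 9, 5, 1, 8] p = path g [9, 2, 9, 5, 1, 3] p :=
  H.back (i := 3) (by decide) (f7776 H)

theorem f7778 : g 2 • path g [9, 2, 9, 3, 9] p = path g [9, 2, 9, 3, 9, 2] p :=
  rfl

theorem f7779 : g 7 • path g [9, 2, 9, 3, 9, 2] p = path g [9, 2, 9, 3, 9] p :=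
  H.back (i := 2) (by decide) (f7778 H)

theorem f7780 : g 2 • path g [9, 2, 9, 3, 9, 2] p = path g [9, 2, 9, 3, 9] p :=
  scan (u := [2]) (w := []) (i := 2) (r2_0_0 H) (step (f7778 H) rfl) rfl

theorem f7781 : g 7 • path g [9, 2, 9, 3, 9] p = path g [9, 2, 9, 3, 9, 2] p :=
  H.back (i := 2) (by decide) (f7780 H)

theorem f7782 : g 5 • path g [9, 2, 9, 3, 9] p = path g [9, 2, 9, 3, 9, 5] p :=
  rfl

theorem f7783 : g 0 • path g [9, 2, 9, 3, 9, 5] p = path g [9, 2, 9, 3, 9] p :=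
  H.back (i := 5) (by decide) (f7782 H)

theorem f7784 : g 5 • path g [9, 2, 9, 3, 9, 5] p = path g [9, 2, 9, 3, 9] p :=
  scan (u := [5]) (w := []) (i := 5) (r0_1_0 H) (step (f7782 H) rfl) rfl

theorem f7785 : g 0 • path g [9, 2, 9, 3, 9] p = path g [9, 2, 9, 3, 9, 5] p :=
  H.back (i := 5) (by decide) (f7784 H)

theorem f7786 : g 9 • path g [9, 2, 9, 3, 9, 5] p = path g [9, 2, 4, 8, 5] p :=
  scan (u := [5]) (w := [0, 4]) (i := 9) (r13_0_0 H) (step (f7782 H) rfl) (step (H.back (i := 5) (by decide) (f3522 H)) (step (H.back (i := 9) (by decide) (f3019 H)) rfl))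

theorem f7787 : g 4 • path g [9, 2, 4, 8, 5] p = path g [9, 2, 9, 3, 9, 5] p :=
  H.back (i := 9) (by decide) (f7786 H)

theorem f7788 : g 4 • path g [9, 2, 9, 3, 9, 5] p = path g [9, 2, 9, 3, 5] p :=
  scan (u := [5]) (w := [0, 9]) (i := 4) (r13_1_1 H) (step (f7782 H) rfl) (step (H.back (i := 5) (by decide) (f3029 H)) (step (H.back (i := 4) (by decide) (f3018 H)) rfl))

theorem f7789 : g 9 • path g [9, 2, 9, 3, 5] p = path g [9, 2, 9, 3, 9, 5] p :=
  H.back (i := 4) (by decide) (f7788 H)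

theorem f7790 : g 6 • path g [9, 2, 9, 3, 9] p = path g [9, 2, 9, 3, 9, 6] p :=
  rfl

theorem f7791 : g 1 • path g [9, 2, 9, 3, 9, 6] p = path g [9, 2, 9, 3, 9] p :=
  H.back (i := 6) (by decide) (f7790 H)

theorem f7792 : g 9 • path g [9, 2, 9, 3, 9, 6] p = path g [9, 2, 4, 8, 6] p :=
  scan (u := [6]) (w := [1, 4]) (i := 9) (r14_0_2 H) (step (f7790 H) rfl) (step (H.back (i := 6) (by decide) (f3528 H)) (step (H.back (i := 9) (by decide) (f3019 H)) rfl))

theorem f7793 : g 4 • path g [9, 2, 4, 8, 6] p = path g [9, 2, 9, 3, 9, 6] p :=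
  H.back (i := 9) (by decide) (f7792 H)

theorem f7794 : g 4 • path g [9, 2, 9, 3, 9, 6] p = path g [9, 2, 9, 3, 6] p :=
  scan (u := [6]) (w := [1, 9]) (i := 4) (r14_1_3 H) (step (f7790 H) rfl) (step (H.back (i := 6) (by decide) (f3033 H)) (step (H.back (i := 4) (by decide) (f3018 H)) rfl))

theorem f7795 : g 9 • path g [9, 2, 9, 3, 6] p = path g [9, 2, 9, 3, 9, 6] p :=
  H.back (i := 4) (by decide) (f7794 H)

theorem f7796 : g 1 • path g [9, 2, 9, 3, 9] p = path g [9, 2, 9, 3, 9, 1] p :=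
  rfl

theorem f7797 : g 6 • path g [9, 2, 9, 3, 9, 1] p = path g [9, 2, 9, 3, 9] p :=
  H.back (i := 1) (by decide) (f7796 H)

theorem f7798 : g 1 • path g [9, 2, 9, 3, 9, 1] p = path g [9, 2, 9, 3, 9, 6] p :=
  scan (u := [1]) (w := [1]) (i := 1) (r1_0_0 H) (step (f7796 H) rfl) (step (H.back (i := 6) (by decide) (f7790 H)) rfl)

theorem f7799 : g 6 • path g [9, 2, 9, 3, 9, 6] p = path g [9, 2, 9, 3, 9, 1] p :=
  H.back (i := 1) (by decide) (f7798 H)

theorem f7800 : g 4 • path g [9, 2, 9, 3, 9, 1] p = path g [9, 2, 9, 3, 1] p :=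
  scan (u := [1]) (w := [6, 9]) (i := 4) (r14_0_0 H) (step (f7796 H) rfl) (step (H.back (i := 1) (by decide) (f3035 H)) (step (H.back (i := 4) (by decide) (f3018 H)) rfl))

theorem f7802 : g 9 • path g [9, 2, 9, 3, 9, 1] p = path g [9, 2, 4, 8, 1] p :=
  scan (u := [1]) (w := [6, 4]) (i := 9) (r14_1_1 H) (step (f7796 H) rfl) (step (H.back (i := 1) (by decide) (f3532 H)) (step (H.back (i := 9) (by decide) (f3019 H)) rfl))

theorem f7804 : g 9 • path g [9, 2, 9, 3, 2] p = path g [9, 2, 9, 3, 2, 9] p :=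
  rfl

theorem f7806 : g 8 • path g [9, 2, 9, 3, 2] p = path g [9, 2, 9, 3, 2, 8] p :=
  rfl

theorem f7807 : g 3 • path g [9, 2, 9, 3, 2, 8] p = path g [9, 2, 9, 3, 2] p :=
  H.back (i := 8) (by decide) (f7806 H)

theorem f7808 : g 5 • path g [9, 2, 9, 3, 2] p = path g [9, 2, 9, 3, 2, 5] p :=
  rfl

theorem f7809 : g 0 • path g [9, 2, 9, 3, 2, 5] p = path g [9, 2, 9, 3, 2] p :=
  H.back (i := 5) (by decide) (f7808 H)

theorem f7810 : g 5 • path g [9, 2, 9, 3, 2, 5] p = path g [9, 2, 9, 3, 2] p :=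
  scan (u := [5]) (w := []) (i := 5) (r0_1_0 H) (step (f7808 H) rfl) rfl

theorem f7811 : g 0 • path g [9, 2, 9, 3, 2] p = path g [9, 2, 9, 3, 2, 5] p :=
  H.back (i := 5) (by decide) (f7810 H)

theorem f7812 : g 3 • path g [9, 2, 9, 3, 2] p = path g [9, 2, 9, 3, 2, 3] p :=
  rfl

theorem f7813 : g 8 • path g [9, 2, 9, 3, 2, 3] p = path g [9, 2, 9, 3, 2] p :=
  H.back (i := 3) (by decide) (f7812 H)

theorem f7814 : g 3 • path g [9, 2, 9, 3, 2, 3] p = path g [9, 2, 9, 3, 2, 8] p :=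
  scan (u := [3]) (w := [3]) (i := 3) (r6_0_0 H) (step (f7812 H) rfl) (step (H.back (i := 8) (by decide) (f7806 H)) rfl)

theorem f7816 : g 6 • path g [9, 2, 9, 3, 2] p = path g [9, 2, 9, 3, 2, 6] p :=
  rfl

theorem f7818 : g 7 • path g [9, 2, 9, 3, 2, 6] p = path g [9, 2, 9, 3, 1] p :=
  scan (u := [6]) (w := [6, 7]) (i := 7) (r3_1_1 H) (step (f7816 H) rfl) (step (H.back (i := 1) (by decide) (f3035 H)) (step (H.back (i := 2) (by decide) (f3027 H)) rfl))

theorem f7819 : g 2 • path g [9, 2, 9, 3, 1] p = path g [9, 2, 9, 3, 2, 6] p :=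
  H.back (i := 7) (by decide) (f7818 H)

theorem f7820 : g 7 • path g [9, 2, 9, 3, 1] p = path g [9, 2, 9, 3, 2, 6] p :=
  scan (u := [7]) (w := []) (i := 7) (r2_1_0 H) (step (f7818 H) rfl) rfl

theorem f7821 : g 2 • path g [9, 2, 9, 3, 2, 6] p = path g [9, 2, 9, 3, 1] p :=
  H.back (i := 7) (by decide) (f7820 H)

theorem f7822 : g 1 • path g [9, 2, 9, 3, 2] p = path g [9, 2, 9, 3, 2, 1] p :=
  rfl

theorem f7823 : g 6 • path g [9, 2, 9, 3, 2, 1] p = path g [9, 2, 9, 3, 2] p :=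
  H.back (i := 1) (by decide) (f7822 H)

theorem f7824 : g 1 • path g [9, 2, 9, 3, 2, 1] p = path g [9, 2, 9, 3, 2, 6] p :=
  scan (u := [1]) (w := [1]) (i := 1) (r1_0_0 H) (step (f7822 H) rfl) (step (H.back (i := 6) (by decide) (f7816 H)) rfl)

theorem f7825 : g 6 • path g [9, 2, 9, 3, 2, 6] p = path g [9, 2, 9, 3, 2, 1] p :=
  H.back (i := 1) (by decide) (f7824 H)

theorem f7826 : g 2 • path g [9, 2, 9, 3, 2, 1] p = path g [9, 2, 9, 3, 6] p :=
  scan (u := [1]) (w := [1, 2]) (i := 2) (r3_0_0 H) (step (f7822 H) rfl) (step (H.back (i := 6) (by decide) (f3033 H)) (step (H.back (i := 7) (by decide) (f3026 H)) rfl))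

theorem f7828 : g 2 • path g [9, 2, 9, 3, 6] p = path g [9, 2, 9, 3, 2, 1] p :=
  scan (u := [2]) (w := []) (i := 2) (r2_0_0 H) (step (f7826 H) rfl) rfl

theorem f7829 : g 7 • path g [9, 2, 9, 3, 2, 1] p = path g [9, 2, 9, 3, 6] p :=
  H.back (i := 2) (by decide) (f7828 H)

theorem f7830 : g 4 • path g [9, 2, 9, 3, 2] p = path g [9, 2, 9, 3, 2, 4] p :=
  rfl

theorem f7832 : g 4 • path g [9, 2, 9, 3, 2, 4] p = path g [9, 2, 9, 3, 2, 9] p :=
  scan (u := [4]) (w := [4]) (i := 4) (r10_0_0 H) (step (f7830 H) rfl) (step (H.back (i := 9) (by decide) (f7804 H)) rfl)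

theorem f7834 : g 8 • path g [9, 2, 9, 3, 5] p = path g [9, 2, 9, 3, 5, 8] p :=
  rfl

theorem f7835 : g 3 • path g [9, 2, 9, 3, 5, 8] p = path g [9, 2, 9, 3, 5] p :=
  H.back (i := 8) (by decide) (f7834 H)

theorem f7836 : g 2 • path g [9, 2, 9, 3, 5] p = path g [9, 2, 9, 3, 5, 2] p :=
  rfl

theorem f7838 : g 2 • path g [9, 2, 9, 3, 5, 2] p = path g [9, 2, 9, 3, 5] p :=
  scan (u := [2]) (w := []) (i := 2) (r2_0_0 H) (step (f7836 H) rfl) rfl

theorem f7839 : g 7 • path g [9, 2, 9, 3, 5] p = path g [9, 2, 9, 3, 5, 2] p :=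
  H.back (i := 2) (by decide) (f7838 H)

theorem f7840 : g 3 • path g [9, 2, 9, 3, 5] p = path g [9, 2, 9, 3, 5, 3] p :=
  rfl

theorem f7842 : g 3 • path g [9, 2, 9, 3, 5, 3] p = path g [9, 2, 9, 3, 5, 8] p :=
  scan (u := [3]) (w := [3]) (i := 3) (r6_0_0 H) (step (f7840 H) rfl) (step (H.back (i := 8) (by decide) (f7834 H)) rfl)

theorem f7843 : g 8 • path g [9, 2, 9, 3, 5, 8] p = path g [9, 2, 9, 3, 5, 3] p :=
  H.back (i := 3) (by decide) (f7842 H)

theorem f7844 : g 6 • path g [9, 2, 9, 3, 5] p = path g [9, 2, 9, 3, 5, 6] p :=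
  rfl

theorem f7845 : g 1 • path g [9, 2, 9, 3, 5, 6] p = path g [9, 2, 9, 3, 5] p :=
  H.back (i := 6) (by decide) (f7844 H)

theorem f7846 : g 1 • path g [9, 2, 9, 3, 5] p = path g [9, 2, 9, 3, 5, 1] p :=
  rfl

theorem f7848 : g 1 • path g [9, 2, 9, 3, 5, 1] p = path g [9, 2, 9, 3, 5, 6] p :=
  scan (u := [1]) (w := [1]) (i := 1) (r1_0_0 H) (step (f7846 H) rfl) (step (H.back (i := 6) (by decide) (f7844 H)) rfl)

theorem f7849 : g 6 • path g [9, 2, 9, 3, 5, 6] p = path g [9, 2, 9, 3, 5, 1] p :=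
  H.back (i := 1) (by decide) (f7848 H)

theorem f7850 : g 8 • path g [9, 2, 9, 3, 6] p = path g [9, 2, 9, 3, 6, 8] p :=
  rfl

theorem f7852 : g 5 • path g [9, 2, 9, 3, 6] p = path g [9, 2, 9, 3, 6, 5] p :=
  rfl

theorem f7853 : g 0 • path g [9, 2, 9, 3, 6, 5] p = path g [9, 2, 9, 3, 6] p :=
  H.back (i := 5) (by decide) (f7852 H)

theorem f7854 : g 5 • path g [9, 2, 9, 3, 6, 5] p = path g [9, 2, 9, 3, 6] p :=
  scan (u := [5]) (w := []) (i := 5) (r0_1_0 H) (step (f7852 H) rfl) rfl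

theorem f7856 : g 3 • path g [9, 2, 9, 3, 6] p = path g [9, 2, 9, 3, 6, 3] p :=
  rfl

theorem f7857 : g 8 • path g [9, 2, 9, 3, 6, 3] p = path g [9, 2, 9, 3, 6] p :=
  H.back (i := 3) (by decide) (f7856 H)

theorem f7858 : g 3 • path g [9, 2, 9, 3, 6, 3] p = path g [9, 2, 9, 3, 6, 8] p :=
  scan (u := [3]) (w := [3]) (i := 3) (r6_0_0 H) (step (f7856 H) rfl) (step (H.back (i := 8) (by decide) (f7850 H)) rfl)

theorem f7860 : g 8 • path g [9, 2, 9, 3, 1] p = path g [9, 2, 9, 3, 1, 8] p :=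
  rfl

theorem f7861 : g 3 • path g [9, 2, 9, 3, 1, 8] p = path g [9, 2, 9, 3, 1] p :=
  H.back (i := 8) (by decide) (f7860 H)

theorem f7862 : g 5 • path g [9, 2, 9, 3, 1] p = path g [9, 2, 9, 3, 1, 5] p :=
  rfl

theorem f7864 : g 5 • path g [9, 2, 9, 3, 1, 5] p = path g [9, 2, 9, 3, 1] p :=
  scan (u := [5]) (w := []) (i := 5) (r0_1_0 H) (step (f7862 H) rfl) rfl

theorem f7865 : g 0 • path g [9, 2, 9, 3, 1] p = path g [9, 2, 9, 3, 1, 5] p :=
  H.back (i := 5) (by decide) (f7864 H)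

theorem f7866 : g 3 • path g [9, 2, 9, 3, 1] p = path g [9, 2, 9, 3, 1, 3] p :=
  rfl

theorem f7867 : g 8 • path g [9, 2, 9, 3, 1, 3] p = path g [9, 2, 9, 3, 1] p :=
  H.back (i := 3) (by decide) (f7866 H)

theorem f7868 : g 3 • path g [9, 2, 9, 3, 1, 3] p = path g [9, 2, 9, 3, 1, 8] p :=
  scan (u := [3]) (w := [3]) (i := 3) (r6_0_0 H) (step (f7866 H) rfl) (step (H.back (i := 8) (by decide) (f7860 H)) rfl)

theorem f7869 : g 8 • path g [9, 2, 9, 3, 1, 8] p = path g [9, 2, 9, 3, 1, 3] p :=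
  H.back (i := 3) (by decide) (f7868 H)

theorem f7870 : g 9 • path g [9, 2, 8, 9, 2] p = path g [9, 2, 8, 9, 2, 9] p :=
  rfl

theorem f7871 : g 4 • path g [9, 2, 8, 9, 2, 9] p = path g [9, 2, 8, 9, 2] p :=
  H.back (i := 9) (by decide) (f7870 H)

theorem f7872 : g 8 • path g [9, 2, 8, 9, 2] p = path g [9, 2, 8, 9, 2, 8] p :=
  rfl

theorem f7873 : g 3 • path g [9, 2, 8, 9, 2, 8] p = path g [9, 2, 8, 9, 2] p :=
  H.back (i := 8) (by decide) (f7872 H)

theorem f7874 : g 5 • path g [9, 2, 8, 9, 2] p = path g [9, 2, 8, 9, 2, 5] p :=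
  rfl

theorem f7875 : g 0 • path g [9, 2, 8, 9, 2, 5] p = path g [9, 2, 8, 9, 2] p :=
  H.back (i := 5) (by decide) (f7874 H)

theorem f7876 : g 5 • path g [9, 2, 8, 9, 2, 5] p = path g [9, 2, 8, 9, 2] p :=
  scan (u := [5]) (w := []) (i := 5) (r0_1_0 H) (step (f7874 H) rfl) rfl

theorem f7877 : g 0 • path g [9, 2, 8, 9, 2] p = path g [9, 2, 8, 9, 2, 5] p :=
  H.back (i := 5) (by decide) (f7876 H)

theorem f7878 : g 3 • path g [9, 2, 8, 9, 2] p = path g [9, 2, 8, 9, 2, 3] p :=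
  rfl

theorem f7879 : g 8 • path g [9, 2, 8, 9, 2, 3] p = path g [9, 2, 8, 9, 2] p :=
  H.back (i := 3) (by decide) (f7878 H)

theorem f7880 : g 3 • path g [9, 2, 8, 9, 2, 3] p = path g [9, 2, 8, 9, 2, 8] p :=
  scan (u := [3]) (w := [3]) (i := 3) (r6_0_0 H) (step (f7878 H) rfl) (step (H.back (i := 8) (by decide) (f7872 H)) rfl)

theorem f7882 : g 6 • path g [9, 2, 8, 9, 2] p = path g [9, 2, 8, 9, 2, 6] p :=
  rfl

theorem f7883 : g 1 • path g [9, 2, 8, 9, 2, 6] p = path g [9, 2, 8, 9, 2] p :=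
  H.back (i := 6) (by decide) (f7882 H)

theorem f7884 : g 7 • path g [9, 2, 8, 9, 2, 6] p = path g [9, 2, 8, 9, 1] p :=
  scan (u := [6]) (w := [6, 7]) (i := 7) (r3_1_1 H) (step (f7882 H) rfl) (step (H.back (i := 1) (by decide) (f3053 H)) (step (H.back (i := 2) (by decide) (f3041 H)) rfl))

theorem f7886 : g 7 • path g [9, 2, 8, 9, 1] p = path g [9, 2, 8, 9, 2, 6] p :=
  scan (u := [7]) (w := []) (i := 7) (r2_1_0 H) (step (f7884 H) rfl) rfl

theorem f7887 : g 2 • path g [9, 2, 8, 9, 2, 6] p = path g [9, 2, 8, 9, 1] p :=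
  H.back (i := 7) (by decide) (f7886 H)

theorem f7888 : g 1 • path g [9, 2, 8, 9, 2] p = path g [9, 2, 8, 9, 2, 1] p :=
  rfl

theorem f7889 : g 6 • path g [9, 2, 8, 9, 2, 1] p = path g [9, 2, 8, 9, 2] p :=
  H.back (i := 1) (by decide) (f7888 H)

theorem f7890 : g 1 • path g [9, 2, 8, 9, 2, 1] p = path g [9, 2, 8, 9, 2, 6] p :=
  scan (u := [1]) (w := [1]) (i := 1) (r1_0_0 H) (step (f7888 H) rfl) (step (H.back (i := 6) (by decide) (f7882 H)) rfl)

theorem f7891 : g 6 • path g [9, 2, 8, 9, 2, 6] p = path g [9, 2, 8, 9, 2, 1] p :=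
  H.back (i := 1) (by decide) (f7890 H)

theorem f7892 : g 2 • path g [9, 2, 8, 9, 2, 1] p = path g [9, 2, 8, 9, 6] p :=
  scan (u := [1]) (w := [1, 2]) (i := 2) (r3_0_0 H) (step (f7888 H) rfl) (step (H.back (i := 6) (by decide) (f3049 H)) (step (H.back (i := 7) (by decide) (f3040 H)) rfl))

theorem f7894 : g 2 • path g [9, 2, 8, 9, 6] p = path g [9, 2, 8, 9, 2, 1] p :=
  scan (u := [2]) (w := []) (i := 2) (r2_0_0 H) (step (f7892 H) rfl) rfl

theorem f7895 : g 7 • path g [9, 2, 8, 9, 2, 1] p = path g [9, 2, 8, 9, 6] p :=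
  H.back (i := 2) (by decide) (f7894 H)

theorem f7896 : g 4 • path g [9, 2, 8, 9, 2] p = path g [9, 2, 8, 9, 2, 4] p :=
  rfl

theorem f7897 : g 9 • path g [9, 2, 8, 9, 2, 4] p = path g [9, 2, 8, 9, 2] p :=
  H.back (i := 4) (by decide) (f7896 H)

theorem f7898 : g 4 • path g [9, 2, 8, 9, 2, 4] p = path g [9, 2, 8, 9, 2, 9] p :=
  scan (u := [4]) (w := [4]) (i := 4) (r10_0_0 H) (step (f7896 H) rfl) (step (H.back (i := 9) (by decide) (f7870 H)) rfl)

theorem f7899 : g 9 • path g [9, 2, 8, 9, 2, 9] p = path g [9, 2, 8, 9, 2, 4] p :=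
  H.back (i := 4) (by decide) (f7898 H)

theorem f7900 : g 8 • path g [9, 2, 8, 9, 6] p = path g [9, 2, 8, 9, 6, 8] p :=
  rfl

theorem f7901 : g 3 • path g [9, 2, 8, 9, 6, 8] p = path g [9, 2, 8, 9, 6] p :=
  H.back (i := 8) (by decide) (f7900 H)

theorem f7902 : path g [9, 2, 8, 9, 6, 8] p = path g [9, 8, 2, 9, 2, 4] p :=
  close (u := [8]) (w := [9, 8, 9]) (r15_1_0 H) (step (f7900 H) rfl) (step (H.back (i := 4) (by decide) (f5448 H)) (step (H.back (i := 3) (by decide) (f6070 H)) (step (H.back (i := 4) (by decide) (f3051 H)) rfl)))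

theorem f7903 : g 3 • path g [9, 8, 2, 9, 2, 4] p = path g [9, 2, 8, 9, 6] p :=
  (congrArg (g 3 • ·) (f7902 H).symm).trans (f7901 H)

theorem f7905 : g 8 • path g [9, 2, 8, 9, 6] p = path g [9, 8, 2, 9, 2, 4] p :=
  H.back (i := 3) (by decide) (f7903 H)

theorem f7907 : g 5 • path g [9, 2, 8, 9, 6] p = path g [9, 2, 8, 9, 6, 5] p :=
  rfl

theorem f7908 : g 0 • path g [9, 2, 8, 9, 6, 5] p = path g [9, 2, 8, 9, 6] p :=
  H.back (i := 5) (by decide) (f7907 H)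

theorem f7909 : g 5 • path g [9, 2, 8, 9, 6, 5] p = path g [9, 2, 8, 9, 6] p :=
  scan (u := [5]) (w := []) (i := 5) (r0_1_0 H) (step (f7907 H) rfl) rfl

theorem f7911 : g 4 • path g [9, 2, 8, 9, 6, 5] p = path g [9, 2, 8, 6, 5] p :=
  scan (u := [5]) (w := [0, 9]) (i := 4) (r13_1_1 H) (step (f7907 H) rfl) (step (H.back (i := 5) (by decide) (f3299 H)) (step (H.back (i := 4) (by decide) (f3051 H)) rfl))

theorem f7912 : g 9 • path g [9, 2, 8, 6, 5] p = path g [9, 2, 8, 9, 6, 5] p :=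
  H.back (i := 4) (by decide) (f7911 H)

theorem f7913 : g 6 • path g [8, 4, 2, 9, 5] p = path g [9, 2, 8, 9, 6, 5] p :=
  scan (u := [4, 1, 9]) (w := []) (i := 6) (r14_1_0 H) (step (f7911 H) (step (f3304 H) (step (f4535 H) rfl))) rfl

theorem f7914 : g 1 • path g [9, 2, 8, 9, 6, 5] p = path g [8, 4, 2, 9, 5] p :=
  H.back (i := 6) (by decide) (f7913 H)

theorem f7915 : g 3 • path g [9, 2, 8, 9, 6] p = path g [9, 2, 8, 9, 6, 3] p :=
  rfl

theorem f7917 : g 3 • path g [9, 2, 8, 9, 6, 3] p = path g [9, 8, 2, 9, 2, 4] p :=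
  scan (u := [3]) (w := [3]) (i := 3) (r6_0_0 H) (step (f7915 H) rfl) (step (H.back (i := 8) (by decide) (f7905 H)) rfl)

theorem f7918 : g 8 • path g [9, 8, 2, 9, 2, 4] p = path g [9, 2, 8, 9, 6, 3] p :=
  H.back (i := 3) (by decide) (f7917 H)

theorem f7919 : g 8 • path g [9, 2, 8, 9, 1] p = path g [9, 2, 8, 9, 1, 8] p :=
  rfl

theorem f7921 : g 9 • path g [9, 2, 8, 9, 1, 8] p = path g [9, 2, 8, 1, 3] p :=
  scan (u := [8]) (w := [8, 9]) (i := 9) (r15_1_0 H) (step (f7919 H) rfl) (step (H.back (i := 3) (by decide) (f3317 H)) (step (H.back (i := 4) (by decide) (f3057 H)) rfl))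

theorem f7922 : g 4 • path g [9, 2, 8, 1, 3] p = path g [9, 2, 8, 9, 1, 8] p :=
  H.back (i := 9) (by decide) (f7921 H)

theorem f7923 : g 3 • path g [9, 2, 8, 9, 1] p = path g [9, 2, 8, 9, 1, 3] p :=
  rfl

theorem f7924 : g 8 • path g [9, 2, 8, 9, 1, 3] p = path g [9, 2, 8, 9, 1] p :=
  H.back (i := 3) (by decide) (f7923 H)

theorem f7925 : g 3 • path g [9, 2, 8, 9, 1, 3] p = path g [9, 2, 8, 9, 1, 8] p :=
  scan (u := [3]) (w := [3]) (i := 3) (r6_0_0 H) (step (f7923 H) rfl) (step (H.back (i := 8) (by decide) (f7919 H)) rfl)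

theorem f7926 : g 8 • path g [9, 2, 8, 9, 1, 8] p = path g [9, 2, 8, 9, 1, 3] p :=
  H.back (i := 3) (by decide) (f7925 H)

theorem f7927 : g 3 • path g [9, 2, 8, 2, 6] p = path g [9, 2, 8, 2, 6, 3] p :=
  rfl

theorem f7929 : g 3 • path g [9, 2, 8, 2, 6, 3] p = path g [3, 9, 6, 8, 2] p :=
  scan (u := [3]) (w := [3]) (i := 3) (r6_0_0 H) (step (f7927 H) rfl) (step (H.back (i := 8) (by decide) (f5321 H)) rfl)

theorem f7930 : g 8 • path g [3, 9, 6, 8, 2] p = path g [9, 2, 8, 2, 6, 3] p :=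
  H.back (i := 3) (by decide) (f7929 H)

theorem f7931 : g 4 • path g [9, 2, 8, 2, 6, 3] p = path g [9, 8, 1, 8, 1, 8] p :=
  scan (u := [3]) (w := [3, 4]) (i := 4) (r15_0_1 H) (step (f7927 H) rfl) (step (H.back (i := 8) (by decide) (f6128 H)) (step (H.back (i := 9) (by decide) (f5647 H)) rfl))

theorem f7932 : g 9 • path g [9, 8, 1, 8, 1, 8] p = path g [9, 2, 8, 2, 6, 3] p :=
  H.back (i := 4) (by decide) (f7931 H)

theorem f7933 : g 9 • path g [9, 2, 8, 6, 8] p = path g [9, 2, 8, 6, 8, 9] p :=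
  rfl

theorem f7934 : g 4 • path g [9, 2, 8, 6, 8, 9] p = path g [9, 2, 8, 6, 8] p :=
  H.back (i := 9) (by decide) (f7933 H)

theorem f7935 : g 8 • path g [9, 2, 8, 6, 8, 9] p = path g [9, 2, 8, 6, 4] p :=
  scan (u := [9]) (w := [9, 8]) (i := 8) (r15_1_1 H) (step (f7933 H) rfl) (step (H.back (i := 4) (by decide) (f3309 H)) (step (H.back (i := 3) (by decide) (f3298 H)) rfl))

theorem f7936 : g 3 • path g [9, 2, 8, 6, 4] p = path g [9, 2, 8, 6, 8, 9] p :=
  H.back (i := 8) (by decide) (f7935 H)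

theorem f7939 : g 1 • path g [9, 2, 8, 6, 8] p = path g [9, 2, 8, 6, 8, 1] p :=
  rfl

theorem f7943 : g 4 • path g [9, 2, 8, 6, 8] p = path g [9, 2, 8, 6, 8, 4] p :=
  rfl

theorem f7945 : g 4 • path g [9, 2, 8, 6, 8, 4] p = path g [9, 2, 8, 6, 8, 9] p :=
  scan (u := [4]) (w := [4]) (i := 4) (r10_0_0 H) (step (f7943 H) rfl) (step (H.back (i := 9) (by decide) (f7933 H)) rfl)

theorem f7947 : g 3 • path g [9, 2, 8, 6, 8, 4] p = path g [9, 8, 2, 9, 2, 9] p :=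
  scan (u := [4]) (w := [4, 3]) (i := 3) (r15_0_0 H) (step (f7943 H) rfl) (step (H.back (i := 9) (by decide) (f5422 H)) (step (H.back (i := 8) (by decide) (f6064 H)) rfl))

theorem f7948 : g 8 • path g [9, 8, 2, 9, 2, 9] p = path g [9, 2, 8, 6, 8, 4] p :=
  H.back (i := 3) (by decide) (f7947 H)

theorem f7949 : g 8 • path g [9, 2, 8, 6, 5] p = path g [9, 2, 8, 6, 5, 8] p :=
  rfl

theorem f7950 : g 3 • path g [9, 2, 8, 6, 5, 8] p = path g [9, 2, 8, 6, 5] p :=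
  H.back (i := 8) (by decide) (f7949 H)

theorem f7951 : g 2 • path g [9, 2, 8, 6, 5, 8] p = path g [3, 9, 2, 6, 8] p :=
  scan (u := [8]) (w := [3, 6, 5, 7, 6, 5, 7, 5]) (i := 2) (r7_0_9 H) (step (f7949 H) rfl) (step (H.back (i := 8) (by decide) (f4558 H)) (step (H.back (i := 1) (by decide) (f964 H)) (step (H.back (i := 0) (by decide) (f4573 H)) (step (H.back (i := 2) (by decide) (f4579 H)) (step (H.back (i := 1) (by decide) (f7727 H)) (step (H.back (i := 0) (by decide) (f7720 H)) (step (H.back (i := 2) (by decide) (f5632 H)) (step (H.back (i := 0) (by decide) (f3300 H)) rfl))))))))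

theorem f7952 : g 7 • path g [3, 9, 2, 6, 8] p = path g [9, 2, 8, 6, 5, 8] p :=
  H.back (i := 2) (by decide) (f7951 H)

theorem f7953 : g 7 • path g [9, 2, 8, 6, 5, 8] p = path g [3, 9, 2, 6, 8] p :=
  scan (u := [8]) (w := [3, 0, 2, 0, 1, 2, 0, 1]) (i := 7) (r7_1_8 H) (step (f7949 H) rfl) (step (H.back (i := 8) (by decide) (f4558 H)) (step (H.back (i := 5) (by decide) (f3697 H)) (step (H.back (i := 7) (by decide) (f3705 H)) (step (H.back (i := 5) (by decide) (f1616 H)) (step (H.back (i := 6) (by decide) (f163 H)) (step (H.back (i := 7) (by decide) (f605 H)) (step (H.back (i := 5) (by decide) (f3657 H)) (step (H.back (i := 6) (by decide) (f3662 H)) rfl))))))))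

theorem f7954 : g 2 • path g [3, 9, 2, 6, 8] p = path g [9, 2, 8, 6, 5, 8] p :=
  H.back (i := 7) (by decide) (f7953 H)

theorem f7955 : g 5 • path g [3, 9, 2, 6, 8] p = path g [8, 9, 1, 3, 2] p :=
  scan (u := [8, 7]) (w := [7, 5, 3, 1, 0, 2, 1, 0]) (i := 5) (r8_1_7 H) (step (f7949 H) (step (f7953 H) rfl)) (step (H.back (i := 2) (by decide) (f3991 H)) (step (H.back (i := 0) (by decide) (f3996 H)) (step (H.back (i := 8) (by decide) (f7754 H)) (step (H.back (i := 6) (by decide) (f5310 H)) (step (H.back (i := 5) (by decide) (f5315 H)) (step (H.back (i := 7) (by decide) (f3287 H)) (step (H.back (i := 6) (by decide) (f479 H)) (step (H.back (i := 5) (by decide) (f3301 H)) rfl))))))))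

theorem f7956 : g 0 • path g [8, 9, 1, 3, 2] p = path g [3, 9, 2, 6, 8] p :=
  H.back (i := 5) (by decide) (f7955 H)

theorem f7957 : g 5 • path g [8, 9, 1, 3, 2] p = path g [3, 9, 2, 6, 8] p :=
  scan (u := [5]) (w := []) (i := 5) (r0_1_0 H) (step (f7955 H) rfl) rfl

theorem f7959 : g 2 • path g [4, 2, 3, 1, 3] p = path g [3, 9, 2, 6, 3] p :=
  scan (u := [5, 6, 7, 5, 6, 8, 0, 2, 0]) (w := [3]) (i := 2) (r8_0_4 H) (step (f7955 H) (step (f7454 H) (step (f7458 H) (step (f7472 H) (step (f7480 H) (step (f7738 H) (step (f2912 H) (step (f2903 H) (step (f7768 H) rfl))))))))) (step (H.back (i := 8) (by decide) (f4563 H)) rfl)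

theorem f7961 : g 2 • path g [3, 9, 2, 6, 3] p = path g [4, 2, 3, 1, 3] p :=
  scan (u := [2]) (w := []) (i := 2) (r2_0_0 H) (step (f7959 H) rfl) rfl

theorem f7963 : g 0 • path g [3, 9, 2, 6, 3] p = path g [9, 2, 8, 6, 5, 8] p :=
  scan (u := [2]) (w := [2, 3, 5, 6, 7, 5, 6, 8, 0]) (i := 0) (r8_0_0 H) (step (f7959 H) rfl) (step (H.back (i := 7) (by decide) (f7952 H)) (step (H.back (i := 8) (by decide) (f4558 H)) (step (H.back (i := 0) (by decide) (f3704 H)) (step (H.back (i := 1) (by decide) (f3709 H)) (step (H.back (i := 2) (by decide) (f3717 H)) (step (H.back (i := 0) (by decide) (f1636 H)) (step (H.back (i := 1) (by decide) (f624 H)) (step (H.back (i := 3) (by decide) (f2907 H)) (step (H.back (i := 5) (by decide) (f7766 H)) rfl)))))))))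

theorem f7964 : g 5 • path g [9, 2, 8, 6, 5, 8] p = path g [3, 9, 2, 6, 3] p :=
  H.back (i := 0) (by decide) (f7963 H)

theorem f7965 : g 0 • path g [9, 2, 8, 6, 5, 8] p = path g [3, 9, 2, 6, 3] p :=
  scan (u := [0]) (w := []) (i := 0) (r0_0_0 H) (step (f7963 H) rfl) rfl

theorem f7966 : g 5 • path g [3, 9, 2, 6, 3] p = path g [9, 2, 8, 6, 5, 8] p :=
  H.back (i := 0) (by decide) (f7965 H)

theorem f7967 : g 3 • path g [8, 1, 8, 9, 2] p = path g [9, 2, 8, 6, 5, 8] p :=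
  scan (u := [0, 2, 0, 1, 2, 0, 1, 8, 7]) (w := []) (i := 3) (r7_1_1 H) (step (f7965 H) (step (f7961 H) (step (f7763 H) (step (f6038 H) (step (f6042 H) (step (f5668 H) (step (f7303 H) (step (f916 H) (step (f4253 H) rfl))))))))) rfl

theorem f7969 : g 3 • path g [9, 2, 8, 6, 5] p = path g [8, 1, 8, 9, 2] p :=
  scan (u := [3, 3]) (w := []) (i := 3) (r6_0_0 H) (step (f7967 H) (step (f7950 H) rfl)) rfl

theorem f7971 : g 4 • path g [9, 2, 8, 6, 5] p = path g [9, 2, 8, 6, 5, 4] p :=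
  rfl

theorem f7972 : g 9 • path g [9, 2, 8, 6, 5, 4] p = path g [9, 2, 8, 6, 5] p :=
  H.back (i := 4) (by decide) (f7971 H)

theorem f7973 : g 4 • path g [9, 2, 8, 6, 5, 4] p = path g [9, 2, 8, 9, 6, 5] p :=
  scan (u := [4]) (w := [4]) (i := 4) (r10_0_0 H) (step (f7971 H) rfl) (step (H.back (i := 9) (by decide) (f7912 H)) rfl)

theorem f7974 : g 9 • path g [9, 2, 8, 9, 6, 5] p = path g [9, 2, 8, 6, 5, 4] p :=
  H.back (i := 4) (by decide) (f7973 H)

theorem f7975 : g 5 • path g [9, 2, 8, 6, 5, 4] p = path g [9, 2, 8, 6, 4] p :=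
  scan (u := [4]) (w := [9, 0]) (i := 5) (r13_0_3 H) (step (f7971 H) rfl) (step (H.back (i := 4) (by decide) (f3309 H)) (step (H.back (i := 5) (by decide) (f3301 H)) rfl))

theorem f7977 : g 0 • path g [9, 2, 8, 6, 5, 4] p = path g [9, 2, 8, 6, 4] p :=
  scan (u := [4]) (w := [9, 5]) (i := 0) (r13_1_2 H) (step (f7971 H) rfl) (step (H.back (i := 4) (by decide) (f3309 H)) (step (H.back (i := 0) (by decide) (f3300 H)) rfl))

theorem f7978 : g 5 • path g [9, 2, 8, 6, 4] p = path g [9, 2, 8, 6, 5, 4] p :=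
  H.back (i := 0) (by decide) (f7977 H)

theorem f7979 : g 1 • path g [9, 2, 8, 6, 5, 4] p = path g [8, 4, 2, 5, 4] p :=
  scan (u := [4]) (w := [9, 6]) (i := 1) (r14_1_0 H) (step (f7971 H) rfl) (step (H.back (i := 4) (by decide) (f4546 H)) (step (H.back (i := 1) (by decide) (f3304 H)) rfl))

theorem f7981 : g 8 • path g [9, 2, 8, 6, 4] p = path g [9, 2, 8, 6, 4, 8] p :=
  rfl

theorem f7982 : g 3 • path g [9, 2, 8, 6, 4, 8] p = path g [9, 2, 8, 6, 4] p :=
  H.back (i := 8) (by decide) (f7981 H)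

theorem f7983 : g 8 • path g [9, 2, 8, 6, 4, 8] p = path g [9, 2, 8, 6, 8, 9] p :=
  scan (u := [8]) (w := [8]) (i := 8) (r6_1_0 H) (step (f7981 H) rfl) (step (H.back (i := 3) (by decide) (f7936 H)) rfl)

theorem f7984 : g 3 • path g [9, 2, 8, 6, 8, 9] p = path g [9, 2, 8, 6, 4, 8] p :=
  H.back (i := 8) (by decide) (f7983 H)

theorem f7985 : g 9 • path g [9, 2, 8, 6, 4, 8] p = path g [9, 2, 8, 9, 6, 3] p :=
  scan (u := [8]) (w := [8, 9]) (i := 9) (r15_1_0 H) (step (f7981 H) rfl) (step (H.back (i := 3) (by decide) (f7915 H)) (step (H.back (i := 4) (by decide) (f3311 H)) rfl))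

theorem f7987 : g 2 • path g [9, 2, 8, 6, 4] p = path g [9, 2, 8, 6, 4, 2] p :=
  rfl

theorem f7989 : g 2 • path g [9, 2, 8, 6, 4, 2] p = path g [9, 2, 8, 6, 4] p :=
  scan (u := [2]) (w := []) (i := 2) (r2_0_0 H) (step (f7987 H) rfl) rfl

theorem f7991 : g 1 • path g [9, 2, 8, 4, 2] p = path g [9, 2, 8, 6, 4, 2] p :=
  scan (u := [2, 1, 2]) (w := []) (i := 1) (r3_0_1 H) (step (f7989 H) (step (f3313 H) (step (f3329 H) rfl))) rfl

theorem f7992 : g 6 • path g [9, 2, 8, 6, 4, 2] p = path g [9, 2, 8, 4, 2] p :=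
  H.back (i := 1) (by decide) (f7991 H)

theorem f7993 : g 9 • path g [9, 2, 8, 1, 8] p = path g [9, 2, 8, 1, 8, 9] p :=
  rfl

theorem f7994 : g 4 • path g [9, 2, 8, 1, 8, 9] p = path g [9, 2, 8, 1, 8] p :=
  H.back (i := 9) (by decide) (f7993 H)

theorem f7995 : g 8 • path g [9, 2, 8, 1, 8, 9] p = path g [9, 2, 8, 1, 4] p :=
  scan (u := [9]) (w := [9, 8]) (i := 8) (r15_1_1 H) (step (f7993 H) rfl) (step (H.back (i := 4) (by decide) (f3321 H)) (step (H.back (i := 3) (by decide) (f3316 H)) rfl))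

theorem f7996 : g 3 • path g [9, 2, 8, 1, 4] p = path g [9, 2, 8, 1, 8, 9] p :=
  H.back (i := 8) (by decide) (f7995 H)

theorem f7997 : g 2 • path g [9, 2, 8, 1, 8] p = path g [9, 2, 8, 1, 8, 2] p :=
  rfl

theorem f7998 : g 7 • path g [9, 2, 8, 1, 8, 2] p = path g [9, 2, 8, 1, 8] p :=
  H.back (i := 2) (by decide) (f7997 H)

theorem f7999 : g 2 • path g [9, 2, 8, 1, 8, 2] p = path g [9, 2, 8, 1, 8] p :=
  scan (u := [2]) (w := []) (i := 2) (r2_0_0 H) (step (f7997 H) rfl) rfl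

theorem f8001 : g 3 • path g [9, 2, 8, 1, 8, 2] p = path g [9, 3, 2, 1, 5] p :=
  scan (u := [2]) (w := [6, 5, 7, 6, 5, 7, 5, 8]) (i := 3) (r7_0_0 H) (step (f7997 H) rfl) (step (H.back (i := 1) (by decide) (f3660 H)) (step (H.back (i := 0) (by decide) (f935 H)) (step (H.back (i := 2) (by decide) (f256 H)) (step (H.back (i := 1) (by decide) (f238 H)) (step (H.back (i := 0) (by decide) (f237 H)) (step (H.back (i := 2) (by decide) (f864 H)) (step (H.back (i := 0) (by decide) (f3072 H)) (step (H.back (i := 3) (by decide) (f3316 H)) rfl))))))))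

theorem f8002 : g 8 • path g [9, 3, 2, 1, 5] p = path g [9, 2, 8, 1, 8, 2] p :=
  H.back (i := 3) (by decide) (f8001 H)

theorem f8003 : g 5 • path g [9, 8, 6, 8, 5, 2] p = path g [9, 2, 8, 1, 8, 2] p :=
  scan (u := [3, 1, 0, 2, 1, 0, 8, 7, 5, 7]) (w := []) (i := 5) (r8_1_1 H) (step (f8001 H) (step (f3661 H) (step (f3300 H) (step (f5632 H) (step (f5624 H) (step (f5317 H) (step (f5323 H) (step (f2862 H) (step (f2865 H) (step (f5891 H) rfl)))))))))) rfl

theorem f8004 : g 0 • path g [9, 2, 8, 1, 8, 2] p = path g [9, 8, 6, 8, 5, 2] p :=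
  H.back (i := 5) (by decide) (f8003 H)

theorem f8005 : g 5 • path g [9, 2, 8, 1, 8, 2] p = path g [9, 8, 6, 8, 5, 2] p :=
  scan (u := [5]) (w := []) (i := 5) (r0_1_0 H) (step (f8003 H) rfl) rfl

theorem f8007 : g 5 • path g [9, 2, 8, 1, 8] p = path g [9, 2, 8, 1, 8, 5] p :=
  rfl

theorem f8008 : g 0 • path g [9, 2, 8, 1, 8, 5] p = path g [9, 2, 8, 1, 8] p :=
  H.back (i := 5) (by decide) (f8007 H)

theorem f8009 : g 5 • path g [9, 2, 8, 1, 8, 5] p = path g [9, 2, 8, 1, 8] p :=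
  scan (u := [5]) (w := []) (i := 5) (r0_1_0 H) (step (f8007 H) rfl) rfl

theorem f8010 : g 0 • path g [9, 2, 8, 1, 8] p = path g [9, 2, 8, 1, 8, 5] p :=
  H.back (i := 5) (by decide) (f8009 H)

theorem f8011 : g 7 • path g [9, 2, 8, 1, 8, 5] p = path g [4, 2, 3, 9, 1] p :=
  scan (u := [5]) (w := [5, 3, 1, 0, 2, 1, 0, 8, 7]) (i := 7) (r8_1_9 H) (step (f8007 H) rfl) (step (H.back (i := 0) (by decide) (f5689 H)) (step (H.back (i := 8) (by decide) (f3725 H)) (step (H.back (i := 6) (by decide) (f620 H)) (step (H.back (i := 5) (by decide) (f154 H)) (step (H.back (i := 7) (by decide) (f151 H)) (step (H.back (i := 6) (by decide) (f599 H)) (step (H.back (i := 5) (by decide) (f3657 H)) (step (H.back (i := 3) (by decide) (f8001 H)) (step (H.back (i := 2) (by decide) (f7997 H)) rfl)))))))))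

theorem f8013 : path g [4, 8, 6, 3, 5] p = path g [9, 8, 6, 8, 2] p :=
  close (u := [5, 7, 4, 2, 0, 2, 0, 2, 0, 2, 0, 4, 5]) (w := [7, 5, 7, 5, 7]) (r11_0_12 H) (step (f8007 H) (step (f8011 H) (step (f5354 H) (step (f3363 H) (step (f3491 H) (step (f3493 H) (step (f3511 H) (step (f5277 H) (step (f5269 H) (step (f3639 H) (step (f7372 H) (step (f3747 H) (step (f5121 H) rfl))))))))))))) (step (H.back (i := 2) (by decide) (f2861 H)) (step (H.back (i := 0) (by decide) (f2866 H)) (step (H.back (i := 2) (by decide) (f5890 H)) (step (H.back (i := 0) (by decide) (f8004 H)) (step (H.back (i := 2) (by decide) (f7997 H)) rfl)))))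

theorem f8016 : g 5 • path g [9, 8, 6, 8, 2] p = path g [4, 8, 6, 3] p :=
  (congrArg (g 5 • ·) (f8013 H).symm).trans (f5123 H)

theorem f8017 : path g [9, 8, 6, 8, 2, 5] p = path g [4, 8, 6, 3] p :=
  (f5864 H).symm.trans (f8016 H)

theorem f8020 : g 9 • path g [9, 8, 6, 8, 2] p = path g [9, 3, 2, 3, 1] p :=
  (congrArg (g 9 • ·) (f8013 H).symm).trans (f7381 H)

theorem f8021 : path g [9, 8, 6, 8, 2, 9] p = path g [9, 3, 2, 3, 1] p :=
  (f5858 H).symm.trans (f8020 H)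

theorem f8022 : g 6 • path g [9, 8, 6, 8, 2] p = path g [9, 3, 2, 9, 8] p :=
  (congrArg (g 6 • ·) (f8013 H).symm).trans (f7382 H)

theorem f8023 : path g [9, 8, 6, 8, 2, 6] p = path g [9, 3, 2, 9, 8] p :=
  (f5868 H).symm.trans (f8022 H)

theorem f8025 : g 1 • path g [9, 3, 2, 9, 8] p = path g [9, 8, 6, 8, 2] p :=
  (f7383 H).trans (f8013 H)

theorem f8027 : g 7 • path g [9, 3, 2, 9, 8] p = path g [9, 8, 6, 8, 1] p :=
  (congrArg (g 7 • ·) (f8023 H).symm).trans (f5870 H)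

theorem f8029 : g 2 • path g [9, 8, 6, 8, 1] p = path g [9, 3, 2, 9, 8] p :=
  H.back (i := 7) (by decide) (f8027 H)

theorem f8030 : g 2 • path g [9, 3, 2, 9, 8] p = path g [9, 8, 6, 8, 1] p :=
  (congrArg (g 2 • ·) (f8023 H).symm).trans (f5873 H)

theorem f8032 : g 7 • path g [9, 8, 6, 8, 1] p = path g [9, 3, 2, 9, 8] p :=
  H.back (i := 2) (by decide) (f8030 H)

theorem f8033 : g 6 • path g [9, 3, 2, 9, 8] p = path g [9, 8, 6, 8, 2, 1] p :=
  (congrArg (g 6 • ·) (f8023 H).symm).trans (f5877 H)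

theorem f8035 : g 1 • path g [9, 8, 6, 8, 2, 1] p = path g [9, 3, 2, 9, 8] p :=
  H.back (i := 6) (by decide) (f8033 H)

theorem f8037 : g 4 • path g [9, 3, 2, 3, 1] p = path g [9, 8, 6, 8, 2] p :=
  (f7380 H).trans (f8013 H)

theorem f8043 : g 9 • path g [9, 3, 6, 8, 5] p = path g [9, 8, 6, 8, 2] p :=
  (f5126 H).trans (f8013 H)

theorem f8049 : g 0 • path g [4, 8, 6, 3] p = path g [9, 8, 6, 8, 2] p :=
  (f5124 H).trans (f8013 H)

theorem f8052 : g 5 • path g [4, 8, 6, 3] p = path g [9, 8, 6, 8, 2] p :=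
  (f5121 H).trans (f8013 H)

theorem f8054 : g 0 • path g [9, 8, 6, 8, 2] p = path g [4, 8, 6, 3] p :=
  (f5867 H).trans (f8017 H)

theorem f8055 : g 6 • path g [9, 8, 6, 8, 2] p = path g [9, 3, 2, 9, 8] p :=
  (f5868 H).trans (f8023 H)

theorem f8056 : g 9 • path g [9, 8, 6, 8, 2, 1] p = path g [9, 3, 2, 3, 6] p :=
  scan (u := [6]) (w := [1, 4]) (i := 9) (r14_0_2 H) (step (f8033 H) rfl) (step (H.back (i := 6) (by decide) (f3623 H)) (step (H.back (i := 9) (by decide) (f3589 H)) rfl))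

theorem f8057 : g 4 • path g [9, 3, 2, 3, 6] p = path g [9, 8, 6, 8, 2, 1] p :=
  H.back (i := 9) (by decide) (f8056 H)

theorem f8058 : g 5 • path g [9, 8, 6, 8, 2] p = path g [4, 8, 6, 3] p :=
  (f5864 H).trans (f8017 H)

theorem f8059 : g 9 • path g [9, 8, 6, 8, 2] p = path g [9, 3, 2, 3, 1] p :=
  (f5858 H).trans (f8021 H)

theorem f8061 : path g [9, 2, 3, 6, 8] p = path g [4, 2, 9, 8, 1] p :=
  close (u := [7, 6, 5, 7, 5, 3, 1, 0, 2, 0, 1, 0, 8]) (w := [6, 5]) (r9_1_6 H) (step (f8027 H) (step (f2872 H) (step (f2865 H) (step (f5891 H) (step (f8003 H) (step (f8001 H) (step (f3661 H) (step (f3300 H) (step (f5632 H) (step (f7720 H) (step (f7727 H) (step (f3497 H) (step (f3494 H) rfl))))))))))))) (step (H.back (i := 1) (by decide) (f5183 H)) (step (H.back (i := 0) (by decide) (f3592 H)) rfl))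

theorem f8062 : path g [4, 2, 9, 8, 1] p = path g [9, 2, 3, 6, 8] p :=
  (f8061 H).symm

theorem f8063 : g 6 • path g [9, 2, 3, 6, 8] p = path g [4, 2, 9, 8] p :=
  (congrArg (g 6 • ·) (f8062 H).symm).trans (f5184 H)

theorem f8065 : g 1 • path g [4, 2, 9, 8] p = path g [9, 2, 3, 6, 8] p :=
  H.back (i := 6) (by decide) (f8063 H)

theorem f8066 : g 1 • path g [9, 2, 3, 6, 8] p = path g [4, 2, 9, 8, 6] p :=
  (congrArg (g 1 • ·) (f8062 H).symm).trans (f5185 H)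

theorem f8069 : g 9 • path g [9, 2, 3, 6, 8] p = path g [4, 2, 3, 1] p :=
  (congrArg (g 9 • ·) (f8062 H).symm).trans (f5187 H)

theorem f8070 : path g [9, 2, 9, 8, 6, 3] p = path g [4, 2, 3, 1] p :=
  (f7488 H).symm.trans (f8069 H)

theorem f8071 : g 4 • path g [9, 2, 3, 6, 8] p = path g [4, 2, 3, 9, 1] p :=
  (congrArg (g 4 • ·) (f8062 H).symm).trans (f5357 H)

theorem f8073 : g 9 • path g [4, 2, 3, 9, 1] p = path g [9, 2, 3, 6, 8] p :=
  H.back (i := 4) (by decide) (f8071 H)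

theorem f8074 : g 0 • path g [9, 2, 3, 6, 8] p = path g [4, 8, 5, 6, 3] p :=
  (congrArg (g 0 • ·) (f8062 H).symm).trans (f5697 H)

theorem f8076 : g 5 • path g [4, 8, 5, 6, 3] p = path g [9, 2, 3, 6, 8] p :=
  H.back (i := 0) (by decide) (f8074 H)

theorem f8077 : g 5 • path g [9, 2, 3, 6, 8] p = path g [4, 8, 5, 6, 3] p :=
  (congrArg (g 5 • ·) (f8062 H).symm).trans (f5700 H)

theorem f8079 : g 0 • path g [4, 8, 5, 6, 3] p = path g [9, 2, 3, 6, 8] p :=
  H.back (i := 5) (by decide) (f8077 H)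

theorem f8082 : g 3 • path g [4, 2, 3, 1] p = path g [9, 2, 9, 8, 6, 8] p :=
  (congrArg (g 3 • ·) (f8070 H).symm).trans (f7485 H)

theorem f8083 : path g [4, 2, 3, 1, 3] p = path g [9, 2, 9, 8, 6, 8] p :=
  (f5378 H).symm.trans (f8082 H)

theorem f8085 : g 4 • path g [4, 2, 3, 1] p = path g [9, 2, 3, 6, 8] p :=
  (f5188 H).trans (f8062 H)

theorem f8087 : path g [9, 2, 9, 8, 6, 8] p = path g [4, 2, 3, 1, 3] p :=
  (f8083 H).symm

theorem f8088 : g 3 • path g [4, 2, 3, 1, 3] p = path g [9, 2, 9, 8, 6] p :=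
  (congrArg (g 3 • ·) (f8087 H).symm).trans (f7471 H)

theorem f8089 : path g [8, 1, 3, 9, 2] p = path g [9, 2, 9, 8, 6] p :=
  (f7248 H).symm.trans (f8088 H)

theorem f8095 : g 2 • path g [9, 2, 9, 8, 6] p = path g [8, 1, 3, 9] p :=
  (congrArg (g 2 • ·) (f8089 H).symm).trans (f4377 H)

theorem f8096 : path g [9, 2, 9, 8, 2, 1] p = path g [8, 1, 3, 9] p :=
  (f7457 H).symm.trans (f8095 H)

theorem f8098 : g 3 • path g [9, 2, 9, 8, 6] p = path g [4, 2, 3, 1] p :=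
  (f7483 H).trans (f8070 H)

theorem f8101 : g 8 • path g [9, 2, 9, 8, 6] p = path g [4, 2, 3, 1, 3] p :=
  (f7470 H).trans (f8087 H)

theorem f8105 : g 1 • path g [8, 1, 3, 9] p = path g [8, 9, 1, 3, 2] p :=
  (congrArg (g 1 • ·) (f8096 H).symm).trans (f7453 H)

theorem f8106 : path g [8, 1, 3, 9, 1] p = path g [8, 9, 1, 3, 2] p :=
  (f4393 H).symm.trans (f8105 H)

theorem f8108 : g 2 • path g [8, 1, 3, 9] p = path g [9, 2, 9, 8, 6] p :=
  (f4375 H).trans (f8089 H)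

theorem f8111 : g 7 • path g [8, 1, 3, 9] p = path g [9, 2, 9, 8, 6] p :=
  (f4378 H).trans (f8089 H)

theorem f8114 : g 6 • path g [8, 9, 1, 3, 2] p = path g [8, 1, 3, 9] p :=
  (f7454 H).trans (f8096 H)

theorem f8116 : g 1 • path g [8, 9, 1, 3, 2] p = path g [8, 1, 3, 9, 6] p :=
  (congrArg (g 1 • ·) (f8106 H).symm).trans (f4395 H)

theorem f8117 : path g [9, 2, 9, 8, 2] p = path g [8, 1, 3, 9, 6] p :=
  (f7447 H).symm.trans (f8116 H)

theorem f8118 : g 4 • path g [8, 9, 1, 3, 2] p = path g [8, 1, 3, 1] p :=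
  (congrArg (g 4 • ·) (f8106 H).symm).trans (f4397 H)

theorem f8121 : g 9 • path g [8, 9, 1, 3, 2] p = path g [8, 9, 1, 8, 1] p :=
  (congrArg (g 9 • ·) (f8106 H).symm).trans (f4399 H)

theorem f8123 : g 4 • path g [8, 9, 1, 8, 1] p = path g [8, 9, 1, 3, 2] p :=
  H.back (i := 9) (by decide) (f8121 H)

theorem f8126 : g 5 • path g [8, 9, 1, 3, 2] p = path g [8, 1, 8, 9, 1] p :=
  (congrArg (g 5 • ·) (f8106 H).symm).trans (f6658 H)

theorem f8127 : path g [3, 9, 2, 6, 8] p = path g [8, 1, 8, 9, 1] p :=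
  (f7957 H).symm.trans (f8126 H)

theorem f8128 : g 3 • path g [8, 1, 8, 9, 1] p = path g [3, 9, 2, 6] p :=
  (congrArg (g 3 • ·) (f8127 H).symm).trans (f4559 H)

theorem f8130 : g 8 • path g [3, 9, 2, 6] p = path g [8, 1, 8, 9, 1] p :=
  H.back (i := 3) (by decide) (f8128 H)

theorem f8131 : g 8 • path g [8, 1, 8, 9, 1] p = path g [3, 9, 2, 6, 3] p :=
  (congrArg (g 8 • ·) (f8127 H).symm).trans (f4563 H)

theorem f8133 : g 3 • path g [3, 9, 2, 6, 3] p = path g [8, 1, 8, 9, 1] p :=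
  H.back (i := 8) (by decide) (f8131 H)

theorem f8134 : g 7 • path g [8, 1, 8, 9, 1] p = path g [9, 2, 8, 6, 5, 8] p :=
  (congrArg (g 7 • ·) (f8127 H).symm).trans (f7952 H)

theorem f8136 : g 2 • path g [9, 2, 8, 6, 5, 8] p = path g [8, 1, 8, 9, 1] p :=
  H.back (i := 7) (by decide) (f8134 H)

theorem f8137 : g 2 • path g [8, 1, 8, 9, 1] p = path g [9, 2, 8, 6, 5, 8] p :=
  (congrArg (g 2 • ·) (f8127 H).symm).trans (f7954 H)

theorem f8141 : g 5 • path g [8, 1, 8, 9, 1] p = path g [8, 9, 1, 3, 2] p :=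
  (f6657 H).trans (f8106 H)

theorem f8144 : g 0 • path g [8, 1, 8, 9, 1] p = path g [8, 9, 1, 3, 2] p :=
  (f6660 H).trans (f8106 H)

theorem f8146 : path g [8, 1, 3, 9, 6] p = path g [9, 2, 9, 8, 2] p :=
  (f8117 H).symm

theorem f8148 : g 1 • path g [9, 2, 9, 8, 2] p = path g [8, 1, 3, 9] p :=
  (f7451 H).trans (f8096 H)

theorem f8152 : g 4 • path g [9, 2, 9, 8, 2] p = path g [8, 1, 3, 6] p :=
  (congrArg (g 4 • ·) (f8146 H).symm).trans (f4391 H)

theorem f8153 : path g [9, 2, 9, 8, 2, 4] p = path g [8, 1, 3, 6] p :=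
  (f7460 H).symm.trans (f8152 H)

theorem f8159 : g 5 • path g [9, 2, 9, 8, 2] p = path g [3, 1, 3, 9, 6] p :=
  (congrArg (g 5 • ·) (f8146 H).symm).trans (f4926 H)

theorem f8160 : path g [9, 2, 9, 8, 2, 5] p = path g [3, 1, 3, 9, 6] p :=
  (f7436 H).symm.trans (f8159 H)

theorem f8162 : g 0 • path g [3, 1, 3, 9, 6] p = path g [9, 2, 9, 8, 2] p :=
  (f4927 H).trans (f8146 H)

theorem f8165 : g 5 • path g [3, 1, 3, 9, 6] p = path g [9, 2, 9, 8, 2] p :=
  (f4924 H).trans (f8146 H)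

theorem f8174 : g 4 • path g [8, 9, 1, 8, 6] p = path g [9, 2, 9, 8, 2] p :=
  (f4390 H).trans (f8146 H)

theorem f8179 : g 1 • path g [9, 2, 8, 6, 5, 8] p = path g [8, 1, 8, 9, 2] p :=
  scan (u := [2]) (w := [2, 1]) (i := 1) (r3_0_1 H) (step (f8137 H) rfl) (step (H.back (i := 7) (by decide) (f4253 H)) (step (H.back (i := 6) (by decide) (f4265 H)) rfl))

theorem f8180 : g 6 • path g [8, 1, 8, 9, 2] p = path g [9, 2, 8, 6, 5, 8] p :=
  H.back (i := 1) (by decide) (f8179 H)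

theorem f8181 : g 1 • path g [3, 9, 2, 6, 3] p = path g [9, 3, 2, 6, 3] p :=
  scan (u := [2, 0]) (w := [8, 7, 3, 0, 2, 0, 1]) (i := 1) (r7_1_5 H) (step (f8137 H) (step (f7965 H) rfl)) (step (H.back (i := 3) (by decide) (f3643 H)) (step (H.back (i := 2) (by decide) (f595 H)) (step (H.back (i := 8) (by decide) (f1594 H)) (step (H.back (i := 5) (by decide) (f1362 H)) (step (H.back (i := 7) (by decide) (f5644 H)) (step (H.back (i := 5) (by decide) (f6759 H)) (step (H.back (i := 6) (by decide) (f4265 H)) rfl)))))))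

theorem f8182 : g 6 • path g [9, 3, 2, 6, 3] p = path g [3, 9, 2, 6, 3] p :=
  H.back (i := 1) (by decide) (f8181 H)

theorem f8183 : g 3 • path g [4, 2, 3, 1, 3] p = path g [9, 2, 9, 8, 6] p :=
  (f7248 H).trans (f8089 H)

theorem f8184 : path g [4, 8, 2, 9, 6] p = path g [4, 2, 8, 6, 8] p :=
  close (u := [2, 0, 2, 3, 5, 6, 7, 5, 6]) (w := [8, 0]) (r8_0_0 H) (step (f8137 H) (step (f7965 H) (step (f7961 H) (step (f8183 H) (step (f7472 H) (step (f7480 H) (step (f7667 H) (step (f3478 H) (step (f4982 H) rfl))))))))) (step (H.back (i := 3) (by decide) (f5262 H)) (step (H.back (i := 5) (by decide) (f8141 H)) rfl))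

theorem f8185 : path g [4, 2, 8, 6, 8] p = path g [4, 8, 2, 9, 6] p :=
  (f8184 H).symm

theorem f8186 : g 3 • path g [4, 8, 2, 9, 6] p = path g [4, 2, 8, 6] p :=
  (congrArg (g 3 • ·) (f8185 H).symm).trans (f5255 H)

theorem f8189 : g 7 • path g [4, 8, 2, 9, 6] p = path g [9, 8, 2, 6, 8] p :=
  (congrArg (g 7 • ·) (f8185 H).symm).trans (f5256 H)

theorem f8191 : g 2 • path g [9, 8, 2, 6, 8] p = path g [4, 8, 2, 9, 6] p :=
  H.back (i := 7) (by decide) (f8189 H)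

theorem f8194 : g 5 • path g [4, 8, 2, 9, 6] p = path g [3, 9, 2, 4, 2] p :=
  (congrArg (g 5 • ·) (f8185 H).symm).trans (f5261 H)

theorem f8195 : path g [9, 8, 2, 9, 6] p = path g [3, 9, 2, 4, 2] p :=
  (f4986 H).symm.trans (f8194 H)

theorem f8196 : g 8 • path g [4, 8, 2, 9, 6] p = path g [8, 9, 1, 3, 2] p :=
  (congrArg (g 8 • ·) (f8185 H).symm).trans (f5263 H)

theorem f8198 : g 3 • path g [8, 9, 1, 3, 2] p = path g [4, 8, 2, 9, 6] p :=
  H.back (i := 8) (by decide) (f8196 H)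

theorem f8199 : g 2 • path g [4, 8, 2, 9, 6] p = path g [9, 8, 2, 6, 8] p :=
  (congrArg (g 2 • ·) (f8185 H).symm).trans (f5266 H)

theorem f8202 : path g [3, 9, 2, 4, 2] p = path g [9, 8, 2, 9, 6] p :=
  (f8195 H).symm

theorem f8205 : g 2 • path g [9, 8, 2, 9, 6] p = path g [3, 9, 2, 4] p :=
  (congrArg (g 2 • ·) (f8202 H).symm).trans (f4603 H)

theorem f8206 : path g [9, 8, 2, 9, 2, 1] p = path g [3, 9, 2, 4] p :=
  (f5446 H).symm.trans (f8205 H)

theorem f8215 : g 1 • path g [3, 9, 2, 4] p = path g [9, 8, 2, 9, 2, 6] p :=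
  (congrArg (g 1 • ·) (f8206 H).symm).trans (f5442 H)

theorem f8216 : path g [3, 9, 2, 1, 4] p = path g [9, 8, 2, 9, 2, 6] p :=
  (f4598 H).symm.trans (f8215 H)

theorem f8218 : g 2 • path g [3, 9, 2, 4] p = path g [9, 8, 2, 9, 6] p :=
  (f4601 H).trans (f8202 H)

theorem f8221 : g 7 • path g [3, 9, 2, 4] p = path g [9, 8, 2, 9, 6] p :=
  (f4604 H).trans (f8202 H)

theorem f8223 : path g [9, 8, 2, 9, 2, 6] p = path g [3, 9, 2, 1, 4] p :=
  (f8216 H).symm

theorem f8224 : g 1 • path g [3, 9, 2, 1, 4] p = path g [9, 8, 2, 9, 2] p :=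
  (congrArg (g 1 • ·) (f8223 H).symm).trans (f5435 H)

theorem f8225 : path g [3, 9, 2, 6, 4] p = path g [9, 8, 2, 9, 2] p :=
  (f4599 H).symm.trans (f8224 H)

theorem f8226 : g 7 • path g [3, 9, 2, 1, 4] p = path g [9, 8, 2, 9, 1] p :=
  (congrArg (g 7 • ·) (f8223 H).symm).trans (f5436 H)

theorem f8228 : g 2 • path g [9, 8, 2, 9, 1] p = path g [3, 9, 2, 1, 4] p :=
  H.back (i := 7) (by decide) (f8226 H)

theorem f8229 : g 2 • path g [3, 9, 2, 1, 4] p = path g [9, 8, 2, 9, 1] p :=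
  (congrArg (g 2 • ·) (f8223 H).symm).trans (f5439 H)

theorem f8231 : g 7 • path g [9, 8, 2, 9, 1] p = path g [3, 9, 2, 1, 4] p :=
  H.back (i := 2) (by decide) (f8229 H)

theorem f8237 : g 4 • path g [9, 8, 2, 9, 2] p = path g [9, 3, 6, 3, 6] p :=
  (congrArg (g 4 • ·) (f8225 H).symm).trans (f4566 H)

theorem f8238 : path g [9, 8, 2, 9, 2, 4] p = path g [9, 3, 6, 3, 6] p :=
  (f5448 H).symm.trans (f8237 H)

theorem f8240 : g 1 • path g [9, 8, 2, 9, 2] p = path g [3, 9, 2, 4] p :=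
  (f5440 H).trans (f8206 H)

theorem f8243 : g 6 • path g [9, 8, 2, 9, 2] p = path g [3, 9, 2, 1, 4] p :=
  (f5434 H).trans (f8223 H)

theorem f8248 : g 4 • path g [9, 3, 6, 3, 6] p = path g [9, 8, 2, 9, 2, 9] p :=
  (congrArg (g 4 • ·) (f8238 H).symm).trans (f5450 H)

theorem f8249 : path g [3, 9, 2, 6] p = path g [9, 8, 2, 9, 2, 9] p :=
  (f3774 H).symm.trans (f8248 H)

theorem f8250 : g 3 • path g [9, 3, 6, 3, 6] p = path g [9, 2, 8, 9, 6] p :=
  (congrArg (g 3 • ·) (f8238 H).symm).trans (f7903 H)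

theorem f8252 : g 8 • path g [9, 2, 8, 9, 6] p = path g [9, 3, 6, 3, 6] p :=
  H.back (i := 3) (by decide) (f8250 H)

theorem f8253 : g 8 • path g [9, 3, 6, 3, 6] p = path g [9, 2, 8, 9, 6, 3] p :=
  (congrArg (g 8 • ·) (f8238 H).symm).trans (f7918 H)

theorem f8255 : g 3 • path g [9, 2, 8, 9, 6, 3] p = path g [9, 3, 6, 3, 6] p :=
  H.back (i := 8) (by decide) (f8253 H)

theorem f8256 : path g [9, 8, 2, 9, 2, 9] p = path g [3, 9, 2, 6] p :=
  (f8249 H).symm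

theorem f8258 : g 4 • path g [3, 9, 2, 6] p = path g [9, 8, 2, 9, 2] p :=
  (f4564 H).trans (f8225 H)

theorem f8263 : g 8 • path g [3, 9, 2, 6] p = path g [9, 2, 8, 6, 8, 4] p :=
  (congrArg (g 8 • ·) (f8256 H).symm).trans (f7948 H)

theorem f8264 : path g [8, 1, 8, 9, 1] p = path g [9, 2, 8, 6, 8, 4] p :=
  (f8130 H).symm.trans (f8263 H)

theorem f8265 : path g [9, 2, 8, 6, 8, 4] p = path g [8, 1, 8, 9, 1] p :=
  (f8264 H).symm

theorem f8268 : g 4 • path g [8, 1, 8, 9, 1] p = path g [9, 2, 8, 6, 8, 9] p :=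
  (congrArg (g 4 • ·) (f8265 H).symm).trans (f7945 H)

theorem f8269 : path g [8, 1, 8, 1] p = path g [9, 2, 8, 6, 8, 9] p :=
  (f4268 H).symm.trans (f8268 H)

theorem f8273 : path g [9, 2, 8, 6, 8, 9] p = path g [8, 1, 8, 1] p :=
  (f8269 H).symm

theorem f8274 : g 4 • path g [8, 1, 8, 1] p = path g [9, 2, 8, 6, 8] p :=
  (congrArg (g 4 • ·) (f8273 H).symm).trans (f7934 H)

theorem f8275 : path g [8, 1, 8, 1, 4] p = path g [9, 2, 8, 6, 8] p :=
  (f4363 H).symm.trans (f8274 H)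

theorem f8281 : g 3 • path g [8, 1, 8, 1] p = path g [9, 2, 8, 6, 4, 8] p :=
  (congrArg (g 3 • ·) (f8273 H).symm).trans (f7984 H)

theorem f8282 : path g [8, 1, 8, 1, 3] p = path g [9, 2, 8, 6, 4, 8] p :=
  (f4359 H).symm.trans (f8281 H)

theorem f8283 : path g [9, 2, 8, 6, 4, 8] p = path g [8, 1, 8, 1, 3] p :=
  (f8282 H).symm

theorem f8284 : g 3 • path g [8, 1, 8, 1, 3] p = path g [9, 2, 8, 6, 4] p :=
  (congrArg (g 3 • ·) (f8283 H).symm).trans (f7982 H)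

theorem f8285 : path g [8, 1, 8, 1, 8] p = path g [9, 2, 8, 6, 4] p :=
  (f4361 H).symm.trans (f8284 H)

theorem f8289 : g 9 • path g [8, 1, 8, 1, 3] p = path g [9, 2, 8, 9, 6, 3] p :=
  (congrArg (g 9 • ·) (f8283 H).symm).trans (f7985 H)

theorem f8291 : g 4 • path g [9, 2, 8, 9, 6, 3] p = path g [8, 1, 8, 1, 3] p :=
  H.back (i := 9) (by decide) (f8289 H)

theorem f8293 : g 3 • path g [9, 2, 8, 6, 4] p = path g [8, 1, 8, 1] p :=
  (f7936 H).trans (f8273 H)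

theorem f8296 : g 8 • path g [9, 2, 8, 6, 4] p = path g [8, 1, 8, 1, 3] p :=
  (f7981 H).trans (f8283 H)

theorem f8301 : g 2 • path g [8, 1, 8, 1, 8] p = path g [9, 2, 8, 6, 4] p :=
  (f4713 H).trans (f8285 H)

theorem f8302 : g 2 • path g [9, 2, 8, 6, 4] p = path g [9, 2, 8, 6, 4] p :=
  (congrArg (g 2 • ·) (f8285 H).symm).trans (f8301 H)

theorem f8303 : path g [9, 2, 8, 6, 4, 2] p = path g [9, 2, 8, 6, 4] p :=
  (f7987 H).symm.trans (f8302 H)

theorem f8308 : g 2 • path g [9, 2, 8, 6, 4] p = path g [9, 2, 8, 6, 4] p :=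
  (f7987 H).trans (f8303 H)

theorem f8310 : g 6 • path g [9, 2, 8, 6, 4] p = path g [9, 2, 8, 4, 2] p :=
  (congrArg (g 6 • ·) (f8303 H).symm).trans (f7992 H)

theorem f8311 : path g [9, 2, 8, 1, 4] p = path g [9, 2, 8, 4, 2] p :=
  (f3328 H).symm.trans (f8310 H)

theorem f8312 : path g [9, 2, 8, 4, 2] p = path g [9, 2, 8, 1, 4] p :=
  (f8311 H).symm

theorem f8313 : g 7 • path g [9, 2, 8, 1, 4] p = path g [9, 2, 8, 4] p :=
  (congrArg (g 7 • ·) (f8312 H).symm).trans (f3330 H)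

theorem f8315 : g 2 • path g [9, 2, 8, 4] p = path g [9, 2, 8, 1, 4] p :=
  H.back (i := 7) (by decide) (f8313 H)

theorem f8316 : g 2 • path g [9, 2, 8, 1, 4] p = path g [9, 2, 8, 4] p :=
  (congrArg (g 2 • ·) (f8312 H).symm).trans (f3331 H)

theorem f8326 : g 4 • path g [9, 2, 8, 6, 8] p = path g [8, 1, 8, 9, 1] p :=
  (f7943 H).trans (f8265 H)

theorem f8330 : g 1 • path g [9, 2, 8, 6, 8] p = path g [8, 1, 8, 6, 4] p :=
  (congrArg (g 1 • ·) (f8275 H).symm).trans (f4369 H)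

theorem f8331 : path g [9, 2, 8, 6, 8, 1] p = path g [8, 1, 8, 6, 4] p :=
  (f7939 H).symm.trans (f8330 H)

theorem f8334 : g 5 • path g [9, 2, 8, 6, 8] p = path g [8, 9, 1, 8, 1] p :=
  (congrArg (g 5 • ·) (f8275 H).symm).trans (f7195 H)

theorem f8335 : path g [9, 8, 1, 8, 5, 2] p = path g [8, 9, 1, 8, 1] p :=
  (f6053 H).symm.trans (f8334 H)

theorem f8338 : g 2 • path g [8, 9, 1, 8, 1] p = path g [9, 8, 1, 8, 5] p :=
  (congrArg (g 2 • ·) (f8335 H).symm).trans (f6050 H)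

theorem f8339 : path g [9, 3, 1, 8, 6] p = path g [9, 8, 1, 8, 5] p :=
  (f3977 H).symm.trans (f8338 H)

theorem f8341 : g 0 • path g [8, 9, 1, 8, 1] p = path g [9, 2, 8, 6, 8] p :=
  (f7194 H).trans (f8275 H)

theorem f8344 : g 5 • path g [8, 9, 1, 8, 1] p = path g [9, 2, 8, 6, 8] p :=
  (f7192 H).trans (f8275 H)

theorem f8354 : g 2 • path g [9, 8, 1, 8, 5] p = path g [8, 9, 1, 8, 1] p :=
  (f6048 H).trans (f8335 H)

theorem f8358 : g 4 • path g [9, 8, 1, 8, 5] p = path g [9, 8, 2, 4, 8, 6] p :=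
  (congrArg (g 4 • ·) (f8339 H).symm).trans (f5833 H)

theorem f8359 : path g [9, 8, 1, 8, 5, 8] p = path g [9, 8, 2, 4, 8, 6] p :=
  (f7714 H).symm.trans (f8358 H)

theorem f8362 : g 0 • path g [9, 8, 1, 8, 5] p = path g [9, 8, 1, 8, 2, 6] p :=
  (congrArg (g 0 • ·) (f8339 H).symm).trans (f6075 H)

theorem f8363 : path g [9, 8, 1, 8] p = path g [9, 8, 1, 8, 2, 6] p :=
  (f2912 H).symm.trans (f8362 H)

theorem f8364 : path g [9, 8, 1, 8, 2, 6] p = path g [9, 8, 1, 8] p :=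
  (f8363 H).symm

theorem f8371 : g 6 • path g [9, 8, 1, 8] p = path g [9, 8, 1, 8, 2, 1] p :=
  (congrArg (g 6 • ·) (f8364 H).symm).trans (f6041 H)

theorem f8372 : path g [9, 8, 1, 8, 6] p = path g [9, 8, 1, 8, 2, 1] p :=
  (f2915 H).symm.trans (f8371 H)

theorem f8379 : path g [9, 8, 1, 8, 2, 1] p = path g [9, 8, 1, 8, 6] p :=
  (f8372 H).symm

theorem f8380 : g 6 • path g [9, 8, 1, 8, 6] p = path g [9, 8, 1, 8, 2] p :=
  (congrArg (g 6 • ·) (f8379 H).symm).trans (f6039 H)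

theorem f8381 : path g [9, 8, 1, 8, 1] p = path g [9, 8, 1, 8, 2] p :=
  (f2920 H).symm.trans (f8380 H)

theorem f8386 : g 2 • path g [9, 8, 1, 8, 6] p = path g [9, 8, 1, 8, 6] p :=
  (f6044 H).trans (f8379 H)

theorem f8389 : g 7 • path g [9, 8, 1, 8, 6] p = path g [9, 8, 1, 8, 6] p :=
  (f6043 H).trans (f8379 H)

theorem f8395 : g 1 • path g [9, 8, 1, 8, 2] p = path g [9, 8, 1, 8, 6] p :=
  (f6038 H).trans (f8379 H)

theorem f8411 : g 0 • path g [9, 8, 1, 8, 2] p = path g [9, 8, 1, 8, 1, 5] p :=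
  (congrArg (g 0 • ·) (f8381 H).symm).trans (f6133 H)

theorem f8412 : path g [4, 2, 3, 1, 3] p = path g [9, 8, 1, 8, 1, 5] p :=
  (f7768 H).symm.trans (f8411 H)

theorem f8413 : g 3 • path g [9, 8, 1, 8, 2] p = path g [9, 8, 1, 8, 1, 3] p :=
  (congrArg (g 3 • ·) (f8381 H).symm).trans (f6138 H)

theorem f8414 : path g [9, 3, 5, 1] p = path g [9, 8, 1, 8, 1, 3] p :=
  (f2907 H).symm.trans (f8413 H)

theorem f8415 : path g [9, 8, 1, 8, 1, 3] p = path g [9, 3, 5, 1] p :=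
  (f8414 H).symm

theorem f8419 : g 3 • path g [9, 3, 5, 1] p = path g [9, 8, 1, 8, 1, 8] p :=
  (congrArg (g 3 • ·) (f8415 H).symm).trans (f6140 H)

theorem f8420 : path g [4, 8, 2, 9] p = path g [9, 8, 1, 8, 1, 8] p :=
  (f1633 H).symm.trans (f8419 H)

theorem f8421 : path g [9, 8, 1, 8, 1, 8] p = path g [4, 8, 2, 9] p :=
  (f8420 H).symm

theorem f8428 : g 9 • path g [4, 8, 2, 9] p = path g [9, 2, 8, 2, 6, 3] p :=
  (congrArg (g 9 • ·) (f8421 H).symm).trans (f7932 H)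

theorem f8429 : path g [4, 8, 2, 4] p = path g [9, 2, 8, 2, 6, 3] p :=
  (f1195 H).symm.trans (f8428 H)

theorem f8430 : path g [9, 2, 8, 2, 6, 3] p = path g [4, 8, 2, 4] p :=
  (f8429 H).symm

theorem f8433 : g 3 • path g [4, 8, 2, 4] p = path g [3, 9, 6, 8, 2] p :=
  (congrArg (g 3 • ·) (f8430 H).symm).trans (f7929 H)

theorem f8434 : path g [4, 8, 2, 8, 9] p = path g [3, 9, 6, 8, 2] p :=
  (f5005 H).symm.trans (f8433 H)

theorem f8438 : g 4 • path g [3, 9, 6, 8, 2] p = path g [4, 8, 2, 8] p :=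
  (congrArg (g 4 • ·) (f8434 H).symm).trans (f4997 H)

theorem f8441 : g 9 • path g [3, 9, 6, 8, 2] p = path g [8, 1, 4, 8, 2] p :=
  (congrArg (g 9 • ·) (f8434 H).symm).trans (f4998 H)

theorem f8443 : g 4 • path g [8, 1, 4, 8, 2] p = path g [3, 9, 6, 8, 2] p :=
  H.back (i := 9) (by decide) (f8441 H)

theorem f8444 : g 0 • path g [3, 9, 6, 8, 2] p = path g [9, 3, 5, 2, 9] p :=
  (congrArg (g 0 • ·) (f8434 H).symm).trans (f5000 H)

theorem f8446 : g 5 • path g [9, 3, 5, 2, 9] p = path g [3, 9, 6, 8, 2] p :=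
  H.back (i := 0) (by decide) (f8444 H)

theorem f8447 : g 5 • path g [3, 9, 6, 8, 2] p = path g [9, 3, 5, 2, 9] p :=
  (congrArg (g 5 • ·) (f8434 H).symm).trans (f5002 H)

theorem f8449 : g 0 • path g [9, 3, 5, 2, 9] p = path g [3, 9, 6, 8, 2] p :=
  H.back (i := 5) (by decide) (f8447 H)

theorem f8451 : g 8 • path g [3, 9, 6, 8, 2] p = path g [4, 8, 2, 4] p :=
  (f7930 H).trans (f8430 H)

theorem f8453 : g 3 • path g [3, 9, 6, 8, 2] p = path g [4, 8, 2, 4, 8] p :=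
  (congrArg (g 3 • ·) (f8434 H).symm).trans (f5056 H)

theorem f8454 : path g [9, 2, 8, 2, 6] p = path g [4, 8, 2, 4, 8] p :=
  (f5320 H).symm.trans (f8453 H)

theorem f8455 : path g [4, 8, 2, 4, 8] p = path g [9, 2, 8, 2, 6] p :=
  (f8454 H).symm

theorem f8457 : g 3 • path g [9, 2, 8, 2, 6] p = path g [4, 8, 2, 4] p :=
  (f7927 H).trans (f8430 H)

theorem f8465 : g 4 • path g [9, 2, 8, 2, 6] p = path g [4, 8, 5, 1, 3] p :=
  (congrArg (g 4 • ·) (f8455 H).symm).trans (f5095 H)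

theorem f8466 : path g [3, 9, 1, 3, 1] p = path g [4, 8, 5, 1, 3] p :=
  (f5645 H).symm.trans (f8465 H)

theorem f8467 : path g [4, 8, 5, 1, 3] p = path g [3, 9, 1, 3, 1] p :=
  (f8466 H).symm

theorem f8468 : g 8 • path g [3, 9, 1, 3, 1] p = path g [4, 8, 5, 1] p :=
  (congrArg (g 8 • ·) (f8467 H).symm).trans (f5090 H)

theorem f8470 : g 3 • path g [4, 8, 5, 1] p = path g [3, 9, 1, 3, 1] p :=
  H.back (i := 8) (by decide) (f8468 H)

theorem f8471 : g 3 • path g [3, 9, 1, 3, 1] p = path g [8, 1, 4, 8, 2] p :=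
  (congrArg (g 3 • ·) (f8467 H).symm).trans (f5091 H)

theorem f8473 : g 8 • path g [8, 1, 4, 8, 2] p = path g [3, 9, 1, 3, 1] p :=
  H.back (i := 3) (by decide) (f8471 H)

theorem f8475 : g 4 • path g [3, 9, 1, 3, 1] p = path g [9, 8, 1, 8, 2] p :=
  (f4687 H).trans (f8381 H)

theorem f8480 : path g [9, 8, 1, 8, 1, 5] p = path g [4, 2, 3, 1, 3] p :=
  (f8412 H).symm

theorem f8487 : g 4 • path g [4, 2, 3, 1, 3] p = path g [4, 2, 5, 8, 6] p :=
  (congrArg (g 4 • ·) (f8480 H).symm).trans (f6134 H)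

theorem f8490 : g 1 • path g [4, 2, 3, 1, 3] p = path g [4, 2, 5, 8, 9] p :=
  (congrArg (g 1 • ·) (f8480 H).symm).trans (f6137 H)

theorem f8493 : g 6 • path g [4, 2, 3, 1, 3] p = path g [8, 1, 4, 8, 5] p :=
  (congrArg (g 6 • ·) (f8480 H).symm).trans (f7659 H)

theorem f8495 : g 1 • path g [8, 1, 4, 8, 5] p = path g [4, 2, 3, 1, 3] p :=
  H.back (i := 6) (by decide) (f8493 H)

theorem f8496 : g 3 • path g [9, 8, 2, 4, 8, 6] p = path g [9, 8, 1, 8, 5] p :=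
  (congrArg (g 3 • ·) (f8359 H).symm).trans (f6047 H)

theorem f8499 : g 8 • path g [9, 8, 2, 4, 8, 6] p = path g [3, 9, 1, 3, 5] p :=
  (congrArg (g 8 • ·) (f8359 H).symm).trans (f7744 H)

theorem f8501 : g 3 • path g [3, 9, 1, 3, 5] p = path g [9, 8, 2, 4, 8, 6] p :=
  H.back (i := 8) (by decide) (f8499 H)

theorem f8507 : g 5 • path g [9, 8, 2, 4, 8, 6] p = path g [9, 8, 1, 8, 4] p :=
  (congrArg (g 5 • ·) (f8359 H).symm).trans (f7718 H)

theorem f8509 : g 0 • path g [9, 8, 1, 8, 4] p = path g [9, 8, 2, 4, 8, 6] p :=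
  H.back (i := 5) (by decide) (f8507 H)

theorem f8510 : g 0 • path g [9, 8, 2, 4, 8, 6] p = path g [9, 8, 1, 8, 4] p :=
  (congrArg (g 0 • ·) (f8359 H).symm).trans (f7721 H)

theorem f8512 : g 5 • path g [9, 8, 1, 8, 4] p = path g [9, 8, 2, 4, 8, 6] p :=
  H.back (i := 0) (by decide) (f8510 H)

theorem f8515 : g 1 • path g [9, 8, 2, 4, 8, 6] p = path g [9, 2, 3, 6, 5] p :=
  (congrArg (g 1 • ·) (f8359 H).symm).trans (f7727 H)

theorem f8516 : path g [9, 8, 2, 4, 8] p = path g [9, 2, 3, 6, 5] p :=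
  (f5831 H).symm.trans (f8515 H)

theorem f8517 : g 7 • path g [9, 8, 2, 4, 8, 6] p = path g [4, 8, 2, 8, 6] p :=
  (congrArg (g 7 • ·) (f8359 H).symm).trans (f7730 H)

theorem f8519 : g 2 • path g [4, 8, 2, 8, 6] p = path g [9, 8, 2, 4, 8, 6] p :=
  H.back (i := 7) (by decide) (f8517 H)

theorem f8520 : g 2 • path g [9, 8, 2, 4, 8, 6] p = path g [4, 8, 2, 8, 6] p :=
  (congrArg (g 2 • ·) (f8359 H).symm).trans (f7733 H)

theorem f8523 : path g [9, 2, 3, 6, 5] p = path g [9, 8, 2, 4, 8] p :=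
  (f8516 H).symm

theorem f8530 : g 8 • path g [9, 8, 2, 4, 8] p = path g [8, 6, 4, 8, 2] p :=
  (congrArg (g 8 • ·) (f8523 H).symm).trans (f4208 H)

theorem f8531 : path g [9, 8, 2, 8, 9] p = path g [8, 6, 4, 8, 2] p :=
  (f1704 H).symm.trans (f8530 H)

theorem f8534 : g 7 • path g [9, 8, 2, 4, 8] p = path g [3, 9, 2, 1, 5] p :=
  (congrArg (g 7 • ·) (f8523 H).symm).trans (f4581 H)

theorem f8535 : path g [9, 8, 2, 4, 8, 2] p = path g [3, 9, 2, 1, 5] p :=
  (f5821 H).symm.trans (f8534 H)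

theorem f8541 : g 4 • path g [9, 8, 2, 4, 8] p = path g [9, 2, 9, 8, 6, 5] p :=
  (congrArg (g 4 • ·) (f8523 H).symm).trans (f7477 H)

theorem f8542 : path g [4, 8, 1, 3] p = path g [9, 2, 9, 8, 6, 5] p :=
  (f1710 H).symm.trans (f8541 H)

theorem f8543 : path g [9, 2, 9, 8, 6, 5] p = path g [4, 8, 1, 3] p :=
  (f8542 H).symm

theorem f8555 : g 1 • path g [4, 8, 1, 3] p = path g [9, 2, 9, 5, 1, 8] p :=
  (congrArg (g 1 • ·) (f8543 H).symm).trans (f7647 H)

theorem f8556 : path g [4, 8, 1, 3, 1] p = path g [9, 2, 9, 5, 1, 8] p :=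
  (f5169 H).symm.trans (f8555 H)

theorem f8557 : path g [9, 2, 9, 5, 1, 8] p = path g [4, 8, 1, 3, 1] p :=
  (f8556 H).symm

theorem f8558 : g 3 • path g [4, 8, 1, 3, 1] p = path g [9, 2, 9, 5, 1] p :=
  (congrArg (g 3 • ·) (f8557 H).symm).trans (f7636 H)

theorem f8563 : g 4 • path g [4, 8, 1, 3, 1] p = path g [9, 8, 1, 8, 5, 6] p :=
  (congrArg (g 4 • ·) (f8557 H).symm).trans (f7640 H)

theorem f8564 : path g [9, 3, 1, 8, 1] p = path g [9, 8, 1, 8, 5, 6] p :=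
  (f5173 H).symm.trans (f8563 H)

theorem f8565 : g 0 • path g [4, 8, 1, 3, 1] p = path g [4, 2, 5, 8, 4] p :=
  (congrArg (g 0 • ·) (f8557 H).symm).trans (f7642 H)

theorem f8567 : g 5 • path g [4, 2, 5, 8, 4] p = path g [4, 8, 1, 3, 1] p :=
  H.back (i := 0) (by decide) (f8565 H)

theorem f8568 : g 5 • path g [4, 8, 1, 3, 1] p = path g [4, 2, 5, 8, 4] p :=
  (congrArg (g 5 • ·) (f8557 H).symm).trans (f7644 H)

theorem f8570 : g 0 • path g [4, 2, 5, 8, 4] p = path g [4, 8, 1, 3, 1] p :=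
  H.back (i := 5) (by decide) (f8568 H)

theorem f8571 : g 1 • path g [4, 8, 1, 3, 1] p = path g [3, 9, 1, 3, 5] p :=
  (congrArg (g 1 • ·) (f8557 H).symm).trans (f7646 H)

theorem f8572 : path g [4, 8, 1, 3, 6] p = path g [3, 9, 1, 3, 5] p :=
  (f5171 H).symm.trans (f8571 H)

theorem f8576 : g 7 • path g [4, 8, 1, 3, 1] p = path g [9, 8, 2, 9, 1, 5] p :=
  (congrArg (g 7 • ·) (f8557 H).symm).trans (f7661 H)

theorem f8578 : g 2 • path g [9, 8, 2, 9, 1, 5] p = path g [4, 8, 1, 3, 1] p :=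
  H.back (i := 7) (by decide) (f8576 H)

theorem f8579 : g 2 • path g [4, 8, 1, 3, 1] p = path g [9, 8, 2, 9, 1, 5] p :=
  (congrArg (g 2 • ·) (f8557 H).symm).trans (f7662 H)

theorem f8581 : g 7 • path g [9, 8, 2, 9, 1, 5] p = path g [4, 8, 1, 3, 1] p :=
  H.back (i := 2) (by decide) (f8579 H)

theorem f8582 : g 8 • path g [4, 8, 1, 3, 1] p = path g [9, 2, 9, 5, 1, 3] p :=
  (congrArg (g 8 • ·) (f8557 H).symm).trans (f7777 H)

theorem f8584 : g 3 • path g [9, 2, 9, 5, 1, 3] p = path g [4, 8, 1, 3, 1] p :=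
  H.back (i := 8) (by decide) (f8582 H)

theorem f8586 : g 1 • path g [3, 9, 1, 3, 5] p = path g [4, 8, 1, 3] p :=
  (f7481 H).trans (f8543 H)

theorem f8592 : g 6 • path g [3, 9, 1, 3, 5] p = path g [4, 8, 1, 3, 1] p :=
  (f7645 H).trans (f8557 H)

theorem f8597 : path g [9, 8, 1, 8, 5, 6] p = path g [9, 3, 1, 8, 1] p :=
  (f8564 H).symm

theorem f8599 : g 1 • path g [9, 3, 1, 8, 1] p = path g [9, 8, 1, 8, 5] p :=
  (f3790 H).trans (f8339 H)

theorem f8601 : g 6 • path g [9, 3, 1, 8, 1] p = path g [9, 8, 1, 8, 5, 1] p :=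
  (congrArg (g 6 • ·) (f8597 H).symm).trans (f6087 H)

theorem f8602 : path g [9, 3, 1, 8] p = path g [9, 8, 1, 8, 5, 1] p :=
  (f3789 H).symm.trans (f8601 H)

theorem f8603 : g 4 • path g [9, 3, 1, 8, 1] p = path g [9, 2, 5, 1, 3] p :=
  (congrArg (g 4 • ·) (f8597 H).symm).trans (f6094 H)

theorem f8604 : path g [9, 8, 2, 4, 8, 1] p = path g [9, 2, 5, 1, 3] p :=
  (f5843 H).symm.trans (f8603 H)

theorem f8605 : g 5 • path g [9, 3, 1, 8, 1] p = path g [4, 2, 5, 8, 9] p :=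
  (congrArg (g 5 • ·) (f8597 H).symm).trans (f6097 H)

theorem f8607 : g 0 • path g [4, 2, 5, 8, 9] p = path g [9, 3, 1, 8, 1] p :=
  H.back (i := 5) (by decide) (f8605 H)

theorem f8608 : g 0 • path g [9, 3, 1, 8, 1] p = path g [4, 2, 5, 8, 9] p :=
  (congrArg (g 0 • ·) (f8597 H).symm).trans (f6099 H)

theorem f8610 : g 5 • path g [4, 2, 5, 8, 9] p = path g [9, 3, 1, 8, 1] p :=
  H.back (i := 0) (by decide) (f8608 H)

theorem f8611 : g 8 • path g [9, 3, 1, 8, 1] p = path g [8, 4, 2, 5, 4] p :=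
  (congrArg (g 8 • ·) (f8597 H).symm).trans (f6101 H)

theorem f8613 : g 3 • path g [8, 4, 2, 5, 4] p = path g [9, 3, 1, 8, 1] p :=
  H.back (i := 8) (by decide) (f8611 H)

theorem f8618 : g 6 • path g [9, 2, 5, 1, 3] p = path g [9, 8, 2, 4, 8] p :=
  (f3500 H).trans (f8523 H)

theorem f8621 : g 1 • path g [9, 2, 5, 1, 3] p = path g [9, 8, 2, 4, 8, 6] p :=
  (f7726 H).trans (f8359 H)

theorem f8624 : g 4 • path g [9, 2, 5, 1, 3] p = path g [4, 8, 1, 3, 1] p :=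
  (f7638 H).trans (f8557 H)

theorem f8629 : path g [9, 8, 1, 8, 5, 1] p = path g [9, 3, 1, 8] p :=
  (f8602 H).symm

theorem f8638 : g 5 • path g [9, 3, 1, 8] p = path g [9, 2, 3, 9, 6] p :=
  (congrArg (g 5 • ·) (f8629 H).symm).trans (f6091 H)

theorem f8639 : path g [9, 3, 1, 8, 5] p = path g [9, 2, 3, 9, 6] p :=
  (f3782 H).symm.trans (f8638 H)

theorem f8647 : g 0 • path g [9, 2, 3, 9, 6] p = path g [9, 3, 1, 8] p :=
  (f6090 H).trans (f8629 H)

theorem f8654 : g 4 • path g [9, 2, 3, 9, 6] p = path g [9, 8, 2, 4, 8, 5] p :=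
  (congrArg (g 4 • ·) (f8639 H).symm).trans (f5827 H)

theorem f8655 : path g [9, 2, 3, 6] p = path g [9, 8, 2, 4, 8, 5] p :=
  (f3462 H).symm.trans (f8654 H)

theorem f8656 : g 2 • path g [9, 2, 3, 9, 6] p = path g [8, 1, 4, 2, 3] p :=
  (congrArg (g 2 • ·) (f8639 H).symm).trans (f7329 H)

theorem f8659 : g 7 • path g [9, 2, 3, 9, 6] p = path g [8, 1, 4, 2, 3] p :=
  (congrArg (g 7 • ·) (f8639 H).symm).trans (f7334 H)

theorem f8661 : g 2 • path g [8, 1, 4, 2, 3] p = path g [9, 2, 3, 9, 6] p :=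
  H.back (i := 7) (by decide) (f8659 H)

theorem f8662 : g 8 • path g [9, 2, 3, 9, 6] p = path g [9, 3, 2, 3, 1] p :=
  (congrArg (g 8 • ·) (f8639 H).symm).trans (f7770 H)

theorem f8664 : g 3 • path g [9, 3, 2, 3, 1] p = path g [9, 2, 3, 9, 6] p :=
  H.back (i := 8) (by decide) (f8662 H)

theorem f8665 : path g [9, 8, 2, 4, 8, 5] p = path g [9, 2, 3, 6] p :=
  (f8655 H).symm

theorem f8667 : g 0 • path g [9, 2, 3, 6] p = path g [9, 8, 2, 4, 8] p :=
  (f3499 H).trans (f8523 H)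

theorem f8675 : g 4 • path g [9, 2, 3, 6] p = path g [4, 8, 1, 3, 5] p :=
  (congrArg (g 4 • ·) (f8665 H).symm).trans (f5828 H)

theorem f8676 : path g [9, 2, 9, 8, 6] p = path g [4, 8, 1, 3, 5] p :=
  (f2962 H).symm.trans (f8675 H)

theorem f8677 : g 3 • path g [9, 2, 3, 6] p = path g [9, 3, 6, 8, 5] p :=
  (congrArg (g 3 • ·) (f8665 H).symm).trans (f7771 H)

theorem f8678 : path g [9, 2, 3, 6, 3] p = path g [9, 3, 6, 8, 5] p :=
  (f3502 H).symm.trans (f8677 H)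

theorem f8679 : path g [9, 3, 6, 8, 5] p = path g [9, 2, 3, 6, 3] p :=
  (f8678 H).symm

theorem f8680 : g 0 • path g [9, 2, 3, 6, 3] p = path g [9, 3, 6, 8] p :=
  (congrArg (g 0 • ·) (f8679 H).symm).trans (f3736 H)

theorem f8683 : g 5 • path g [9, 2, 3, 6, 3] p = path g [9, 3, 6, 8] p :=
  (congrArg (g 5 • ·) (f8679 H).symm).trans (f3737 H)

theorem f8685 : g 0 • path g [9, 3, 6, 8] p = path g [9, 2, 3, 6, 3] p :=
  H.back (i := 5) (by decide) (f8683 H)

theorem f8686 : g 9 • path g [9, 2, 3, 6, 3] p = path g [9, 8, 6, 8, 2] p :=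
  (congrArg (g 9 • ·) (f8679 H).symm).trans (f8043 H)

theorem f8688 : g 4 • path g [9, 8, 6, 8, 2] p = path g [9, 2, 3, 6, 3] p :=
  H.back (i := 9) (by decide) (f8686 H)

theorem f8689 : g 4 • path g [9, 2, 3, 6, 3] p = path g [9, 3, 2, 3, 1] p :=
  (congrArg (g 4 • ·) (f8679 H).symm).trans (f7379 H)

theorem f8691 : g 9 • path g [9, 3, 2, 3, 1] p = path g [9, 2, 3, 6, 3] p :=
  H.back (i := 4) (by decide) (f8689 H)

theorem f8692 : g 6 • path g [9, 2, 3, 6, 3] p = path g [9, 3, 2, 3, 9] p :=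
  (congrArg (g 6 • ·) (f8679 H).symm).trans (f7385 H)

theorem f8694 : g 1 • path g [9, 3, 2, 3, 9] p = path g [9, 2, 3, 6, 3] p :=
  H.back (i := 6) (by decide) (f8692 H)

theorem f8698 : path g [4, 8, 1, 3, 5] p = path g [9, 2, 9, 8, 6] p :=
  (f8676 H).symm

theorem f8700 : g 0 • path g [9, 2, 9, 8, 6] p = path g [4, 8, 1, 3] p :=
  (f7475 H).trans (f8543 H)

theorem f8703 : g 5 • path g [9, 2, 9, 8, 6] p = path g [4, 8, 1, 3] p :=
  (f7472 H).trans (f8543 H)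

theorem f8712 : g 7 • path g [3, 9, 2, 1, 5] p = path g [9, 8, 2, 4, 8] p :=
  (f4578 H).trans (f8523 H)

theorem f8715 : g 2 • path g [3, 9, 2, 1, 5] p = path g [9, 8, 2, 4, 8] p :=
  (f4580 H).trans (f8523 H)

theorem f8717 : path g [8, 6, 4, 8, 2] p = path g [9, 8, 2, 8, 9] p :=
  (f8531 H).symm

theorem f8720 : g 2 • path g [9, 8, 2, 8, 9] p = path g [8, 6, 4, 8] p :=
  (congrArg (g 2 • ·) (f8717 H).symm).trans (f4206 H)

theorem f8721 : path g [9, 8, 2, 8, 9, 2] p = path g [8, 6, 4, 8] p :=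
  (f5504 H).symm.trans (f8720 H)

theorem f8726 : g 7 • path g [8, 6, 4, 8] p = path g [9, 8, 2, 8, 9] p :=
  (f4207 H).trans (f8717 H)

theorem f8729 : g 2 • path g [8, 6, 4, 8] p = path g [9, 8, 2, 8, 9] p :=
  (f4204 H).trans (f8717 H)

theorem f8738 : g 1 • path g [8, 1, 8, 4] p = path g [9, 2, 8, 6, 8] p :=
  (f4368 H).trans (f8275 H)

theorem f8743 : g 0 • path g [8, 9, 1, 3, 2] p = path g [8, 1, 8, 9, 1] p :=
  (f7956 H).trans (f8127 H)

theorem f8744 : path g [9, 8, 2, 6, 3, 2] p = path g [3, 9, 2, 4] p :=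
  close (u := [2, 1, 0, 8, 7]) (w := [5, 7, 5, 3, 1, 0]) (r8_1_4 H) (step (f8137 H) (step (f8179 H) (step (f6772 H) (step (f1677 H) (step (f5723 H) rfl))))) (step (H.back (i := 0) (by decide) (f3769 H)) (step (H.back (i := 2) (by decide) (f3872 H)) (step (H.back (i := 0) (by decide) (f6744 H)) (step (H.back (i := 8) (by decide) (f898 H)) (step (H.back (i := 6) (by decide) (f8114 H)) (step (H.back (i := 5) (by decide) (f8141 H)) rfl))))))

theorem f8747 : g 2 • path g [3, 9, 2, 4] p = path g [9, 8, 2, 6, 3] p :=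
  (congrArg (g 2 • ·) (f8744 H).symm).trans (f5722 H)

theorem f8748 : path g [9, 8, 2, 9, 6] p = path g [9, 8, 2, 6, 3] p :=
  (f8218 H).symm.trans (f8747 H)

theorem f8749 : path g [9, 8, 2, 6, 3] p = path g [9, 8, 2, 9, 6] p :=
  (f8748 H).symm

theorem f8756 : g 9 • path g [9, 8, 2, 9, 6] p = path g [9, 8, 2, 6, 3, 9] p :=
  (congrArg (g 9 • ·) (f8749 H).symm).trans (f5714 H)

theorem f8757 : path g [9, 8, 2, 6, 4] p = path g [9, 8, 2, 6, 3, 9] p :=
  (f1681 H).symm.trans (f8756 H)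

theorem f8760 : g 2 • path g [9, 8, 2, 9, 6] p = path g [3, 9, 2, 4] p :=
  (f5446 H).trans (f8206 H)

theorem f8794 : path g [9, 8, 2, 6, 3, 9] p = path g [9, 8, 2, 6, 4] p :=
  (f8757 H).symm

theorem f8800 : g 8 • path g [9, 8, 2, 6, 4] p = path g [9, 8, 2, 6, 8, 4] p :=
  (congrArg (g 8 • ·) (f8794 H).symm).trans (f5718 H)

theorem f8801 : path g [9, 8, 2, 6, 4, 8] p = path g [9, 8, 2, 6, 8, 4] p :=
  (f5734 H).symm.trans (f8800 H)

theorem f8803 : g 3 • path g [9, 8, 2, 6, 8, 4] p = path g [9, 8, 2, 6, 4] p :=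
  (f5719 H).trans (f8794 H)

theorem f8805 : g 8 • path g [9, 8, 2, 6, 8, 4] p = path g [9, 8, 2, 6, 8, 9] p :=
  (congrArg (g 8 • ·) (f8801 H).symm).trans (f5736 H)

theorem f8807 : g 3 • path g [9, 8, 2, 6, 8, 9] p = path g [9, 8, 2, 6, 8, 4] p :=
  H.back (i := 8) (by decide) (f8805 H)

theorem f8808 : g 9 • path g [9, 8, 2, 6, 8, 4] p = path g [9, 8, 2, 9, 6, 3] p :=
  (congrArg (g 9 • ·) (f8801 H).symm).trans (f5738 H)

theorem f8809 : path g [9, 8, 2, 6, 8] p = path g [9, 8, 2, 9, 6, 3] p :=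
  (f5711 H).symm.trans (f8808 H)

theorem f8810 : path g [9, 8, 2, 9, 6, 3] p = path g [9, 8, 2, 6, 8] p :=
  (f8809 H).symm

theorem f8821 : g 3 • path g [9, 8, 2, 6] p = path g [9, 8, 2, 9, 6] p :=
  (f1674 H).trans (f8749 H)

theorem f8832 : path g [3, 1, 8, 6, 4] p = path g [9, 8, 1, 3, 2, 1] p :=
  close (u := [2, 0, 2, 1, 0, 2, 1, 0, 6]) (w := [2, 0, 6]) (r5_0_2 H) (step (f8137 H) (step (f7965 H) (step (f7961 H) (step (f8490 H) (step (f8607 H) (step (f3968 H) (step (f3966 H) (step (f7349 H) (step (f4885 H) rfl))))))))) (step (H.back (i := 7) (by decide) (f6165 H)) (step (H.back (i := 5) (by decide) (f4327 H)) (step (H.back (i := 1) (by decide) (f4266 H)) rfl)))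

theorem f8833 : path g [9, 8, 1, 3, 2, 1] p = path g [3, 1, 8, 6, 4] p :=
  (f8832 H).symm

theorem f8836 : g 1 • path g [3, 1, 8, 6, 4] p = path g [9, 8, 1, 3, 2, 6] p :=
  (congrArg (g 1 • ·) (f8833 H).symm).trans (f6162 H)

theorem f8837 : path g [3, 1, 8, 4] p = path g [9, 8, 1, 3, 2, 6] p :=
  (f4884 H).symm.trans (f8836 H)

theorem f8838 : g 2 • path g [3, 1, 8, 6, 4] p = path g [9, 8, 1, 3, 6] p :=
  (congrArg (g 2 • ·) (f8833 H).symm).trans (f6164 H)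

theorem f8841 : g 7 • path g [3, 1, 8, 6, 4] p = path g [9, 8, 1, 3, 6] p :=
  (congrArg (g 7 • ·) (f8833 H).symm).trans (f6167 H)

theorem f8843 : g 2 • path g [9, 8, 1, 3, 6] p = path g [3, 1, 8, 6, 4] p :=
  H.back (i := 7) (by decide) (f8841 H)

theorem f8844 : path g [9, 8, 1, 3, 2, 6] p = path g [3, 1, 8, 4] p :=
  (f8837 H).symm

theorem f8845 : g 1 • path g [3, 1, 8, 4] p = path g [9, 8, 1, 3, 2] p :=
  (congrArg (g 1 • ·) (f8844 H).symm).trans (f6155 H)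

theorem f8846 : path g [3, 1, 8, 1, 4] p = path g [9, 8, 1, 3, 2] p :=
  (f4899 H).symm.trans (f8845 H)

theorem f8849 : g 2 • path g [3, 1, 8, 4] p = path g [9, 8, 1, 3, 1] p :=
  (congrArg (g 2 • ·) (f8844 H).symm).trans (f6159 H)

theorem f8850 : path g [3, 1, 8, 4, 2] p = path g [9, 8, 1, 3, 1] p :=
  (f4902 H).symm.trans (f8849 H)

theorem f8855 : g 7 • path g [9, 8, 1, 3, 1] p = path g [3, 1, 8, 4] p :=
  (f6158 H).trans (f8844 H)

theorem f8858 : g 2 • path g [9, 8, 1, 3, 1] p = path g [3, 1, 8, 4] p :=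
  (f6157 H).trans (f8844 H)

theorem f8862 : g 4 • path g [9, 8, 1, 3, 2] p = path g [9, 8, 1, 3, 1] p :=
  (congrArg (g 4 • ·) (f8846 H).symm).trans (f4896 H)

theorem f8863 : path g [9, 8, 1, 3, 2, 4] p = path g [9, 8, 1, 3, 1] p :=
  (f6168 H).symm.trans (f8862 H)

theorem f8868 : g 1 • path g [9, 8, 1, 3, 2] p = path g [3, 1, 8, 6, 4] p :=
  (f6160 H).trans (f8833 H)

theorem f8872 : g 5 • path g [9, 8, 1, 3, 2] p = path g [3, 9, 1, 8, 1] p :=
  (congrArg (g 5 • ·) (f8846 H).symm).trans (f7355 H)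

theorem f8873 : path g [8, 1, 4, 2, 8] p = path g [3, 9, 1, 8, 1] p :=
  (f7325 H).symm.trans (f8872 H)

theorem f8874 : path g [3, 9, 1, 8, 1] p = path g [8, 1, 4, 2, 8] p :=
  (f8873 H).symm

theorem f8875 : g 6 • path g [8, 1, 4, 2, 8] p = path g [3, 9, 1, 8] p :=
  (congrArg (g 6 • ·) (f8874 H).symm).trans (f4664 H)

theorem f8877 : g 1 • path g [3, 9, 1, 8] p = path g [8, 1, 4, 2, 8] p :=
  H.back (i := 6) (by decide) (f8875 H)

theorem f8878 : g 1 • path g [8, 1, 4, 2, 8] p = path g [3, 9, 1, 8, 6] p :=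
  (congrArg (g 1 • ·) (f8874 H).symm).trans (f4665 H)

theorem f8880 : g 6 • path g [3, 9, 1, 8, 6] p = path g [8, 1, 4, 2, 8] p :=
  H.back (i := 1) (by decide) (f8878 H)

theorem f8881 : g 9 • path g [8, 1, 4, 2, 8] p = path g [3, 1, 3, 1] p :=
  (congrArg (g 9 • ·) (f8874 H).symm).trans (f4667 H)

theorem f8883 : g 4 • path g [3, 1, 3, 1] p = path g [8, 1, 4, 2, 8] p :=
  H.back (i := 9) (by decide) (f8881 H)

theorem f8884 : g 4 • path g [8, 1, 4, 2, 8] p = path g [3, 1, 3, 9, 1] p :=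
  (congrArg (g 4 • ·) (f8874 H).symm).trans (f4935 H)

theorem f8889 : g 7 • path g [8, 1, 4, 2, 8] p = path g [4, 8, 1, 8, 6] p :=
  (congrArg (g 7 • ·) (f8874 H).symm).trans (f5143 H)

theorem f8890 : path g [9, 8, 2, 8, 6, 8] p = path g [4, 8, 1, 8, 6] p :=
  (f5554 H).symm.trans (f8889 H)

theorem f8897 : g 3 • path g [4, 8, 1, 8, 6] p = path g [9, 8, 2, 8, 6] p :=
  (congrArg (g 3 • ·) (f8890 H).symm).trans (f5551 H)

theorem f8901 : g 7 • path g [4, 8, 1, 8, 6] p = path g [8, 1, 4, 2, 8] p :=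
  (f5139 H).trans (f8874 H)

theorem f8904 : g 2 • path g [4, 8, 1, 8, 6] p = path g [8, 1, 4, 2, 8] p :=
  (f5144 H).trans (f8874 H)

theorem f8906 : g 8 • path g [4, 8, 1, 8, 6] p = path g [3, 9, 1, 3, 2] p :=
  (congrArg (g 8 • ·) (f8890 H).symm).trans (f7348 H)

theorem f8908 : g 3 • path g [3, 9, 1, 3, 2] p = path g [4, 8, 1, 8, 6] p :=
  H.back (i := 8) (by decide) (f8906 H)

theorem f8909 : g 5 • path g [4, 8, 1, 8, 6] p = path g [8, 1, 4, 2, 3] p :=
  (congrArg (g 5 • ·) (f8890 H).symm).trans (f7336 H)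

theorem f8911 : g 0 • path g [8, 1, 4, 2, 3] p = path g [4, 8, 1, 8, 6] p :=
  H.back (i := 5) (by decide) (f8909 H)

theorem f8912 : g 0 • path g [4, 8, 1, 8, 6] p = path g [8, 1, 4, 2, 3] p :=
  (congrArg (g 0 • ·) (f8890 H).symm).trans (f7339 H)

theorem f8914 : g 5 • path g [8, 1, 4, 2, 3] p = path g [4, 8, 1, 8, 6] p :=
  H.back (i := 0) (by decide) (f8912 H)

theorem f8922 : g 4 • path g [3, 1, 8, 1] p = path g [9, 8, 1, 3, 2] p :=
  (f4894 H).trans (f8846 H)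

theorem f8927 : g 6 • path g [9, 2, 3, 2, 9] p = path g [4, 8, 1, 3, 2] p :=
  scan (u := [2, 1, 0, 2, 1, 0]) (w := [2, 0, 6, 2, 0]) (i := 6) (r5_0_4 H) (step (f8137 H) (step (f8179 H) (step (f6772 H) (step (f8191 H) (step (f4983 H) (step (f3479 H) rfl)))))) (step (H.back (i := 7) (by decide) (f5158 H)) (step (H.back (i := 5) (by decide) (f8703 H)) (step (H.back (i := 1) (by decide) (f7459 H)) (step (H.back (i := 7) (by decide) (f3992 H)) (step (H.back (i := 5) (by decide) (f8141 H)) rfl)))))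

theorem f8928 : g 1 • path g [4, 8, 1, 3, 2] p = path g [9, 2, 3, 2, 9] p :=
  H.back (i := 6) (by decide) (f8927 H)

theorem f8929 : path g [9, 8, 2, 6, 8, 6] p = path g [4, 8, 2, 9, 2] p :=
  close (u := [2, 1, 0, 6]) (w := [2, 0, 6, 2, 0, 2, 1, 0]) (r5_0_7 H) (step (f8137 H) (step (f8179 H) (step (f6772 H) (step (f5704 H) rfl)))) (step (H.back (i := 7) (by decide) (f4981 H)) (step (H.back (i := 5) (by decide) (f3478 H)) (step (H.back (i := 1) (by decide) (f8928 H)) (step (H.back (i := 7) (by decide) (f5158 H)) (step (H.back (i := 5) (by decide) (f8703 H)) (step (H.back (i := 7) (by decide) (f8111 H)) (step (H.back (i := 6) (by decide) (f8114 H)) (step (H.back (i := 5) (by decide) (f8141 H)) rfl))))))))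

theorem f8930 : g 1 • path g [4, 8, 2, 9, 2] p = path g [9, 8, 2, 6, 8] p :=
  (congrArg (g 1 • ·) (f8929 H).symm).trans (f5705 H)

theorem f8932 : g 6 • path g [9, 8, 2, 6, 8] p = path g [4, 8, 2, 9, 2] p :=
  H.back (i := 1) (by decide) (f8930 H)

theorem f8933 : g 6 • path g [4, 8, 2, 9, 2] p = path g [9, 8, 2, 6, 8, 1] p :=
  (congrArg (g 6 • ·) (f8929 H).symm).trans (f5709 H)

theorem f8935 : g 1 • path g [9, 8, 2, 6, 8, 1] p = path g [4, 8, 2, 9, 2] p :=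
  H.back (i := 6) (by decide) (f8933 H)

theorem f8936 : g 4 • path g [9, 8, 1, 8, 2] p = path g [9, 2, 8, 2, 6] p :=
  (f5058 H).trans (f8455 H)

theorem f8938 : g 4 • path g [9, 8, 1, 8, 5] p = path g [9, 8, 2, 4, 8, 6] p :=
  (f7714 H).trans (f8359 H)

theorem f8940 : g 3 • path g [9, 8, 2, 9, 6] p = path g [9, 8, 2, 6, 8] p :=
  (f5482 H).trans (f8810 H)

theorem f8941 : g 0 • path g [4, 8, 1, 3] p = path g [9, 2, 9, 8, 6] p :=
  (f5162 H).trans (f8698 H)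

theorem f8942 : g 4 • path g [8, 1, 8, 1] p = path g [9, 2, 8, 6, 8] p :=
  (f4363 H).trans (f8275 H)

theorem f8945 : g 7 • path g [9, 8, 2, 6, 8, 1] p = path g [4, 8, 2, 9, 1] p :=
  scan (u := [6]) (w := [6, 7]) (i := 7) (r3_1_1 H) (step (f8933 H) rfl) (step (H.back (i := 1) (by decide) (f4990 H)) (step (H.back (i := 2) (by decide) (f4980 H)) rfl))

theorem f8946 : g 2 • path g [4, 8, 2, 9, 1] p = path g [9, 8, 2, 6, 8, 1] p :=
  H.back (i := 7) (by decide) (f8945 H)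

theorem f8947 : g 7 • path g [4, 8, 2, 9, 1] p = path g [9, 8, 2, 6, 8, 1] p :=
  scan (u := [7]) (w := []) (i := 7) (r2_1_0 H) (step (f8945 H) rfl) rfl

theorem f8948 : g 2 • path g [9, 8, 2, 6, 8, 1] p = path g [4, 8, 2, 9, 1] p :=
  H.back (i := 7) (by decide) (f8947 H)

theorem f8949 : g 1 • path g [8, 1, 3, 9] p = path g [8, 9, 1, 3, 2] p :=
  (f4393 H).trans (f8106 H)

theorem f8950 : g 2 • path g [3, 1, 8, 4] p = path g [9, 8, 1, 3, 1] p :=
  (f4902 H).trans (f8850 H)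

theorem f8951 : path g [9, 8, 1, 3, 1, 3] p = path g [9, 8, 2, 9, 5, 6] p :=
  close (u := [7, 6, 5, 7, 5, 8, 2, 3]) (w := [6, 5]) (r7_0_4 H) (step (f8947 H) (step (f5707 H) (step (f6774 H) (step (f4251 H) (step (f6759 H) (step (f1152 H) (step (f8950 H) (step (f7428 H) rfl)))))))) (step (H.back (i := 1) (by decide) (f5470 H)) (step (H.back (i := 0) (by decide) (f5476 H)) rfl))

theorem f8952 : g 8 • path g [9, 8, 2, 9, 5, 6] p = path g [9, 8, 1, 3, 1] p :=
  (congrArg (g 8 • ·) (f8951 H).symm).trans (f7429 H)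

theorem f8954 : g 3 • path g [9, 8, 1, 3, 1] p = path g [9, 8, 2, 9, 5, 6] p :=
  H.back (i := 8) (by decide) (f8952 H)

theorem f8955 : g 3 • path g [9, 8, 2, 9, 5, 6] p = path g [9, 8, 1, 3, 1, 8] p :=
  (congrArg (g 3 • ·) (f8951 H).symm).trans (f7430 H)

theorem f8957 : g 8 • path g [9, 8, 1, 3, 1, 8] p = path g [9, 8, 2, 9, 5, 6] p :=
  H.back (i := 3) (by decide) (f8955 H)

theorem f8959 : path g [8, 9, 2, 6, 5] p = path g [9, 8, 1, 3, 1, 8] p :=
  close (u := [7, 6, 5, 7, 5, 3, 1, 0, 2, 0, 1, 0]) (w := [8, 6, 5]) (r9_1_6 H) (step (f8947 H) (step (f5707 H) (step (f6774 H) (step (f4251 H) (step (f6759 H) (step (f2927 H) (step (f5624 H) (step (f5317 H) (step (f5318 H) (step (f3890 H) (step (f666 H) (step (f3862 H) rfl)))))))))))) (step (H.back (i := 3) (by decide) (f8955 H)) (step (H.back (i := 1) (by decide) (f5470 H)) (step (H.back (i := 0) (by decide) (f5476 H)) rfl)))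

theorem f8960 : path g [9, 8, 1, 3, 1, 8] p = path g [8, 9, 2, 6, 5] p :=
  (f8959 H).symm

theorem f8961 : g 3 • path g [8, 9, 2, 6, 5] p = path g [9, 8, 1, 3, 1] p :=
  (congrArg (g 3 • ·) (f8960 H).symm).trans (f6207 H)

theorem f8964 : g 9 • path g [8, 9, 2, 6, 5] p = path g [3, 1, 8, 1, 3] p :=
  (congrArg (g 9 • ·) (f8960 H).symm).trans (f6208 H)

theorem f8966 : g 4 • path g [3, 1, 8, 1, 3] p = path g [8, 9, 2, 6, 5] p :=
  H.back (i := 9) (by decide) (f8964 H)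

theorem f8967 : g 8 • path g [8, 9, 2, 6, 5] p = path g [9, 8, 2, 9, 5, 6] p :=
  (congrArg (g 8 • ·) (f8960 H).symm).trans (f8957 H)

theorem f8969 : g 3 • path g [9, 8, 2, 9, 5, 6] p = path g [8, 9, 2, 6, 5] p :=
  H.back (i := 8) (by decide) (f8967 H)

theorem f8971 : g 4 • path g [9, 2, 9, 8, 2] p = path g [8, 1, 3, 6] p :=
  (f7460 H).trans (f8153 H)

theorem f8972 : g 3 • path g [3, 1, 3, 9, 1] p = path g [4, 8, 2, 8, 6] p :=
  scan (u := [8, 2]) (w := [6, 5, 7, 6, 5, 7, 5]) (i := 3) (r7_0_9 H) (step (f8967 H) (step (f6250 H) rfl)) (step (H.back (i := 1) (by decide) (f5009 H)) (step (H.back (i := 0) (by decide) (f4575 H)) (step (H.back (i := 2) (by decide) (f968 H)) (step (H.back (i := 1) (by decide) (f282 H)) (step (H.back (i := 0) (by decide) (f3407 H)) (step (H.back (i := 2) (by decide) (f663 H)) (step (H.back (i := 0) (by decide) (f3860 H)) rfl)))))))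

theorem f8973 : g 8 • path g [4, 8, 2, 8, 6] p = path g [3, 1, 3, 9, 1] p :=
  H.back (i := 3) (by decide) (f8972 H)

theorem f8974 : g 0 • path g [9, 8, 2, 9, 5, 6] p = path g [4, 8, 1, 3, 2] p :=
  scan (u := [8]) (w := [2, 0, 2, 3, 5, 6, 7, 5, 6]) (i := 0) (r8_0_9 H) (step (f8967 H) rfl) (step (H.back (i := 7) (by decide) (f5158 H)) (step (H.back (i := 5) (by decide) (f8703 H)) (step (H.back (i := 7) (by decide) (f8111 H)) (step (H.back (i := 8) (by decide) (f7260 H)) (step (H.back (i := 0) (by decide) (f3509 H)) (step (H.back (i := 1) (by decide) (f3513 H)) (step (H.back (i := 2) (by decide) (f3566 H)) (step (H.back (i := 0) (by decide) (f3572 H)) (step (H.back (i := 1) (by decide) (f3869 H)) rfl)))))))))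

theorem f8975 : g 5 • path g [4, 8, 1, 3, 2] p = path g [9, 8, 2, 9, 5, 6] p :=
  H.back (i := 0) (by decide) (f8974 H)

theorem f8976 : g 0 • path g [9, 2, 9, 8, 2] p = path g [3, 1, 3, 9, 6] p :=
  (f7439 H).trans (f8160 H)

theorem f8978 : g 0 • path g [4, 8, 1, 3, 2] p = path g [9, 8, 2, 9, 5, 6] p :=
  scan (u := [0]) (w := []) (i := 0) (r0_0_0 H) (step (f8974 H) rfl) rfl

theorem f8979 : g 5 • path g [9, 8, 2, 9, 5, 6] p = path g [4, 8, 1, 3, 2] p :=
  H.back (i := 0) (by decide) (f8978 H)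

theorem f8980 : g 4 • path g [4, 8, 1, 3, 2] p = path g [9, 2, 3, 2, 6] p :=
  scan (u := [0]) (w := [5, 9]) (i := 4) (r13_0_2 H) (step (f8974 H) rfl) (step (H.back (i := 0) (by decide) (f3491 H)) (step (H.back (i := 4) (by decide) (f5466 H)) rfl))

theorem f8982 : g 9 • path g [4, 8, 1, 3, 2] p = path g [4, 8, 6, 8, 6] p :=
  scan (u := [0]) (w := [5, 4]) (i := 9) (r13_1_3 H) (step (f8974 H) rfl) (step (H.back (i := 0) (by decide) (f5582 H)) (step (H.back (i := 9) (by decide) (f5579 H)) rfl))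

theorem f8983 : g 4 • path g [4, 8, 6, 8, 6] p = path g [4, 8, 1, 3, 2] p :=
  H.back (i := 9) (by decide) (f8982 H)

theorem f8984 : g 6 • path g [4, 8, 1, 3, 2] p = path g [9, 8, 2, 9, 1, 5] p :=
  scan (u := [0]) (w := [6, 0, 1, 0, 1]) (i := 6) (r4_0_0 H) (step (f8974 H) rfl) (step (H.back (i := 1) (by decide) (f5499 H)) (step (H.back (i := 5) (by decide) (f3477 H)) (step (H.back (i := 6) (by decide) (f4991 H)) (step (H.back (i := 5) (by decide) (f5477 H)) (step (H.back (i := 6) (by decide) (f5471 H)) rfl)))))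

theorem f8985 : g 1 • path g [9, 8, 2, 9, 1, 5] p = path g [4, 8, 1, 3, 2] p :=
  H.back (i := 6) (by decide) (f8984 H)

theorem f8986 : g 7 • path g [3, 1, 8, 4] p = path g [9, 8, 1, 3, 1] p :=
  (f4905 H).trans (f8850 H)

theorem f8988 : g 2 • path g [9, 2, 9, 8, 6] p = path g [8, 1, 3, 9] p :=
  (f7457 H).trans (f8096 H)

theorem f8989 : g 8 • path g [4, 8, 1, 3, 2] p = path g [9, 2, 3, 2, 6] p :=
  scan (u := [0]) (w := [7, 5, 7, 5, 3, 1, 0, 2, 1]) (i := 8) (r8_1_6 H) (step (f8974 H) rfl) (step (H.back (i := 2) (by decide) (f3487 H)) (step (H.back (i := 0) (by decide) (f3509 H)) (step (H.back (i := 2) (by decide) (f5279 H)) (step (H.back (i := 0) (by decide) (f5271 H)) (step (H.back (i := 8) (by decide) (f5265 H)) (step (H.back (i := 6) (by decide) (f7449 H)) (step (H.back (i := 5) (by decide) (f8165 H)) (step (H.back (i := 7) (by decide) (f7220 H)) (step (H.back (i := 6) (by decide) (f5471 H)) rfl)))))))))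

theorem f8990 : g 3 • path g [9, 2, 3, 2, 6] p = path g [4, 8, 1, 3, 2] p :=
  H.back (i := 8) (by decide) (f8989 H)

theorem f8991 : g 2 • path g [4, 2, 5, 8, 4] p = path g [4, 2, 5, 8, 4] p :=
  scan (u := [0, 6, 2, 0]) (w := [1, 0, 2, 1, 0, 6, 2]) (i := 2) (r5_0_0 H) (step (f8974 H) (step (f8984 H) (step (f8578 H) (step (f8565 H) rfl)))) (step (H.back (i := 6) (by decide) (f7650 H)) (step (H.back (i := 5) (by decide) (f3995 H)) (step (H.back (i := 7) (by decide) (f3992 H)) (step (H.back (i := 6) (by decide) (f7449 H)) (step (H.back (i := 5) (by decide) (f8165 H)) (step (H.back (i := 1) (by decide) (f4930 H)) (step (H.back (i := 7) (by decide) (f6247 H)) rfl)))))))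

theorem f8992 : g 7 • path g [4, 2, 5, 8, 4] p = path g [4, 2, 5, 8, 4] p :=
  H.back (i := 2) (by decide) (f8991 H)

theorem f8993 : g 6 • path g [9, 3, 5, 2, 4] p = path g [9, 8, 2, 9, 2, 5] p :=
  scan (u := [0, 1, 2, 0, 1, 3, 5]) (w := [5, 7, 5, 6, 8, 0, 2]) (i := 6) (r9_0_6 H) (step (f8974 H) (step (f8928 H) (step (f7666 H) (step (f4674 H) (step (f4683 H) (step (f8471 H) (step (f4478 H) rfl))))))) (step (H.back (i := 0) (by decide) (f5429 H)) (step (H.back (i := 2) (by decide) (f1356 H)) (step (H.back (i := 0) (by decide) (f1361 H)) (step (H.back (i := 1) (by decide) (f5465 H)) (step (H.back (i := 3) (by decide) (f8954 H)) (step (H.back (i := 5) (by decide) (f6237 H)) (step (H.back (i := 7) (by decide) (f6247 H)) rfl)))))))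

theorem f8994 : g 1 • path g [9, 8, 2, 9, 2, 5] p = path g [9, 3, 5, 2, 4] p :=
  H.back (i := 6) (by decide) (f8993 H)

theorem f8995 : g 5 • path g [9, 3, 1, 8] p = path g [9, 2, 3, 9, 6] p :=
  (f3782 H).trans (f8639 H)

theorem f8996 : g 4 • path g [4, 8, 2, 8, 6] p = path g [8, 1, 4, 2, 3] p :=
  scan (u := [0, 4, 5, 7, 5, 7, 5, 7, 5, 7]) (w := [2, 0, 2, 0, 2, 0, 2]) (i := 4) (r11_0_4 H) (step (f8974 H) (step (f8980 H) (step (f3490 H) (step (f3362 H) (step (f3357 H) (step (f3395 H) (step (f3301 H) (step (f5629 H) (step (f8512 H) (step (f8517 H) rfl)))))))))) (step (H.back (i := 7) (by decide) (f8659 H)) (step (H.back (i := 5) (by decide) (f8995 H)) (step (H.back (i := 7) (by decide) (f3702 H)) (step (H.back (i := 5) (by decide) (f6968 H)) (step (H.back (i := 7) (by decide) (f8855 H)) (step (H.back (i := 5) (by decide) (f6237 H)) (step (H.back (i := 7) (by decide) (f6247 H)) rfl)))))))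

theorem f8998 : g 7 • path g [9, 8, 2, 4, 8] p = path g [3, 9, 2, 1, 5] p :=
  (f5821 H).trans (f8535 H)

theorem f8999 : g 2 • path g [9, 8, 2, 4, 8] p = path g [3, 9, 2, 1, 5] p :=
  (f5818 H).trans (f8535 H)

theorem f9000 : g 0 • path g [9, 8, 2, 4, 8] p = path g [9, 2, 3, 6] p :=
  (f5825 H).trans (f8665 H)

theorem f9001 : g 2 • path g [8, 1, 4, 2, 8] p = path g [4, 8, 1, 8, 6] p :=
  (f5553 H).trans (f8890 H)

theorem f9002 : g 0 • path g [9, 3, 1, 8] p = path g [9, 2, 3, 9, 6] p :=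
  (f3785 H).trans (f8639 H)

theorem f9003 : g 6 • path g [8, 1, 4, 2, 3] p = path g [9, 2, 3, 9, 2] p :=
  scan (u := [4]) (w := [9, 1]) (i := 6) (r14_0_1 H) (step (f8996 H) rfl) (step (H.back (i := 4) (by decide) (f7702 H)) (step (H.back (i := 6) (by decide) (f5008 H)) rfl))

theorem f9004 : g 1 • path g [9, 2, 3, 9, 2] p = path g [8, 1, 4, 2, 3] p :=
  H.back (i := 6) (by decide) (f9003 H)

theorem f9005 : g 1 • path g [8, 1, 4, 2, 3] p = path g [8, 1, 4, 8, 2] p :=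
  scan (u := [4]) (w := [9, 6]) (i := 1) (r14_1_0 H) (step (f8996 H) rfl) (step (H.back (i := 4) (by decide) (f4476 H)) (step (H.back (i := 1) (by decide) (f5007 H)) rfl))

theorem f9008 : g 1 • path g [3, 9, 2, 1, 4] p = path g [9, 8, 2, 9, 2] p :=
  (f4599 H).trans (f8225 H)

theorem f9009 : g 4 • path g [9, 8, 2, 9, 2] p = path g [9, 3, 6, 3, 6] p :=
  (f5448 H).trans (f8238 H)

theorem f9010 : g 1 • path g [9, 8, 1, 8, 5] p = path g [9, 3, 1, 8] p :=
  (f6084 H).trans (f8629 H)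

theorem f9011 : g 6 • path g [4, 8, 1, 3] p = path g [3, 9, 1, 3, 5] p :=
  (f5165 H).trans (f8572 H)

theorem f9012 : g 6 • path g [8, 9, 2, 6, 8] p = path g [9, 8, 2, 5, 6, 8] p :=
  scan (u := [1, 2, 0, 1, 3, 5, 6, 5, 7, 5]) (w := [8, 0, 2, 0]) (i := 6) (r9_0_7 H) (step (f9005 H) (step (f4472 H) (step (f4485 H) (step (f8495 H) (step (f8183 H) (step (f8703 H) (step (f9011 H) (step (f4675 H) (step (f4672 H) (step (f7671 H) rfl)))))))))) (step (H.back (i := 3) (by decide) (f7703 H)) (step (H.back (i := 5) (by decide) (f7326 H)) (step (H.back (i := 7) (by decide) (f8901 H)) (step (H.back (i := 5) (by decide) (f8914 H)) rfl))))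

theorem f9013 : g 1 • path g [9, 8, 2, 5, 6, 8] p = path g [8, 9, 2, 6, 8] p :=
  H.back (i := 6) (by decide) (f9012 H)

theorem f9014 : g 1 • path g [3, 1, 8, 4] p = path g [9, 8, 1, 3, 2] p :=
  (f4899 H).trans (f8846 H)

theorem f9018 : g 2 • path g [8, 9, 1, 8, 1] p = path g [9, 8, 1, 8, 5] p :=
  (f3977 H).trans (f8339 H)

theorem f9019 : g 9 • path g [9, 8, 2, 9, 2, 5] p = path g [9, 3, 5, 2, 6] p :=
  scan (u := [6]) (w := [1, 4]) (i := 9) (r14_0_2 H) (step (f8993 H) rfl) (step (H.back (i := 6) (by decide) (f3693 H)) (step (H.back (i := 9) (by decide) (f3720 H)) rfl))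

theorem f9020 : g 4 • path g [9, 3, 5, 2, 6] p = path g [9, 8, 2, 9, 2, 5] p :=
  H.back (i := 9) (by decide) (f9019 H)

theorem f9022 : g 1 • path g [4, 8, 1, 3, 1] p = path g [3, 9, 1, 3, 5] p :=
  (f5171 H).trans (f8572 H)

theorem f9023 : g 3 • path g [9, 8, 2, 9, 1, 5] p = path g [9, 2, 9, 5, 2, 5] p :=
  scan (u := [2, 0, 2]) (w := [5, 6, 7, 5, 6, 8, 0]) (i := 3) (r8_0_0 H) (step (f8991 H) (step (f8570 H) (step (f8579 H) rfl))) (step (H.back (i := 0) (by decide) (f7598 H)) (step (H.back (i := 1) (by decide) (f7604 H)) (step (H.back (i := 2) (by decide) (f7606 H)) (step (H.back (i := 0) (by decide) (f3015 H)) (step (H.back (i := 1) (by decide) (f3009 H)) (step (H.back (i := 3) (by decide) (f8558 H)) (step (H.back (i := 5) (by decide) (f8567 H)) rfl)))))))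

theorem f9024 : g 8 • path g [9, 2, 9, 5, 2, 5] p = path g [9, 8, 2, 9, 1, 5] p :=
  H.back (i := 3) (by decide) (f9023 H)

theorem f9025 : g 5 • path g [9, 2, 9, 8, 2] p = path g [3, 1, 3, 9, 6] p :=
  (f7436 H).trans (f8160 H)

theorem f9026 : g 5 • path g [9, 8, 2, 4, 8] p = path g [9, 2, 3, 6] p :=
  (f5822 H).trans (f8665 H)

theorem f9028 : path g [9, 2, 9, 2, 5, 1] p = path g [9, 2, 9, 5, 1] p :=
  close (u := [3, 0, 2, 0, 1, 2, 0, 1]) (w := [8, 7]) (r7_1_0 H) (step (f9023 H) (step (f7596 H) (step (f2995 H) (step (f453 H) (step (f124 H) (step (f446 H) (step (f2978 H) (step (f7543 H) rfl)))))))) (step (H.back (i := 3) (by decide) (f8558 H)) (step (H.back (i := 2) (by decide) (f8578 H)) rfl))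

theorem f9035 : g 5 • path g [9, 2, 9, 5, 1] p = path g [9, 2, 9, 2, 5, 6] p :=
  (congrArg (g 5 • ·) (f9028 H).symm).trans (f7550 H)

theorem f9036 : path g [9, 2, 9, 5, 6] p = path g [9, 2, 9, 2, 5, 6] p :=
  (f3016 H).symm.trans (f9035 H)

theorem f9037 : path g [9, 2, 9, 2, 5, 6] p = path g [9, 2, 9, 5, 6] p :=
  (f9036 H).symm

theorem f9038 : g 1 • path g [9, 2, 9, 5, 6] p = path g [9, 2, 9, 2, 5] p :=
  (congrArg (g 1 • ·) (f9037 H).symm).trans (f7542 H)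

theorem f9039 : path g [9, 2, 9, 5] p = path g [9, 2, 9, 2, 5] p :=
  (f3002 H).symm.trans (f9038 H)

theorem f9049 : path g [9, 2, 9, 2, 5] p = path g [9, 2, 9, 5] p :=
  (f9039 H).symm

theorem f9070 : g 4 • path g [9, 2, 9, 5] p = path g [9, 2, 9, 2, 5, 4] p :=
  (congrArg (g 4 • ·) (f9049 H).symm).trans (f7551 H)

theorem f9071 : path g [9, 2, 5] p = path g [9, 2, 9, 2, 5, 4] p :=
  (f456 H).symm.trans (f9070 H)

theorem f9072 : path g [9, 2, 9, 2, 5, 4] p = path g [9, 2, 5] p :=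
  (f9071 H).symm

theorem f9080 : g 0 • path g [9, 2, 5] p = path g [9, 2, 9, 2, 4] p :=
  (congrArg (g 0 • ·) (f9072 H).symm).trans (f7557 H)

theorem f9081 : path g [9, 2] p = path g [9, 2, 9, 2, 4] p :=
  (f129 H).symm.trans (f9080 H)

theorem f9082 : path g [9, 2, 9, 2, 4] p = path g [9, 2] p :=
  (f9081 H).symm

theorem f9101 : g 8 • path g [9, 2] p = path g [9, 2, 9, 2, 4, 8] p :=
  (congrArg (g 8 • ·) (f9082 H).symm).trans (f7579 H)

theorem f9102 : path g [9, 2, 8] p = path g [9, 2, 9, 2, 4, 8] p :=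
  (f126 H).symm.trans (f9101 H)

theorem f9120 : path g [9, 2, 9, 2, 4, 8] p = path g [9, 2, 8] p :=
  (f9102 H).symm

theorem f9126 : g 9 • path g [9, 2, 8] p = path g [9, 2, 9, 2, 9, 3] p :=
  (congrArg (g 9 • ·) (f9120 H).symm).trans (f7583 H)

theorem f9127 : path g [9, 2, 8, 9] p = path g [9, 2, 9, 2, 9, 3] p :=
  (f462 H).symm.trans (f9126 H)

theorem f9128 : path g [9, 2, 9, 2, 9, 3] p = path g [9, 2, 8, 9] p :=
  (f9127 H).symm

theorem f9131 : g 3 • path g [9, 2, 8, 9] p = path g [9, 2, 9, 2, 9, 8] p :=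
  (congrArg (g 3 • ·) (f9128 H).symm).trans (f7507 H)

theorem f9132 : path g [9, 2, 4, 8] p = path g [9, 2, 9, 2, 9, 8] p :=
  (f545 H).symm.trans (f9131 H)

theorem f9136 : path g [9, 2, 9, 2, 9, 8] p = path g [9, 2, 4, 8] p :=
  (f9132 H).symm

theorem f9144 : g 4 • path g [9, 2, 4, 8] p = path g [9, 2, 9, 2, 3, 9] p :=
  (congrArg (g 4 • ·) (f9136 H).symm).trans (f7562 H)

theorem f9145 : path g [9, 2, 9, 3, 9] p = path g [9, 2, 9, 2, 3, 9] p :=
  (f3020 H).symm.trans (f9144 H)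

theorem f9146 : path g [9, 2, 9, 2, 3, 9] p = path g [9, 2, 9, 3, 9] p :=
  (f9145 H).symm

theorem f9152 : g 8 • path g [9, 2, 9, 3, 9] p = path g [9, 2, 9, 2, 8, 4] p :=
  (congrArg (g 8 • ·) (f9146 H).symm).trans (f7563 H)

theorem f9153 : path g [9, 2, 3, 9] p = path g [9, 2, 9, 2, 8, 4] p :=
  (f3021 H).symm.trans (f9152 H)

theorem f9154 : path g [9, 2, 9, 2, 8, 4] p = path g [9, 2, 3, 9] p :=
  (f9153 H).symm

theorem f9157 : g 4 • path g [9, 2, 3, 9] p = path g [9, 2, 9, 2, 8, 9] p :=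
  (congrArg (g 4 • ·) (f9154 H).symm).trans (f7529 H)

theorem f9158 : path g [9, 2, 3] p = path g [9, 2, 9, 2, 8, 9] p :=
  (f523 H).symm.trans (f9157 H)

theorem f9162 : path g [9, 2, 9, 2, 8, 9] p = path g [9, 2, 3] p :=
  (f9158 H).symm

theorem f9163 : g 4 • path g [9, 2, 3] p = path g [9, 2, 9, 2, 8] p :=
  (congrArg (g 4 • ·) (f9162 H).symm).trans (f7510 H)

theorem f9164 : path g [9, 2, 9, 8] p = path g [9, 2, 9, 2, 8] p :=
  (f445 H).symm.trans (f9163 H)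

theorem f9174 : path g [9, 2, 9, 2, 8] p = path g [9, 2, 9, 8] p :=
  (f9164 H).symm

theorem f9177 : g 8 • path g [9, 2, 9, 8] p = path g [9, 2, 9, 2, 3] p :=
  (congrArg (g 8 • ·) (f9174 H).symm).trans (f2982 H)

theorem f9178 : path g [9, 2, 9, 3] p = path g [9, 2, 9, 2, 3] p :=
  (f461 H).symm.trans (f9177 H)

theorem f9224 : path g [9, 2, 9, 2, 3] p = path g [9, 2, 9, 3] p :=
  (f9178 H).symm

theorem f9225 : g 8 • path g [9, 2, 9, 3] p = path g [9, 2, 9, 2] p :=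
  (congrArg (g 8 • ·) (f9224 H).symm).trans (f2980 H)

theorem f9226 : path g [9, 2, 9] p = path g [9, 2, 9, 2] p :=
  (f459 H).symm.trans (f9225 H)

theorem f9275 : path g [9, 2, 9, 2] p = path g [9, 2, 9] p :=
  (f9226 H).symm

theorem f9280 : g 2 • path g [9, 2, 9] p = path g [9, 2, 9] p :=
  (f446 H).trans (f9275 H)

theorem f9378 : path g [9, 2, 3, 9, 2] p = path g [9, 2, 9, 3, 2, 3] p :=
  close (u := [6, 5, 7, 5]) (w := [8, 2, 3, 6, 5, 7]) (r7_0_5 H) (step (f8984 H) (step (f5492 H) (step (f8231 H) (step (f7704 H) rfl)))) (step (H.back (i := 3) (by decide) (f7812 H)) (step (H.back (i := 7) (by decide) (f3028 H)) (step (H.back (i := 8) (by decide) (f461 H)) (step (H.back (i := 1) (by decide) (f2960 H)) (step (H.back (i := 0) (by decide) (f8941 H)) (step (H.back (i := 2) (by decide) (f5157 H)) rfl))))))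

theorem f9379 : path g [9, 2, 9, 3, 2, 3] p = path g [9, 2, 3, 9, 2] p :=
  (f9378 H).symm

theorem f9380 : g 8 • path g [9, 2, 3, 9, 2] p = path g [9, 2, 9, 3, 2] p :=
  (congrArg (g 8 • ·) (f9379 H).symm).trans (f7813 H)

theorem f9382 : g 3 • path g [9, 2, 9, 3, 2] p = path g [9, 2, 3, 9, 2] p :=
  H.back (i := 8) (by decide) (f9380 H)

theorem f9383 : g 3 • path g [9, 2, 3, 9, 2] p = path g [9, 2, 9, 3, 2, 8] p :=
  (congrArg (g 3 • ·) (f9379 H).symm).trans (f7814 H)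

theorem f9385 : g 8 • path g [9, 2, 9, 3, 2, 8] p = path g [9, 2, 3, 9, 2] p :=
  H.back (i := 3) (by decide) (f9383 H)

theorem f9389 : g 4 • path g [9, 8, 1, 3, 2] p = path g [9, 8, 1, 3, 1] p :=
  (f6168 H).trans (f8863 H)

theorem f9391 : g 1 • path g [9, 8, 1, 8] p = path g [9, 8, 1, 8, 2] p :=
  (f2917 H).trans (f8381 H)

theorem f9392 : g 0 • path g [3, 1, 8, 1, 3] p = path g [8, 9, 2, 9, 6] p :=
  scan (u := [9]) (w := [4, 5]) (i := 0) (r13_0_1 H) (step (f8964 H) rfl) (step (H.back (i := 9) (by decide) (f3824 H)) (step (H.back (i := 0) (by decide) (f3860 H)) rfl))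

theorem f9393 : g 5 • path g [8, 9, 2, 9, 6] p = path g [3, 1, 8, 1, 3] p :=
  H.back (i := 0) (by decide) (f9392 H)

theorem f9394 : g 5 • path g [3, 1, 8, 1, 3] p = path g [8, 9, 2, 9, 6] p :=
  scan (u := [9]) (w := [4, 0]) (i := 5) (r13_1_0 H) (step (f8964 H) rfl) (step (H.back (i := 9) (by decide) (f3824 H)) (step (H.back (i := 5) (by decide) (f3861 H)) rfl))

theorem f9395 : g 0 • path g [8, 9, 2, 9, 6] p = path g [3, 1, 8, 1, 3] p :=
  H.back (i := 5) (by decide) (f9394 H)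

theorem f9396 : g 1 • path g [3, 1, 8, 1, 3] p = path g [4, 8, 5, 2, 9] p :=
  scan (u := [9]) (w := [4, 6]) (i := 1) (r14_0_3 H) (step (f8964 H) rfl) (step (H.back (i := 9) (by decide) (f5063 H)) (step (H.back (i := 1) (by decide) (f3869 H)) rfl))

theorem f9397 : g 6 • path g [4, 8, 5, 2, 9] p = path g [3, 1, 8, 1, 3] p :=
  H.back (i := 1) (by decide) (f9396 H)

theorem f9398 : g 8 • path g [4, 8, 2, 9, 2] p = path g [4, 8, 2, 8, 6] p :=
  scan (u := [3, 5, 6, 5, 7, 5, 6]) (w := [0, 2, 0, 1, 2, 0, 1]) (i := 8) (r9_0_11 H) (step (f8961 H) (step (f6236 H) (step (f4929 H) (step (f7183 H) (step (f4253 H) (step (f6775 H) (step (f8932 H) rfl))))))) (step (H.back (i := 5) (by decide) (f5011 H)) (step (H.back (i := 7) (by decide) (f7373 H)) (step (H.back (i := 5) (by decide) (f7369 H)) (step (H.back (i := 6) (by decide) (f3636 H)) (step (H.back (i := 7) (by decide) (f3631 H)) (step (H.back (i := 5) (by decide) (f5071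 H)) (step (H.back (i := 6) (by decide) (f5068 H)) rfl)))))))

theorem f9399 : g 3 • path g [4, 8, 2, 8, 6] p = path g [4, 8, 2, 9, 2] p :=
  H.back (i := 8) (by decide) (f9398 H)

theorem f9400 : g 8 • path g [3, 1, 3, 9, 1] p = path g [4, 8, 2, 9, 2] p :=
  scan (u := [8, 8]) (w := []) (i := 8) (r6_1_0 H) (step (f9398 H) (step (f8973 H) rfl)) rfl

theorem f9401 : g 3 • path g [4, 8, 2, 9, 2] p = path g [3, 1, 3, 9, 1] p :=
  H.back (i := 8) (by decide) (f9400 H)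

theorem f9404 : g 9 • path g [4, 8, 2, 9, 2] p = path g [3, 1, 3, 1, 3] p :=
  scan (u := [8]) (w := [8, 9]) (i := 9) (r15_1_0 H) (step (f9400 H) rfl) (step (H.back (i := 3) (by decide) (f4974 H)) (step (H.back (i := 4) (by decide) (f4932 H)) rfl))

theorem f9405 : g 4 • path g [3, 1, 3, 1, 3] p = path g [4, 8, 2, 9, 2] p :=
  H.back (i := 9) (by decide) (f9404 H)

theorem f9406 : g 1 • path g [3, 1, 3, 1, 3] p = path g [9, 8, 2, 6, 8, 9] p :=
  scan (u := [9]) (w := [4, 6]) (i := 1) (r14_0_3 H) (step (f9404 H) rfl) (step (H.back (i := 9) (by decide) (f5610 H)) (step (H.back (i := 1) (by decide) (f8930 H)) rfl))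

theorem f9408 : path g [4, 8, 2, 6, 3] p = path g [8, 9, 1, 8, 1] p :=
  close (u := [0, 8, 7, 5, 7, 5, 3]) (w := [1, 0, 2, 1]) (r8_1_6 H) (step (f8912 H) (step (f4511 H) (step (f921 H) (step (f2498 H) (step (f384 H) (step (f1751 H) (step (f5021 H) rfl))))))) (step (H.back (i := 6) (by decide) (f3976 H)) (step (H.back (i := 5) (by decide) (f4659 H)) (step (H.back (i := 7) (by decide) (f5154 H)) (step (H.back (i := 6) (by decide) (f5148 H)) rfl))))

theorem f9409 : g 8 • path g [8, 9, 1, 8, 1] p = path g [4, 8, 2, 6] p :=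
  (congrArg (g 8 • ·) (f9408 H).symm).trans (f5022 H)

theorem f9411 : g 3 • path g [4, 8, 2, 6] p = path g [8, 9, 1, 8, 1] p :=
  H.back (i := 8) (by decide) (f9409 H)

theorem f9412 : g 3 • path g [8, 9, 1, 8, 1] p = path g [4, 8, 2, 6, 8] p :=
  (congrArg (g 3 • ·) (f9408 H).symm).trans (f5023 H)

theorem f9414 : g 8 • path g [4, 8, 2, 6, 8] p = path g [8, 9, 1, 8, 1] p :=
  H.back (i := 3) (by decide) (f9412 H)

theorem f9415 : g 4 • path g [4, 8, 2, 6, 8] p = path g [8, 1, 3, 1, 8] p :=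
  scan (u := [3]) (w := [3, 4]) (i := 4) (r15_0_1 H) (step (f9412 H) rfl) (step (H.back (i := 8) (by decide) (f4458 H)) (step (H.back (i := 9) (by decide) (f3979 H)) rfl))

theorem f9416 : g 9 • path g [8, 1, 3, 1, 8] p = path g [4, 8, 2, 6, 8] p :=
  H.back (i := 4) (by decide) (f9415 H)

theorem f9417 : g 0 • path g [9, 2, 8, 6, 8] p = path g [8, 9, 1, 8, 1] p :=
  (f6054 H).trans (f8335 H)

theorem f9418 : g 6 • path g [3, 1, 8, 6, 4] p = path g [9, 8, 1, 3, 2] p :=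
  (f4901 H).trans (f8846 H)

theorem f9419 : g 1 • path g [9, 2, 8, 6, 8] p = path g [8, 1, 8, 6, 4] p :=
  (f7939 H).trans (f8331 H)

theorem f9420 : path g [3, 1, 3, 1, 8] p = path g [8, 1, 4, 2, 4] p :=
  close (u := [9, 8]) (w := [9, 8]) (r15_1_1 H) (step (f8881 H) (step (f4970 H) rfl)) (step (H.back (i := 4) (by decide) (f4514 H)) (step (H.back (i := 3) (by decide) (f4509 H)) rfl))

theorem f9421 : g 3 • path g [8, 1, 4, 2, 4] p = path g [3, 1, 3, 1] p :=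
  (congrArg (g 3 • ·) (f9420 H).symm).trans (f4971 H)

theorem f9424 : g 2 • path g [3, 1, 3, 1, 8] p = path g [8, 1, 4, 2, 4] p :=
  (f4972 H).trans (f9420 H)

theorem f9425 : g 2 • path g [8, 1, 4, 2, 4] p = path g [8, 1, 4, 2, 4] p :=
  (congrArg (g 2 • ·) (f9420 H).symm).trans (f9424 H)

theorem f9426 : g 7 • path g [8, 1, 4, 2, 4] p = path g [8, 1, 4, 2, 4] p :=
  H.back (i := 2) (by decide) (f9425 H)

theorem f9430 : g 8 • path g [8, 1, 4, 2, 4] p = path g [3, 1, 3, 1, 3] p :=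
  (congrArg (g 8 • ·) (f9420 H).symm).trans (f4977 H)

theorem f9432 : g 3 • path g [3, 1, 3, 1, 3] p = path g [8, 1, 4, 2, 4] p :=
  H.back (i := 8) (by decide) (f9430 H)

theorem f9433 : path g [8, 4, 2, 4, 2] p = path g [8, 6, 4, 2, 4] p :=
  close (u := [2, 1, 2]) (w := [1]) (r3_0_1 H) (step (f9425 H) (step (f4524 H) (step (f4554 H) rfl))) (step (H.back (i := 6) (by decide) (f4522 H)) rfl)

theorem f9434 : g 7 • path g [8, 6, 4, 2, 4] p = path g [8, 4, 2, 4] p :=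
  (congrArg (g 7 • ·) (f9433 H).symm).trans (f4555 H)

theorem f9436 : g 2 • path g [8, 4, 2, 4] p = path g [8, 6, 4, 2, 4] p :=
  H.back (i := 7) (by decide) (f9434 H)

theorem f9437 : g 2 • path g [8, 6, 4, 2, 4] p = path g [8, 4, 2, 4] p :=
  (congrArg (g 2 • ·) (f9433 H).symm).trans (f4556 H)

theorem f9440 : g 7 • path g [9, 3, 2, 4, 8] p = path g [9, 3, 2, 4, 8] p :=
  scan (u := [2, 0, 1, 8]) (w := [3, 0, 2, 0, 1]) (i := 7) (r7_1_5 H) (step (f9425 H) (step (f4520 H) (step (f3651 H) (step (f3679 H) rfl)))) (step (H.back (i := 8) (by decide) (f3679 H)) (step (H.back (i := 5) (by decide) (f3252 H)) (step (H.back (i := 7) (by decide) (f8313 H)) (step (H.back (i := 5) (by decide) (f4244 H)) (step (H.back (i := 6) (by decide) (f4522 H)) rfl)))))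

theorem f9441 : g 2 • path g [9, 3, 2, 4, 8] p = path g [9, 3, 2, 4, 8] p :=
  H.back (i := 7) (by decide) (f9440 H)

theorem f9442 : g 0 • path g [4, 2, 8, 9, 2] p = path g [9, 3, 2, 4, 2] p :=
  scan (u := [2, 0, 9, 5, 7, 5, 7, 5, 7, 5, 7, 9, 2]) (w := [2, 0, 2, 0]) (i := 0) (r11_1_10 H) (step (f9437 H) (step (f4551 H) (step (f4547 H) (step (f934 H) (step (f257 H) (step (f2578 H) (step (f105 H) (step (f372 H) (step (f2838 H) (step (f3210 H) (step (f1464 H) (step (f1266 H) (step (f5239 H) rfl))))))))))))) (step (H.back (i := 7) (by decide) (f3688 H)) (step (H.back (i := 5) (by decide) (f3252 H)) (step (H.back (i := 7) (by decide) (f8313 H)) (step (H.back (i := 5) (by decide) (f4244 H)) rfl))))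

theorem f9444 : g 0 • path g [9, 3, 2, 4, 2] p = path g [4, 2, 8, 9, 2] p :=
  scan (u := [0]) (w := []) (i := 0) (r0_0_0 H) (step (f9442 H) rfl) rfl

theorem f9445 : g 5 • path g [4, 2, 8, 9, 2] p = path g [9, 3, 2, 4, 2] p :=
  H.back (i := 0) (by decide) (f9444 H)

theorem f9446 : g 6 • path g [9, 2, 9, 5, 2, 5] p = path g [8, 9, 2, 9, 3] p :=
  scan (u := [0, 2, 3, 5, 6, 7, 5]) (w := [8, 0, 2]) (i := 6) (r8_0_1 H) (step (f9442 H) (step (f3687 H) (step (f3005 H) (step (f3014 H) (step (f3008 H) (step (f2996 H) (step (f7595 H) rfl))))))) (step (H.back (i := 3) (by decide) (f3817 H)) (step (H.back (i := 5) (by decide) (f3810 H)) (step (H.back (i := 7) (by decide) (f5240 H)) rfl)))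

theorem f9447 : g 1 • path g [8, 9, 2, 9, 3] p = path g [9, 2, 9, 5, 2, 5] p :=
  H.back (i := 6) (by decide) (f9446 H)

theorem f9448 : path g [8, 9, 2, 9, 1] p = path g [8, 9, 2, 9, 2] p :=
  close (u := [0, 2, 0, 2, 0, 9, 5, 7, 5, 7, 5, 7, 5, 7, 9]) (w := [2, 0, 2]) (r11_1_7 H) (step (f9442 H) (step (f3687 H) (step (f3251 H) (step (f8315 H) (step (f4245 H) (step (f4241 H) (step (f3071 H) (step (f3287 H) (step (f5315 H) (step (f5312 H) (step (f3891 H) (step (f671 H) (step (f179 H) (step (f669 H) (step (f3830 H) rfl))))))))))))))) (step (H.back (i := 7) (by decide) (f3801 H)) (step (H.back (i := 5) (by decide) (f3810 H)) (step (H.back (i := 7) (by decide) (f5240 H)) rfl)))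

theorem f9449 : g 6 • path g [8, 9, 2, 9, 2] p = path g [8, 9, 2, 9] p :=
  (congrArg (g 6 • ·) (f9448 H).symm).trans (f3826 H)

theorem f9451 : g 1 • path g [8, 9, 2, 9] p = path g [8, 9, 2, 9, 2] p :=
  H.back (i := 6) (by decide) (f9449 H)

theorem f9452 : g 1 • path g [8, 9, 2, 9, 2] p = path g [8, 9, 2, 9, 6] p :=
  (congrArg (g 1 • ·) (f9448 H).symm).trans (f3827 H)

theorem f9455 : g 4 • path g [8, 9, 2, 9, 2] p = path g [8, 9, 2, 1] p :=
  (congrArg (g 4 • ·) (f9448 H).symm).trans (f3829 H)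

theorem f9457 : g 9 • path g [8, 9, 2, 1] p = path g [8, 9, 2, 9, 2] p :=
  H.back (i := 4) (by decide) (f9455 H)

theorem f9458 : g 9 • path g [8, 9, 2, 9, 2] p = path g [8, 9, 2, 1, 4] p :=
  (congrArg (g 9 • ·) (f9448 H).symm).trans (f3902 H)

theorem f9460 : g 4 • path g [8, 9, 2, 1, 4] p = path g [8, 9, 2, 9, 2] p :=
  H.back (i := 9) (by decide) (f9458 H)

theorem f9461 : g 2 • path g [8, 9, 2, 9, 6] p = path g [8, 9, 2, 9, 6] p :=
  scan (u := [1]) (w := [1, 2]) (i := 2) (r3_0_0 H) (step (f9452 H) rfl) (step (H.back (i := 6) (by decide) (f3821 H)) (step (H.back (i := 7) (by decide) (f3799 H)) rfl))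

theorem f9462 : g 7 • path g [8, 9, 2, 9, 6] p = path g [8, 9, 2, 9, 6] p :=
  H.back (i := 2) (by decide) (f9461 H)

theorem f9463 : path g [8, 1, 3, 1, 3] p = path g [4, 2, 8, 9, 6] p :=
  close (u := [1, 0, 8, 7, 5, 7, 5, 3]) (w := [1, 0, 2]) (r8_1_5 H) (step (f9452 H) (step (f9395 H) (step (f4891 H) (step (f1143 H) (step (f4326 H) (step (f887 H) (step (f7196 H) (step (f4466 H) rfl)))))))) (step (H.back (i := 6) (by decide) (f5243 H)) (step (H.back (i := 5) (by decide) (f3809 H)) (step (H.back (i := 7) (by decide) (f3799 H)) rfl)))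

theorem f9464 : path g [4, 2, 8, 9, 6] p = path g [8, 1, 3, 1, 3] p :=
  (f9463 H).symm

theorem f9465 : g 1 • path g [8, 1, 3, 1, 3] p = path g [4, 2, 8, 9] p :=
  (congrArg (g 1 • ·) (f9464 H).symm).trans (f5244 H)

theorem f9467 : g 6 • path g [4, 2, 8, 9] p = path g [8, 1, 3, 1, 3] p :=
  H.back (i := 1) (by decide) (f9465 H)

theorem f9468 : g 4 • path g [8, 1, 3, 1, 3] p = path g [4, 2, 8, 6] p :=
  (congrArg (g 4 • ·) (f9464 H).symm).trans (f5245 H)

theorem f9471 : g 6 • path g [8, 1, 3, 1, 3] p = path g [4, 2, 8, 9, 1] p :=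
  (congrArg (g 6 • ·) (f9464 H).symm).trans (f5250 H)

theorem f9473 : g 1 • path g [4, 2, 8, 9, 1] p = path g [8, 1, 3, 1, 3] p :=
  H.back (i := 6) (by decide) (f9471 H)

theorem f9474 : g 9 • path g [8, 1, 3, 1, 3] p = path g [4, 2, 8, 6, 4] p :=
  (congrArg (g 9 • ·) (f9464 H).symm).trans (f5283 H)

theorem f9476 : g 4 • path g [4, 2, 8, 6, 4] p = path g [8, 1, 3, 1, 3] p :=
  H.back (i := 9) (by decide) (f9474 H)

theorem f9477 : g 6 • path g [4, 2, 4, 8, 5] p = path g [9, 3, 2, 6, 3] p :=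
  scan (u := [0, 2, 3, 5]) (w := [7, 5, 6, 8, 0, 2]) (i := 6) (r8_0_1 H) (step (f9444 H) (step (f5241 H) (step (f1343 H) (step (f5386 H) rfl)))) (step (H.back (i := 2) (by decide) (f7759 H)) (step (H.back (i := 0) (by decide) (f4485 H)) (step (H.back (i := 1) (by decide) (f7303 H)) (step (H.back (i := 3) (by decide) (f527 H)) (step (H.back (i := 5) (by decide) (f3250 H)) (step (H.back (i := 7) (by decide) (f3686 H)) rfl))))))

theorem f9478 : g 1 • path g [9, 3, 2, 6, 3] p = path g [4, 2, 4, 8, 5] p :=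
  H.back (i := 6) (by decide) (f9477 H)

theorem f9479 : g 6 • path g [3, 9, 2, 6, 3] p = path g [4, 2, 4, 8, 5] p :=
  scan (u := [6, 6]) (w := []) (i := 6) (r1_1_0 H) (step (f9477 H) (step (f8182 H) rfl)) rfl

theorem f9480 : g 1 • path g [4, 2, 4, 8, 5] p = path g [3, 9, 2, 6, 3] p :=
  H.back (i := 6) (by decide) (f9479 H)

theorem f9481 : g 7 • path g [4, 2, 5, 8, 9] p = path g [4, 2, 4, 8, 5] p :=
  scan (u := [6, 7, 6]) (w := []) (i := 7) (r3_1_1 H) (step (f9477 H) (step (f7760 H) (step (f7651 H) rfl))) rfl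

theorem f9482 : g 2 • path g [4, 2, 4, 8, 5] p = path g [4, 2, 5, 8, 9] p :=
  H.back (i := 7) (by decide) (f9481 H)

theorem f9483 : path g [9, 8, 2, 6, 8, 1] p = path g [4, 2, 4, 8] p :=
  close (u := [6, 6, 0, 1, 0, 1]) (w := [0]) (r4_0_1 H) (step (f9477 H) (step (f8182 H) (step (f7963 H) (step (f8179 H) (step (f6772 H) (step (f5706 H) rfl)))))) (step (H.back (i := 5) (by decide) (f5388 H)) rfl)

theorem f9486 : g 1 • path g [4, 2, 4, 8] p = path g [4, 8, 2, 9, 2] p :=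
  (congrArg (g 1 • ·) (f9483 H).symm).trans (f8935 H)

theorem f9487 : path g [4, 2, 4, 8, 1] p = path g [4, 8, 2, 9, 2] p :=
  (f5396 H).symm.trans (f9486 H)

theorem f9490 : g 2 • path g [4, 2, 4, 8] p = path g [4, 8, 2, 9, 1] p :=
  (congrArg (g 2 • ·) (f9483 H).symm).trans (f8948 H)

theorem f9491 : path g [4, 2, 4, 8, 2] p = path g [4, 8, 2, 9, 1] p :=
  (f5382 H).symm.trans (f9490 H)

theorem f9496 : g 2 • path g [4, 8, 2, 9, 1] p = path g [4, 2, 4, 8] p :=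
  (f8946 H).trans (f9483 H)

theorem f9499 : g 6 • path g [4, 8, 2, 9, 2] p = path g [4, 2, 4, 8] p :=
  (f8933 H).trans (f9483 H)

theorem f9503 : g 9 • path g [4, 8, 2, 9, 2] p = path g [4, 2, 9, 3, 1] p :=
  (congrArg (g 9 • ·) (f9487 H).symm).trans (f5400 H)

theorem f9504 : path g [3, 1, 3, 1, 3] p = path g [4, 2, 9, 3, 1] p :=
  (f9404 H).symm.trans (f9503 H)

theorem f9505 : path g [4, 2, 9, 3, 1] p = path g [3, 1, 3, 1, 3] p :=
  (f9504 H).symm

theorem f9506 : g 6 • path g [3, 1, 3, 1, 3] p = path g [4, 2, 9, 3] p :=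
  (congrArg (g 6 • ·) (f9505 H).symm).trans (f5236 H)

theorem f9508 : g 1 • path g [4, 2, 9, 3] p = path g [3, 1, 3, 1, 3] p :=
  H.back (i := 6) (by decide) (f9506 H)

theorem f9509 : g 1 • path g [3, 1, 3, 1, 3] p = path g [4, 2, 9, 3, 6] p :=
  (congrArg (g 1 • ·) (f9505 H).symm).trans (f5237 H)

theorem f9510 : path g [9, 8, 2, 6, 8, 9] p = path g [4, 2, 9, 3, 6] p :=
  (f9406 H).symm.trans (f9509 H)

theorem f9514 : g 4 • path g [4, 2, 9, 3, 6] p = path g [9, 8, 2, 6, 8] p :=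
  (congrArg (g 4 • ·) (f9510 H).symm).trans (f5611 H)

theorem f9515 : path g [4, 2, 4, 8, 6] p = path g [9, 8, 2, 6, 8] p :=
  (f5395 H).symm.trans (f9514 H)

theorem f9516 : g 8 • path g [4, 2, 9, 3, 6] p = path g [9, 8, 2, 6, 4] p :=
  (congrArg (g 8 • ·) (f9510 H).symm).trans (f5612 H)

theorem f9519 : g 9 • path g [4, 2, 9, 3, 6] p = path g [9, 8, 2, 6, 8, 4] p :=
  (congrArg (g 9 • ·) (f9510 H).symm).trans (f5713 H)

theorem f9522 : g 3 • path g [4, 2, 9, 3, 6] p = path g [9, 8, 2, 6, 8, 4] p :=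
  (congrArg (g 3 • ·) (f9510 H).symm).trans (f8807 H)

theorem f9526 : g 6 • path g [4, 2, 9, 3, 6] p = path g [3, 1, 3, 1, 3] p :=
  (f5238 H).trans (f9505 H)

theorem f9529 : g 1 • path g [9, 8, 2, 6, 8] p = path g [4, 2, 4, 8] p :=
  (f5706 H).trans (f9483 H)

theorem f9537 : g 6 • path g [4, 2, 4, 8] p = path g [9, 8, 2, 6, 8] p :=
  (f5392 H).trans (f9515 H)

theorem f9538 : g 1 • path g [4, 2, 4, 8] p = path g [4, 8, 2, 9, 2] p :=
  (f5396 H).trans (f9487 H)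

theorem f9539 : g 2 • path g [4, 2, 4, 8] p = path g [4, 8, 2, 9, 1] p :=
  (f5382 H).trans (f9491 H)

theorem f9542 : g 1 • path g [9, 8, 2, 6, 8, 4] p = path g [4, 2, 9, 3, 9] p :=
  scan (u := [9]) (w := [4, 6]) (i := 1) (r14_0_3 H) (step (f9519 H) rfl) (step (H.back (i := 9) (by decide) (f5217 H)) (step (H.back (i := 1) (by decide) (f5234 H)) rfl))

theorem f9543 : g 6 • path g [4, 2, 9, 3, 9] p = path g [9, 8, 2, 6, 8, 4] p :=
  H.back (i := 1) (by decide) (f9542 H)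

theorem f9544 : g 4 • path g [4, 2, 9, 3, 6] p = path g [9, 8, 2, 6, 8] p :=
  (f5395 H).trans (f9515 H)

theorem f9545 : g 1 • path g [3, 1, 3, 1, 3] p = path g [4, 2, 9, 3, 6] p :=
  (f9406 H).trans (f9510 H)

theorem f9546 : g 7 • path g [4, 2, 4, 8, 5] p = path g [4, 2, 5, 8, 9] p :=
  scan (u := [7]) (w := []) (i := 7) (r2_1_0 H) (step (f9481 H) rfl) rfl

theorem f9547 : g 2 • path g [4, 2, 5, 8, 9] p = path g [4, 2, 4, 8, 5] p :=
  H.back (i := 7) (by decide) (f9546 H)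

theorem f9548 : g 3 • path g [4, 2, 8, 9, 2] p = path g [8, 1, 8, 6, 4] p :=
  scan (u := [7, 5, 8, 2]) (w := [6, 5, 7, 6, 5]) (i := 3) (r7_0_7 H) (step (f9481 H) (step (f5388 H) (step (f1342 H) (step (f5239 H) rfl)))) (step (H.back (i := 1) (by decide) (f9419 H)) (step (H.back (i := 0) (by decide) (f8341 H)) (step (H.back (i := 2) (by decide) (f8354 H)) (step (H.back (i := 1) (by decide) (f8599 H)) (step (H.back (i := 0) (by decide) (f8607 H)) rfl)))))

theorem f9549 : g 8 • path g [8, 1, 8, 6, 4] p = path g [4, 2, 8, 9, 2] p :=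
  H.back (i := 3) (by decide) (f9548 H)

theorem f9550 : g 4 • path g [9, 3, 1, 8, 1] p = path g [9, 2, 5, 1, 3] p :=
  (f5843 H).trans (f8604 H)

theorem f9551 : g 6 • path g [8, 1, 3, 9] p = path g [9, 2, 9, 8, 2] p :=
  (f4387 H).trans (f8146 H)

theorem f9552 : g 0 • path g [9, 2, 9, 8, 2, 8] p = path g [8, 9, 2, 9, 2] p :=
  scan (u := [3, 5, 6, 7, 5, 6, 8]) (w := [2, 0, 2]) (i := 0) (r8_0_3 H) (step (f9548 H) (step (f4883 H) (step (f9418 H) (step (f2930 H) (step (f7226 H) (step (f9551 H) (step (f7434 H) rfl))))))) (step (H.back (i := 7) (by decide) (f3801 H)) (step (H.back (i := 5) (by decide) (f3810 H)) (step (H.back (i := 7) (by decide) (f5240 H)) rfl)))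

theorem f9553 : g 5 • path g [8, 9, 2, 9, 2] p = path g [9, 2, 9, 8, 2, 8] p :=
  H.back (i := 0) (by decide) (f9552 H)

theorem f9554 : g 0 • path g [4, 8, 1, 8, 1] p = path g [9, 2, 8, 1, 8, 9] p :=
  scan (u := [3, 1, 0, 2, 1]) (w := [8, 7, 5, 7, 5]) (i := 0) (r8_1_1 H) (step (f9548 H) (step (f4349 H) (step (f6744 H) (step (f3872 H) (step (f5145 H) rfl))))) (step (H.back (i := 3) (by decide) (f7996 H)) (step (H.back (i := 2) (by decide) (f8315 H)) (step (H.back (i := 0) (by decide) (f3251 H)) (step (H.back (i := 2) (by decide) (f3687 H)) (step (H.back (i := 0) (by decide) (f9442 H)) rfl)))))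

theorem f9556 : path g [9, 2, 9, 3, 2, 6] p = path g [9, 3, 2, 4] p :=
  close (u := [3, 1, 0, 2, 0, 1, 0, 8, 6]) (w := [5, 7, 6, 5, 7, 5]) (r9_1_11 H) (step (f9548 H) (step (f4349 H) (step (f6744 H) (step (f3872 H) (step (f3769 H) (step (f4598 H) (step (f7706 H) (step (f9380 H) (step (f7816 H) rfl))))))))) (step (H.back (i := 0) (by decide) (f3249 H)) (step (H.back (i := 2) (by decide) (f8316 H)) (step (H.back (i := 1) (by decide) (f3326 H)) (step (H.back (i := 0) (by decide) (f3251 H)) (step (H.back (i := 2) (by decide) (f3687 H)) (step (H.back (i := 0) (by decide) (f9442 H)) rfl))))))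

theorem f9561 : g 2 • path g [9, 3, 2, 4] p = path g [9, 2, 9, 3, 1] p :=
  (congrArg (g 2 • ·) (f9556 H).symm).trans (f7821 H)

theorem f9562 : path g [9, 3, 2, 4, 2] p = path g [9, 2, 9, 3, 1] p :=
  (f3685 H).symm.trans (f9561 H)

theorem f9563 : g 6 • path g [9, 3, 2, 4] p = path g [9, 2, 9, 3, 2, 1] p :=
  (congrArg (g 6 • ·) (f9556 H).symm).trans (f7825 H)

theorem f9564 : path g [9, 3, 2, 6, 4] p = path g [9, 2, 9, 3, 2, 1] p :=
  (f3652 H).symm.trans (f9563 H)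

theorem f9565 : path g [9, 2, 9, 3, 2, 1] p = path g [9, 3, 2, 6, 4] p :=
  (f9564 H).symm

theorem f9566 : g 6 • path g [9, 3, 2, 6, 4] p = path g [9, 2, 9, 3, 2] p :=
  (congrArg (g 6 • ·) (f9565 H).symm).trans (f7823 H)

theorem f9567 : path g [9, 3, 2, 1, 4] p = path g [9, 2, 9, 3, 2] p :=
  (f3678 H).symm.trans (f9566 H)

theorem f9571 : g 2 • path g [9, 3, 2, 6, 4] p = path g [9, 2, 9, 3, 6] p :=
  (congrArg (g 2 • ·) (f9565 H).symm).trans (f7826 H)

theorem f9574 : g 7 • path g [9, 3, 2, 6, 4] p = path g [9, 2, 9, 3, 6] p :=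
  (congrArg (g 7 • ·) (f9565 H).symm).trans (f7829 H)

theorem f9576 : g 2 • path g [9, 2, 9, 3, 6] p = path g [9, 3, 2, 6, 4] p :=
  H.back (i := 7) (by decide) (f9574 H)

theorem f9579 : g 4 • path g [9, 2, 9, 3, 2] p = path g [9, 3, 2, 9, 1] p :=
  (congrArg (g 4 • ·) (f9567 H).symm).trans (f3673 H)

theorem f9580 : path g [9, 2, 9, 3, 2, 4] p = path g [9, 3, 2, 9, 1] p :=
  (f7830 H).symm.trans (f9579 H)

theorem f9582 : g 6 • path g [9, 2, 9, 3, 2] p = path g [9, 3, 2, 4] p :=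
  (f7816 H).trans (f9556 H)

theorem f9585 : g 1 • path g [9, 2, 9, 3, 2] p = path g [9, 3, 2, 6, 4] p :=
  (f7822 H).trans (f9565 H)

theorem f9588 : g 9 • path g [9, 3, 2, 9, 1] p = path g [9, 2, 9, 3, 2] p :=
  (f3674 H).trans (f9567 H)

theorem f9590 : g 4 • path g [9, 3, 2, 9, 1] p = path g [9, 2, 9, 3, 2, 9] p :=
  (congrArg (g 4 • ·) (f9580 H).symm).trans (f7832 H)

theorem f9591 : path g [9, 3, 2, 1] p = path g [9, 2, 9, 3, 2, 9] p :=
  (f3611 H).symm.trans (f9590 H)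

theorem f9592 : path g [9, 2, 9, 3, 2, 9] p = path g [9, 3, 2, 1] p :=
  (f9591 H).symm

theorem f9594 : g 4 • path g [9, 3, 2, 1] p = path g [9, 2, 9, 3, 2] p :=
  (f3671 H).trans (f9567 H)

theorem f9600 : g 7 • path g [9, 2, 9, 3, 1] p = path g [9, 3, 2, 4] p :=
  (f7820 H).trans (f9556 H)

theorem f9603 : g 2 • path g [9, 2, 9, 3, 1] p = path g [9, 3, 2, 4] p :=
  (f7819 H).trans (f9556 H)

theorem f9607 : g 0 • path g [9, 2, 9, 3, 1] p = path g [4, 2, 8, 9, 2] p :=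
  (congrArg (g 0 • ·) (f9562 H).symm).trans (f9444 H)

theorem f9608 : path g [9, 2, 9, 3, 1, 5] p = path g [4, 2, 8, 9, 2] p :=
  (f7865 H).symm.trans (f9607 H)

theorem f9610 : g 0 • path g [4, 2, 8, 9, 2] p = path g [9, 2, 9, 3, 1] p :=
  (f9442 H).trans (f9562 H)

theorem f9613 : g 5 • path g [4, 2, 8, 9, 2] p = path g [9, 2, 9, 3, 1] p :=
  (f9445 H).trans (f9562 H)

theorem f9615 : g 1 • path g [9, 3, 2, 4] p = path g [9, 2, 9, 3, 2] p :=
  (f3676 H).trans (f9567 H)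

theorem f9616 : g 5 • path g [9, 2, 9, 3, 1] p = path g [4, 2, 8, 9, 2] p :=
  (f7862 H).trans (f9608 H)

theorem f9617 : path g [9, 2, 9, 8, 5, 2] p = path g [9, 2, 9, 5, 3] p :=
  close (u := [7, 6, 5, 7, 5, 8, 2]) (w := [3, 6, 5]) (r7_0_4 H) (step (f9574 H) (step (f3038 H) (step (f9616 H) (step (f5240 H) (step (f3810 H) (step (f3797 H) (step (f7464 H) rfl))))))) (step (H.back (i := 8) (by decide) (f3283 H)) (step (H.back (i := 1) (by decide) (f4524 H)) (step (H.back (i := 0) (by decide) (f4519 H)) rfl)))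

theorem f9620 : g 2 • path g [9, 2, 9, 5, 3] p = path g [9, 2, 9, 8, 5] p :=
  (congrArg (g 2 • ·) (f9617 H).symm).trans (f7466 H)

theorem f9621 : path g [9, 2, 9, 5, 3, 2] p = path g [9, 2, 9, 8, 5] p :=
  (f7621 H).symm.trans (f9620 H)

theorem f9622 : g 6 • path g [9, 2, 9, 5, 3] p = path g [3, 9, 1, 3, 2] p :=
  (congrArg (g 6 • ·) (f9617 H).symm).trans (f7469 H)

theorem f9623 : path g [9, 2, 9, 5, 3, 6] p = path g [3, 9, 1, 3, 2] p :=
  (f7629 H).symm.trans (f9622 H)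

theorem f9625 : g 1 • path g [3, 9, 1, 3, 2] p = path g [9, 2, 9, 5, 3] p :=
  (f7468 H).trans (f9617 H)

theorem f9627 : g 6 • path g [3, 9, 1, 3, 2] p = path g [9, 2, 9, 5, 3, 1] p :=
  (congrArg (g 6 • ·) (f9623 H).symm).trans (f7634 H)

theorem f9629 : g 1 • path g [9, 2, 9, 5, 3, 1] p = path g [3, 9, 1, 3, 2] p :=
  H.back (i := 6) (by decide) (f9627 H)

theorem f9634 : g 2 • path g [9, 2, 9, 8, 5] p = path g [9, 2, 9, 5, 3] p :=
  (f7464 H).trans (f9617 H)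

theorem f9636 : path g [9, 2, 9, 3, 6, 5] p = path g [8, 1, 3, 6, 8] p :=
  close (u := [7, 5]) (w := [3, 1, 0, 2, 1, 0, 8, 7, 5]) (r8_1_10 H) (step (f9574 H) (step (f7852 H) rfl)) (step (H.back (i := 8) (by decide) (f4417 H)) (step (H.back (i := 6) (by decide) (f908 H)) (step (H.back (i := 5) (by decide) (f6989 H)) (step (H.back (i := 7) (by decide) (f323 H)) (step (H.back (i := 6) (by decide) (f1137 H)) (step (H.back (i := 5) (by decide) (f7198 H)) (step (H.back (i := 3) (by decide) (f9421 H)) (step (H.back (i := 2) (by decide) (f9425 H)) (step (H.back (i := 0) (by decide) (f4519 H)) rfl)))))))))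

theorem f9637 : g 0 • path g [8, 1, 3, 6, 8] p = path g [9, 2, 9, 3, 6] p :=
  (congrArg (g 0 • ·) (f9636 H).symm).trans (f7853 H)

theorem f9639 : g 5 • path g [9, 2, 9, 3, 6] p = path g [8, 1, 3, 6, 8] p :=
  H.back (i := 0) (by decide) (f9637 H)

theorem f9640 : g 5 • path g [8, 1, 3, 6, 8] p = path g [9, 2, 9, 3, 6] p :=
  (congrArg (g 5 • ·) (f9636 H).symm).trans (f7854 H)

theorem f9642 : g 0 • path g [9, 2, 9, 3, 6] p = path g [8, 1, 3, 6, 8] p :=
  H.back (i := 5) (by decide) (f9640 H)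

theorem f9644 : g 2 • path g [9, 3, 2, 4] p = path g [9, 2, 9, 3, 1] p :=
  (f3685 H).trans (f9562 H)

theorem f9645 : g 7 • path g [8, 1, 8, 1, 3] p = path g [8, 1, 3, 6, 3] p :=
  scan (u := [2, 0, 1, 2, 0, 1, 8]) (w := [3, 0]) (i := 7) (r7_1_2 H) (step (f9576 H) (step (f4519 H) (step (f4524 H) (step (f9436 H) (step (f4246 H) (step (f3327 H) (step (f8296 H) rfl))))))) (step (H.back (i := 8) (by decide) (f4457 H)) (step (H.back (i := 5) (by decide) (f9639 H)) rfl))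

theorem f9646 : g 2 • path g [8, 1, 3, 6, 3] p = path g [8, 1, 8, 1, 3] p :=
  H.back (i := 7) (by decide) (f9645 H)

theorem f9647 : g 7 • path g [9, 2, 9, 5, 3] p = path g [9, 2, 9, 8, 5] p :=
  (f7624 H).trans (f9621 H)

theorem f9648 : g 7 • path g [8, 1, 3, 6, 3] p = path g [8, 1, 8, 1, 3] p :=
  scan (u := [7]) (w := []) (i := 7) (r2_1_0 H) (step (f9645 H) rfl) rfl

theorem f9649 : g 2 • path g [8, 1, 8, 1, 3] p = path g [8, 1, 3, 6, 3] p :=
  H.back (i := 7) (by decide) (f9648 H)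

theorem f9650 : g 3 • path g [8, 1, 8, 1, 3] p = path g [9, 2, 8, 6, 4] p :=
  (f4361 H).trans (f8285 H)

theorem f9651 : g 6 • path g [9, 3, 2, 6, 4] p = path g [9, 2, 9, 3, 2] p :=
  (f3678 H).trans (f9567 H)

theorem f9652 : g 6 • path g [9, 2, 9, 5, 3] p = path g [3, 9, 1, 3, 2] p :=
  (f7629 H).trans (f9623 H)

theorem f9653 : g 7 • path g [9, 2, 9, 5, 3, 1] p = path g [3, 9, 1, 3, 1] p :=
  scan (u := [6]) (w := [6, 7]) (i := 7) (r3_1_1 H) (step (f9627 H) rfl) (step (H.back (i := 1) (by decide) (f4683 H)) (step (H.back (i := 2) (by decide) (f4671 H)) rfl))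

theorem f9654 : g 2 • path g [3, 9, 1, 3, 1] p = path g [9, 2, 9, 5, 3, 1] p :=
  H.back (i := 7) (by decide) (f9653 H)

theorem f9655 : g 1 • path g [9, 2, 9, 5, 3, 5] p = path g [8, 9, 2, 6, 3] p :=
  scan (u := [6, 6, 0]) (w := [0, 1, 0]) (i := 1) (r4_0_1 H) (step (f9627 H) (step (f7632 H) (step (f7628 H) rfl))) (step (H.back (i := 5) (by decide) (f7675 H)) (step (H.back (i := 6) (by decide) (f9012 H)) (step (H.back (i := 5) (by decide) (f7671 H)) rfl)))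

theorem f9656 : g 6 • path g [8, 9, 2, 6, 3] p = path g [9, 2, 9, 5, 3, 5] p :=
  H.back (i := 1) (by decide) (f9655 H)

theorem f9657 : g 5 • path g [9, 2, 9, 5, 3, 1] p = path g [4, 8, 2, 6, 8] p :=
  scan (u := [6]) (w := [7, 6, 5, 7, 5, 8, 2, 3]) (i := 5) (r7_0_2 H) (step (f9627 H) rfl) (step (H.back (i := 2) (by decide) (f5020 H)) (step (H.back (i := 1) (by decide) (f8738 H)) (step (H.back (i := 0) (by decide) (f7190 H)) (step (H.back (i := 2) (by decide) (f3865 H)) (step (H.back (i := 0) (by decide) (f3771 H)) (step (H.back (i := 3) (by decide) (f3749 H)) (step (H.back (i := 7) (by decide) (f7366 H)) (step (H.back (i := 8) (by decide) (f7343 H)) rfl))))))))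

theorem f9658 : g 0 • path g [4, 8, 2, 6, 8] p = path g [9, 2, 9, 5, 3, 1] p :=
  H.back (i := 5) (by decide) (f9657 H)

theorem f9659 : g 8 • path g [9, 2, 9, 5, 3, 1] p = path g [4, 2, 8, 6, 5] p :=
  scan (u := [6]) (w := [0, 2, 0, 2, 3, 5, 6, 7, 5]) (i := 8) (r8_0_8 H) (step (f9627 H) rfl) (step (H.back (i := 5) (by decide) (f5268 H)) (step (H.back (i := 7) (by decide) (f3640 H)) (step (H.back (i := 5) (by decide) (f7370 H)) (step (H.back (i := 7) (by decide) (f7366 H)) (step (H.back (i := 8) (by decide) (f7343 H)) (step (H.back (i := 0) (by decide) (f7670 H)) (step (H.back (i := 1) (by decide) (f9013 H)) (step (H.back (i := 2) (by decide) (f5571 H)) (step (H.back (i := 0) (by decide) (f7672 H)) rfl)))))))))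

theorem f9660 : g 3 • path g [4, 2, 8, 6, 5] p = path g [9, 2, 9, 5, 3, 1] p :=
  H.back (i := 8) (by decide) (f9659 H)

theorem f9661 : g 5 • path g [4, 8, 2, 6, 8] p = path g [9, 2, 9, 5, 3, 1] p :=
  scan (u := [8, 2, 3, 6, 5, 7, 6, 5, 7]) (w := []) (i := 5) (r7_0_9 H) (step (f9659 H) (step (f5279 H) (step (f7709 H) (step (f7651 H) (step (f8610 H) (step (f3971 H) (step (f3976 H) (step (f8344 H) (step (f5018 H) rfl))))))))) rfl

theorem f9662 : g 0 • path g [9, 2, 9, 5, 3, 1] p = path g [4, 8, 2, 6, 8] p :=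
  H.back (i := 5) (by decide) (f9661 H)

theorem f9663 : g 6 • path g [8, 1, 8, 4, 2] p = path g [4, 8, 2, 6, 8] p :=
  scan (u := [5, 7, 6, 5, 7, 5, 8, 2, 3]) (w := []) (i := 6) (r7_0_3 H) (step (f9661 H) (step (f9653 H) (step (f4684 H) (step (f4673 H) (step (f7667 H) (step (f3478 H) (step (f1632 H) (step (f3696 H) (step (f7351 H) rfl))))))))) rfl

theorem f9664 : g 1 • path g [4, 8, 2, 6, 8] p = path g [8, 1, 8, 4, 2] p :=
  H.back (i := 6) (by decide) (f9663 H)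

theorem f9665 : path g [9, 2, 9, 5, 2, 3] p = path g [3, 1, 8, 6, 4] p :=
  close (u := [5, 6, 8, 0, 2, 0, 2, 3]) (w := [5, 6, 7]) (r8_0_7 H) (step (f9661 H) (step (f7632 H) (step (f2998 H) (step (f453 H) (step (f9280 H) (step (f455 H) (step (f2993 H) (step (f7599 H) rfl)))))))) (step (H.back (i := 0) (by decide) (f4881 H)) (step (H.back (i := 1) (by decide) (f9419 H)) (step (H.back (i := 2) (by decide) (f5017 H)) rfl)))

theorem f9666 : g 8 • path g [3, 1, 8, 6, 4] p = path g [9, 2, 9, 5, 2] p :=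
  (congrArg (g 8 • ·) (f9665 H).symm).trans (f7600 H)

theorem f9668 : g 3 • path g [9, 2, 9, 5, 2] p = path g [3, 1, 8, 6, 4] p :=
  H.back (i := 8) (by decide) (f9666 H)

theorem f9669 : g 3 • path g [3, 1, 8, 6, 4] p = path g [9, 2, 9, 5, 2, 8] p :=
  (congrArg (g 3 • ·) (f9665 H).symm).trans (f7601 H)

theorem f9672 : g 7 • path g [9, 2, 9, 5, 3, 5] p = path g [9, 2, 8, 1, 8, 9] p :=
  scan (u := [5, 6, 5]) (w := [5, 6, 8, 0, 2, 0, 1, 2, 0, 1, 3]) (i := 7) (r9_0_12 H) (step (f9661 H) (step (f7632 H) (step (f7625 H) rfl))) (step (H.back (i := 0) (by decide) (f9554 H)) (step (H.back (i := 1) (by decide) (f5145 H)) (step (H.back (i := 3) (by decide) (f1242 H)) (step (H.back (i := 5) (by decide) (f8703 H)) (step (H.back (i := 7) (by decide) (f8111 H)) (step (H.back (i := 5) (by decide) (f7226 H)) (step (H.back (i := 6) (by decide) (f2944 H)) (step (H.back (i := 7) (by decide) (f8986 H)) (step (H.back (i := 5) (by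 decide) (f7197 H)) (step (H.back (i := 6) (by decide) (f3974 H)) (step (H.back (i := 8) (by decide) (f9414 H)) rfl)))))))))))

theorem f9673 : g 2 • path g [9, 2, 8, 1, 8, 9] p = path g [9, 2, 9, 5, 3, 5] p :=
  H.back (i := 7) (by decide) (f9672 H)

theorem f9674 : g 7 • path g [9, 2, 8, 1, 8, 9] p = path g [9, 2, 9, 5, 3, 5] p :=
  scan (u := [7]) (w := []) (i := 7) (r2_1_0 H) (step (f9672 H) rfl) rfl

theorem f9675 : g 2 • path g [9, 2, 9, 5, 3, 5] p = path g [9, 2, 8, 1, 8, 9] p :=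
  H.back (i := 7) (by decide) (f9674 H)

theorem f9676 : g 6 • path g [9, 2, 8, 1, 8, 9] p = path g [9, 3, 5, 2, 4] p :=
  scan (u := [7]) (w := [7, 6]) (i := 6) (r3_1_0 H) (step (f9672 H) rfl) (step (H.back (i := 2) (by decide) (f7678 H)) (step (H.back (i := 1) (by decide) (f9655 H)) rfl))

theorem f9677 : g 1 • path g [9, 3, 5, 2, 4] p = path g [9, 2, 8, 1, 8, 9] p :=
  H.back (i := 6) (by decide) (f9676 H)

theorem f9678 : g 2 • path g [9, 2, 9, 5, 3] p = path g [9, 2, 9, 8, 5] p :=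
  (f7621 H).trans (f9621 H)

theorem f9679 : g 1 • path g [9, 2, 8, 1, 8, 9] p = path g [9, 8, 2, 9, 2, 5] p :=
  scan (u := [7]) (w := [5, 6, 7, 5, 6, 7, 5, 7, 1, 5]) (i := 1) (r5_1_0 H) (step (f9672 H) rfl) (step (H.back (i := 0) (by decide) (f5429 H)) (step (H.back (i := 1) (by decide) (f9008 H)) (step (H.back (i := 2) (by decide) (f8228 H)) (step (H.back (i := 0) (by decide) (f5491 H)) (step (H.back (i := 1) (by decide) (f5499 H)) (step (H.back (i := 2) (by decide) (f7664 H)) (step (H.back (i := 0) (by decide) (f4676 H)) (step (H.back (i := 2) (by decide) (f4671 H)) (step (H.back (i := 6) (by decide) (f9652 H)) (step (H.back (i := 0) (by decide) (f7626 H)) rfl))))))))))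

theorem f9681 : path g [4, 8, 6, 3, 2] p = path g [9, 8, 2, 5, 1, 4] p :=
  close (u := [7, 4, 2, 0, 2, 0, 2, 0, 2]) (w := [0, 4, 5, 7, 5, 7, 5, 7, 5]) (r11_0_13 H) (step (f9672 H) (step (f7994 H) (step (f7997 H) (step (f8004 H) (step (f5890 H) (step (f2866 H) (step (f2861 H) (step (f8054 H) (step (f5117 H) rfl))))))))) (step (H.back (i := 5) (by decide) (f5599 H)) (step (H.back (i := 9) (by decide) (f5048 H)) (step (H.back (i := 0) (by decide) (f5474 H)) (step (H.back (i := 2) (by decide) (f7221 H)) (step (H.back (i := 0) (by decide) (f8976 H)) (step (H.back (i := 2) (by decide) (f2949 H)) (step (H.back (i := 0) (by decide) (f2954 H)) (step (H.back (i := 2) (by decide) (f9678 H)) (step (H.back (i := 0) (by decide) (f7626 H)) rfl)))))))))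

theorem f9682 : path g [9, 8, 2, 5, 1, 4] p = path g [4, 8, 6, 3, 2] p :=
  (f9681 H).symm

theorem f9683 : g 9 • path g [4, 8, 6, 3, 2] p = path g [9, 8, 2, 5, 1] p :=
  (congrArg (g 9 • ·) (f9682 H).symm).trans (f5593 H)

theorem f9686 : g 4 • path g [4, 8, 6, 3, 2] p = path g [9, 8, 2, 9, 5, 1] p :=
  (congrArg (g 4 • ·) (f9682 H).symm).trans (f5594 H)

theorem f9689 : g 5 • path g [4, 8, 6, 3, 2] p = path g [4, 8, 2, 1, 4] p :=
  (congrArg (g 5 • ·) (f9682 H).symm).trans (f5596 H)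

theorem f9691 : g 0 • path g [4, 8, 2, 1, 4] p = path g [4, 8, 6, 3, 2] p :=
  H.back (i := 5) (by decide) (f9689 H)

theorem f9692 : g 0 • path g [4, 8, 6, 3, 2] p = path g [4, 8, 2, 1, 4] p :=
  (congrArg (g 0 • ·) (f9682 H).symm).trans (f5598 H)

theorem f9694 : g 5 • path g [4, 8, 2, 1, 4] p = path g [4, 8, 6, 3, 2] p :=
  H.back (i := 0) (by decide) (f9692 H)

theorem f9695 : g 6 • path g [4, 8, 6, 3, 2] p = path g [9, 8, 2, 5, 4] p :=
  (congrArg (g 6 • ·) (f9682 H).symm).trans (f5600 H)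

theorem f9697 : g 1 • path g [9, 8, 2, 5, 4] p = path g [4, 8, 6, 3, 2] p :=
  H.back (i := 6) (by decide) (f9695 H)

theorem f9698 : g 1 • path g [4, 8, 6, 3, 2] p = path g [9, 8, 2, 5, 6, 4] p :=
  (congrArg (g 1 • ·) (f9682 H).symm).trans (f5602 H)

theorem f9701 : g 9 • path g [9, 2, 8, 1, 8, 9] p = path g [9, 3, 5, 2, 1] p :=
  scan (u := [7]) (w := [2, 0, 2, 0, 2, 0, 2, 0, 9, 5, 7, 5, 7, 5, 7, 5]) (i := 9) (r11_1_2 H) (step (f9672 H) rfl) (step (H.back (i := 7) (by decide) (f3712 H)) (step (H.back (i := 5) (by decide) (f1637 H)) (step (H.back (i := 7) (by decide) (f3718 H)) (step (H.back (i := 5) (by decide) (f3716 H)) (step (H.back (i := 7) (by decide) (f5362 H)) (step (H.back (i := 5) (by decide) (f5358 H)) (step (H.back (i := 7) (by decide) (f3399 H)) (step (H.back (i := 5) (by decide) (f1758 H)) (step (H.back (i := 4) (by decide) (f4994 H)) (step (H.back (i := 0) (by decide) (f5474 H)) (step (H.back (i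 := 2) (by decide) (f7221 H)) (step (H.back (i := 0) (by decide) (f8976 H)) (step (H.back (i := 2) (by decide) (f2949 H)) (step (H.back (i := 0) (by decide) (f2954 H)) (step (H.back (i := 2) (by decide) (f9678 H)) (step (H.back (i := 0) (by decide) (f7626 H)) rfl))))))))))))))))

theorem f9702 : g 4 • path g [9, 3, 5, 2, 1] p = path g [9, 2, 8, 1, 8, 9] p :=
  H.back (i := 9) (by decide) (f9701 H)

theorem f9703 : g 9 • path g [9, 3, 5, 2, 1] p = path g [9, 2, 8, 1, 8] p :=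
  scan (u := [9]) (w := [9]) (i := 9) (r10_1_0 H) (step (f9701 H) rfl) (step (H.back (i := 4) (by decide) (f7994 H)) rfl)

theorem f9704 : g 4 • path g [9, 2, 8, 1, 8] p = path g [9, 3, 5, 2, 1] p :=
  H.back (i := 9) (by decide) (f9703 H)

theorem f9705 : g 5 • path g [4, 8, 1, 8, 1] p = path g [9, 2, 8, 1, 8, 9] p :=
  scan (u := [9, 0, 4]) (w := []) (i := 5) (r13_0_1 H) (step (f9701 H) (step (f3715 H) (step (f5152 H) rfl))) rfl

theorem f9706 : g 0 • path g [9, 2, 8, 1, 8, 9] p = path g [4, 8, 1, 8, 1] p :=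
  H.back (i := 5) (by decide) (f9705 H)

theorem f9707 : path g [9, 2, 8, 1, 8, 5] p = path g [9, 8, 2, 8, 9, 1] p :=
  close (u := [5, 4, 0]) (w := [9]) (r13_1_1 H) (step (f9705 H) (step (f7994 H) (step (f8010 H) rfl))) (step (H.back (i := 4) (by decide) (f5521 H)) rfl)

theorem f9708 : g 0 • path g [9, 8, 2, 8, 9, 1] p = path g [9, 2, 8, 1, 8] p :=
  (congrArg (g 0 • ·) (f9707 H).symm).trans (f8008 H)

theorem f9710 : g 5 • path g [9, 2, 8, 1, 8] p = path g [9, 8, 2, 8, 9, 1] p :=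
  H.back (i := 0) (by decide) (f9708 H)

theorem f9711 : g 5 • path g [9, 8, 2, 8, 9, 1] p = path g [9, 2, 8, 1, 8] p :=
  (congrArg (g 5 • ·) (f9707 H).symm).trans (f8009 H)

theorem f9713 : g 0 • path g [9, 2, 8, 1, 8] p = path g [9, 8, 2, 8, 9, 1] p :=
  H.back (i := 5) (by decide) (f9711 H)

theorem f9714 : g 7 • path g [9, 8, 2, 8, 9, 1] p = path g [4, 2, 3, 9, 1] p :=
  (congrArg (g 7 • ·) (f9707 H).symm).trans (f8011 H)

theorem f9716 : g 2 • path g [4, 2, 3, 9, 1] p = path g [9, 8, 2, 8, 9, 1] p :=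
  H.back (i := 7) (by decide) (f9714 H)

theorem f9717 : g 8 • path g [8, 6, 4, 2, 4] p = path g [3, 9, 1, 8, 6] p :=
  scan (u := [5, 7, 5, 3, 1, 0, 2, 1, 0]) (w := [7]) (i := 8) (r8_1_9 H) (step (f9705 H) (step (f9674 H) (step (f7627 H) (step (f3285 H) (step (f4249 H) (step (f4246 H) (step (f8316 H) (step (f3326 H) (step (f4245 H) rfl))))))))) (step (H.back (i := 2) (by decide) (f5149 H)) rfl)

theorem f9718 : g 3 • path g [3, 9, 1, 8, 6] p = path g [8, 6, 4, 2, 4] p :=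
  H.back (i := 8) (by decide) (f9717 H)

theorem f9719 : path g [9, 2, 9, 3, 2, 5] p = path g [9, 2, 9, 5, 2, 8] p :=
  close (u := [5, 7, 5, 3, 1, 0, 2, 0, 1, 0]) (w := [8, 6, 5, 7, 6]) (r9_1_8 H) (step (f9705 H) (step (f9674 H) (step (f7627 H) (step (f3285 H) (step (f4249 H) (step (f4246 H) (step (f8316 H) (step (f3249 H) (step (f9615 H) (step (f7811 H) rfl)))))))))) (step (H.back (i := 3) (by decide) (f9669 H)) (step (H.back (i := 1) (by decide) (f8868 H)) (step (H.back (i := 0) (by decide) (f7323 H)) (step (H.back (i := 2) (by decide) (f8904 H)) (step (H.back (i := 1) (by decide) (f5147 H)) rfl)))))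

theorem f9720 : g 0 • path g [9, 2, 9, 5, 2, 8] p = path g [9, 2, 9, 3, 2] p :=
  (congrArg (g 0 • ·) (f9719 H).symm).trans (f7809 H)

theorem f9722 : g 5 • path g [9, 2, 9, 3, 2] p = path g [9, 2, 9, 5, 2, 8] p :=
  H.back (i := 0) (by decide) (f9720 H)

theorem f9723 : g 5 • path g [9, 2, 9, 5, 2, 8] p = path g [9, 2, 9, 3, 2] p :=
  (congrArg (g 5 • ·) (f9719 H).symm).trans (f7810 H)

theorem f9725 : g 0 • path g [9, 2, 9, 3, 2] p = path g [9, 2, 9, 5, 2, 8] p :=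
  H.back (i := 5) (by decide) (f9723 H)

theorem f9726 : g 9 • path g [9, 2, 9, 3, 2] p = path g [9, 3, 2, 1] p :=
  (f7804 H).trans (f9592 H)

theorem f9727 : g 4 • path g [9, 3, 2, 1, 5] p = path g [9, 2, 9, 5, 2, 8] p :=
  scan (u := [5, 9, 0]) (w := []) (i := 4) (r13_0_0 H) (step (f9723 H) (step (f9726 H) (step (f3658 H) rfl))) rfl

theorem f9729 : g 4 • path g [9, 2, 9, 3, 2] p = path g [9, 3, 2, 9, 1] p :=
  (f7830 H).trans (f9580 H)

theorem f9730 : g 6 • path g [9, 2, 8, 6, 5, 4] p = path g [9, 2, 9, 5, 2, 8] p :=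
  scan (u := [5, 6, 5, 1, 1, 5]) (w := []) (i := 6) (r4_1_1 H) (step (f9723 H) (step (f9582 H) (step (f3250 H) (step (f3326 H) (step (f3327 H) (step (f7978 H) rfl)))))) rfl

theorem f9731 : g 1 • path g [9, 2, 9, 5, 2, 8] p = path g [9, 2, 8, 6, 5, 4] p :=
  H.back (i := 6) (by decide) (f9730 H)

theorem f9732 : g 1 • path g [8, 4, 2, 5, 4] p = path g [9, 2, 9, 5, 2, 8] p :=
  scan (u := [5, 6, 5, 6, 5, 1]) (w := []) (i := 1) (r4_1_6 H) (step (f9723 H) (step (f9582 H) (step (f3250 H) (step (f3314 H) (step (f7978 H) (step (f7979 H) rfl)))))) rfl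

theorem f9734 : g 7 • path g [9, 3, 2, 4] p = path g [9, 2, 9, 3, 1] p :=
  (f3688 H).trans (f9562 H)

theorem f9735 : g 0 • path g [9, 2, 9, 3, 1] p = path g [4, 2, 8, 9, 2] p :=
  (f7865 H).trans (f9608 H)

theorem f9736 : path g [9, 2, 9, 5, 2, 4] p = path g [9, 2, 8, 1, 8, 2] p :=
  close (u := [4, 3, 4]) (w := [3]) (r15_0_0 H) (step (f9727 H) (step (f7594 H) (step (f7617 H) rfl))) (step (H.back (i := 8) (by decide) (f8002 H)) rfl)

theorem f9737 : path g [9, 2, 8, 1, 8, 2] p = path g [9, 2, 9, 5, 2, 4] p :=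
  (f9736 H).symm

theorem f9738 : g 7 • path g [9, 2, 9, 5, 2, 4] p = path g [9, 2, 8, 1, 8] p :=
  (congrArg (g 7 • ·) (f9737 H).symm).trans (f7998 H)

theorem f9740 : g 2 • path g [9, 2, 8, 1, 8] p = path g [9, 2, 9, 5, 2, 4] p :=
  H.back (i := 7) (by decide) (f9738 H)

theorem f9741 : g 2 • path g [9, 2, 9, 5, 2, 4] p = path g [9, 2, 8, 1, 8] p :=
  (congrArg (g 2 • ·) (f9737 H).symm).trans (f7999 H)

theorem f9743 : g 7 • path g [9, 2, 8, 1, 8] p = path g [9, 2, 9, 5, 2, 4] p :=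
  H.back (i := 2) (by decide) (f9741 H)

theorem f9744 : g 3 • path g [9, 2, 9, 5, 2, 4] p = path g [9, 3, 2, 1, 5] p :=
  (congrArg (g 3 • ·) (f9737 H).symm).trans (f8001 H)

theorem f9747 : g 0 • path g [9, 2, 9, 5, 2, 4] p = path g [9, 8, 6, 8, 5, 2] p :=
  (congrArg (g 0 • ·) (f9737 H).symm).trans (f8004 H)

theorem f9749 : g 5 • path g [9, 8, 6, 8, 5, 2] p = path g [9, 2, 9, 5, 2, 4] p :=
  H.back (i := 0) (by decide) (f9747 H)

theorem f9750 : g 5 • path g [9, 2, 9, 5, 2, 4] p = path g [9, 8, 6, 8, 5, 2] p :=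
  (congrArg (g 5 • ·) (f9737 H).symm).trans (f8005 H)

theorem f9752 : g 0 • path g [9, 8, 6, 8, 5, 2] p = path g [9, 2, 9, 5, 2, 4] p :=
  H.back (i := 5) (by decide) (f9750 H)

theorem f9753 : g 9 • path g [9, 8, 6, 8, 5, 2] p = path g [9, 2, 9, 5, 2, 5] p :=
  scan (u := [5]) (w := [0, 4]) (i := 9) (r13_0_0 H) (step (f9750 H) rfl) (step (H.back (i := 5) (by decide) (f7595 H)) (step (H.back (i := 9) (by decide) (f7618 H)) rfl))

theorem f9755 : g 7 • path g [4, 2, 3, 9, 1] p = path g [9, 8, 2, 8, 9, 1] p :=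
  scan (u := [5, 7, 5, 7, 9, 2, 0, 2, 0, 2, 0, 2, 0, 9, 5]) (w := [5, 7]) (i := 7) (r11_1_17 H) (step (f9750 H) (step (f5889 H) (step (f2867 H) (step (f2864 H) (step (f8059 H) (step (f3637 H) (step (f5271 H) (step (f5279 H) (step (f3509 H) (step (f3487 H) (step (f3488 H) (step (f3361 H) (step (f3359 H) (step (f5686 H) (step (f5691 H) rfl))))))))))))))) (step (H.back (i := 0) (by decide) (f9713 H)) (step (H.back (i := 2) (by decide) (f9741 H)) rfl))

theorem f9757 : g 7 • path g [9, 8, 2, 8, 9] p = path g [8, 6, 4, 8] p :=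
  (f5507 H).trans (f8721 H)

theorem f9758 : path g [8, 6, 4, 8, 6] p = path g [4, 2, 3, 9, 1] p :=
  close (u := [7, 6, 7, 6]) (w := []) (r3_1_0 H) (step (f9755 H) (step (f5515 H) (step (f9757 H) (step (f4216 H) rfl)))) rfl

theorem f9759 : path g [4, 2, 3, 9, 1] p = path g [8, 6, 4, 8, 6] p :=
  (f9758 H).symm

theorem f9764 : g 4 • path g [8, 6, 4, 8, 6] p = path g [4, 2, 3, 1] p :=
  (congrArg (g 4 • ·) (f9759 H).symm).trans (f5354 H)

theorem f9767 : g 9 • path g [8, 6, 4, 8, 6] p = path g [9, 2, 3, 6, 8] p :=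
  (congrArg (g 9 • ·) (f9759 H).symm).trans (f8073 H)

theorem f9768 : path g [8, 9, 6, 3, 6] p = path g [9, 2, 3, 6, 8] p :=
  (f4218 H).symm.trans (f9767 H)

theorem f9769 : g 5 • path g [8, 6, 4, 8, 6] p = path g [9, 3, 5, 6, 8] p :=
  (congrArg (g 5 • ·) (f9759 H).symm).trans (f5690 H)

theorem f9772 : g 0 • path g [8, 6, 4, 8, 6] p = path g [9, 3, 5, 6, 8] p :=
  (congrArg (g 0 • ·) (f9759 H).symm).trans (f5692 H)

theorem f9774 : g 5 • path g [9, 3, 5, 6, 8] p = path g [8, 6, 4, 8, 6] p :=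
  H.back (i := 0) (by decide) (f9772 H)

theorem f9775 : g 2 • path g [8, 6, 4, 8, 6] p = path g [9, 8, 2, 8, 9, 1] p :=
  (congrArg (g 2 • ·) (f9759 H).symm).trans (f9716 H)

theorem f9777 : g 7 • path g [9, 8, 2, 8, 9, 1] p = path g [8, 6, 4, 8, 6] p :=
  H.back (i := 2) (by decide) (f9775 H)

theorem f9778 : g 7 • path g [8, 6, 4, 8, 6] p = path g [9, 8, 2, 8, 9, 1] p :=
  (congrArg (g 7 • ·) (f9759 H).symm).trans (f9755 H)

theorem f9780 : g 2 • path g [9, 8, 2, 8, 9, 1] p = path g [8, 6, 4, 8, 6] p :=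
  H.back (i := 7) (by decide) (f9778 H)

theorem f9783 : g 6 • path g [9, 2, 3, 6, 8] p = path g [8, 9, 6, 3, 1] p :=
  (congrArg (g 6 • ·) (f9768 H).symm).trans (f3958 H)

theorem f9784 : path g [4, 2, 9, 8] p = path g [8, 9, 6, 3, 1] p :=
  (f8063 H).symm.trans (f9783 H)

theorem f9786 : g 4 • path g [9, 2, 3, 6, 8] p = path g [8, 6, 4, 8, 6] p :=
  (f8071 H).trans (f9759 H)

theorem f9788 : path g [8, 9, 6, 3, 1] p = path g [4, 2, 9, 8] p :=
  (f9784 H).symm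

theorem f9794 : g 4 • path g [4, 2, 9, 8] p = path g [8, 6, 4, 8, 1] p :=
  (congrArg (g 4 • ·) (f9788 H).symm).trans (f4225 H)

theorem f9795 : path g [4, 2, 3, 9] p = path g [8, 6, 4, 8, 1] p :=
  (f1315 H).symm.trans (f9794 H)

theorem f9796 : path g [8, 6, 4, 8, 1] p = path g [4, 2, 3, 9] p :=
  (f9795 H).symm

theorem f9797 : g 6 • path g [4, 2, 3, 9] p = path g [8, 6, 4, 8] p :=
  (congrArg (g 6 • ·) (f9796 H).symm).trans (f4221 H)

theorem f9798 : path g [4, 2, 3, 9, 6] p = path g [8, 6, 4, 8] p :=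
  (f5344 H).symm.trans (f9797 H)

theorem f9800 : g 1 • path g [4, 2, 3, 9] p = path g [8, 6, 4, 8, 6] p :=
  (f5350 H).trans (f9759 H)

theorem f9806 : g 1 • path g [8, 6, 4, 8] p = path g [4, 2, 3, 9] p :=
  (f4220 H).trans (f9796 H)

theorem f9817 : g 0 • path g [8, 6, 4, 8] p = path g [9, 3, 6, 8, 1] p :=
  (congrArg (g 0 • ·) (f9798 H).symm).trans (f7423 H)

theorem f9818 : path g [8, 6, 4, 8, 5] p = path g [9, 3, 6, 8, 1] p :=
  (f4213 H).symm.trans (f9817 H)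

theorem f9820 : g 0 • path g [9, 3, 6, 8, 1] p = path g [8, 6, 4, 8] p :=
  (f7392 H).trans (f9798 H)

theorem f9823 : g 5 • path g [9, 3, 6, 8, 1] p = path g [8, 6, 4, 8] p :=
  (f7424 H).trans (f9798 H)

theorem f9825 : g 9 • path g [9, 3, 6, 8, 1] p = path g [8, 9, 6, 3, 5] p :=
  (congrArg (g 9 • ·) (f9818 H).symm).trans (f4214 H)

theorem f9826 : path g [4, 8, 6, 3, 1] p = path g [8, 9, 6, 3, 5] p :=
  (f5136 H).symm.trans (f9825 H)

theorem f9827 : g 6 • path g [8, 9, 6, 3, 5] p = path g [4, 8, 6, 3] p :=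
  (congrArg (g 6 • ·) (f9826 H).symm).trans (f5132 H)

theorem f9829 : g 1 • path g [4, 8, 6, 3] p = path g [8, 9, 6, 3, 5] p :=
  H.back (i := 6) (by decide) (f9827 H)

theorem f9830 : g 1 • path g [8, 9, 6, 3, 5] p = path g [4, 8, 6, 3, 6] p :=
  (congrArg (g 1 • ·) (f9826 H).symm).trans (f5133 H)

theorem f9832 : g 6 • path g [4, 8, 6, 3, 6] p = path g [8, 9, 6, 3, 5] p :=
  H.back (i := 1) (by decide) (f9830 H)

theorem f9834 : g 4 • path g [8, 9, 6, 3, 5] p = path g [9, 3, 6, 8, 1] p :=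
  (f4215 H).trans (f9818 H)

theorem f9838 : g 5 • path g [8, 9, 6, 3, 5] p = path g [4, 2, 9, 8, 6] p :=
  (congrArg (g 5 • ·) (f9826 H).symm).trans (f7388 H)

theorem f9839 : path g [8, 9, 6, 3] p = path g [4, 2, 9, 8, 6] p :=
  (f3951 H).symm.trans (f9838 H)

theorem f9840 : g 9 • path g [8, 9, 6, 3, 5] p = path g [4, 2, 3, 6, 5] p :=
  (congrArg (g 9 • ·) (f9826 H).symm).trans (f7390 H)

theorem f9842 : g 4 • path g [4, 2, 3, 6, 5] p = path g [8, 9, 6, 3, 5] p :=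
  H.back (i := 9) (by decide) (f9840 H)

theorem f9843 : path g [4, 2, 9, 8, 6] p = path g [8, 9, 6, 3] p :=
  (f9839 H).symm

theorem f9845 : g 1 • path g [8, 9, 6, 3] p = path g [4, 2, 9, 8] p :=
  (f3955 H).trans (f9788 H)

theorem f9847 : g 9 • path g [8, 9, 6, 3] p = path g [4, 2, 3, 6] p :=
  (congrArg (g 9 • ·) (f9843 H).symm).trans (f5181 H)

theorem f9848 : path g [8, 9, 6, 3, 9] p = path g [4, 2, 3, 6] p :=
  (f3937 H).symm.trans (f9847 H)

theorem f9862 : g 4 • path g [4, 2, 3, 6] p = path g [8, 9, 6, 3] p :=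
  (f5182 H).trans (f9843 H)

theorem f9869 : g 3 • path g [4, 2, 3, 6] p = path g [8, 6, 8, 4] p :=
  (congrArg (g 3 • ·) (f9848 H).symm).trans (f3944 H)

theorem f9870 : path g [4, 2, 3, 6, 3] p = path g [8, 6, 8, 4] p :=
  (f5368 H).symm.trans (f9869 H)

theorem f9874 : g 3 • path g [8, 6, 8, 4] p = path g [9, 3, 6, 8, 2] p :=
  (congrArg (g 3 • ·) (f9870 H).symm).trans (f5370 H)

theorem f9875 : path g [8, 6, 3, 9] p = path g [9, 3, 6, 8, 2] p :=
  (f841 H).symm.trans (f9874 H)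

theorem f9876 : path g [9, 3, 6, 8, 2] p = path g [8, 6, 3, 9] p :=
  (f9875 H).symm

theorem f9879 : g 2 • path g [8, 6, 3, 9] p = path g [9, 3, 6, 8] p :=
  (congrArg (g 2 • ·) (f9876 H).symm).trans (f3731 H)

theorem f9880 : path g [8, 6, 3, 9, 2] p = path g [9, 3, 6, 8] p :=
  (f4125 H).symm.trans (f9879 H)

theorem f9882 : g 3 • path g [8, 6, 3, 9] p = path g [4, 2, 3, 6] p :=
  (f3942 H).trans (f9848 H)

theorem f9888 : g 7 • path g [9, 3, 6, 8] p = path g [8, 6, 3, 9] p :=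
  (f3732 H).trans (f9876 H)

theorem f9891 : g 2 • path g [9, 3, 6, 8] p = path g [8, 6, 3, 9] p :=
  (f3729 H).trans (f9876 H)

theorem f9894 : g 5 • path g [8, 6, 4, 8] p = path g [9, 3, 6, 8, 1] p :=
  (f4210 H).trans (f9818 H)

theorem f9896 : g 6 • path g [4, 2, 9, 8] p = path g [8, 9, 6, 3] p :=
  (f5179 H).trans (f9843 H)

theorem f9897 : g 6 • path g [8, 6, 4, 8, 6] p = path g [4, 2, 3, 9] p :=
  (f4223 H).trans (f9796 H)

theorem f9898 : g 1 • path g [9, 2, 3, 6, 8] p = path g [8, 9, 6, 3] p :=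
  (f8066 H).trans (f9843 H)

theorem f9899 : g 0 • path g [8, 6, 4, 8] p = path g [9, 3, 6, 8, 1] p :=
  (f4213 H).trans (f9818 H)

theorem f9900 : path g [9, 8, 2, 5, 4, 2] p = path g [8, 9, 6, 3, 5] p :=
  close (u := [6, 7, 6, 7]) (w := []) (r3_1_1 H) (step (f9827 H) (step (f5120 H) (step (f9695 H) (step (f5607 H) rfl)))) rfl

theorem f9901 : g 7 • path g [8, 9, 6, 3, 5] p = path g [9, 8, 2, 5, 4] p :=
  (congrArg (g 7 • ·) (f9900 H).symm).trans (f5605 H)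

theorem f9903 : g 2 • path g [9, 8, 2, 5, 4] p = path g [8, 9, 6, 3, 5] p :=
  H.back (i := 7) (by decide) (f9901 H)

theorem f9904 : g 2 • path g [8, 9, 6, 3, 5] p = path g [9, 8, 2, 5, 4] p :=
  (congrArg (g 2 • ·) (f9900 H).symm).trans (f5606 H)

theorem f9906 : g 7 • path g [9, 8, 2, 5, 4] p = path g [8, 9, 6, 3, 5] p :=
  H.back (i := 2) (by decide) (f9904 H)

theorem f9907 : g 3 • path g [8, 9, 6, 3, 5] p = path g [4, 2, 3, 6, 5] p :=
  (congrArg (g 3 • ·) (f9900 H).symm).trans (f5608 H)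

theorem f9909 : g 8 • path g [4, 2, 3, 6, 5] p = path g [8, 9, 6, 3, 5] p :=
  H.back (i := 3) (by decide) (f9907 H)

theorem f9910 : g 2 • path g [9, 8, 6, 8, 5, 8] p = path g [9, 8, 2, 1, 4, 8] p :=
  scan (u := [6, 5, 7, 5, 8]) (w := [3, 6, 5, 7]) (i := 2) (r7_0_5 H) (step (f9827 H) (step (f8052 H) (step (f2862 H) (step (f2865 H) (step (f5886 H) rfl))))) (step (H.back (i := 8) (by decide) (f5804 H)) (step (H.back (i := 1) (by decide) (f1699 H)) (step (H.back (i := 0) (by decide) (f1436 H)) (step (H.back (i := 2) (by decide) (f9904 H)) rfl))))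

theorem f9913 : g 3 • path g [4, 2, 3, 6] p = path g [8, 6, 8, 4] p :=
  (f5368 H).trans (f9870 H)

theorem f9914 : path g [8, 9, 6, 8, 6] p = path g [8, 9, 6, 3, 2] p :=
  close (u := [6, 8, 0, 2, 0, 2, 3, 5, 6]) (w := [7, 5]) (r8_0_8 H) (step (f9827 H) (step (f1227 H) (step (f1640 H) (step (f1190 H) (step (f1759 H) (step (f3402 H) (step (f9913 H) (step (f6497 H) (step (f3927 H) rfl))))))))) (step (H.back (i := 2) (by decide) (f3945 H)) (step (H.back (i := 0) (by decide) (f3950 H)) rfl))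

theorem f9915 : path g [8, 9, 6, 3, 2] p = path g [8, 9, 6, 8, 6] p :=
  (f9914 H).symm

theorem f9916 : g 7 • path g [8, 9, 6, 8, 6] p = path g [8, 9, 6, 3] p :=
  (congrArg (g 7 • ·) (f9915 H).symm).trans (f3946 H)

theorem f9918 : g 2 • path g [8, 9, 6, 3] p = path g [8, 9, 6, 8, 6] p :=
  H.back (i := 7) (by decide) (f9916 H)

theorem f9919 : g 2 • path g [8, 9, 6, 8, 6] p = path g [8, 9, 6, 3] p :=
  (congrArg (g 2 • ·) (f9915 H).symm).trans (f3947 H)

theorem f9922 : path g [9, 2, 5, 8, 6] p = path g [9, 8, 6, 8, 4] p :=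
  close (u := [6, 8, 0, 2, 0, 1, 2, 0, 1]) (w := [3, 5, 6, 5, 7, 5]) (r9_0_2 H) (step (f9827 H) (step (f1227 H) (step (f1640 H) (step (f1190 H) (step (f1759 H) (step (f1428 H) (step (f3361 H) (step (f3359 H) (step (f3352 H) rfl))))))))) (step (H.back (i := 8) (by decide) (f2880 H)) (step (H.back (i := 0) (by decide) (f7217 H)) (step (H.back (i := 1) (by decide) (f4616 H)) (step (H.back (i := 0) (by decide) (f4620 H)) (step (H.back (i := 2) (by decide) (f9918 H)) (step (H.back (i := 0) (by decide) (f3950 H)) rfl))))))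

theorem f9925 : g 6 • path g [9, 8, 6, 8, 4] p = path g [9, 2, 5, 8, 1] p :=
  (congrArg (g 6 • ·) (f9922 H).symm).trans (f3353 H)

theorem f9926 : path g [9, 8, 6, 8, 6, 4] p = path g [9, 2, 5, 8, 1] p :=
  (f5925 H).symm.trans (f9925 H)

theorem f9929 : g 5 • path g [9, 8, 6, 8, 4] p = path g [9, 3, 2, 3, 6] p :=
  (congrArg (g 5 • ·) (f9922 H).symm).trans (f3629 H)

theorem f9930 : path g [9, 8, 6, 8, 5, 4] p = path g [9, 3, 2, 3, 6] p :=
  (f5909 H).symm.trans (f9929 H)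

theorem f9933 : g 7 • path g [9, 8, 6, 8, 4] p = path g [9, 3, 2, 1, 5] p :=
  (congrArg (g 7 • ·) (f9922 H).symm).trans (f3666 H)

theorem f9934 : path g [9, 8, 6, 8, 4, 2] p = path g [9, 3, 2, 1, 5] p :=
  (f5947 H).symm.trans (f9933 H)

theorem f9935 : g 8 • path g [9, 8, 6, 8, 4] p = path g [4, 8, 6, 8, 2] p :=
  (congrArg (g 8 • ·) (f9922 H).symm).trans (f5102 H)

theorem f9936 : path g [3, 6, 3, 9] p = path g [4, 8, 6, 8, 2] p :=
  (f2882 H).symm.trans (f9935 H)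

theorem f9937 : path g [4, 8, 6, 8, 2] p = path g [3, 6, 3, 9] p :=
  (f9936 H).symm

theorem f9940 : g 2 • path g [3, 6, 3, 9] p = path g [4, 8, 6, 8] p :=
  (congrArg (g 2 • ·) (f9937 H).symm).trans (f5099 H)

theorem f9941 : path g [3, 6, 3, 9, 2] p = path g [4, 8, 6, 8] p :=
  (f4760 H).symm.trans (f9940 H)

theorem f9946 : g 7 • path g [4, 8, 6, 8] p = path g [3, 6, 3, 9] p :=
  (f5100 H).trans (f9937 H)

theorem f9949 : g 2 • path g [4, 8, 6, 8] p = path g [3, 6, 3, 9] p :=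
  (f5097 H).trans (f9937 H)

theorem f9952 : g 7 • path g [9, 3, 2, 1, 5] p = path g [9, 8, 6, 8, 4] p :=
  (f3664 H).trans (f9922 H)

theorem f9955 : g 2 • path g [9, 3, 2, 1, 5] p = path g [9, 8, 6, 8, 4] p :=
  (f3665 H).trans (f9922 H)

theorem f9957 : g 9 • path g [9, 3, 2, 3, 6] p = path g [9, 8, 6, 8, 5] p :=
  (congrArg (g 9 • ·) (f9930 H).symm).trans (f5903 H)

theorem f9959 : g 4 • path g [9, 8, 6, 8, 5] p = path g [9, 3, 2, 3, 6] p :=
  H.back (i := 9) (by decide) (f9957 H)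

theorem f9960 : g 4 • path g [9, 3, 2, 3, 6] p = path g [3, 9, 6, 3, 5] p :=
  (congrArg (g 4 • ·) (f9930 H).symm).trans (f5904 H)

theorem f9961 : path g [9, 8, 6, 8, 2, 1] p = path g [3, 9, 6, 3, 5] p :=
  (f8057 H).symm.trans (f9960 H)

theorem f9963 : g 5 • path g [9, 3, 2, 3, 6] p = path g [9, 8, 6, 8, 4] p :=
  (f3627 H).trans (f9922 H)

theorem f9966 : g 0 • path g [9, 3, 2, 3, 6] p = path g [9, 8, 6, 8, 4] p :=
  (f3630 H).trans (f9922 H)

theorem f9968 : g 6 • path g [3, 9, 6, 3, 5] p = path g [9, 8, 6, 8, 2] p :=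
  (congrArg (g 6 • ·) (f9961 H).symm).trans (f5875 H)

theorem f9970 : g 1 • path g [9, 8, 6, 8, 2] p = path g [3, 9, 6, 3, 5] p :=
  H.back (i := 6) (by decide) (f9968 H)

theorem f9971 : g 1 • path g [3, 9, 6, 3, 5] p = path g [9, 3, 2, 9, 8] p :=
  (congrArg (g 1 • ·) (f9961 H).symm).trans (f8035 H)

theorem f9974 : g 2 • path g [3, 9, 6, 3, 5] p = path g [9, 8, 6, 8, 6] p :=
  (congrArg (g 2 • ·) (f9961 H).symm).trans (f5878 H)

theorem f9977 : g 7 • path g [3, 9, 6, 3, 5] p = path g [9, 8, 6, 8, 6] p :=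
  (congrArg (g 7 • ·) (f9961 H).symm).trans (f5881 H)

theorem f9979 : g 2 • path g [9, 8, 6, 8, 6] p = path g [3, 9, 6, 3, 5] p :=
  H.back (i := 7) (by decide) (f9977 H)

theorem f9988 : g 1 • path g [9, 2, 5, 8, 1] p = path g [9, 8, 6, 8, 4] p :=
  (f3352 H).trans (f9922 H)

theorem f9990 : g 6 • path g [9, 2, 5, 8, 1] p = path g [9, 8, 6, 8, 1, 4] p :=
  (congrArg (g 6 • ·) (f9926 H).symm).trans (f5943 H)

theorem f9991 : path g [9, 2, 5, 8] p = path g [9, 8, 6, 8, 1, 4] p :=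
  (f3351 H).symm.trans (f9990 H)

theorem f9992 : path g [9, 8, 6, 8, 1, 4] p = path g [9, 2, 5, 8] p :=
  (f9991 H).symm

end CfsgQS3.Zero.CertA
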