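import Cfsg.Agent.Lib.QS3.Zero.Cert.A2

/-!
Groups with an involution centraliser `Q.S₃`: a certificate of coset enumeration for the type 0, case A, part 3.
-/

set_option autoImplicit false
set_option maxRecDepth 10000
set_option linter.unusedSectionVars false

namespace CfsgQS3.Zero.CertA

variable {M α : Type*} [Group M] [MulAction M α] {g : ℕ → M} {p : α} (H : CosetData relsA 3 g p)
include H

theorem r4_0_5 : ∀ x : α, path g [0, 1, 0, 6, 6, 0, 1] x = x :=
  trivial_rot 5 (H.trivial_rev (i := 4) (by decide)) (by decide)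

theorem r5_1_3 : ∀ x : α, path g [6, 7, 5, 6, 7, 5, 7, 1, 5, 7, 1, 5] x = x :=
  trivial_rot 3 (H.trivial_inv (i := 5) (by decide) (by decide)) (by decide)

theorem r5_1_5 : ∀ x : α, path g [5, 6, 7, 5, 7, 1, 5, 7, 1, 5, 6, 7] x = x :=
  trivial_rot 5 (H.trivial_inv (i := 5) (by decide) (by decide)) (by decide)

theorem r7_1_7 : ∀ x : α, path g [1, 8, 7, 3, 0, 2, 0, 1, 2, 0] x = x :=
  trivial_rot 7 (H.trivial_inv (i := 7) (by decide) (by decide)) (by decide)

theorem r7_1_9 : ∀ x : α, path g [7, 3, 0, 2, 0, 1, 2, 0, 1, 8] x = x :=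
  trivial_rot 9 (H.trivial_inv (i := 7) (by decide) (by decide)) (by decide)

theorem r8_1_8 : ∀ x : α, path g [7, 5, 7, 5, 3, 1, 0, 2, 1, 0, 8] x = x :=
  trivial_rot 8 (H.trivial_inv (i := 8) (by decide) (by decide)) (by decide)

theorem r9_0_1 : ∀ x : α, path g [5, 6, 8, 0, 2, 0, 1, 2, 0, 1, 3, 5, 6, 5, 7] x = x :=
  trivial_rot 1 (H.trivial_rev (i := 9) (by decide)) (by decide)

theorem r9_0_8 : ∀ x : α, path g [2, 0, 1, 3, 5, 6, 5, 7, 5, 6, 8, 0, 2, 0, 1] x = x :=
  trivial_rot 8 (H.trivial_rev (i := 9) (by decide)) (by decide)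

theorem r9_0_9 : ∀ x : α, path g [0, 1, 3, 5, 6, 5, 7, 5, 6, 8, 0, 2, 0, 1, 2] x = x :=
  trivial_rot 9 (H.trivial_rev (i := 9) (by decide)) (by decide)

theorem r9_0_10 : ∀ x : α, path g [1, 3, 5, 6, 5, 7, 5, 6, 8, 0, 2, 0, 1, 2, 0] x = x :=
  trivial_rot 10 (H.trivial_rev (i := 9) (by decide)) (by decide)

theorem r9_0_13 : ∀ x : α, path g [6, 5, 7, 5, 6, 8, 0, 2, 0, 1, 2, 0, 1, 3, 5] x = x :=
  trivial_rot 13 (H.trivial_rev (i := 9) (by decide)) (by decide)

theorem r9_1_3 : ∀ x : α, path g [8, 6, 5, 7, 6, 5, 7, 5, 3, 1, 0, 2, 0, 1, 0] x = x :=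
  trivial_rot 3 (H.trivial_inv (i := 9) (by decide) (by decide)) (by decide)

theorem r9_1_12 : ∀ x : α, path g [1, 0, 2, 0, 1, 0, 8, 6, 5, 7, 6, 5, 7, 5, 3] x = x :=
  trivial_rot 12 (H.trivial_inv (i := 9) (by decide) (by decide)) (by decide)

theorem r9_1_14 : ∀ x : α, path g [2, 0, 1, 0, 8, 6, 5, 7, 6, 5, 7, 5, 3, 1, 0] x = x :=
  trivial_rot 14 (H.trivial_inv (i := 9) (by decide) (by decide)) (by decide)

theorem r11_0_2 : ∀ x : α, path g [0, 2, 0, 4, 5, 7, 5, 7, 5, 7, 5, 7, 4, 2, 0, 2, 0, 2] x = x :=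
  trivial_rot 2 (H.trivial_rev (i := 11) (by decide)) (by decide)

theorem r11_0_3 : ∀ x : α, path g [2, 0, 4, 5, 7, 5, 7, 5, 7, 5, 7, 4, 2, 0, 2, 0, 2, 0] x = x :=
  trivial_rot 3 (H.trivial_rev (i := 11) (by decide)) (by decide)

theorem r11_0_6 : ∀ x : α, path g [5, 7, 5, 7, 5, 7, 5, 7, 4, 2, 0, 2, 0, 2, 0, 2, 0, 4] x = x :=
  trivial_rot 6 (H.trivial_rev (i := 11) (by decide)) (by decide)

theorem r11_0_14 : ∀ x : α, path g [4, 2, 0, 2, 0, 2, 0, 2, 0, 4, 5, 7, 5, 7, 5, 7, 5, 7] x = x :=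
  trivial_rot 14 (H.trivial_rev (i := 11) (by decide)) (by decide)

theorem r11_0_15 : ∀ x : α, path g [2, 0, 2, 0, 2, 0, 2, 0, 4, 5, 7, 5, 7, 5, 7, 5, 7, 4] x = x :=
  trivial_rot 15 (H.trivial_rev (i := 11) (by decide)) (by decide)

theorem r11_1_1 : ∀ x : α, path g [5, 7, 9, 2, 0, 2, 0, 2, 0, 2, 0, 9, 5, 7, 5, 7, 5, 7] x = x :=
  trivial_rot 1 (H.trivial_inv (i := 11) (by decide) (by decide)) (by decide)

theorem r11_1_3 : ∀ x : α, path g [9, 2, 0, 2, 0, 2, 0, 2, 0, 9, 5, 7, 5, 7, 5, 7, 5, 7] x = x :=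
  trivial_rot 3 (H.trivial_inv (i := 11) (by decide) (by decide)) (by decide)

theorem r11_1_12 : ∀ x : α, path g [9, 5, 7, 5, 7, 5, 7, 5, 7, 9, 2, 0, 2, 0, 2, 0, 2, 0] x = x :=
  trivial_rot 12 (H.trivial_inv (i := 11) (by decide) (by decide)) (by decide)

theorem r11_1_13 : ∀ x : α, path g [5, 7, 5, 7, 5, 7, 5, 7, 9, 2, 0, 2, 0, 2, 0, 2, 0, 9] x = x :=
  trivial_rot 13 (H.trivial_inv (i := 11) (by decide) (by decide)) (by decide)

theorem r12_1_7 : ∀ x : α, path g [5, 6, 6, 4, 1, 1, 0, 1, 9, 6] x = x :=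
  trivial_rot 7 (H.trivial_inv (i := 12) (by decide) (by decide)) (by decide)

theorem f9995 : g 4 • path g [9, 2, 5, 8] p = path g [3, 9, 6, 3, 1] p :=
  (congrArg (g 4 • ·) (f9992 H).symm).trans (f5938 H)

theorem f9996 : path g [9, 2, 5, 8, 4] p = path g [3, 9, 6, 3, 1] p :=
  (f3408 H).symm.trans (f9995 H)

theorem f10003 : path g [3, 9, 6, 3, 1] p = path g [9, 2, 5, 8, 4] p :=
  (f9996 H).symm

theorem f10004 : g 6 • path g [9, 2, 5, 8, 4] p = path g [3, 9, 6, 3] p :=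
  (congrArg (g 6 • ·) (f10003 H).symm).trans (f4644 H)

theorem f10006 : g 1 • path g [3, 9, 6, 3] p = path g [9, 2, 5, 8, 4] p :=
  H.back (i := 6) (by decide) (f10004 H)

theorem f10009 : g 4 • path g [9, 2, 5, 8, 4] p = path g [9, 8, 6, 8, 1] p :=
  (congrArg (g 4 • ·) (f10003 H).symm).trans (f4647 H)

theorem f10010 : path g [9, 2, 5, 8, 9] p = path g [9, 8, 6, 8, 1] p :=
  (f3410 H).symm.trans (f10009 H)

theorem f10015 : g 4 • path g [9, 8, 6, 8, 1] p = path g [9, 2, 5, 8] p :=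
  (f5936 H).trans (f9992 H)

theorem f10022 : g 3 • path g [9, 8, 6, 8, 1] p = path g [9, 2, 5, 4, 8] p :=
  (congrArg (g 3 • ·) (f10010 H).symm).trans (f3447 H)

theorem f10023 : path g [9, 8, 6, 8, 1, 3] p = path g [9, 2, 5, 4, 8] p :=
  (f5932 H).symm.trans (f10022 H)

theorem f10026 : g 0 • path g [9, 8, 6, 8, 1] p = path g [9, 3, 6, 8, 6] p :=
  (congrArg (g 0 • ·) (f10010 H).symm).trans (f7419 H)

theorem f10027 : path g [9, 8, 6, 8, 1, 5] p = path g [9, 3, 6, 8, 6] p :=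
  (f5931 H).symm.trans (f10026 H)

theorem f10028 : g 1 • path g [9, 8, 6, 8, 1] p = path g [9, 3, 5, 6, 8] p :=
  (congrArg (g 1 • ·) (f10010 H).symm).trans (f5694 H)

theorem f10029 : path g [9, 8, 6, 8, 6] p = path g [9, 3, 5, 6, 8] p :=
  (f2873 H).symm.trans (f10028 H)

theorem f10030 : path g [9, 3, 5, 6, 8] p = path g [9, 8, 6, 8, 6] p :=
  (f10029 H).symm

theorem f10033 : g 8 • path g [9, 8, 6, 8, 6] p = path g [9, 3, 5, 2, 9] p :=
  (congrArg (g 8 • ·) (f10030 H).symm).trans (f3727 H)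

theorem f10034 : path g [9, 8, 6, 8, 6, 8] p = path g [9, 3, 5, 2, 9] p :=
  (f5910 H).symm.trans (f10033 H)

theorem f10035 : g 9 • path g [9, 8, 6, 8, 6] p = path g [4, 8, 5, 6, 3] p :=
  (congrArg (g 9 • ·) (f10030 H).symm).trans (f5088 H)

theorem f10036 : path g [3, 9, 6, 3, 6] p = path g [4, 8, 5, 6, 3] p :=
  (f4642 H).symm.trans (f10035 H)

theorem f10038 : g 4 • path g [9, 8, 6, 8, 6] p = path g [9, 2, 5, 8, 1] p :=
  (f5920 H).trans (f9926 H)

theorem f10042 : g 5 • path g [9, 8, 6, 8, 6] p = path g [8, 6, 4, 8, 6] p :=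
  (congrArg (g 5 • ·) (f10030 H).symm).trans (f9774 H)

theorem f10043 : path g [9, 8, 6, 8, 6, 5] p = path g [8, 6, 4, 8, 6] p :=
  (f5912 H).symm.trans (f10042 H)

theorem f10048 : g 0 • path g [8, 6, 4, 8, 6] p = path g [9, 8, 6, 8, 6] p :=
  (f9772 H).trans (f10030 H)

theorem f10051 : g 5 • path g [8, 6, 4, 8, 6] p = path g [9, 8, 6, 8, 6] p :=
  (f9769 H).trans (f10030 H)

theorem f10053 : path g [4, 8, 5, 6, 3] p = path g [3, 9, 6, 3, 6] p :=
  (f10036 H).symm

theorem f10054 : g 8 • path g [3, 9, 6, 3, 6] p = path g [4, 8, 5, 6] p :=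
  (congrArg (g 8 • ·) (f10053 H).symm).trans (f5084 H)

theorem f10056 : g 3 • path g [4, 8, 5, 6] p = path g [3, 9, 6, 3, 6] p :=
  H.back (i := 8) (by decide) (f10054 H)

theorem f10057 : g 3 • path g [3, 9, 6, 3, 6] p = path g [9, 8, 2, 5, 4] p :=
  (congrArg (g 3 • ·) (f10053 H).symm).trans (f5085 H)

theorem f10064 : g 9 • path g [3, 9, 6, 3, 6] p = path g [9, 2, 5, 8, 1] p :=
  (f5923 H).trans (f9926 H)

theorem f10069 : g 5 • path g [3, 9, 6, 3, 6] p = path g [9, 2, 3, 6, 8] p :=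
  (congrArg (g 5 • ·) (f10053 H).symm).trans (f8076 H)

theorem f10071 : g 0 • path g [9, 2, 3, 6, 8] p = path g [3, 9, 6, 3, 6] p :=
  H.back (i := 5) (by decide) (f10069 H)

theorem f10072 : g 0 • path g [3, 9, 6, 3, 6] p = path g [9, 2, 3, 6, 8] p :=
  (congrArg (g 0 • ·) (f10053 H).symm).trans (f8079 H)

theorem f10076 : g 3 • path g [9, 3, 5, 2, 9] p = path g [9, 8, 6, 8, 6] p :=
  (f3728 H).trans (f10030 H)

theorem f10078 : g 8 • path g [9, 3, 5, 2, 9] p = path g [9, 8, 6, 8, 6, 3] p :=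
  (congrArg (g 8 • ·) (f10034 H).symm).trans (f5919 H)

theorem f10079 : path g [9, 3, 5, 6] p = path g [9, 8, 6, 8, 6, 3] p :=
  (f3691 H).symm.trans (f10078 H)

theorem f10080 : path g [9, 8, 6, 8, 6, 3] p = path g [9, 3, 5, 6] p :=
  (f10079 H).symm

theorem f10088 : g 0 • path g [9, 3, 6, 8, 6] p = path g [9, 8, 6, 8, 1] p :=
  (f7414 H).trans (f10010 H)

theorem f10091 : g 5 • path g [9, 3, 6, 8, 6] p = path g [9, 8, 6, 8, 1] p :=
  (f7417 H).trans (f10010 H)

theorem f10094 : g 8 • path g [9, 2, 5, 4, 8] p = path g [9, 8, 6, 8, 1] p :=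
  (f3446 H).trans (f10010 H)

theorem f10096 : g 3 • path g [9, 2, 5, 4, 8] p = path g [9, 8, 6, 8, 1, 8] p :=
  (congrArg (g 3 • ·) (f10023 H).symm).trans (f5934 H)

theorem f10097 : path g [9, 2, 5, 4] p = path g [9, 8, 6, 8, 1, 8] p :=
  (f3445 H).symm.trans (f10096 H)

theorem f10098 : path g [9, 8, 6, 8, 1, 8] p = path g [9, 2, 5, 4] p :=
  (f10097 H).symm

theorem f10100 : g 3 • path g [9, 2, 5, 4] p = path g [9, 8, 6, 8, 1] p :=
  (f3336 H).trans (f10010 H)

theorem f10105 : path g [9, 8, 6, 8, 5, 6] p = path g [9, 2, 3, 6, 3] p :=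
  close (u := [6, 5, 7, 5, 6]) (w := [8, 0, 2, 0, 1, 2, 0, 1, 3, 5]) (r9_0_13 H) (step (f9827 H) (step (f8052 H) (step (f2862 H) (step (f2865 H) (step (f5896 H) rfl))))) (step (H.back (i := 3) (by decide) (f3502 H)) (step (H.back (i := 5) (by decide) (f9026 H)) (step (H.back (i := 7) (by decide) (f8712 H)) (step (H.back (i := 5) (by decide) (f4572 H)) (step (H.back (i := 6) (by decide) (f965 H)) (step (H.back (i := 7) (by decide) (f960 H)) (step (H.back (i := 5) (by decide) (f2848 H)) (step (H.back (i := 6) (by decide) (f183 H)) (step (H.back (i := 8) (by decide) (f709 H)) (step (H.back (i := 0) (by decide) (f3950 H)) rfl))))))))))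

theorem f10106 : g 1 • path g [9, 2, 3, 6, 3] p = path g [9, 8, 6, 8, 5] p :=
  (congrArg (g 1 • ·) (f10105 H).symm).trans (f5897 H)

theorem f10109 : g 6 • path g [9, 2, 3, 6, 3] p = path g [9, 8, 6, 8, 5, 1] p :=
  (congrArg (g 6 • ·) (f10105 H).symm).trans (f5901 H)

theorem f10110 : path g [9, 3, 2, 3, 9] p = path g [9, 8, 6, 8, 5, 1] p :=
  (f8692 H).symm.trans (f10109 H)

theorem f10111 : path g [9, 8, 6, 8, 5, 1] p = path g [9, 3, 2, 3, 9] p :=
  (f10110 H).symm

theorem f10112 : g 6 • path g [9, 3, 2, 3, 9] p = path g [9, 8, 6, 8, 5] p :=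
  (congrArg (g 6 • ·) (f10111 H).symm).trans (f5899 H)

theorem f10114 : g 1 • path g [9, 8, 6, 8, 5] p = path g [9, 3, 2, 3, 9] p :=
  H.back (i := 6) (by decide) (f10112 H)

theorem f10119 : g 1 • path g [9, 2, 5, 8, 4] p = path g [3, 9, 6, 3, 6] p :=
  (f5695 H).trans (f10053 H)

theorem f10120 : g 5 • path g [9, 8, 6, 8, 1] p = path g [9, 3, 6, 8, 6] p :=
  (f5928 H).trans (f10027 H)

theorem f10122 : g 4 • path g [9, 3, 2, 3, 6] p = path g [3, 9, 6, 3, 5] p :=
  (f8057 H).trans (f9961 H)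

theorem f10124 : g 0 • path g [9, 8, 6, 8, 1] p = path g [9, 3, 6, 8, 6] p :=
  (f5931 H).trans (f10027 H)

theorem f10125 : g 0 • path g [9, 8, 6, 8, 4] p = path g [9, 3, 2, 3, 6] p :=
  (f5907 H).trans (f9930 H)

theorem f10128 : g 4 • path g [9, 2, 5, 8, 4] p = path g [9, 8, 6, 8, 1] p :=
  (f3410 H).trans (f10010 H)

theorem f10129 : g 1 • path g [9, 2, 9, 5, 2, 4] p = path g [8, 6, 4, 2, 3] p :=
  scan (u := [1, 2, 0]) (w := [8, 7, 3, 0, 2, 0]) (i := 1) (r7_1_4 H) (step (f10106 H) (step (f5888 H) (step (f9752 H) rfl))) (step (H.back (i := 3) (by decide) (f4236 H)) (step (H.back (i := 2) (by decide) (f862 H)) (step (H.back (i := 8) (by decide) (f816 H)) (step (H.back (i := 5) (by decide) (f7219 H)) (step (H.back (i := 7) (by decide) (f9888 H)) (step (H.back (i := 5) (by decide) (f8683 H)) rfl))))))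

theorem f10130 : g 6 • path g [8, 6, 4, 2, 3] p = path g [9, 2, 9, 5, 2, 4] p :=
  H.back (i := 1) (by decide) (f10129 H)

theorem f10131 : g 5 • path g [9, 8, 6, 8, 4] p = path g [9, 3, 2, 3, 6] p :=
  (f5909 H).trans (f9930 H)

theorem f10132 : g 1 • path g [9, 8, 6, 8, 4] p = path g [9, 2, 5, 8] p :=
  (f5941 H).trans (f9992 H)

theorem f10133 : g 9 • path g [8, 6, 4, 2, 3] p = path g [9, 2, 9, 5, 2, 1] p :=
  scan (u := [1]) (w := [6, 4]) (i := 9) (r14_1_1 H) (step (f10129 H) rfl) (step (H.back (i := 1) (by decide) (f7609 H)) (step (H.back (i := 9) (by decide) (f7618 H)) rfl))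

theorem f10134 : g 4 • path g [9, 2, 9, 5, 2, 1] p = path g [8, 6, 4, 2, 3] p :=
  H.back (i := 9) (by decide) (f10133 H)

theorem f10135 : g 2 • path g [8, 6, 3, 9] p = path g [9, 3, 6, 8] p :=
  (f4125 H).trans (f9880 H)

theorem f10136 : g 2 • path g [9, 8, 2, 8, 9] p = path g [8, 6, 4, 8] p :=
  (f5504 H).trans (f8721 H)

theorem f10137 : g 8 • path g [9, 8, 6, 8, 6] p = path g [9, 3, 5, 2, 9] p :=
  (f5910 H).trans (f10034 H)

theorem f10139 : g 4 • path g [9, 2, 5, 8, 1] p = path g [3, 9, 6, 3, 6] p :=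
  (f5683 H).trans (f10053 H)

theorem f10141 : g 0 • path g [9, 8, 6, 8, 6] p = path g [8, 6, 4, 8, 6] p :=
  (f5915 H).trans (f10043 H)

theorem f10142 : path g [4, 2, 9, 8, 2] p = path g [8, 9, 6, 8, 1] p :=
  close (u := [5, 6, 7]) (w := [5, 6, 8, 0, 2, 0, 2, 3]) (r8_0_4 H) (step (f10069 H) (step (f8063 H) (step (f5178 H) rfl))) (step (H.back (i := 0) (by decide) (f7211 H)) (step (H.back (i := 1) (by decide) (f4753 H)) (step (H.back (i := 3) (by decide) (f2879 H)) (step (H.back (i := 5) (by decide) (f9963 H)) (step (H.back (i := 7) (by decide) (f3631 H)) (step (H.back (i := 5) (by decide) (f5071 H)) (step (H.back (i := 7) (by decide) (f5070 H)) (step (H.back (i := 8) (by decide) (f10054 H)) rfl))))))))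

theorem f10143 : g 7 • path g [8, 9, 6, 8, 1] p = path g [4, 2, 9, 8] p :=
  (congrArg (g 7 • ·) (f10142 H).symm).trans (f5176 H)

theorem f10145 : g 2 • path g [4, 2, 9, 8] p = path g [8, 9, 6, 8, 1] p :=
  H.back (i := 7) (by decide) (f10143 H)

theorem f10146 : g 2 • path g [8, 9, 6, 8, 1] p = path g [4, 2, 9, 8] p :=
  (congrArg (g 2 • ·) (f10142 H).symm).trans (f5177 H)

theorem f10148 : g 7 • path g [4, 2, 9, 8] p = path g [8, 9, 6, 8, 1] p :=
  H.back (i := 2) (by decide) (f10146 H)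

theorem f10149 : g 8 • path g [9, 3, 6, 8, 1] p = path g [4, 2, 3, 6, 5] p :=
  scan (u := [5, 6, 5, 7, 5, 6]) (w := [0, 2, 0, 1, 2, 0, 1, 3]) (i := 8) (r9_0_12 H) (step (f10069 H) (step (f8063 H) (step (f3591 H) (step (f8027 H) (step (f10120 H) (step (f3744 H) rfl)))))) (step (H.back (i := 5) (by decide) (f5358 H)) (step (H.back (i := 7) (by decide) (f3399 H)) (step (H.back (i := 5) (by decide) (f1758 H)) (step (H.back (i := 6) (by decide) (f1187 H)) (step (H.back (i := 7) (by decide) (f1182 H)) (step (H.back (i := 5) (by decide) (f1626 H)) (step (H.back (i := 6) (by decide) (f1215 H)) (step (H.back (i := 8) (by decide) (f10054 H)) rfl))))))))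

theorem f10150 : g 3 • path g [4, 2, 3, 6, 5] p = path g [9, 3, 6, 8, 1] p :=
  H.back (i := 8) (by decide) (f10149 H)

theorem f10151 : g 8 • path g [8, 9, 6, 3, 5] p = path g [9, 3, 6, 8, 1] p :=
  scan (u := [8, 8]) (w := []) (i := 8) (r6_1_0 H) (step (f10149 H) (step (f9909 H) rfl)) rfl

theorem f10152 : g 3 • path g [9, 3, 6, 8, 1] p = path g [8, 9, 6, 3, 5] p :=
  H.back (i := 8) (by decide) (f10151 H)

theorem f10153 : g 1 • path g [9, 3, 5, 2, 9] p = path g [9, 2, 8, 1, 8] p :=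
  scan (u := [8, 7, 5, 7, 5, 3]) (w := [0, 2, 1, 0]) (i := 1) (r8_1_7 H) (step (f10149 H) (step (f5362 H) (step (f3716 H) (step (f3718 H) (step (f1637 H) (step (f3692 H) rfl)))))) (step (H.back (i := 5) (by decide) (f9711 H)) (step (H.back (i := 7) (by decide) (f9778 H)) (step (H.back (i := 6) (by decide) (f4216 H)) (step (H.back (i := 5) (by decide) (f9823 H)) rfl))))

theorem f10154 : g 6 • path g [9, 2, 8, 1, 8] p = path g [9, 3, 5, 2, 9] p :=
  H.back (i := 1) (by decide) (f10153 H)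

theorem f10155 : g 2 • path g [8, 6, 4, 2, 3] p = path g [9, 3, 5, 2, 9] p :=
  scan (u := [1, 2, 1]) (w := []) (i := 2) (r3_0_0 H) (step (f10153 H) (step (f9740 H) (step (f10129 H) rfl))) rfl

theorem f10157 : g 2 • path g [9, 8, 6, 8, 4] p = path g [9, 3, 2, 1, 5] p :=
  (f5944 H).trans (f9934 H)

theorem f10158 : g 7 • path g [9, 2, 8, 1, 3] p = path g [9, 3, 6, 8, 1] p :=
  scan (u := [1, 8]) (w := [3, 0, 2, 0, 1, 2, 0]) (i := 7) (r7_1_7 H) (step (f10153 H) (step (f3320 H) rfl)) (step (H.back (i := 8) (by decide) (f10151 H)) (step (H.back (i := 5) (by decide) (f3949 H)) (step (H.back (i := 7) (by decide) (f9916 H)) (step (H.back (i := 5) (by decide) (f4619 H)) (step (H.back (i := 6) (by decide) (f4615 H)) (step (H.back (i := 7) (by decide) (f4606 H)) (step (H.back (i := 5) (by decide) (f8446 H)) rfl)))))))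

theorem f10159 : g 2 • path g [9, 3, 6, 8, 1] p = path g [9, 2, 8, 1, 3] p :=
  H.back (i := 7) (by decide) (f10158 H)

theorem f10160 : path g [9, 8, 6, 8, 5, 8] p = path g [9, 3, 2, 3, 6] p :=
  close (u := [1, 0, 2, 0, 1, 0, 8]) (w := [6, 5, 7, 6, 5, 7, 5, 3]) (r9_1_12 H) (step (f10153 H) (step (f9713 H) (step (f9780 H) (step (f10048 H) (step (f2870 H) (step (f2868 H) (step (f5886 H) rfl))))))) (step (H.back (i := 1) (by decide) (f3635 H)) (step (H.back (i := 0) (by decide) (f7367 H)) (step (H.back (i := 2) (by decide) (f7375 H)) (step (H.back (i := 1) (by decide) (f1396 H)) (step (H.back (i := 0) (by decide) (f3715 H)) (step (H.back (i := 2) (by decide) (f3717 H)) (step (H.back (i := 0) (by decide) (f1636 H)) (step (H.back (i := 8) (by decide) (f3691 H)) rfl))))))))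

theorem f10161 : g 3 • path g [9, 3, 2, 3, 6] p = path g [9, 8, 6, 8, 5] p :=
  (congrArg (g 3 • ·) (f10160 H).symm).trans (f5887 H)

theorem f10164 : g 8 • path g [9, 3, 2, 3, 6] p = path g [9, 8, 6, 8, 5, 3] p :=
  (congrArg (g 8 • ·) (f10160 H).symm).trans (f5895 H)

theorem f10166 : g 3 • path g [9, 8, 6, 8, 5, 3] p = path g [9, 3, 2, 3, 6] p :=
  H.back (i := 8) (by decide) (f10164 H)

theorem f10167 : g 2 • path g [9, 3, 2, 3, 6] p = path g [9, 8, 2, 1, 4, 8] p :=
  (congrArg (g 2 • ·) (f10160 H).symm).trans (f9910 H)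

theorem f10168 : path g [4, 2, 8, 1] p = path g [9, 8, 2, 1, 4, 8] p :=
  (f3632 H).symm.trans (f10167 H)

theorem f10169 : path g [9, 8, 2, 1, 4, 8] p = path g [4, 2, 8, 1] p :=
  (f10168 H).symm

theorem f10172 : g 8 • path g [4, 2, 8, 1] p = path g [9, 8, 2, 1, 8, 9] p :=
  (congrArg (g 8 • ·) (f10169 H).symm).trans (f5806 H)

theorem f10173 : path g [4, 2, 8, 1, 8] p = path g [9, 8, 2, 1, 8, 9] p :=
  (f5286 H).symm.trans (f10172 H)

theorem f10174 : g 9 • path g [4, 2, 8, 1] p = path g [9, 8, 2, 9, 1, 3] p :=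
  (congrArg (g 9 • ·) (f10169 H).symm).trans (f5808 H)

theorem f10175 : path g [4, 2, 8, 9, 1] p = path g [9, 8, 2, 9, 1, 3] p :=
  (f5252 H).symm.trans (f10174 H)

theorem f10179 : path g [9, 8, 2, 9, 1, 3] p = path g [4, 2, 8, 9, 1] p :=
  (f10175 H).symm

theorem f10180 : g 8 • path g [4, 2, 8, 9, 1] p = path g [9, 8, 2, 9, 1] p :=
  (congrArg (g 8 • ·) (f10179 H).symm).trans (f5501 H)

theorem f10182 : g 3 • path g [9, 8, 2, 9, 1] p = path g [4, 2, 8, 9, 1] p :=
  H.back (i := 8) (by decide) (f10180 H)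

theorem f10183 : g 3 • path g [4, 2, 8, 9, 1] p = path g [9, 8, 2, 9, 1, 8] p :=
  (congrArg (g 3 • ·) (f10179 H).symm).trans (f5502 H)

theorem f10189 : path g [9, 8, 2, 1, 8, 9] p = path g [4, 2, 8, 1, 8] p :=
  (f10173 H).symm

theorem f10190 : g 4 • path g [4, 2, 8, 1, 8] p = path g [9, 8, 2, 1, 8] p :=
  (congrArg (g 4 • ·) (f10189 H).symm).trans (f5747 H)

theorem f10192 : g 9 • path g [9, 8, 2, 1, 8] p = path g [4, 2, 8, 1, 8] p :=
  H.back (i := 4) (by decide) (f10190 H)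

theorem f10193 : g 8 • path g [4, 2, 8, 1, 8] p = path g [9, 8, 2, 1, 4] p :=
  (congrArg (g 8 • ·) (f10189 H).symm).trans (f5748 H)

theorem f10194 : path g [4, 2, 8, 1, 3] p = path g [9, 8, 2, 1, 4] p :=
  (f5291 H).symm.trans (f10193 H)

theorem f10195 : g 9 • path g [4, 2, 8, 1, 8] p = path g [9, 8, 2, 1, 8, 4] p :=
  (congrArg (g 9 • ·) (f10189 H).symm).trans (f5769 H)

theorem f10202 : g 8 • path g [9, 8, 2, 1, 4] p = path g [4, 2, 8, 1] p :=
  (f5804 H).trans (f10169 H)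

theorem f10207 : g 8 • path g [9, 8, 2, 1, 8, 4] p = path g [4, 2, 8, 1, 4] p :=
  scan (u := [9]) (w := [9, 8]) (i := 8) (r15_1_1 H) (step (f10195 H) rfl) (step (H.back (i := 4) (by decide) (f5292 H)) (step (H.back (i := 3) (by decide) (f5287 H)) rfl))

theorem f10209 : g 8 • path g [4, 2, 8, 1, 4] p = path g [9, 8, 2, 1, 3, 9] p :=
  scan (u := [8]) (w := [8]) (i := 8) (r6_1_0 H) (step (f10207 H) rfl) (step (H.back (i := 3) (by decide) (f5789 H)) rfl)

theorem f10211 : g 8 • path g [4, 2, 8, 1, 8] p = path g [9, 8, 2, 1, 4] p :=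
  (f5291 H).trans (f10194 H)

theorem f10212 : path g [3, 9, 2, 1, 4] p = path g [9, 2, 9, 3, 1, 8] p :=
  close (u := [8, 7]) (w := [3, 0, 2, 0, 1, 2, 0, 1]) (r7_1_8 H) (step (f10180 H) (step (f8231 H) rfl)) (step (H.back (i := 8) (by decide) (f7860 H)) (step (H.back (i := 5) (by decide) (f9613 H)) (step (H.back (i := 7) (by decide) (f5242 H)) (step (H.back (i := 5) (by decide) (f3809 H)) (step (H.back (i := 6) (by decide) (f9449 H)) (step (H.back (i := 7) (by decide) (f3801 H)) (step (H.back (i := 5) (by decide) (f3810 H)) (step (H.back (i := 6) (by decide) (f5248 H)) rfl))))))))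

theorem f10213 : path g [9, 2, 9, 3, 1, 8] p = path g [3, 9, 2, 1, 4] p :=
  (f10212 H).symm

theorem f10214 : g 3 • path g [3, 9, 2, 1, 4] p = path g [9, 2, 9, 3, 1] p :=
  (congrArg (g 3 • ·) (f10213 H).symm).trans (f7861 H)

theorem f10217 : g 8 • path g [3, 9, 2, 1, 4] p = path g [9, 2, 9, 3, 1, 3] p :=
  (congrArg (g 8 • ·) (f10213 H).symm).trans (f7869 H)

theorem f10219 : g 3 • path g [9, 2, 9, 3, 1, 3] p = path g [3, 9, 2, 1, 4] p :=
  H.back (i := 8) (by decide) (f10217 H)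

theorem f10220 : g 3 • path g [4, 2, 8, 1] p = path g [9, 8, 2, 1, 4] p :=
  (f5288 H).trans (f10194 H)

theorem f10221 : path g [9, 2, 9, 3, 1, 3] p = path g [4, 2, 5, 4, 2] p :=
  close (u := [8]) (w := [2, 3, 6, 5, 7, 6, 5, 7, 5]) (r7_0_9 H) (step (f10217 H) rfl) (step (H.back (i := 7) (by decide) (f5339 H)) (step (H.back (i := 8) (by decide) (f5306 H)) (step (H.back (i := 1) (by decide) (f8490 H)) (step (H.back (i := 0) (by decide) (f7768 H)) (step (H.back (i := 2) (by decide) (f2903 H)) (step (H.back (i := 1) (by decide) (f2916 H)) (step (H.back (i := 0) (by decide) (f5667 H)) (step (H.back (i := 2) (by decide) (f3456 H)) (step (H.back (i := 0) (by decide) (f7706 H)) rfl)))))))))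

theorem f10222 : g 8 • path g [4, 2, 5, 4, 2] p = path g [9, 2, 9, 3, 1] p :=
  (congrArg (g 8 • ·) (f10221 H).symm).trans (f7867 H)

theorem f10224 : g 3 • path g [9, 2, 9, 3, 1] p = path g [4, 2, 5, 4, 2] p :=
  H.back (i := 8) (by decide) (f10222 H)

theorem f10225 : g 3 • path g [4, 2, 5, 4, 2] p = path g [3, 9, 2, 1, 4] p :=
  (congrArg (g 3 • ·) (f10221 H).symm).trans (f10219 H)

theorem f10227 : g 8 • path g [3, 9, 2, 1, 4] p = path g [4, 2, 5, 4, 2] p :=
  H.back (i := 3) (by decide) (f10225 H)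

theorem f10228 : path g [4, 2, 4, 2, 5] p = path g [4, 2, 5, 4] p :=
  close (u := [8, 7, 5, 7, 5]) (w := [3, 1, 0, 2, 1, 0]) (r8_1_7 H) (step (f10227 H) (step (f5337 H) (step (f1308 H) (step (f1349 H) (step (f5408 H) rfl))))) (step (H.back (i := 8) (by decide) (f5306 H)) (step (H.back (i := 6) (by decide) (f7651 H)) (step (H.back (i := 5) (by decide) (f4482 H)) (step (H.back (i := 7) (by decide) (f4471 H)) (step (H.back (i := 6) (by decide) (f7683 H)) (step (H.back (i := 5) (by decide) (f7704 H)) rfl))))))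

theorem f10231 : g 5 • path g [4, 2, 5, 4] p = path g [4, 2, 4, 2] p :=
  (congrArg (g 5 • ·) (f10228 H).symm).trans (f5410 H)

theorem f10232 : path g [4, 2, 4] p = path g [4, 2, 4, 2] p :=
  (f1308 H).symm.trans (f10231 H)

theorem f10233 : path g [4, 2, 4, 2] p = path g [4, 2, 4] p :=
  (f10232 H).symm

theorem f10235 : g 7 • path g [4, 2, 4] p = path g [4, 2, 4] p :=
  (f1349 H).trans (f10233 H)

theorem f10238 : g 2 • path g [4, 2, 4] p = path g [4, 2, 4] p :=
  (f1346 H).trans (f10233 H)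

theorem f10298 : path g [9, 2, 4, 8, 1] p = path g [3, 9, 2, 1, 8] p :=
  close (u := [3, 4]) (w := [3, 4]) (r15_0_1 H) (step (f10214 H) (step (f3537 H) rfl)) (step (H.back (i := 8) (by decide) (f4570 H)) (step (H.back (i := 9) (by decide) (f4594 H)) rfl))

theorem f10299 : path g [3, 9, 2, 1, 8] p = path g [9, 2, 4, 8, 1] p :=
  (f10298 H).symm

theorem f10300 : g 3 • path g [9, 2, 4, 8, 1] p = path g [3, 9, 2, 1] p :=
  (congrArg (g 3 • ·) (f10299 H).symm).trans (f4571 H)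

theorem f10303 : g 8 • path g [9, 2, 4, 8, 1] p = path g [3, 9, 2, 1, 3] p :=
  (congrArg (g 8 • ·) (f10299 H).symm).trans (f4592 H)

theorem f10305 : g 3 • path g [3, 9, 2, 1, 3] p = path g [9, 2, 4, 8, 1] p :=
  H.back (i := 8) (by decide) (f10303 H)

theorem f10306 : g 2 • path g [9, 2, 4, 8, 1] p = path g [4, 8, 2, 1, 8] p :=
  (congrArg (g 2 • ·) (f10299 H).symm).trans (f5038 H)

theorem f10308 : g 7 • path g [4, 8, 2, 1, 8] p = path g [9, 2, 4, 8, 1] p :=
  H.back (i := 2) (by decide) (f10306 H)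

theorem f10309 : g 7 • path g [9, 2, 4, 8, 1] p = path g [4, 8, 2, 1, 8] p :=
  (congrArg (g 7 • ·) (f10299 H).symm).trans (f5039 H)

theorem f10311 : g 2 • path g [4, 8, 2, 1, 8] p = path g [9, 2, 4, 8, 1] p :=
  H.back (i := 7) (by decide) (f10309 H)

theorem f10312 : path g [4, 8, 2, 1, 8] p = path g [4, 8, 2, 1, 4] p :=
  close (u := [7]) (w := [5, 7, 5, 3, 1, 0, 2, 1, 0, 8]) (r8_1_8 H) (step (f10309 H) rfl) (step (H.back (i := 0) (by decide) (f9692 H)) (step (H.back (i := 2) (by decide) (f5117 H)) (step (H.back (i := 0) (by decide) (f8054 H)) (step (H.back (i := 8) (by decide) (f5323 H)) (step (H.back (i := 6) (by decide) (f5308 H)) (step (H.back (i := 5) (by decide) (f3428 H)) (step (H.back (i := 7) (by decide) (f3426 H)) (step (H.back (i := 6) (by decide) (f4576 H)) (step (H.back (i := 5) (by decide) (f4572 H)) (step (H.back (i := 3) (by decide) (f10300 H)) rfl))))))))))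

theorem f10313 : path g [4, 8, 2, 1, 4] p = path g [4, 8, 2, 1, 8] p :=
  (f10312 H).symm

theorem f10314 : g 9 • path g [4, 8, 2, 1, 8] p = path g [4, 8, 2, 1] p :=
  (congrArg (g 9 • ·) (f10313 H).symm).trans (f5046 H)

theorem f10316 : g 4 • path g [4, 8, 2, 1] p = path g [4, 8, 2, 1, 8] p :=
  H.back (i := 9) (by decide) (f10314 H)

theorem f10317 : g 4 • path g [4, 8, 2, 1, 8] p = path g [4, 8, 2, 9, 1] p :=
  (congrArg (g 4 • ·) (f10313 H).symm).trans (f5047 H)

theorem f10320 : g 6 • path g [4, 8, 2, 1, 8] p = path g [4, 8, 2, 4] p :=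
  (congrArg (g 6 • ·) (f10313 H).symm).trans (f5049 H)

theorem f10322 : g 1 • path g [4, 8, 2, 4] p = path g [4, 8, 2, 1, 8] p :=
  H.back (i := 6) (by decide) (f10320 H)

theorem f10323 : g 1 • path g [4, 8, 2, 1, 8] p = path g [4, 8, 2, 6, 4] p :=
  (congrArg (g 1 • ·) (f10313 H).symm).trans (f5051 H)

theorem f10325 : g 6 • path g [4, 8, 2, 6, 4] p = path g [4, 8, 2, 1, 8] p :=
  H.back (i := 1) (by decide) (f10323 H)

theorem f10326 : g 0 • path g [4, 8, 2, 1, 8] p = path g [4, 8, 6, 3, 2] p :=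
  (congrArg (g 0 • ·) (f10313 H).symm).trans (f9691 H)

theorem f10328 : g 5 • path g [4, 8, 6, 3, 2] p = path g [4, 8, 2, 1, 8] p :=
  H.back (i := 0) (by decide) (f10326 H)

theorem f10329 : g 5 • path g [4, 8, 2, 1, 8] p = path g [4, 8, 6, 3, 2] p :=
  (congrArg (g 5 • ·) (f10313 H).symm).trans (f9694 H)

theorem f10331 : g 0 • path g [4, 8, 6, 3, 2] p = path g [4, 8, 2, 1, 8] p :=
  H.back (i := 5) (by decide) (f10329 H)

theorem f10332 : g 5 • path g [3, 9, 6, 3, 2] p = path g [9, 2, 4, 8, 1] p :=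
  scan (u := [7, 5, 7, 5, 7, 4, 2, 0, 2, 0, 2, 0, 2, 0, 4, 5, 7]) (w := []) (i := 5) (r11_0_9 H) (step (f10309 H) (step (f10329 H) (step (f5118 H) (step (f8052 H) (step (f2862 H) (step (f2875 H) (step (f10157 H) (step (f3656 H) (step (f602 H) (step (f1649 H) (step (f604 H) (step (f3658 H) (step (f9955 H) (step (f10125 H) (step (f10122 H) (step (f4635 H) (step (f4632 H) rfl))))))))))))))))) rfl

theorem f10333 : g 0 • path g [9, 2, 4, 8, 1] p = path g [3, 9, 6, 3, 2] p :=
  H.back (i := 5) (by decide) (f10332 H)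

theorem f10334 : g 0 • path g [3, 9, 6, 3, 2] p = path g [9, 2, 4, 8, 1] p :=
  scan (u := [7, 5, 7, 5, 7, 9, 2]) (w := [2, 0, 2, 0, 2, 0, 9, 5, 7, 5]) (i := 0) (r11_1_16 H) (step (f10309 H) (step (f10329 H) (step (f5118 H) (step (f8052 H) (step (f2862 H) (step (f1017 H) (step (f4629 H) rfl))))))) (step (H.back (i := 7) (by decide) (f10308 H)) (step (H.back (i := 5) (by decide) (f10328 H)) (step (H.back (i := 7) (by decide) (f5120 H)) (step (H.back (i := 5) (by decide) (f8058 H)) (step (H.back (i := 7) (by decide) (f2864 H)) (step (H.back (i := 5) (by decide) (f2867 H)) (step (H.back (i := 4) (by decide) (f4637 H)) (step (H.back (i := 0) (by decide) (f4636 H)) (step (H.back (i := 2) (by decide) (f4631 H)) (step (H.back (i := 0) (by decide) (f10333 H)) rfl))))))))))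

theorem f10335 : g 5 • path g [9, 2, 4, 8, 1] p = path g [3, 9, 6, 3, 2] p :=
  H.back (i := 0) (by decide) (f10334 H)

theorem f10336 : path g [9, 2, 4, 8, 6] p = path g [4, 8, 2, 4, 2] p :=
  close (u := [2, 1]) (w := [2, 1]) (r3_0_1 H) (step (f10311 H) (step (f3534 H) rfl)) (step (H.back (i := 7) (by decide) (f5062 H)) (step (H.back (i := 6) (by decide) (f10320 H)) rfl))

theorem f10337 : path g [4, 8, 2, 4, 2] p = path g [9, 2, 4, 8, 6] p :=
  (f10336 H).symm

theorem f10338 : g 7 • path g [9, 2, 4, 8, 6] p = path g [4, 8, 2, 4] p :=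
  (congrArg (g 7 • ·) (f10337 H).symm).trans (f5060 H)

theorem f10340 : g 2 • path g [4, 8, 2, 4] p = path g [9, 2, 4, 8, 6] p :=
  H.back (i := 7) (by decide) (f10338 H)

theorem f10341 : g 2 • path g [9, 2, 4, 8, 6] p = path g [4, 8, 2, 4] p :=
  (congrArg (g 2 • ·) (f10337 H).symm).trans (f5061 H)

theorem f10344 : path g [3, 9, 6, 3, 2] p = path g [9, 8, 2, 1, 3, 6] p :=
  close (u := [2, 0]) (w := [1, 8, 7, 3, 0, 2, 0, 1]) (r7_1_5 H) (step (f10311 H) (step (f10333 H) rfl)) (step (H.back (i := 6) (by decide) (f5798 H)) (step (H.back (i := 3) (by decide) (f1690 H)) (step (H.back (i := 2) (by decide) (f392 H)) (step (H.back (i := 8) (by decide) (f429 H)) (step (H.back (i := 5) (by decide) (f7210 H)) (step (H.back (i := 7) (by decide) (f9946 H)) (step (H.back (i := 5) (by decide) (f2852 H)) (step (H.back (i := 6) (by decide) (f10320 H)) rfl))))))))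

theorem f10345 : path g [9, 8, 2, 1, 3, 6] p = path g [3, 9, 6, 3, 2] p :=
  (f10344 H).symm

theorem f10346 : g 1 • path g [3, 9, 6, 3, 2] p = path g [9, 8, 2, 1, 3] p :=
  (congrArg (g 1 • ·) (f10345 H).symm).trans (f5799 H)

theorem f10348 : g 6 • path g [9, 8, 2, 1, 3] p = path g [3, 9, 6, 3, 2] p :=
  H.back (i := 1) (by decide) (f10346 H)

theorem f10349 : g 6 • path g [3, 9, 6, 3, 2] p = path g [9, 8, 2, 1, 3, 1] p :=
  (congrArg (g 6 • ·) (f10345 H).symm).trans (f5803 H)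

theorem f10351 : g 1 • path g [9, 8, 2, 1, 3, 1] p = path g [3, 9, 6, 3, 2] p :=
  H.back (i := 6) (by decide) (f10349 H)

theorem f10353 : g 7 • path g [9, 8, 2, 1, 3, 1] p = path g [9, 2, 5, 8, 4] p :=
  scan (u := [6]) (w := [6, 7]) (i := 7) (r3_1_1 H) (step (f10349 H) rfl) (step (H.back (i := 1) (by decide) (f10006 H)) (step (H.back (i := 2) (by decide) (f4631 H)) rfl))

theorem f10354 : g 2 • path g [9, 2, 5, 8, 4] p = path g [9, 8, 2, 1, 3, 1] p :=
  H.back (i := 7) (by decide) (f10353 H)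

theorem f10355 : g 1 • path g [9, 8, 2, 1, 3, 5] p = path g [9, 2, 4, 8, 5] p :=
  scan (u := [6, 6, 0]) (w := [0, 1, 0]) (i := 1) (r4_0_1 H) (step (f10349 H) (step (f5801 H) (step (f5797 H) rfl))) (step (H.back (i := 5) (by decide) (f3522 H)) (step (H.back (i := 6) (by decide) (f3533 H)) (step (H.back (i := 5) (by decide) (f10332 H)) rfl)))

theorem f10356 : g 6 • path g [9, 2, 4, 8, 5] p = path g [9, 8, 2, 1, 3, 5] p :=
  H.back (i := 1) (by decide) (f10355 H)

theorem f10357 : path g [9, 3, 6, 3, 2] p = path g [3, 9, 2, 1, 3] p :=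
  close (u := [6, 7, 5, 6, 8, 0, 2, 0, 2]) (w := [3, 5]) (r8_0_5 H) (step (f10349 H) (step (f10353 H) (step (f7406 H) (step (f9832 H) (step (f10151 H) (step (f9820 H) (step (f8729 H) (step (f3762 H) (step (f3753 H) rfl))))))))) (step (H.back (i := 8) (by decide) (f10303 H)) (step (H.back (i := 0) (by decide) (f10334 H)) rfl))

theorem f10358 : path g [3, 9, 2, 1, 3] p = path g [9, 3, 6, 3, 2] p :=
  (f10357 H).symm

theorem f10359 : g 8 • path g [9, 3, 6, 3, 2] p = path g [3, 9, 2, 1] p :=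
  (congrArg (g 8 • ·) (f10358 H).symm).trans (f4590 H)

theorem f10361 : g 3 • path g [3, 9, 2, 1] p = path g [9, 3, 6, 3, 2] p :=
  H.back (i := 8) (by decide) (f10359 H)

theorem f10362 : g 3 • path g [9, 3, 6, 3, 2] p = path g [9, 2, 4, 8, 1] p :=
  (congrArg (g 3 • ·) (f10358 H).symm).trans (f10305 H)

theorem f10365 : g 5 • path g [9, 8, 2, 6, 4, 2] p = path g [9, 2, 4, 8, 2] p :=
  scan (u := [6, 7, 5, 6, 7, 5, 7, 1]) (w := [7, 1, 5]) (i := 5) (r5_1_3 H) (step (f10349 H) (step (f10353 H) (step (f7406 H) (step (f9832 H) (step (f9901 H) (step (f1434 H) (step (f1714 H) (step (f5744 H) rfl)))))))) (step (H.back (i := 2) (by decide) (f3518 H)) (step (H.back (i := 6) (by decide) (f3533 H)) (step (H.back (i := 0) (by decide) (f10334 H)) rfl)))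

theorem f10366 : g 0 • path g [9, 2, 4, 8, 2] p = path g [9, 8, 2, 6, 4, 2] p :=
  H.back (i := 5) (by decide) (f10365 H)

theorem f10367 : g 5 • path g [9, 2, 4, 8, 2] p = path g [9, 8, 2, 6, 4, 2] p :=
  scan (u := [5]) (w := []) (i := 5) (r0_1_0 H) (step (f10365 H) rfl) rfl

theorem f10368 : g 0 • path g [9, 8, 2, 6, 4, 2] p = path g [9, 2, 4, 8, 2] p :=
  H.back (i := 5) (by decide) (f10367 H)

theorem f10369 : g 7 • path g [9, 2, 5, 8, 4] p = path g [9, 8, 2, 1, 3, 1] p :=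
  scan (u := [5, 6, 7, 5, 7, 1, 5]) (w := [1, 5, 6, 7]) (i := 7) (r5_1_5 H) (step (f10367 H) (step (f5745 H) (step (f1712 H) (step (f1437 H) (step (f9906 H) (step (f9830 H) (step (f7401 H) rfl))))))) (step (H.back (i := 6) (by decide) (f10349 H)) (step (H.back (i := 0) (by decide) (f10333 H)) (step (H.back (i := 1) (by decide) (f3532 H)) (step (H.back (i := 2) (by decide) (f3520 H)) rfl))))

theorem f10370 : g 2 • path g [9, 8, 2, 1, 3, 1] p = path g [9, 2, 5, 8, 4] p :=
  H.back (i := 7) (by decide) (f10369 H)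

theorem f10371 : path g [9, 8, 2, 1, 3, 2] p = path g [3, 9, 6, 3, 6] p :=
  close (u := [7, 6, 7]) (w := [6]) (r3_1_0 H) (step (f10369 H) (step (f5801 H) (step (f5793 H) rfl))) (step (H.back (i := 1) (by decide) (f10119 H)) rfl)

theorem f10372 : g 7 • path g [3, 9, 6, 3, 6] p = path g [9, 8, 2, 1, 3] p :=
  (congrArg (g 7 • ·) (f10371 H).symm).trans (f5791 H)

theorem f10374 : g 2 • path g [9, 8, 2, 1, 3] p = path g [3, 9, 6, 3, 6] p :=
  H.back (i := 7) (by decide) (f10372 H)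

theorem f10375 : g 2 • path g [3, 9, 6, 3, 6] p = path g [9, 8, 2, 1, 3] p :=
  (congrArg (g 2 • ·) (f10371 H).symm).trans (f5792 H)

theorem f10378 : g 2 • path g [9, 8, 2, 1, 3, 5] p = path g [8, 6, 4, 2, 8] p :=
  scan (u := [2, 0]) (w := [3, 5, 6, 7, 5, 6, 8, 0]) (i := 2) (r8_0_0 H) (step (f10375 H) (step (f5797 H) rfl)) (step (H.back (i := 8) (by decide) (f4234 H)) (step (H.back (i := 0) (by decide) (f3072 H)) (step (H.back (i := 1) (by decide) (f476 H)) (step (H.back (i := 2) (by decide) (f468 H)) (step (H.back (i := 0) (by decide) (f3145 H)) (step (H.back (i := 1) (by decide) (f537 H)) (step (H.back (i := 3) (by decide) (f3495 H)) (step (H.back (i := 5) (by decide) (f10069 H)) rfl))))))))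

theorem f10379 : g 7 • path g [8, 6, 4, 2, 8] p = path g [9, 8, 2, 1, 3, 5] p :=
  H.back (i := 2) (by decide) (f10378 H)

theorem f10380 : path g [9, 8, 2, 1, 8, 5] p = path g [9, 8, 6, 3, 2] p :=
  close (u := [2, 3, 5]) (w := [6, 7, 5, 6, 8, 0, 2, 0]) (r8_0_2 H) (step (f10375 H) (step (f1692 H) (step (f5756 H) rfl))) (step (H.back (i := 1) (by decide) (f5961 H)) (step (H.back (i := 2) (by decide) (f5963 H)) (step (H.back (i := 0) (by decide) (f6460 H)) (step (H.back (i := 1) (by decide) (f4143 H)) (step (H.back (i := 3) (by decide) (f841 H)) (step (H.back (i := 5) (by decide) (f7218 H)) (step (H.back (i := 7) (by decide) (f4583 H)) (step (H.back (i := 5) (by decide) (f10069 H)) rfl))))))))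

theorem f10383 : g 5 • path g [9, 8, 6, 3, 2] p = path g [9, 8, 2, 1, 8] p :=
  (congrArg (g 5 • ·) (f10380 H).symm).trans (f5758 H)

theorem f10384 : path g [9, 8, 6, 3, 2, 5] p = path g [9, 8, 2, 1, 8] p :=
  (f5952 H).symm.trans (f10383 H)

theorem f10386 : g 0 • path g [9, 8, 2, 1, 8] p = path g [9, 8, 6, 3, 2] p :=
  (f5759 H).trans (f10380 H)

theorem f10389 : g 5 • path g [9, 8, 2, 1, 8] p = path g [9, 8, 6, 3, 2] p :=
  (f5756 H).trans (f10380 H)

theorem f10391 : g 0 • path g [8, 6, 4, 2, 8] p = path g [8, 6, 8, 9, 2] p :=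
  scan (u := [2, 0, 2]) (w := [2, 0, 2, 0, 4, 5, 7, 5, 7, 5, 7, 5, 7, 4]) (i := 0) (r11_0_15 H) (step (f10375 H) (step (f5797 H) (step (f10378 H) rfl))) (step (H.back (i := 7) (by decide) (f4009 H)) (step (H.back (i := 5) (by decide) (f7219 H)) (step (H.back (i := 7) (by decide) (f9888 H)) (step (H.back (i := 5) (by decide) (f8683 H)) (step (H.back (i := 9) (by decide) (f8691 H)) (step (H.back (i := 0) (by decide) (f7367 H)) (step (H.back (i := 2) (by decide) (f7375 H)) (step (H.back (i := 0) (by decide) (f5010 H)) (step (H.back (i := 2) (by decide) (f8520 H)) (step (H.back (i := 0) (by decide) (f8509 H)) (step (H.back (i := 2) (by decide) (f5632 H)) (step (H.back (i := 0) (by decide) (f3300 H)) (step (H.back (i := 2) (by decide) (f3354 H)) (step (H.back (i := 9) (by decide) (f10064 H)) rfl))))))))))))))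

theorem f10392 : g 5 • path g [8, 6, 8, 9, 2] p = path g [8, 6, 4, 2, 8] p :=
  H.back (i := 0) (by decide) (f10391 H)

theorem f10393 : g 0 • path g [9, 8, 6, 3, 2] p = path g [9, 8, 2, 1, 8] p :=
  (f5955 H).trans (f10384 H)

theorem f10394 : g 0 • path g [8, 6, 8, 9, 2] p = path g [8, 6, 4, 2, 8] p :=
  scan (u := [0]) (w := []) (i := 0) (r0_0_0 H) (step (f10391 H) rfl) rfl

theorem f10395 : g 5 • path g [8, 6, 4, 2, 8] p = path g [8, 6, 8, 9, 2] p :=
  H.back (i := 0) (by decide) (f10394 H)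

theorem f10396 : g 2 • path g [8, 6, 3, 9, 1] p = path g [9, 3, 6, 8, 6] p :=
  scan (u := [0, 2, 0, 1]) (w := [0, 1, 8, 7, 3]) (i := 2) (r7_1_1 H) (step (f10391 H) (step (f4008 H) (step (f6505 H) (step (f4143 H) rfl)))) (step (H.back (i := 5) (by decide) (f10120 H)) (step (H.back (i := 6) (by decide) (f2874 H)) (step (H.back (i := 3) (by decide) (f10076 H)) (step (H.back (i := 2) (by decide) (f10155 H)) (step (H.back (i := 8) (by decide) (f4239 H)) rfl)))))

theorem f10397 : g 7 • path g [9, 3, 6, 8, 6] p = path g [8, 6, 3, 9, 1] p :=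
  H.back (i := 2) (by decide) (f10396 H)

theorem f10398 : path g [8, 6, 8, 9, 6] p = path g [9, 8, 2, 1, 8] p :=
  close (u := [0, 2, 3, 5, 6, 7, 5, 6]) (w := [8, 0, 2]) (r8_0_1 H) (step (f10391 H) (step (f4008 H) (step (f859 H) (step (f9894 H) (step (f3742 H) (step (f9888 H) (step (f7219 H) (step (f4016 H) rfl)))))))) (step (H.back (i := 3) (by decide) (f1692 H)) (step (H.back (i := 5) (by decide) (f5796 H)) (step (H.back (i := 7) (by decide) (f10379 H)) rfl)))

theorem f10403 : g 6 • path g [9, 8, 2, 1, 8] p = path g [8, 6, 8, 9, 1] p :=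
  (congrArg (g 6 • ·) (f10398 H).symm).trans (f4023 H)

theorem f10404 : path g [9, 8, 2, 1, 8, 6] p = path g [8, 6, 8, 9, 1] p :=
  (f5760 H).symm.trans (f10403 H)

theorem f10407 : g 0 • path g [9, 8, 2, 1, 8] p = path g [9, 8, 6, 3, 6] p :=
  (congrArg (g 0 • ·) (f10398 H).symm).trans (f4077 H)

theorem f10408 : path g [9, 8, 6, 3, 2] p = path g [9, 8, 6, 3, 6] p :=
  (f10386 H).symm.trans (f10407 H)

theorem f10409 : g 9 • path g [9, 8, 2, 1, 8] p = path g [8, 6, 8, 6, 4] p :=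
  (congrArg (g 9 • ·) (f10398 H).symm).trans (f4098 H)

theorem f10410 : path g [4, 2, 8, 1, 8] p = path g [8, 6, 8, 6, 4] p :=
  (f10192 H).symm.trans (f10409 H)

theorem f10411 : g 3 • path g [8, 6, 8, 6, 4] p = path g [4, 2, 8, 1] p :=
  (congrArg (g 3 • ·) (f10410 H).symm).trans (f5287 H)

theorem f10413 : g 8 • path g [4, 2, 8, 1] p = path g [8, 6, 8, 6, 4] p :=
  H.back (i := 3) (by decide) (f10411 H)

theorem f10414 : g 8 • path g [8, 6, 8, 6, 4] p = path g [9, 8, 2, 1, 4] p :=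
  (congrArg (g 8 • ·) (f10410 H).symm).trans (f10211 H)

theorem f10416 : g 3 • path g [9, 8, 2, 1, 4] p = path g [8, 6, 8, 6, 4] p :=
  H.back (i := 8) (by decide) (f10414 H)

theorem f10418 : g 4 • path g [8, 6, 8, 6, 4] p = path g [9, 8, 2, 1, 8] p :=
  (f4097 H).trans (f10398 H)

theorem f10420 : g 9 • path g [8, 6, 8, 6, 4] p = path g [9, 8, 2, 1, 8, 4] p :=
  (congrArg (g 9 • ·) (f10410 H).symm).trans (f10195 H)

theorem f10421 : path g [8, 6, 8, 6] p = path g [9, 8, 2, 1, 8, 4] p :=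
  (f4096 H).symm.trans (f10420 H)

theorem f10422 : path g [9, 8, 2, 1, 8, 4] p = path g [8, 6, 8, 6] p :=
  (f10421 H).symm

theorem f10431 : g 8 • path g [8, 6, 8, 6] p = path g [4, 2, 8, 1, 4] p :=
  (congrArg (g 8 • ·) (f10422 H).symm).trans (f10207 H)

theorem f10432 : path g [8, 6, 8, 6, 8] p = path g [4, 2, 8, 1, 4] p :=
  (f4046 H).symm.trans (f10431 H)

theorem f10433 : path g [4, 2, 8, 1, 4] p = path g [8, 6, 8, 6, 8] p :=
  (f10432 H).symm

theorem f10434 : g 9 • path g [8, 6, 8, 6, 8] p = path g [4, 2, 8, 1] p :=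
  (congrArg (g 9 • ·) (f10433 H).symm).trans (f5293 H)

theorem f10436 : g 4 • path g [4, 2, 8, 1] p = path g [8, 6, 8, 6, 8] p :=
  H.back (i := 9) (by decide) (f10434 H)

theorem f10437 : g 4 • path g [8, 6, 8, 6, 8] p = path g [4, 2, 8, 9, 1] p :=
  (congrArg (g 4 • ·) (f10433 H).symm).trans (f5294 H)

theorem f10440 : g 6 • path g [8, 6, 8, 6, 8] p = path g [4, 2, 8, 4] p :=
  (congrArg (g 6 • ·) (f10433 H).symm).trans (f5296 H)

theorem f10442 : g 1 • path g [4, 2, 8, 4] p = path g [8, 6, 8, 6, 8] p :=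
  H.back (i := 6) (by decide) (f10440 H)

theorem f10443 : g 1 • path g [8, 6, 8, 6, 8] p = path g [4, 2, 8, 6, 4] p :=
  (congrArg (g 1 • ·) (f10433 H).symm).trans (f5298 H)

theorem f10445 : g 6 • path g [4, 2, 8, 6, 4] p = path g [8, 6, 8, 6, 8] p :=
  H.back (i := 1) (by decide) (f10443 H)

theorem f10449 : g 8 • path g [8, 6, 8, 6, 8] p = path g [9, 8, 2, 1, 3, 9] p :=
  (congrArg (g 8 • ·) (f10433 H).symm).trans (f10209 H)

theorem f10450 : path g [8, 6, 8, 6, 3] p = path g [9, 8, 2, 1, 3, 9] p :=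
  (f4094 H).symm.trans (f10449 H)

theorem f10451 : path g [9, 8, 2, 1, 3, 9] p = path g [8, 6, 8, 6, 3] p :=
  (f10450 H).symm

theorem f10452 : g 4 • path g [8, 6, 8, 6, 3] p = path g [9, 8, 2, 1, 3] p :=
  (congrArg (g 4 • ·) (f10451 H).symm).trans (f5785 H)

theorem f10454 : g 9 • path g [9, 8, 2, 1, 3] p = path g [8, 6, 8, 6, 3] p :=
  H.back (i := 4) (by decide) (f10452 H)

theorem f10455 : g 9 • path g [8, 6, 8, 6, 3] p = path g [9, 8, 2, 9, 1, 8] p :=
  (congrArg (g 9 • ·) (f10451 H).symm).trans (f5786 H)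

theorem f10457 : g 4 • path g [9, 8, 2, 9, 1, 8] p = path g [8, 6, 8, 6, 3] p :=
  H.back (i := 9) (by decide) (f10455 H)

theorem f10464 : path g [9, 8, 6, 3, 6] p = path g [9, 8, 6, 3, 2] p :=
  (f10408 H).symm

theorem f10476 : g 5 • path g [9, 8, 6, 3, 2] p = path g [9, 8, 2, 1, 8] p :=
  (f5952 H).trans (f10384 H)

theorem f10478 : g 9 • path g [9, 8, 6, 3, 2] p = path g [3, 6, 8, 6, 4] p :=
  (congrArg (g 9 • ·) (f10464 H).symm).trans (f4735 H)

theorem f10479 : path g [9, 8, 6, 3, 2, 9] p = path g [3, 6, 8, 6, 4] p :=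
  (f5948 H).symm.trans (f10478 H)

theorem f10482 : g 2 • path g [9, 8, 6, 3, 2] p = path g [9, 8, 6, 3, 2, 1] p :=
  (congrArg (g 2 • ·) (f10464 H).symm).trans (f5972 H)

theorem f10483 : path g [9, 8, 6, 3] p = path g [9, 8, 6, 3, 2, 1] p :=
  (f2885 H).symm.trans (f10482 H)

theorem f10486 : g 3 • path g [9, 8, 6, 3, 2] p = path g [9, 8, 6, 3, 6, 3] p :=
  (congrArg (g 3 • ·) (f10464 H).symm).trans (f6008 H)

theorem f10487 : path g [9, 8, 6, 3, 2, 3] p = path g [9, 8, 6, 3, 6, 3] p :=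
  (f5956 H).symm.trans (f10486 H)

theorem f10488 : path g [9, 8, 6, 3, 6, 3] p = path g [9, 8, 6, 3, 2, 3] p :=
  (f10487 H).symm

theorem f10492 : g 3 • path g [9, 8, 6, 3, 2, 3] p = path g [9, 8, 6, 3, 6, 8] p :=
  (congrArg (g 3 • ·) (f10488 H).symm).trans (f6010 H)

theorem f10493 : path g [9, 8, 6, 3, 2, 8] p = path g [9, 8, 6, 3, 6, 8] p :=
  (f5958 H).symm.trans (f10492 H)

theorem f10494 : path g [9, 8, 6, 3, 6, 8] p = path g [9, 8, 6, 3, 2, 8] p :=
  (f10493 H).symm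

theorem f10498 : g 9 • path g [9, 8, 6, 3, 2, 8] p = path g [3, 6, 8, 6, 3] p :=
  (congrArg (g 9 • ·) (f10494 H).symm).trans (f6006 H)

theorem f10504 : path g [9, 8, 6, 3, 2, 1] p = path g [9, 8, 6, 3] p :=
  (f10483 H).symm

theorem f10506 : g 6 • path g [9, 8, 6, 3] p = path g [9, 8, 6, 3, 2] p :=
  (f2893 H).trans (f10464 H)

theorem f10508 : g 1 • path g [9, 8, 6, 3] p = path g [9, 8, 6, 3, 2, 6] p :=
  (congrArg (g 1 • ·) (f10504 H).symm).trans (f5968 H)

theorem f10509 : path g [9, 8, 6, 3, 1] p = path g [9, 8, 6, 3, 2, 6] p :=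
  (f2897 H).symm.trans (f10508 H)

theorem f10516 : path g [9, 8, 6, 3, 2, 6] p = path g [9, 8, 6, 3, 1] p :=
  (f10509 H).symm

theorem f10518 : g 1 • path g [9, 8, 6, 3, 1] p = path g [9, 8, 6, 3, 2] p :=
  (f2899 H).trans (f10464 H)

theorem f10521 : g 7 • path g [9, 8, 6, 3, 1] p = path g [9, 8, 6, 3, 1] p :=
  (f5964 H).trans (f10516 H)

theorem f10524 : g 2 • path g [9, 8, 6, 3, 1] p = path g [9, 8, 6, 3, 1] p :=
  (f5963 H).trans (f10516 H)

theorem f10530 : g 4 • path g [3, 6, 8, 6, 4] p = path g [9, 8, 6, 3, 2] p :=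
  (f4734 H).trans (f10464 H)

theorem f10532 : g 9 • path g [3, 6, 8, 6, 4] p = path g [9, 8, 6, 3, 2, 4] p :=
  (congrArg (g 9 • ·) (f10479 H).symm).trans (f5977 H)

theorem f10533 : path g [3, 6, 8, 6] p = path g [9, 8, 6, 3, 2, 4] p :=
  (f4733 H).symm.trans (f10532 H)

theorem f10534 : path g [9, 8, 6, 3, 2, 4] p = path g [3, 6, 8, 6] p :=
  (f10533 H).symm

theorem f10536 : g 9 • path g [3, 6, 8, 6] p = path g [9, 8, 6, 3, 2] p :=
  (f2896 H).trans (f10464 H)

theorem f10542 : g 1 • path g [8, 6, 8, 9, 1] p = path g [9, 8, 2, 1, 8] p :=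
  (f4022 H).trans (f10398 H)

theorem f10544 : g 6 • path g [8, 6, 8, 9, 1] p = path g [9, 8, 2, 1, 8, 1] p :=
  (congrArg (g 6 • ·) (f10404 H).symm).trans (f5765 H)

theorem f10545 : path g [8, 6, 8, 9] p = path g [9, 8, 2, 1, 8, 1] p :=
  (f4021 H).symm.trans (f10544 H)

theorem f10546 : path g [9, 8, 2, 1, 8, 1] p = path g [8, 6, 8, 9] p :=
  (f10545 H).symm

theorem f10548 : g 6 • path g [8, 6, 8, 9] p = path g [9, 8, 2, 1, 8] p :=
  (f4016 H).trans (f10398 H)

theorem f10553 : g 2 • path g [3, 6, 3, 9] p = path g [4, 8, 6, 8] p :=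
  (f4760 H).trans (f9941 H)

theorem f10554 : g 3 • path g [9, 8, 6, 8, 6] p = path g [9, 3, 5, 6] p :=
  (f5916 H).trans (f10080 H)

theorem f10555 : g 1 • path g [9, 8, 2, 1, 8] p = path g [8, 6, 8, 9] p :=
  (f5762 H).trans (f10546 H)

theorem f10556 : g 1 • path g [8, 6, 8, 9, 2] p = path g [9, 8, 2, 1, 8, 2] p :=
  scan (u := [0]) (w := [2, 0, 1, 3, 5, 6, 5, 7, 5, 6, 8, 0, 2]) (i := 1) (r9_0_6 H) (step (f10391 H) rfl) (step (H.back (i := 7) (by decide) (f5753 H)) (step (H.back (i := 5) (by decide) (f10476 H)) (step (H.back (i := 6) (by decide) (f10506 H)) (step (H.back (i := 8) (by decide) (f431 H)) (step (H.back (i := 0) (by decide) (f2866 H)) (step (H.back (i := 1) (by decide) (f10106 H)) (step (H.back (i := 0) (by decide) (f8685 H)) (step (H.back (i := 2) (by decide) (f10135 H)) (step (H.back (i := 0) (by decide) (f6505 H)) (step (H.back (i := 1) (by decide) (f10555 H)) (step (H.back (i := 3) (by decide) (f1692 H)) (step (H.back (i :=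 5) (by decide) (f5796 H)) (step (H.back (i := 7) (by decide) (f10379 H)) rfl)))))))))))))

theorem f10557 : g 6 • path g [9, 8, 2, 1, 8, 2] p = path g [8, 6, 8, 9, 2] p :=
  H.back (i := 1) (by decide) (f10556 H)

theorem f10558 : g 1 • path g [9, 8, 2, 8, 1, 8] p = path g [9, 8, 2, 1, 3, 5] p :=
  scan (u := [0, 1, 3, 5, 6, 5, 7, 5, 6, 8, 0, 2, 0]) (w := [2]) (i := 1) (r9_0_9 H) (step (f10391 H) (step (f10556 H) (step (f5754 H) (step (f3713 H) (step (f1395 H) (step (f3398 H) (step (f261 H) (step (f2785 H) (step (f174 H) (step (f704 H) (step (f7207 H) (step (f4121 H) (step (f7747 H) rfl))))))))))))) (step (H.back (i := 7) (by decide) (f10379 H)) rfl)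

theorem f10559 : g 6 • path g [9, 8, 2, 1, 3, 5] p = path g [9, 8, 2, 8, 1, 8] p :=
  H.back (i := 1) (by decide) (f10558 H)

theorem f10560 : g 3 • path g [8, 9, 6, 8, 6] p = path g [9, 8, 2, 1, 8, 2] p :=
  scan (u := [5, 7, 6, 5, 7, 5, 8, 2]) (w := [6]) (i := 3) (r7_0_3 H) (step (f10392 H) (step (f10379 H) (step (f10559 H) (step (f7748 H) (step (f4122 H) (step (f6497 H) (step (f711 H) (step (f9918 H) rfl)))))))) (step (H.back (i := 1) (by decide) (f10556 H)) rfl)

theorem f10562 : g 3 • path g [9, 3, 5, 2, 1] p = path g [8, 9, 6, 8, 6] p :=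
  scan (u := [3, 3]) (w := []) (i := 3) (r6_0_0 H) (step (f10560 H) (step (f5754 H) rfl)) rfl

theorem f10564 : g 4 • path g [9, 8, 2, 1, 8, 2] p = path g [8, 6, 3, 6, 8] p :=
  scan (u := [3]) (w := [3, 4]) (i := 4) (r15_0_1 H) (step (f10560 H) rfl) (step (H.back (i := 8) (by decide) (f4167 H)) (step (H.back (i := 9) (by decide) (f3929 H)) rfl))

theorem f10565 : g 9 • path g [8, 6, 3, 6, 8] p = path g [9, 8, 2, 1, 8, 2] p :=
  H.back (i := 4) (by decide) (f10564 H)

theorem f10566 : g 5 • path g [9, 8, 2, 1, 8, 2] p = path g [8, 6, 4, 2, 3] p :=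
  scan (u := [3]) (w := [6, 7, 5, 6, 8, 0, 2, 0, 2]) (i := 5) (r8_0_3 H) (step (f10560 H) rfl) (step (H.back (i := 1) (by decide) (f10129 H)) (step (H.back (i := 2) (by decide) (f9740 H)) (step (H.back (i := 0) (by decide) (f9708 H)) (step (H.back (i := 1) (by decide) (f5514 H)) (step (H.back (i := 3) (by decide) (f1383 H)) (step (H.back (i := 5) (by decide) (f1434 H)) (step (H.back (i := 7) (by decide) (f9901 H)) (step (H.back (i := 5) (by decide) (f3949 H)) (step (H.back (i := 7) (by decide) (f9916 H)) rfl)))))))))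

theorem f10567 : g 0 • path g [8, 6, 4, 2, 3] p = path g [9, 8, 2, 1, 8, 2] p :=
  H.back (i := 5) (by decide) (f10566 H)

theorem f10568 : g 2 • path g [3, 6, 8, 1, 4] p = path g [3, 6, 8, 1, 4] p :=
  scan (u := [3, 5, 6, 5, 7, 5, 6, 8, 0, 2, 0, 1]) (w := [0, 1]) (i := 2) (r9_0_11 H) (step (f10560 H) (step (f10566 H) (step (f10130 H) (step (f9750 H) (step (f5889 H) (step (f2867 H) (step (f2869 H) (step (f10137 H) (step (f8449 H) (step (f4607 H) (step (f7217 H) (step (f4753 H) rfl)))))))))))) (step (H.back (i := 5) (by decide) (f7212 H)) (step (H.back (i := 6) (by decide) (f3934 H)) rfl))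

theorem f10570 : path g [3, 6, 8, 6, 4] p = path g [3, 6, 8, 4, 2] p :=
  close (u := [2, 1]) (w := [2, 1]) (r3_0_1 H) (step (f10568 H) (step (f4754 H) rfl)) (step (H.back (i := 7) (by decide) (f4759 H)) (step (H.back (i := 6) (by decide) (f4752 H)) rfl))

theorem f10571 : path g [3, 6, 8, 4, 2] p = path g [3, 6, 8, 6, 4] p :=
  (f10570 H).symm

theorem f10572 : g 7 • path g [3, 6, 8, 6, 4] p = path g [3, 6, 8, 4] p :=
  (congrArg (g 7 • ·) (f10571 H).symm).trans (f4757 H)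

theorem f10574 : g 2 • path g [3, 6, 8, 4] p = path g [3, 6, 8, 6, 4] p :=
  H.back (i := 7) (by decide) (f10572 H)

theorem f10575 : g 2 • path g [3, 6, 8, 6, 4] p = path g [3, 6, 8, 4] p :=
  (congrArg (g 2 • ·) (f10571 H).symm).trans (f4758 H)

theorem f10578 : path g [9, 8, 2, 1, 4, 2] p = path g [9, 8, 2, 4] p :=
  close (u := [2, 1, 0, 8, 7]) (w := [5, 7, 5, 3, 1, 0]) (r8_1_4 H) (step (f10568 H) (step (f4754 H) (step (f4738 H) (step (f10414 H) (step (f5813 H) rfl))))) (step (H.back (i := 0) (by decide) (f1436 H)) (step (H.back (i := 2) (by decide) (f9904 H)) (step (H.back (i := 0) (by decide) (f3952 H)) (step (H.back (i := 8) (by decide) (f711 H)) (step (H.back (i := 6) (by decide) (f3932 H)) (step (H.back (i := 5) (by decide) (f7216 H)) rfl))))))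

theorem f10585 : g 6 • path g [9, 8, 2, 4] p = path g [9, 8, 2, 6, 4, 2] p :=
  (congrArg (g 6 • ·) (f10578 H).symm).trans (f5817 H)

theorem f10586 : path g [9, 8, 2, 6, 4] p = path g [9, 8, 2, 6, 4, 2] p :=
  (f1683 H).symm.trans (f10585 H)

theorem f10587 : path g [9, 8, 2, 6, 4, 2] p = path g [9, 8, 2, 6, 4] p :=
  (f10586 H).symm

theorem f10592 : g 2 • path g [9, 8, 2, 6, 4] p = path g [9, 8, 2, 6, 4] p :=
  (f5740 H).trans (f10587 H)

theorem f10594 : g 6 • path g [9, 8, 2, 6, 4] p = path g [9, 8, 2, 4, 2] p :=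
  (congrArg (g 6 • ·) (f10587 H).symm).trans (f5745 H)

theorem f10595 : path g [9, 8, 2, 1, 4] p = path g [9, 8, 2, 4, 2] p :=
  (f1701 H).symm.trans (f10594 H)

theorem f10601 : g 0 • path g [9, 8, 2, 6, 4] p = path g [9, 2, 4, 8, 2] p :=
  (congrArg (g 0 • ·) (f10587 H).symm).trans (f10368 H)

theorem f10602 : path g [4, 8, 2, 6, 4] p = path g [9, 2, 4, 8, 2] p :=
  (f5030 H).symm.trans (f10601 H)

theorem f10603 : g 9 • path g [9, 2, 4, 8, 2] p = path g [4, 8, 2, 6] p :=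
  (congrArg (g 9 • ·) (f10602 H).symm).trans (f5026 H)

theorem f10605 : g 4 • path g [4, 8, 2, 6] p = path g [9, 2, 4, 8, 2] p :=
  H.back (i := 9) (by decide) (f10603 H)

theorem f10606 : g 4 • path g [9, 2, 4, 8, 2] p = path g [4, 8, 2, 9, 6] p :=
  (congrArg (g 4 • ·) (f10602 H).symm).trans (f5027 H)

theorem f10610 : g 5 • path g [9, 2, 4, 8, 2] p = path g [9, 8, 2, 6, 4] p :=
  (f10367 H).trans (f10587 H)

theorem f10613 : g 0 • path g [9, 2, 4, 8, 2] p = path g [9, 8, 2, 6, 4] p :=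
  (f10366 H).trans (f10587 H)

theorem f10615 : g 1 • path g [9, 2, 4, 8, 2] p = path g [4, 8, 2, 4] p :=
  (congrArg (g 1 • ·) (f10602 H).symm).trans (f5033 H)

theorem f10617 : g 6 • path g [4, 8, 2, 4] p = path g [9, 2, 4, 8, 2] p :=
  H.back (i := 1) (by decide) (f10615 H)

theorem f10618 : g 6 • path g [9, 2, 4, 8, 2] p = path g [4, 8, 2, 1, 8] p :=
  (congrArg (g 6 • ·) (f10602 H).symm).trans (f10325 H)

theorem f10620 : g 1 • path g [4, 8, 2, 1, 8] p = path g [9, 2, 4, 8, 2] p :=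
  H.back (i := 6) (by decide) (f10618 H)

theorem f10621 : path g [9, 8, 2, 4, 2] p = path g [9, 8, 2, 1, 4] p :=
  (f10595 H).symm

theorem f10623 : g 7 • path g [9, 8, 2, 1, 4] p = path g [9, 8, 2, 4] p :=
  (f5813 H).trans (f10578 H)

theorem f10626 : g 2 • path g [9, 8, 2, 1, 4] p = path g [9, 8, 2, 4] p :=
  (f5810 H).trans (f10578 H)

theorem f10633 : g 0 • path g [9, 8, 2, 1, 4] p = path g [9, 8, 2, 1, 5, 8] p :=
  (congrArg (g 0 • ·) (f10621 H).symm).trans (f5778 H)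

theorem f10634 : path g [4, 8, 6, 8, 1] p = path g [9, 8, 2, 1, 5, 8] p :=
  (f5115 H).symm.trans (f10633 H)

theorem f10672 : path g [9, 8, 2, 1, 5, 8] p = path g [4, 8, 6, 8, 1] p :=
  (f10634 H).symm

theorem f10673 : g 3 • path g [4, 8, 6, 8, 1] p = path g [9, 8, 2, 1, 5] p :=
  (congrArg (g 3 • ·) (f10672 H).symm).trans (f5771 H)

theorem f10676 : g 2 • path g [4, 8, 6, 8, 1] p = path g [9, 8, 2, 5, 1, 8] p :=
  (congrArg (g 2 • ·) (f10672 H).symm).trans (f5772 H)

theorem f10678 : g 7 • path g [9, 8, 2, 5, 1, 8] p = path g [4, 8, 6, 8, 1] p :=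
  H.back (i := 2) (by decide) (f10676 H)

theorem f10679 : g 7 • path g [4, 8, 6, 8, 1] p = path g [9, 8, 2, 5, 1, 8] p :=
  (congrArg (g 7 • ·) (f10672 H).symm).trans (f5774 H)

theorem f10681 : g 2 • path g [9, 8, 2, 5, 1, 8] p = path g [4, 8, 6, 8, 1] p :=
  H.back (i := 7) (by decide) (f10679 H)

theorem f10688 : g 8 • path g [4, 8, 6, 8, 1] p = path g [9, 8, 2, 1, 5, 3] p :=
  (congrArg (g 8 • ·) (f10672 H).symm).trans (f5783 H)

theorem f10690 : g 3 • path g [9, 8, 2, 1, 5, 3] p = path g [4, 8, 6, 8, 1] p :=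
  H.back (i := 8) (by decide) (f10688 H)

theorem f10691 : g 8 • path g [3, 9, 6, 8, 6] p = path g [4, 8, 6, 3, 2] p :=
  scan (u := [2, 0, 1, 0]) (w := [6, 5, 7, 6, 5, 7, 5, 3, 1, 0]) (i := 8) (r9_1_14 H) (step (f10568 H) (step (f7211 H) (step (f3933 H) (step (f4620 H) rfl)))) (step (H.back (i := 1) (by decide) (f9697 H)) (step (H.back (i := 0) (by decide) (f1435 H)) (step (H.back (i := 2) (by decide) (f10626 H)) (step (H.back (i := 1) (by decide) (f1699 H)) (step (H.back (i := 0) (by decide) (f1436 H)) (step (H.back (i := 2) (by decide) (f9904 H)) (step (H.back (i := 0) (by decide) (f3952 H)) (step (H.back (i := 8) (by decide) (f711 H)) (step (H.back (i := 6) (by decide) (f3932 H)) (step (H.back (i := 5) (by decide) (f7216 H)) rfl))))))))))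

theorem f10693 : g 7 • path g [8, 6, 3, 9, 1] p = path g [9, 3, 6, 8, 6] p :=
  scan (u := [2, 0, 4, 5, 7, 5]) (w := [5, 7, 5, 7, 4, 2, 0, 2, 0, 2, 0]) (i := 7) (r11_0_3 H) (step (f10568 H) (step (f7211 H) (step (f4150 H) (step (f6463 H) (step (f10521 H) (step (f6462 H) rfl)))))) (step (H.back (i := 0) (by decide) (f10124 H)) (step (H.back (i := 2) (by decide) (f8030 H)) (step (H.back (i := 0) (by decide) (f3593 H)) (step (H.back (i := 2) (by decide) (f10146 H)) (step (H.back (i := 9) (by decide) (f4149 H)) (step (H.back (i := 7) (by decide) (f10397 H)) (step (H.back (i := 5) (by decide) (f10120 H)) (step (H.back (i := 7) (by decide) (f8027 H)) (step (H.back (i := 5) (by decide) (f3591 H)) (step (H.back (i := 7) (by decide) (f10143 H)) (step (H.back (i := 5) (by decide) (f7216 H)) rfl)))))))))))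

theorem f10694 : g 2 • path g [9, 3, 6, 8, 6] p = path g [8, 6, 3, 9, 1] p :=
  H.back (i := 7) (by decide) (f10693 H)

theorem f10695 : g 2 • path g [9, 8, 2, 4] p = path g [9, 8, 2, 1, 4] p :=
  (f1711 H).trans (f10621 H)

theorem f10696 : g 7 • path g [9, 3, 6, 8, 1] p = path g [8, 6, 3, 9, 6] p :=
  scan (u := [7, 6]) (w := [6]) (i := 7) (r3_1_0 H) (step (f10693 H) (step (f3744 H) rfl)) (step (H.back (i := 1) (by decide) (f4145 H)) rfl)

theorem f10697 : g 2 • path g [8, 6, 3, 9, 6] p = path g [9, 3, 6, 8, 1] p :=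
  H.back (i := 7) (by decide) (f10696 H)

theorem f10698 : path g [9, 3, 2, 1, 3] p = path g [9, 8, 6, 3, 2] p :=
  close (u := [7, 6, 5, 7, 5, 8, 2, 3]) (w := [6, 5]) (r7_0_4 H) (step (f10693 H) (step (f3744 H) (step (f9823 H) (step (f8726 H) (step (f3765 H) (step (f633 H) (step (f604 H) (step (f3667 H) rfl)))))))) (step (H.back (i := 1) (by decide) (f10518 H)) (step (H.back (i := 0) (by decide) (f6460 H)) rfl))

theorem f10701 : g 3 • path g [9, 8, 6, 3, 2] p = path g [9, 3, 2, 1, 8] p :=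
  (congrArg (g 3 • ·) (f10698 H).symm).trans (f3669 H)

theorem f10702 : path g [9, 8, 6, 3, 2, 3] p = path g [9, 3, 2, 1, 8] p :=
  (f5956 H).symm.trans (f10701 H)

theorem f10704 : g 8 • path g [9, 3, 2, 1, 8] p = path g [9, 8, 6, 3, 2] p :=
  (f3670 H).trans (f10698 H)

theorem f10706 : g 3 • path g [9, 3, 2, 1, 8] p = path g [9, 8, 6, 3, 2, 8] p :=
  (congrArg (g 3 • ·) (f10702 H).symm).trans (f5958 H)

theorem f10707 : path g [9, 3, 2, 1] p = path g [9, 8, 6, 3, 2, 8] p :=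
  (f3654 H).symm.trans (f10706 H)

theorem f10708 : path g [9, 8, 6, 3, 2, 8] p = path g [9, 3, 2, 1] p :=
  (f10707 H).symm

theorem f10710 : g 3 • path g [9, 3, 2, 1] p = path g [9, 8, 6, 3, 2] p :=
  (f3667 H).trans (f10698 H)

theorem f10715 : g 9 • path g [9, 3, 2, 1] p = path g [3, 6, 8, 6, 3] p :=
  (congrArg (g 9 • ·) (f10708 H).symm).trans (f10498 H)

theorem f10716 : path g [9, 3, 2, 9, 1] p = path g [3, 6, 8, 6, 3] p :=
  (f3612 H).symm.trans (f10715 H)

theorem f10717 : path g [3, 6, 8, 6, 3] p = path g [9, 3, 2, 9, 1] p :=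
  (f10716 H).symm

theorem f10718 : g 8 • path g [9, 3, 2, 9, 1] p = path g [3, 6, 8, 6] p :=
  (congrArg (g 8 • ·) (f10717 H).symm).trans (f4729 H)

theorem f10720 : g 3 • path g [3, 6, 8, 6] p = path g [9, 3, 2, 9, 1] p :=
  H.back (i := 8) (by decide) (f10718 H)

theorem f10721 : g 3 • path g [9, 3, 2, 9, 1] p = path g [3, 6, 8, 6, 8] p :=
  (congrArg (g 3 • ·) (f10717 H).symm).trans (f4730 H)

theorem f10727 : g 8 • path g [9, 8, 6, 8, 1] p = path g [9, 2, 5, 4] p :=
  (f5926 H).trans (f10098 H)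

theorem f10728 : g 3 • path g [9, 2, 5, 4, 2] p = path g [3, 6, 3, 9, 1] p :=
  scan (u := [7, 5, 8, 2]) (w := [6, 5, 7, 6, 5]) (i := 3) (r7_0_7 H) (step (f10693 H) (step (f10091 H) (step (f10727 H) (step (f3450 H) rfl)))) (step (H.back (i := 1) (by decide) (f4782 H)) (step (H.back (i := 0) (by decide) (f6889 H)) (step (H.back (i := 2) (by decide) (f2885 H)) (step (H.back (i := 1) (by decide) (f10518 H)) (step (H.back (i := 0) (by decide) (f6460 H)) rfl)))))

theorem f10729 : g 8 • path g [3, 6, 3, 9, 1] p = path g [9, 2, 5, 4, 2] p :=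
  H.back (i := 3) (by decide) (f10728 H)

theorem f10730 : g 3 • path g [9, 2, 4, 8, 6] p = path g [3, 6, 3, 9, 6] p :=
  scan (u := [7, 5, 6, 8, 0, 2, 0, 2]) (w := [5, 6]) (i := 3) (r8_0_6 H) (step (f10693 H) (step (f10091 H) (step (f2872 H) (step (f431 H) (step (f6889 H) (step (f10553 H) (step (f2851 H) (step (f10340 H) rfl)))))))) (step (H.back (i := 0) (by decide) (f4779 H)) (step (H.back (i := 1) (by decide) (f4145 H)) rfl))

theorem f10731 : g 8 • path g [3, 6, 3, 9, 6] p = path g [9, 2, 4, 8, 6] p :=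
  H.back (i := 3) (by decide) (f10730 H)

theorem f10732 : g 3 • path g [9, 8, 6, 8, 1] p = path g [9, 2, 5, 4, 8] p :=
  (f5932 H).trans (f10023 H)

theorem f10733 : g 7 • path g [4, 8, 6, 8, 6] p = path g [3, 6, 3, 9, 1] p :=
  scan (u := [7, 5, 6, 7, 5, 7, 1, 5]) (w := [1, 5, 6]) (i := 7) (r5_1_4 H) (step (f10693 H) (step (f10091 H) (step (f2872 H) (step (f2864 H) (step (f8058 H) (step (f5120 H) (step (f9698 H) (step (f5580 H) rfl)))))))) (step (H.back (i := 6) (by decide) (f4785 H)) (step (H.back (i := 0) (by decide) (f4779 H)) (step (H.back (i := 1) (by decide) (f4145 H)) rfl)))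

theorem f10734 : g 2 • path g [3, 6, 3, 9, 1] p = path g [4, 8, 6, 8, 6] p :=
  H.back (i := 7) (by decide) (f10733 H)

theorem f10735 : path g [9, 8, 2, 5, 1, 8] p = path g [3, 6, 3, 9, 6] p :=
  close (u := [7, 5, 7, 1, 5, 7, 1, 5, 6, 7]) (w := [5, 6]) (r5_1_7 H) (step (f10693 H) (step (f10091 H) (step (f8032 H) (step (f8025 H) (step (f8058 H) (step (f5120 H) (step (f9698 H) (step (f5580 H) (step (f5110 H) (step (f10679 H) rfl)))))))))) (step (H.back (i := 0) (by decide) (f4779 H)) (step (H.back (i := 1) (by decide) (f4145 H)) rfl))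

theorem f10736 : g 3 • path g [3, 6, 3, 9, 6] p = path g [9, 8, 2, 5, 1] p :=
  (congrArg (g 3 • ·) (f10735 H).symm).trans (f5587 H)

theorem f10739 : g 8 • path g [3, 6, 3, 9, 6] p = path g [9, 8, 2, 5, 1, 3] p :=
  (congrArg (g 8 • ·) (f10735 H).symm).trans (f5591 H)

theorem f10740 : path g [9, 2, 4, 8, 6] p = path g [9, 8, 2, 5, 1, 3] p :=
  (f10731 H).symm.trans (f10739 H)

theorem f10741 : g 7 • path g [3, 6, 3, 9, 6] p = path g [4, 8, 6, 8, 1] p :=
  (congrArg (g 7 • ·) (f10735 H).symm).trans (f10678 H)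

theorem f10743 : g 2 • path g [4, 8, 6, 8, 1] p = path g [3, 6, 3, 9, 6] p :=
  H.back (i := 7) (by decide) (f10741 H)

theorem f10744 : g 2 • path g [3, 6, 3, 9, 6] p = path g [4, 8, 6, 8, 1] p :=
  (congrArg (g 2 • ·) (f10735 H).symm).trans (f10681 H)

theorem f10747 : path g [9, 8, 2, 5, 1, 3] p = path g [9, 2, 4, 8, 6] p :=
  (f10740 H).symm

theorem f10748 : g 8 • path g [9, 2, 4, 8, 6] p = path g [9, 8, 2, 5, 1] p :=
  (congrArg (g 8 • ·) (f10747 H).symm).trans (f5589 H)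

theorem f10750 : g 3 • path g [9, 8, 2, 5, 1] p = path g [9, 2, 4, 8, 6] p :=
  H.back (i := 8) (by decide) (f10748 H)

theorem f10755 : g 3 • path g [9, 8, 6, 3, 2] p = path g [9, 3, 2, 1, 8] p :=
  (f5956 H).trans (f10702 H)

theorem f10756 : g 0 • path g [9, 3, 6, 3, 1] p = path g [9, 3, 2, 1, 8] p :=
  scan (u := [7, 6, 5, 7, 5, 3, 1, 0, 2, 0, 1]) (w := [8, 6, 5]) (i := 0) (r9_1_6 H) (step (f10693 H) (step (f3744 H) (step (f9823 H) (step (f8726 H) (step (f3765 H) (step (f634 H) (step (f3741 H) (step (f9820 H) (step (f8729 H) (step (f3762 H) (step (f3776 H) rfl))))))))))) (step (H.back (i := 3) (by decide) (f10755 H)) (step (H.back (i := 1) (by decide) (f10518 H)) (step (H.back (i := 0) (by decide) (f6460 H)) rfl)))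

theorem f10759 : g 0 • path g [9, 3, 2, 1, 8] p = path g [9, 3, 6, 3, 1] p :=
  scan (u := [0]) (w := []) (i := 0) (r0_0_0 H) (step (f10756 H) rfl) rfl

theorem f10760 : g 5 • path g [9, 3, 6, 3, 1] p = path g [9, 3, 2, 1, 8] p :=
  H.back (i := 0) (by decide) (f10759 H)

theorem f10761 : g 4 • path g [9, 3, 2, 1, 8] p = path g [3, 9, 2, 1, 5] p :=
  scan (u := [0]) (w := [5, 9]) (i := 4) (r13_0_2 H) (step (f10756 H) rfl) (step (H.back (i := 0) (by decide) (f4575 H)) (step (H.back (i := 4) (by decide) (f3780 H)) rfl))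

theorem f10763 : g 9 • path g [9, 3, 2, 1, 8] p = path g [9, 2, 3, 9, 2] p :=
  scan (u := [0]) (w := [5, 4]) (i := 9) (r13_1_3 H) (step (f10756 H) rfl) (step (H.back (i := 0) (by decide) (f7706 H)) (step (H.back (i := 9) (by decide) (f4596 H)) rfl))

theorem f10764 : g 4 • path g [9, 2, 3, 9, 2] p = path g [9, 3, 2, 1, 8] p :=
  H.back (i := 9) (by decide) (f10763 H)

theorem f10765 : path g [9, 3, 6, 3, 2] p = path g [9, 3, 6, 3, 1] p :=
  close (u := [0, 2, 3, 5, 6, 7, 5, 6, 8, 0, 2]) (w := []) (r8_0_1 H) (step (f10756 H) (step (f3886 H) (step (f3884 H) (step (f3889 H) (step (f3893 H) (step (f3568 H) (step (f3430 H) (step (f8618 H) (step (f1704 H) (step (f3762 H) (step (f3753 H) rfl))))))))))) rfl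

theorem f10766 : path g [9, 3, 6, 3, 1] p = path g [9, 3, 6, 3, 2] p :=
  (f10765 H).symm

theorem f10767 : g 6 • path g [9, 3, 6, 3, 2] p = path g [9, 3, 6, 3] p :=
  (congrArg (g 6 • ·) (f10766 H).symm).trans (f3777 H)

theorem f10769 : g 1 • path g [9, 3, 6, 3] p = path g [9, 3, 6, 3, 2] p :=
  H.back (i := 6) (by decide) (f10767 H)

theorem f10770 : g 1 • path g [9, 3, 6, 3, 2] p = path g [9, 3, 6, 3, 6] p :=
  (congrArg (g 1 • ·) (f10766 H).symm).trans (f3778 H)

theorem f10773 : g 4 • path g [9, 3, 6, 3, 2] p = path g [3, 9, 2, 1] p :=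
  (congrArg (g 4 • ·) (f10766 H).symm).trans (f3780 H)

theorem f10776 : g 9 • path g [9, 3, 6, 3, 2] p = path g [3, 9, 2, 1, 4] p :=
  (congrArg (g 9 • ·) (f10766 H).symm).trans (f4596 H)

theorem f10778 : g 4 • path g [3, 9, 2, 1, 4] p = path g [9, 3, 6, 3, 2] p :=
  H.back (i := 9) (by decide) (f10776 H)

theorem f10779 : g 0 • path g [9, 3, 6, 3, 2] p = path g [9, 3, 2, 1, 8] p :=
  (congrArg (g 0 • ·) (f10766 H).symm).trans (f10756 H)

theorem f10781 : g 5 • path g [9, 3, 2, 1, 8] p = path g [9, 3, 6, 3, 2] p :=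
  H.back (i := 0) (by decide) (f10779 H)

theorem f10782 : g 5 • path g [9, 3, 6, 3, 2] p = path g [9, 3, 2, 1, 8] p :=
  (congrArg (g 5 • ·) (f10766 H).symm).trans (f10760 H)

theorem f10784 : g 0 • path g [9, 3, 2, 1, 8] p = path g [9, 3, 6, 3, 2] p :=
  H.back (i := 5) (by decide) (f10782 H)

theorem f10785 : g 7 • path g [3, 6, 3, 9] p = path g [4, 8, 6, 8] p :=
  (f4763 H).trans (f9941 H)

theorem f10786 : g 3 • path g [4, 8, 2, 4] p = path g [3, 9, 6, 8, 2] p :=
  (f5005 H).trans (f8434 H)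

theorem f10787 : g 6 • path g [9, 3, 2, 1, 8] p = path g [3, 9, 6, 8, 2] p :=
  scan (u := [5]) (w := [8, 0, 2, 0, 2, 3, 5, 6, 7]) (i := 6) (r8_0_7 H) (step (f10782 H) rfl) (step (H.back (i := 3) (by decide) (f10786 H)) (step (H.back (i := 5) (by decide) (f2850 H)) (step (H.back (i := 7) (by decide) (f10785 H)) (step (H.back (i := 5) (by decide) (f6892 H)) (step (H.back (i := 7) (by decide) (f2884 H)) (step (H.back (i := 8) (by decide) (f10704 H)) (step (H.back (i := 0) (by decide) (f10779 H)) (step (H.back (i := 1) (by decide) (f10769 H)) (step (H.back (i := 2) (by decide) (f3755 H)) rfl)))))))))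

theorem f10788 : g 1 • path g [3, 9, 6, 8, 2] p = path g [9, 3, 2, 1, 8] p :=
  H.back (i := 6) (by decide) (f10787 H)

theorem f10789 : path g [8, 6, 3, 9, 6] p = path g [9, 2, 8, 1, 3] p :=
  close (u := [5, 6, 8, 0, 2, 0, 1, 2, 0, 1]) (w := [3, 5, 6, 5, 7]) (r9_0_1 H) (step (f10782 H) (step (f10787 H) (step (f8451 H) (step (f2849 H) (step (f9949 H) (step (f7214 H) (step (f2897 H) (step (f10524 H) (step (f6465 H) (step (f4145 H) rfl)))))))))) (step (H.back (i := 8) (by decide) (f3320 H)) (step (H.back (i := 0) (by decide) (f9708 H)) (step (H.back (i := 1) (by decide) (f5514 H)) (step (H.back (i := 0) (by decide) (f3767 H)) (step (H.back (i := 2) (by decide) (f3755 H)) rfl)))))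

theorem f10790 : g 1 • path g [9, 2, 8, 1, 3] p = path g [8, 6, 3, 9] p :=
  (congrArg (g 1 • ·) (f10789 H).symm).trans (f4138 H)

theorem f10793 : g 9 • path g [9, 2, 8, 1, 3] p = path g [8, 9, 6, 8, 6] p :=
  (congrArg (g 9 • ·) (f10789 H).symm).trans (f4139 H)

theorem f10795 : g 4 • path g [8, 9, 6, 8, 6] p = path g [9, 2, 8, 1, 3] p :=
  H.back (i := 9) (by decide) (f10793 H)

theorem f10796 : g 4 • path g [9, 2, 8, 1, 3] p = path g [8, 6, 3, 6] p :=
  (congrArg (g 4 • ·) (f10789 H).symm).trans (f4141 H)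

theorem f10797 : path g [9, 2, 8, 9, 1, 8] p = path g [8, 6, 3, 6] p :=
  (f7922 H).symm.trans (f10796 H)

theorem f10798 : g 6 • path g [9, 2, 8, 1, 3] p = path g [8, 6, 3, 9, 1] p :=
  (congrArg (g 6 • ·) (f10789 H).symm).trans (f4146 H)

theorem f10800 : g 1 • path g [8, 6, 3, 9, 1] p = path g [9, 2, 8, 1, 3] p :=
  H.back (i := 6) (by decide) (f10798 H)

theorem f10801 : g 0 • path g [9, 2, 8, 1, 3] p = path g [3, 6, 3, 9, 6] p :=
  (congrArg (g 0 • ·) (f10789 H).symm).trans (f4779 H)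

theorem f10804 : g 5 • path g [9, 2, 8, 1, 3] p = path g [3, 6, 3, 9, 6] p :=
  (congrArg (g 5 • ·) (f10789 H).symm).trans (f4780 H)

theorem f10806 : g 0 • path g [3, 6, 3, 9, 6] p = path g [9, 2, 8, 1, 3] p :=
  H.back (i := 5) (by decide) (f10804 H)

theorem f10807 : g 2 • path g [9, 2, 8, 1, 3] p = path g [9, 3, 6, 8, 1] p :=
  (congrArg (g 2 • ·) (f10789 H).symm).trans (f10697 H)

theorem f10815 : g 8 • path g [8, 6, 3, 6] p = path g [9, 2, 8, 9, 1, 3] p :=
  (congrArg (g 8 • ·) (f10797 H).symm).trans (f7926 H)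

theorem f10816 : path g [8, 6, 3, 6, 8] p = path g [9, 2, 8, 9, 1, 3] p :=
  (f4167 H).symm.trans (f10815 H)

theorem f10817 : path g [9, 2, 8, 9, 1, 3] p = path g [8, 6, 3, 6, 8] p :=
  (f10816 H).symm

theorem f10818 : g 8 • path g [8, 6, 3, 6, 8] p = path g [9, 2, 8, 9, 1] p :=
  (congrArg (g 8 • ·) (f10817 H).symm).trans (f7924 H)

theorem f10819 : path g [8, 6, 3, 6, 3] p = path g [9, 2, 8, 9, 1] p :=
  (f4193 H).symm.trans (f10818 H)

theorem f10824 : g 8 • path g [9, 2, 8, 9, 1] p = path g [8, 6, 3, 6] p :=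
  (f7919 H).trans (f10797 H)

theorem f10827 : g 3 • path g [9, 2, 8, 9, 1] p = path g [8, 6, 3, 6, 8] p :=
  (f7923 H).trans (f10817 H)

theorem f10829 : path g [8, 9, 2, 1, 8] p = path g [3, 9, 6, 8, 6] p :=
  close (u := [5, 7]) (w := [5, 7, 5, 7, 5, 7, 4, 2, 0, 2, 0, 2, 0, 2, 0, 4]) (r11_0_6 H) (step (f10782 H) (step (f3887 H) rfl)) (step (H.back (i := 0) (by decide) (f4620 H)) (step (H.back (i := 2) (by decide) (f9918 H)) (step (H.back (i := 0) (by decide) (f3950 H)) (step (H.back (i := 2) (by decide) (f9903 H)) (step (H.back (i := 0) (by decide) (f1435 H)) (step (H.back (i := 2) (by decide) (f10626 H)) (step (H.back (i := 9) (by decide) (f1697 H)) (step (H.back (i := 7) (by decide) (f8226 H)) (step (H.back (i := 5) (by decide) (f7707 H)) (step (H.back (i := 7) (by decide) (f3457 H)) (step (H.back (i := 5) (by decide) (f5665 H)) (step (H.back (i := 7) (by decide) (f8389 H)) (step (H.back (i := 5) (by decide) (f5670 H)) (step (H.back (i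 := 7) (by decide) (f3455 H)) (step (H.back (i := 5) (by decide) (f7704 H)) (step (H.back (i := 9) (by decide) (f10776 H)) rfl))))))))))))))))

theorem f10830 : path g [3, 9, 6, 8, 6] p = path g [8, 9, 2, 1, 8] p :=
  (f10829 H).symm

theorem f10831 : g 1 • path g [8, 9, 2, 1, 8] p = path g [3, 9, 6, 8] p :=
  (congrArg (g 1 • ·) (f10830 H).symm).trans (f4616 H)

theorem f10834 : g 9 • path g [8, 9, 2, 1, 8] p = path g [3, 6, 3, 6] p :=
  (congrArg (g 9 • ·) (f10830 H).symm).trans (f4617 H)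

theorem f10836 : g 4 • path g [3, 6, 3, 6] p = path g [8, 9, 2, 1, 8] p :=
  H.back (i := 9) (by decide) (f10834 H)

theorem f10837 : g 5 • path g [8, 9, 2, 1, 8] p = path g [8, 9, 6, 8, 6] p :=
  (congrArg (g 5 • ·) (f10830 H).symm).trans (f4619 H)

theorem f10839 : g 0 • path g [8, 9, 6, 8, 6] p = path g [8, 9, 2, 1, 8] p :=
  H.back (i := 5) (by decide) (f10837 H)

theorem f10840 : g 0 • path g [8, 9, 2, 1, 8] p = path g [8, 9, 6, 8, 6] p :=
  (congrArg (g 0 • ·) (f10830 H).symm).trans (f4622 H)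

theorem f10843 : g 6 • path g [8, 9, 2, 1, 8] p = path g [3, 9, 6, 8, 1] p :=
  (congrArg (g 6 • ·) (f10830 H).symm).trans (f4626 H)

theorem f10845 : g 1 • path g [3, 9, 6, 8, 1] p = path g [8, 9, 2, 1, 8] p :=
  H.back (i := 6) (by decide) (f10843 H)

theorem f10846 : g 4 • path g [8, 9, 2, 1, 8] p = path g [3, 6, 3, 9, 6] p :=
  (congrArg (g 4 • ·) (f10830 H).symm).trans (f4775 H)

theorem f10849 : g 8 • path g [8, 9, 2, 1, 8] p = path g [4, 8, 6, 3, 2] p :=
  (congrArg (g 8 • ·) (f10830 H).symm).trans (f10691 H)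

theorem f10850 : path g [8, 9, 2, 1, 3] p = path g [4, 8, 6, 3, 2] p :=
  (f3898 H).symm.trans (f10849 H)

theorem f10851 : path g [4, 8, 6, 3, 2] p = path g [8, 9, 2, 1, 3] p :=
  (f10850 H).symm

theorem f10852 : g 7 • path g [8, 9, 2, 1, 3] p = path g [4, 8, 6, 3] p :=
  (congrArg (g 7 • ·) (f10851 H).symm).trans (f5118 H)

theorem f10854 : g 2 • path g [4, 8, 6, 3] p = path g [8, 9, 2, 1, 3] p :=
  H.back (i := 7) (by decide) (f10852 H)

theorem f10855 : g 2 • path g [8, 9, 2, 1, 3] p = path g [4, 8, 6, 3] p :=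
  (congrArg (g 2 • ·) (f10851 H).symm).trans (f5119 H)

theorem f10858 : g 9 • path g [8, 9, 2, 1, 3] p = path g [9, 8, 2, 5, 1] p :=
  (congrArg (g 9 • ·) (f10851 H).symm).trans (f9683 H)

theorem f10860 : g 4 • path g [9, 8, 2, 5, 1] p = path g [8, 9, 2, 1, 3] p :=
  H.back (i := 9) (by decide) (f10858 H)

theorem f10861 : g 4 • path g [8, 9, 2, 1, 3] p = path g [9, 8, 2, 9, 5, 1] p :=
  (congrArg (g 4 • ·) (f10851 H).symm).trans (f9686 H)

theorem f10864 : g 5 • path g [8, 9, 2, 1, 3] p = path g [4, 8, 2, 1, 8] p :=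
  (congrArg (g 5 • ·) (f10851 H).symm).trans (f10328 H)

theorem f10866 : g 0 • path g [4, 8, 2, 1, 8] p = path g [8, 9, 2, 1, 3] p :=
  H.back (i := 5) (by decide) (f10864 H)

theorem f10867 : g 0 • path g [8, 9, 2, 1, 3] p = path g [4, 8, 2, 1, 8] p :=
  (congrArg (g 0 • ·) (f10851 H).symm).trans (f10331 H)

theorem f10869 : g 5 • path g [4, 8, 2, 1, 8] p = path g [8, 9, 2, 1, 3] p :=
  H.back (i := 0) (by decide) (f10867 H)

theorem f10870 : g 6 • path g [8, 9, 2, 1, 3] p = path g [9, 8, 2, 5, 4] p :=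
  (congrArg (g 6 • ·) (f10851 H).symm).trans (f9695 H)

theorem f10872 : g 1 • path g [9, 8, 2, 5, 4] p = path g [8, 9, 2, 1, 3] p :=
  H.back (i := 6) (by decide) (f10870 H)

theorem f10873 : g 1 • path g [8, 9, 2, 1, 3] p = path g [9, 8, 2, 5, 6, 4] p :=
  (congrArg (g 1 • ·) (f10851 H).symm).trans (f9698 H)

theorem f10875 : g 6 • path g [9, 8, 2, 5, 6, 4] p = path g [8, 9, 2, 1, 3] p :=
  H.back (i := 1) (by decide) (f10873 H)

theorem f10880 : g 3 • path g [3, 9, 2, 1, 5] p = path g [3, 6, 8, 6, 4] p :=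
  scan (u := [0, 8, 7, 5, 7, 5]) (w := [1, 0, 2, 1]) (i := 3) (r8_1_6 H) (step (f10784 H) (step (f10359 H) (step (f969 H) (step (f279 H) (step (f967 H) (step (f4572 H) rfl)))))) (step (H.back (i := 6) (by decide) (f4741 H)) (step (H.back (i := 5) (by decide) (f7209 H)) (step (H.back (i := 7) (by decide) (f4606 H)) (step (H.back (i := 6) (by decide) (f10787 H)) rfl))))

theorem f10882 : g 5 • path g [9, 8, 2, 6, 4] p = path g [9, 2, 4, 8, 2] p :=
  (f5032 H).trans (f10602 H)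

theorem f10883 : path g [9, 8, 2, 8, 9, 1] p = path g [9, 8, 2, 8, 1, 3] p :=
  close (u := [3, 1, 0, 2, 0, 1, 0]) (w := [8, 6, 5, 7, 6, 5, 7, 5]) (r9_1_11 H) (step (f10880 H) (step (f4740 H) (step (f6877 H) (step (f4605 H) (step (f8444 H) (step (f10153 H) (step (f9713 H) rfl))))))) (step (H.back (i := 3) (by decide) (f5562 H)) (step (H.back (i := 1) (by decide) (f1394 H)) (step (H.back (i := 0) (by decide) (f3390 H)) (step (H.back (i := 2) (by decide) (f260 H)) (step (H.back (i := 1) (by decide) (f273 H)) (step (H.back (i := 0) (by decide) (f278 H)) (step (H.back (i := 2) (by decide) (f966 H)) (step (H.back (i := 0) (by decide) (f4573 H)) rfl))))))))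

theorem f10884 : path g [9, 8, 2, 8, 1, 3] p = path g [9, 8, 2, 8, 9, 1] p :=
  (f10883 H).symm

theorem f10885 : g 8 • path g [9, 8, 2, 8, 9, 1] p = path g [9, 8, 2, 8, 1] p :=
  (congrArg (g 8 • ·) (f10884 H).symm).trans (f5563 H)

theorem f10887 : g 3 • path g [9, 8, 2, 8, 1] p = path g [9, 8, 2, 8, 9, 1] p :=
  H.back (i := 8) (by decide) (f10885 H)

theorem f10888 : g 3 • path g [9, 8, 2, 8, 9, 1] p = path g [9, 8, 2, 8, 1, 8] p :=
  (congrArg (g 3 • ·) (f10884 H).symm).trans (f5564 H)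

theorem f10890 : g 8 • path g [9, 8, 2, 8, 1, 8] p = path g [9, 8, 2, 8, 9, 1] p :=
  H.back (i := 3) (by decide) (f10888 H)

theorem f10892 : path g [9, 8, 6, 8, 2, 8] p = path g [8, 6, 4, 8, 6] p :=
  close (u := [3, 0, 2, 0, 1, 2, 0, 1, 8]) (w := [7]) (r7_1_0 H) (step (f10888 H) (step (f7745 H) (step (f4123 H) (step (f6494 H) (step (f3931 H) (step (f10146 H) (step (f3593 H) (step (f8025 H) (step (f5860 H) rfl))))))))) (step (H.back (i := 2) (by decide) (f9780 H)) rfl)

theorem f10893 : g 3 • path g [8, 6, 4, 8, 6] p = path g [9, 8, 6, 8, 2] p :=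
  (congrArg (g 3 • ·) (f10892 H).symm).trans (f5861 H)

theorem f10895 : g 8 • path g [9, 8, 6, 8, 2] p = path g [8, 6, 4, 8, 6] p :=
  H.back (i := 3) (by decide) (f10893 H)

theorem f10896 : g 8 • path g [8, 6, 4, 8, 6] p = path g [4, 2, 5, 8, 6] p :=
  (congrArg (g 8 • ·) (f10892 H).symm).trans (f5862 H)

theorem f10898 : g 3 • path g [4, 2, 5, 8, 6] p = path g [8, 6, 4, 8, 6] p :=
  H.back (i := 8) (by decide) (f10896 H)

theorem f10899 : path g [3, 9, 6, 3, 5] p = path g [9, 8, 6, 8, 5, 3] p :=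
  close (u := [3, 1, 0, 2, 1, 0]) (w := [8, 7, 5, 7, 5]) (r8_1_1 H) (step (f10888 H) (step (f10558 H) (step (f5795 H) (step (f10374 H) (step (f4640 H) (step (f4636 H) rfl)))))) (step (H.back (i := 3) (by decide) (f5892 H)) (step (H.back (i := 2) (by decide) (f5890 H)) (step (H.back (i := 0) (by decide) (f9747 H)) (step (H.back (i := 2) (by decide) (f9740 H)) (step (H.back (i := 0) (by decide) (f9708 H)) rfl)))))

theorem f10900 : path g [9, 8, 6, 8, 5, 3] p = path g [3, 9, 6, 3, 5] p :=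
  (f10899 H).symm

theorem f10901 : g 8 • path g [3, 9, 6, 3, 5] p = path g [9, 8, 6, 8, 5] p :=
  (congrArg (g 8 • ·) (f10900 H).symm).trans (f5893 H)

theorem f10903 : g 3 • path g [9, 8, 6, 8, 5] p = path g [3, 9, 6, 3, 5] p :=
  H.back (i := 8) (by decide) (f10901 H)

theorem f10904 : g 3 • path g [3, 9, 6, 3, 5] p = path g [9, 3, 2, 3, 6] p :=
  (congrArg (g 3 • ·) (f10900 H).symm).trans (f10166 H)

theorem f10907 : g 1 • path g [9, 2, 4, 8, 5] p = path g [9, 8, 2, 8, 1, 8] p :=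
  scan (u := [8, 7, 3, 0, 2, 0, 1, 2, 0]) (w := []) (i := 1) (r7_1_8 H) (step (f10890 H) (step (f9777 H) (step (f10893 H) (step (f8054 H) (step (f10854 H) (step (f10867 H) (step (f10620 H) (step (f3520 H) (step (f3525 H) rfl))))))))) rfl

theorem f10909 : g 9 • path g [9, 8, 2, 8, 1, 8] p = path g [9, 2, 9, 3, 5, 1] p :=
  scan (u := [1]) (w := [6, 4]) (i := 9) (r14_1_1 H) (step (f10907 H) rfl) (step (H.back (i := 1) (by decide) (f7846 H)) (step (H.back (i := 9) (by decide) (f3526 H)) rfl))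

theorem f10910 : g 4 • path g [9, 2, 9, 3, 5, 1] p = path g [9, 8, 2, 8, 1, 8] p :=
  H.back (i := 9) (by decide) (f10909 H)

theorem f10911 : g 8 • path g [8, 6, 8, 4, 2] p = path g [8, 9, 2, 1, 5] p :=
  scan (u := [1, 0]) (w := [6, 5, 7, 6, 5, 7, 5, 3, 1, 0, 2, 0]) (i := 8) (r9_1_1 H) (step (f10907 H) (step (f7745 H) rfl)) (step (H.back (i := 1) (by decide) (f3894 H)) (step (H.back (i := 0) (by decide) (f3572 H)) (step (H.back (i := 2) (by decide) (f1198 H)) (step (H.back (i := 1) (by decide) (f1209 H)) (step (H.back (i := 0) (by decide) (f1635 H)) (step (H.back (i := 2) (by decide) (f5069 H)) (step (H.back (i := 0) (by decide) (f5072 H)) (step (H.back (i := 8) (by decide) (f10202 H)) (step (H.back (i := 6) (by decide) (f1701 H)) (step (H.back (i := 5) (by decide) (f10610 H)) (step (H.back (i := 7) (by decide) (f3521 H)) (step (H.back (i := 5) (by decide) (f3524 H)) rfl))))))))))))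

theorem f10912 : g 3 • path g [8, 9, 2, 1, 5] p = path g [8, 6, 8, 4, 2] p :=
  H.back (i := 8) (by decide) (f10911 H)

theorem f10913 : g 0 • path g [9, 8, 2, 6, 4] p = path g [9, 2, 4, 8, 2] p :=
  (f5030 H).trans (f10602 H)

theorem f10914 : g 4 • path g [9, 2, 9, 3, 5, 6] p = path g [9, 8, 2, 1, 3, 5] p :=
  scan (u := [9, 1]) (w := [6]) (i := 4) (r14_0_3 H) (step (f10909 H) (step (f7848 H) rfl)) (step (H.back (i := 1) (by decide) (f10558 H)) rfl)

theorem f10916 : g 8 • path g [9, 2, 9, 3, 5, 1] p = path g [4, 8, 1, 8, 1] p :=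
  scan (u := [9]) (w := [9, 8]) (i := 8) (r15_1_1 H) (step (f10909 H) rfl) (step (H.back (i := 4) (by decide) (f5152 H)) (step (H.back (i := 3) (by decide) (f5561 H)) rfl))

theorem f10917 : g 3 • path g [4, 8, 1, 8, 1] p = path g [9, 2, 9, 3, 5, 1] p :=
  H.back (i := 8) (by decide) (f10916 H)

theorem f10918 : g 0 • path g [8, 6, 8, 6, 3] p = path g [9, 2, 9, 3, 5, 6] p :=
  scan (u := [4, 5, 9]) (w := []) (i := 0) (r13_0_3 H) (step (f10914 H) (step (f5796 H) (step (f10454 H) rfl))) rfl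

theorem f10919 : g 5 • path g [9, 2, 9, 3, 5, 6] p = path g [8, 6, 8, 6, 3] p :=
  H.back (i := 0) (by decide) (f10918 H)

theorem f10920 : g 5 • path g [8, 6, 8, 6, 3] p = path g [9, 2, 9, 3, 5, 6] p :=
  scan (u := [4, 0, 9]) (w := []) (i := 5) (r13_1_2 H) (step (f10914 H) (step (f5795 H) (step (f10454 H) rfl))) rfl

theorem f10921 : g 0 • path g [9, 2, 9, 3, 5, 6] p = path g [8, 6, 8, 6, 3] p :=
  H.back (i := 5) (by decide) (f10920 H)

theorem f10922 : g 7 • path g [8, 1, 3, 1, 3] p = path g [8, 6, 8, 6, 3] p :=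
  scan (u := [5, 6, 8, 0, 2, 0, 2, 3, 5, 6]) (w := []) (i := 7) (r8_0_7 H) (step (f10920 H) (step (f7849 H) (step (f10916 H) (step (f9554 H) (step (f9673 H) (step (f7626 H) (step (f9678 H) (step (f3795 H) (step (f3809 H) (step (f9467 H) rfl)))))))))) rfl

theorem f10923 : g 2 • path g [8, 6, 8, 6, 3] p = path g [8, 1, 3, 1, 3] p :=
  H.back (i := 7) (by decide) (f10922 H)

theorem f10924 : g 7 • path g [8, 6, 8, 6, 3] p = path g [8, 1, 3, 1, 3] p :=
  scan (u := [7]) (w := []) (i := 7) (r2_1_0 H) (step (f10922 H) rfl) rfl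

theorem f10925 : g 2 • path g [8, 1, 3, 1, 3] p = path g [8, 6, 8, 6, 3] p :=
  H.back (i := 7) (by decide) (f10924 H)

theorem f10926 : g 6 • path g [8, 6, 8, 6, 3] p = path g [4, 2, 8, 9, 2] p :=
  scan (u := [7]) (w := [7, 6]) (i := 6) (r3_1_0 H) (step (f10922 H) rfl) (step (H.back (i := 2) (by decide) (f5239 H)) (step (H.back (i := 1) (by decide) (f9465 H)) rfl))

theorem f10927 : g 1 • path g [4, 2, 8, 9, 2] p = path g [8, 6, 8, 6, 3] p :=
  H.back (i := 6) (by decide) (f10926 H)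

theorem f10928 : g 4 • path g [4, 2, 8, 9, 2] p = path g [3, 9, 6, 3, 2] p :=
  scan (u := [6]) (w := [1, 9]) (i := 4) (r14_1_3 H) (step (f10926 H) rfl) (step (H.back (i := 6) (by decide) (f10348 H)) (step (H.back (i := 4) (by decide) (f10452 H)) rfl))

theorem f10930 : path g [9, 3, 2, 6, 4] p = path g [8, 6, 8, 1, 3] p :=
  close (u := [6, 5, 7, 6, 5, 7, 5]) (w := [8, 2, 3]) (r7_0_2 H) (step (f10926 H) (step (f9613 H) (step (f9600 H) (step (f3652 H) (step (f4521 H) (step (f9426 H) (step (f4518 H) rfl))))))) (step (H.back (i := 3) (by decide) (f4109 H)) (step (H.back (i := 7) (by decide) (f829 H)) (step (H.back (i := 8) (by decide) (f4092 H)) rfl)))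

theorem f10931 : path g [8, 6, 8, 1, 3] p = path g [9, 3, 2, 6, 4] p :=
  (f10930 H).symm

theorem f10932 : g 8 • path g [9, 3, 2, 6, 4] p = path g [8, 6, 8, 1] p :=
  (congrArg (g 8 • ·) (f10931 H).symm).trans (f4110 H)

theorem f10934 : g 3 • path g [8, 6, 8, 1] p = path g [9, 3, 2, 6, 4] p :=
  H.back (i := 8) (by decide) (f10932 H)

theorem f10935 : g 3 • path g [9, 3, 2, 6, 4] p = path g [8, 6, 8, 1, 8] p :=
  (congrArg (g 3 • ·) (f10931 H).symm).trans (f4111 H)

theorem f10937 : g 8 • path g [8, 6, 8, 1, 8] p = path g [9, 3, 2, 6, 4] p :=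
  H.back (i := 3) (by decide) (f10935 H)

theorem f10938 : g 4 • path g [8, 6, 8, 1, 8] p = path g [9, 3, 2, 6, 8] p :=
  scan (u := [3]) (w := [3, 4]) (i := 4) (r15_0_1 H) (step (f10935 H) rfl) (step (H.back (i := 8) (by decide) (f3641 H)) (step (H.back (i := 9) (by decide) (f3648 H)) rfl))

theorem f10939 : g 9 • path g [9, 3, 2, 6, 8] p = path g [8, 6, 8, 1, 8] p :=
  H.back (i := 4) (by decide) (f10938 H)

theorem f10940 : g 0 • path g [3, 1, 3, 1, 3] p = path g [8, 6, 8, 1, 8] p :=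
  scan (u := [4, 5, 9]) (w := []) (i := 0) (r13_0_3 H) (step (f10938 H) (step (f7752 H) (step (f9404 H) rfl))) rfl

theorem f10941 : g 5 • path g [8, 6, 8, 1, 8] p = path g [3, 1, 3, 1, 3] p :=
  H.back (i := 0) (by decide) (f10940 H)

theorem f10942 : g 5 • path g [3, 1, 3, 1, 3] p = path g [8, 6, 8, 1, 8] p :=
  scan (u := [4, 0, 9]) (w := []) (i := 5) (r13_1_2 H) (step (f10938 H) (step (f7749 H) (step (f9404 H) rfl))) rfl

theorem f10943 : g 0 • path g [8, 6, 8, 1, 8] p = path g [3, 1, 3, 1, 3] p :=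
  H.back (i := 5) (by decide) (f10942 H)

theorem f10944 : g 3 • path g [8, 6, 3, 6] p = path g [9, 2, 8, 9, 1] p :=
  (f4190 H).trans (f10819 H)

theorem f10945 : path g [9, 3, 2, 9, 2] p = path g [4, 2, 9, 3, 6] p :=
  close (u := [5, 7, 5, 8, 2, 3, 6, 5, 7]) (w := [6]) (r7_0_6 H) (step (f10942 H) (step (f4856 H) (step (f10941 H) (step (f4975 H) (step (f4178 H) (step (f10944 H) (step (f3054 H) (step (f3089 H) (step (f3598 H) rfl))))))))) (step (H.back (i := 1) (by decide) (f9545 H)) rfl)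

theorem f10946 : path g [4, 2, 9, 3, 6] p = path g [9, 3, 2, 9, 2] p :=
  (f10945 H).symm

theorem f10947 : g 1 • path g [9, 3, 2, 9, 2] p = path g [4, 2, 9, 3] p :=
  (congrArg (g 1 • ·) (f10946 H).symm).trans (f5234 H)

theorem f10949 : g 6 • path g [4, 2, 9, 3] p = path g [9, 3, 2, 9, 2] p :=
  H.back (i := 1) (by decide) (f10947 H)

theorem f10950 : g 6 • path g [9, 3, 2, 9, 2] p = path g [3, 1, 3, 1, 3] p :=
  (congrArg (g 6 • ·) (f10946 H).symm).trans (f9526 H)

theorem f10952 : g 1 • path g [3, 1, 3, 1, 3] p = path g [9, 3, 2, 9, 2] p :=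
  H.back (i := 6) (by decide) (f10950 H)

theorem f10953 : g 4 • path g [9, 3, 2, 9, 2] p = path g [9, 8, 2, 6, 8] p :=
  (congrArg (g 4 • ·) (f10946 H).symm).trans (f9544 H)

theorem f10956 : g 8 • path g [9, 3, 2, 9, 2] p = path g [9, 8, 2, 6, 4] p :=
  (congrArg (g 8 • ·) (f10946 H).symm).trans (f9516 H)

theorem f10958 : g 3 • path g [9, 8, 2, 6, 4] p = path g [9, 3, 2, 9, 2] p :=
  H.back (i := 8) (by decide) (f10956 H)

theorem f10959 : g 9 • path g [9, 3, 2, 9, 2] p = path g [9, 8, 2, 6, 8, 4] p :=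
  (congrArg (g 9 • ·) (f10946 H).symm).trans (f9519 H)

theorem f10961 : g 4 • path g [9, 8, 2, 6, 8, 4] p = path g [9, 3, 2, 9, 2] p :=
  H.back (i := 9) (by decide) (f10959 H)

theorem f10962 : g 3 • path g [9, 3, 2, 9, 2] p = path g [9, 8, 2, 6, 8, 4] p :=
  (congrArg (g 3 • ·) (f10946 H).symm).trans (f9522 H)

theorem f10964 : g 8 • path g [9, 8, 2, 6, 8, 4] p = path g [9, 3, 2, 9, 2] p :=
  H.back (i := 3) (by decide) (f10962 H)

theorem f10965 : g 7 • path g [3, 1, 3, 1, 3] p = path g [9, 3, 2, 9, 1] p :=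
  scan (u := [6]) (w := [6, 7]) (i := 7) (r3_1_1 H) (step (f10950 H) rfl) (step (H.back (i := 1) (by decide) (f3607 H)) (step (H.back (i := 2) (by decide) (f3597 H)) rfl))

theorem f10966 : g 2 • path g [9, 3, 2, 9, 1] p = path g [3, 1, 3, 1, 3] p :=
  H.back (i := 7) (by decide) (f10965 H)

theorem f10967 : g 7 • path g [9, 3, 2, 9, 1] p = path g [3, 1, 3, 1, 3] p :=
  scan (u := [7]) (w := []) (i := 7) (r2_1_0 H) (step (f10965 H) rfl) rfl

theorem f10968 : g 2 • path g [3, 1, 3, 1, 3] p = path g [9, 3, 2, 9, 1] p :=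
  H.back (i := 7) (by decide) (f10967 H)

theorem f10969 : g 5 • path g [9, 3, 2, 9, 1] p = path g [3, 1, 8, 6, 8] p :=
  scan (u := [7]) (w := [3, 1, 0, 2, 1, 0, 8, 7, 5]) (i := 5) (r8_1_10 H) (step (f10965 H) rfl) (step (H.back (i := 8) (by decide) (f4866 H)) (step (H.back (i := 6) (by decide) (f1134 H)) (step (H.back (i := 5) (by decide) (f7337 H)) (step (H.back (i := 7) (by decide) (f4089 H)) (step (H.back (i := 6) (by decide) (f1123 H)) (step (H.back (i := 5) (by decide) (f7208 H)) (step (H.back (i := 3) (by decide) (f4102 H)) (step (H.back (i := 2) (by decide) (f4857 H)) (step (H.back (i := 0) (by decide) (f10940 H)) rfl)))))))))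

theorem f10970 : g 0 • path g [3, 1, 8, 6, 8] p = path g [9, 3, 2, 9, 1] p :=
  H.back (i := 5) (by decide) (f10969 H)

theorem f10971 : g 5 • path g [3, 1, 8, 6, 8] p = path g [9, 3, 2, 9, 1] p :=
  scan (u := [5]) (w := []) (i := 5) (r0_1_0 H) (step (f10969 H) rfl) rfl

theorem f10972 : g 0 • path g [9, 3, 2, 9, 1] p = path g [3, 1, 8, 6, 8] p :=
  H.back (i := 5) (by decide) (f10971 H)

theorem f10973 : g 9 • path g [3, 1, 8, 6, 8] p = path g [9, 2, 9, 5, 2, 8] p :=
  scan (u := [5]) (w := [0, 4]) (i := 9) (r13_0_0 H) (step (f10969 H) rfl) (step (H.back (i := 5) (by decide) (f9722 H)) (step (H.back (i := 9) (by decide) (f9588 H)) rfl))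

theorem f10974 : g 4 • path g [9, 2, 9, 5, 2, 8] p = path g [3, 1, 8, 6, 8] p :=
  H.back (i := 9) (by decide) (f10973 H)

theorem f10975 : g 4 • path g [3, 1, 8, 6, 8] p = path g [9, 3, 2, 1, 5] p :=
  scan (u := [5]) (w := [0, 9]) (i := 4) (r13_1_1 H) (step (f10969 H) rfl) (step (H.back (i := 5) (by decide) (f3655 H)) (step (H.back (i := 4) (by decide) (f3611 H)) rfl))

theorem f10977 : g 6 • path g [3, 1, 8, 6, 8] p = path g [8, 4, 2, 9, 5] p :=
  scan (u := [5]) (w := [5, 1, 1, 5, 6]) (i := 6) (r4_1_1 H) (step (f10969 H) rfl) (step (H.back (i := 0) (by decide) (f4533 H)) (step (H.back (i := 6) (by decide) (f4232 H)) (step (H.back (i := 6) (by decide) (f4506 H)) (step (H.back (i := 0) (by decide) (f4503 H)) (step (H.back (i := 1) (by decide) (f3609 H)) rfl)))))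

theorem f10978 : g 1 • path g [8, 4, 2, 9, 5] p = path g [3, 1, 8, 6, 8] p :=
  H.back (i := 6) (by decide) (f10977 H)

theorem f10979 : g 1 • path g [3, 1, 8, 6, 8] p = path g [9, 2, 8, 9, 6, 5] p :=
  scan (u := [5]) (w := [1, 5, 6, 5, 6]) (i := 1) (r4_1_3 H) (step (f10969 H) rfl) (step (H.back (i := 6) (by decide) (f7913 H)) (step (H.back (i := 0) (by decide) (f4533 H)) (step (H.back (i := 1) (by decide) (f4504 H)) (step (H.back (i := 0) (by decide) (f4503 H)) (step (H.back (i := 1) (by decide) (f3609 H)) rfl)))))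

theorem f10980 : g 6 • path g [9, 2, 8, 9, 6, 5] p = path g [3, 1, 8, 6, 8] p :=
  H.back (i := 1) (by decide) (f10979 H)

theorem f10981 : path g [9, 2, 8, 9, 6, 5] p = path g [4, 2, 8, 4, 2] p :=
  close (u := [1]) (w := [2, 1, 2]) (r3_0_0 H) (step (f10979 H) rfl) (step (H.back (i := 7) (by decide) (f5303 H)) (step (H.back (i := 6) (by decide) (f10440 H)) (step (H.back (i := 7) (by decide) (f4870 H)) rfl)))

theorem f10982 : g 0 • path g [4, 2, 8, 4, 2] p = path g [9, 2, 8, 9, 6] p :=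
  (congrArg (g 0 • ·) (f10981 H).symm).trans (f7908 H)

theorem f10984 : g 5 • path g [9, 2, 8, 9, 6] p = path g [4, 2, 8, 4, 2] p :=
  H.back (i := 0) (by decide) (f10982 H)

theorem f10985 : g 5 • path g [4, 2, 8, 4, 2] p = path g [9, 2, 8, 9, 6] p :=
  (congrArg (g 5 • ·) (f10981 H).symm).trans (f7909 H)

theorem f10987 : g 0 • path g [9, 2, 8, 9, 6] p = path g [4, 2, 8, 4, 2] p :=
  H.back (i := 5) (by decide) (f10985 H)

theorem f10988 : g 4 • path g [4, 2, 8, 4, 2] p = path g [9, 2, 8, 6, 5] p :=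
  (congrArg (g 4 • ·) (f10981 H).symm).trans (f7911 H)

theorem f10991 : g 1 • path g [4, 2, 8, 4, 2] p = path g [8, 4, 2, 9, 5] p :=
  (congrArg (g 1 • ·) (f10981 H).symm).trans (f7914 H)

theorem f10994 : g 9 • path g [4, 2, 8, 4, 2] p = path g [9, 2, 8, 6, 5, 4] p :=
  (congrArg (g 9 • ·) (f10981 H).symm).trans (f7974 H)

theorem f10996 : g 4 • path g [9, 2, 8, 6, 5, 4] p = path g [4, 2, 8, 4, 2] p :=
  H.back (i := 9) (by decide) (f10994 H)

theorem f10997 : g 6 • path g [4, 2, 8, 4, 2] p = path g [3, 1, 8, 6, 8] p :=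
  (congrArg (g 6 • ·) (f10981 H).symm).trans (f10980 H)

theorem f10999 : g 1 • path g [3, 1, 8, 6, 8] p = path g [4, 2, 8, 4, 2] p :=
  H.back (i := 6) (by decide) (f10997 H)

theorem f11000 : path g [8, 9, 2, 1, 4] p = path g [9, 2, 9, 3, 6, 3] p :=
  close (u := [1, 2, 0, 1]) (w := [8, 7, 3, 0, 2, 0]) (r7_1_4 H) (step (f10999 H) (step (f5302 H) (step (f3814 H) (step (f3904 H) rfl)))) (step (H.back (i := 3) (by decide) (f7856 H)) (step (H.back (i := 2) (by decide) (f9571 H)) (step (H.back (i := 8) (by decide) (f10937 H)) (step (H.back (i := 5) (by decide) (f10942 H)) (step (H.back (i := 7) (by decide) (f10967 H)) (step (H.back (i := 5) (by decide) (f10971 H)) rfl))))))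

theorem f11001 : path g [9, 2, 9, 3, 6, 3] p = path g [8, 9, 2, 1, 4] p :=
  (f11000 H).symm

theorem f11002 : g 8 • path g [8, 9, 2, 1, 4] p = path g [9, 2, 9, 3, 6] p :=
  (congrArg (g 8 • ·) (f11001 H).symm).trans (f7857 H)

theorem f11004 : g 3 • path g [9, 2, 9, 3, 6] p = path g [8, 9, 2, 1, 4] p :=
  H.back (i := 8) (by decide) (f11002 H)

theorem f11005 : g 3 • path g [8, 9, 2, 1, 4] p = path g [9, 2, 9, 3, 6, 8] p :=
  (congrArg (g 3 • ·) (f11001 H).symm).trans (f7858 H)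

theorem f11007 : g 8 • path g [9, 2, 9, 3, 6, 8] p = path g [8, 9, 2, 1, 4] p :=
  H.back (i := 3) (by decide) (f11005 H)

theorem f11008 : path g [9, 2, 9, 3, 6, 8] p = path g [3, 6, 3, 6] p :=
  close (u := [1, 2, 0, 1, 3]) (w := [5, 6, 5, 7, 5, 6, 8, 0, 2, 0]) (r9_0_7 H) (step (f10999 H) (step (f5302 H) (step (f3814 H) (step (f3904 H) (step (f11005 H) rfl))))) (step (H.back (i := 0) (by decide) (f4303 H)) (step (H.back (i := 1) (by decide) (f854 H)) (step (H.back (i := 0) (by decide) (f7213 H)) (step (H.back (i := 2) (by decide) (f1100 H)) (step (H.back (i := 0) (by decide) (f4058 H)) (step (H.back (i := 1) (by decide) (f826 H)) (step (H.back (i := 3) (by decide) (f4102 H)) (step (H.back (i := 5) (by decide) (f10942 H)) (step (H.back (i := 7) (by decide) (f10967 H)) (step (H.back (i := 5) (by decide) (f10971 H)) rfl))))))))))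

theorem f11011 : g 8 • path g [3, 6, 3, 6] p = path g [8, 9, 2, 1, 4] p :=
  (congrArg (g 8 • ·) (f11008 H).symm).trans (f11007 H)

theorem f11012 : path g [3, 6, 3, 6, 8] p = path g [8, 9, 2, 1, 4] p :=
  (f4818 H).symm.trans (f11011 H)

theorem f11014 : g 3 • path g [8, 9, 2, 1, 4] p = path g [3, 6, 3, 6] p :=
  (f11005 H).trans (f11008 H)

theorem f11016 : g 8 • path g [8, 9, 2, 1, 4] p = path g [3, 6, 3, 6, 3] p :=
  (congrArg (g 8 • ·) (f11012 H).symm).trans (f4823 H)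

theorem f11017 : path g [9, 2, 9, 3, 6] p = path g [3, 6, 3, 6, 3] p :=
  (f11002 H).symm.trans (f11016 H)

theorem f11018 : g 7 • path g [8, 9, 2, 1, 4] p = path g [3, 1, 3, 6, 8] p :=
  (congrArg (g 7 • ·) (f11012 H).symm).trans (f4963 H)

theorem f11020 : g 2 • path g [3, 1, 3, 6, 8] p = path g [8, 9, 2, 1, 4] p :=
  H.back (i := 7) (by decide) (f11018 H)

theorem f11021 : g 2 • path g [8, 9, 2, 1, 4] p = path g [3, 1, 3, 6, 8] p :=
  (congrArg (g 2 • ·) (f11012 H).symm).trans (f4965 H)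

theorem f11023 : g 7 • path g [3, 1, 3, 6, 8] p = path g [8, 9, 2, 1, 4] p :=
  H.back (i := 2) (by decide) (f11021 H)

theorem f11024 : path g [3, 6, 3, 6, 3] p = path g [9, 2, 9, 3, 6] p :=
  (f11017 H).symm

theorem f11032 : g 1 • path g [3, 1, 3, 6, 8] p = path g [8, 9, 2, 4, 2] p :=
  scan (u := [2]) (w := [2, 1]) (i := 1) (r3_0_1 H) (step (f11021 H) rfl) (step (H.back (i := 7) (by decide) (f3916 H)) (step (H.back (i := 6) (by decide) (f3903 H)) rfl))

theorem f11033 : g 6 • path g [8, 9, 2, 4, 2] p = path g [3, 1, 3, 6, 8] p :=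
  H.back (i := 1) (by decide) (f11032 H)

theorem f11034 : g 3 • path g [3, 6, 3, 6] p = path g [9, 2, 9, 3, 6] p :=
  (f4820 H).trans (f11024 H)

theorem f11035 : g 8 • path g [9, 2, 9, 3, 9, 6] p = path g [8, 9, 2, 9, 2] p :=
  scan (u := [8, 9]) (w := [9]) (i := 8) (r15_1_0 H) (step (f11002 H) (step (f7795 H) rfl)) (step (H.back (i := 4) (by decide) (f9460 H)) rfl)

theorem f11036 : g 3 • path g [8, 9, 2, 9, 2] p = path g [9, 2, 9, 3, 9, 6] p :=
  H.back (i := 8) (by decide) (f11035 H)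

theorem f11037 : g 2 • path g [8, 4, 2, 9, 5] p = path g [4, 2, 8, 6, 4] p :=
  scan (u := [1]) (w := [1, 2]) (i := 2) (r3_0_0 H) (step (f10991 H) rfl) (step (H.back (i := 6) (by decide) (f5285 H)) (step (H.back (i := 7) (by decide) (f5301 H)) rfl))

theorem f11039 : g 2 • path g [4, 2, 8, 6, 4] p = path g [8, 4, 2, 9, 5] p :=
  scan (u := [2]) (w := []) (i := 2) (r2_0_0 H) (step (f11037 H) rfl) rfl

theorem f11041 : g 5 • path g [8, 1, 8, 6, 3] p = path g [8, 6, 8, 6, 8] p :=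
  scan (u := [5, 6, 8, 0, 2, 0, 2, 3]) (w := [6, 7]) (i := 5) (r8_0_7 H) (step (f10985 H) (step (f3056 H) (step (f10824 H) (step (f4303 H) (step (f4433 H) (step (f6630 H) (step (f886 H) (step (f4341 H) rfl)))))))) (step (H.back (i := 1) (by decide) (f10442 H)) (step (H.back (i := 2) (by decide) (f5302 H)) rfl))

theorem f11042 : g 0 • path g [8, 6, 8, 6, 8] p = path g [8, 1, 8, 6, 3] p :=
  H.back (i := 5) (by decide) (f11041 H)

theorem f11043 : g 5 • path g [8, 1, 3, 6, 3] p = path g [8, 9, 2, 1, 4] p :=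
  scan (u := [5, 6, 8, 0, 2, 0, 1, 2, 0, 1, 3]) (w := [6, 5, 7]) (i := 5) (r9_0_1 H) (step (f10985 H) (step (f3056 H) (step (f10824 H) (step (f4303 H) (step (f4433 H) (step (f6630 H) (step (f884 H) (step (f888 H) (step (f7193 H) (step (f912 H) (step (f4454 H) rfl))))))))))) (step (H.back (i := 1) (by decide) (f3904 H)) (step (H.back (i := 0) (by decide) (f3814 H)) (step (H.back (i := 2) (by decide) (f5302 H)) rfl)))

theorem f11044 : g 0 • path g [8, 9, 2, 1, 4] p = path g [8, 1, 3, 6, 3] p :=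
  H.back (i := 5) (by decide) (f11043 H)

theorem f11045 : g 5 • path g [8, 9, 2, 1, 4] p = path g [8, 1, 3, 6, 3] p :=
  scan (u := [5]) (w := []) (i := 5) (r0_1_0 H) (step (f11043 H) rfl) rfl

theorem f11046 : g 0 • path g [8, 1, 3, 6, 3] p = path g [8, 9, 2, 1, 4] p :=
  H.back (i := 5) (by decide) (f11045 H)

theorem f11047 : g 4 • path g [8, 9, 2, 1, 5] p = path g [8, 1, 3, 6, 3] p :=
  scan (u := [5, 9, 0]) (w := []) (i := 4) (r13_0_0 H) (step (f11043 H) (step (f3900 H) (step (f3892 H) rfl))) rfl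

theorem f11048 : g 9 • path g [8, 1, 3, 6, 3] p = path g [8, 9, 2, 1, 5] p :=
  H.back (i := 4) (by decide) (f11047 H)

theorem f11049 : path g [8, 9, 2, 4, 2] p = path g [8, 1, 4, 2, 9] p :=
  close (u := [5, 6, 7]) (w := [5, 6, 8, 0, 2, 0, 2, 3]) (r8_0_4 H) (step (f11043 H) (step (f3903 H) (step (f3916 H) rfl))) (step (H.back (i := 0) (by decide) (f4503 H)) (step (H.back (i := 1) (by decide) (f3609 H)) (step (H.back (i := 3) (by decide) (f10720 H)) (step (H.back (i := 5) (by decide) (f4055 H)) (step (H.back (i := 7) (by decide) (f831 H)) (step (H.back (i := 5) (by decide) (f6577 H)) (step (H.back (i := 7) (by decide) (f4430 H)) (step (H.back (i := 8) (by decide) (f4455 H)) rfl))))))))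

theorem f11050 : path g [8, 1, 4, 2, 9] p = path g [8, 9, 2, 4, 2] p :=
  (f11049 H).symm

theorem f11051 : g 4 • path g [8, 9, 2, 4, 2] p = path g [8, 1, 4, 2] p :=
  (congrArg (g 4 • ·) (f11050 H).symm).trans (f4499 H)

theorem f11054 : g 0 • path g [8, 9, 2, 4, 2] p = path g [9, 3, 2, 9, 6] p :=
  (congrArg (g 0 • ·) (f11050 H).symm).trans (f4500 H)

theorem f11056 : g 5 • path g [9, 3, 2, 9, 6] p = path g [8, 9, 2, 4, 2] p :=
  H.back (i := 0) (by decide) (f11054 H)

theorem f11057 : g 5 • path g [8, 9, 2, 4, 2] p = path g [9, 3, 2, 9, 6] p :=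
  (congrArg (g 5 • ·) (f11050 H).symm).trans (f4502 H)

theorem f11059 : g 0 • path g [9, 3, 2, 9, 6] p = path g [8, 9, 2, 4, 2] p :=
  H.back (i := 5) (by decide) (f11057 H)

theorem f11060 : g 1 • path g [8, 9, 2, 4, 2] p = path g [8, 4, 2, 9] p :=
  (congrArg (g 1 • ·) (f11050 H).symm).trans (f4504 H)

theorem f11062 : g 6 • path g [8, 4, 2, 9] p = path g [8, 9, 2, 4, 2] p :=
  H.back (i := 1) (by decide) (f11060 H)

theorem f11063 : g 6 • path g [8, 9, 2, 4, 2] p = path g [8, 6, 4, 2, 9] p :=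
  (congrArg (g 6 • ·) (f11050 H).symm).trans (f4506 H)

theorem f11064 : path g [3, 1, 3, 6, 8] p = path g [8, 6, 4, 2, 9] p :=
  (f11033 H).symm.trans (f11063 H)

theorem f11065 : g 9 • path g [8, 9, 2, 4, 2] p = path g [8, 1, 4, 2, 4] p :=
  (congrArg (g 9 • ·) (f11050 H).symm).trans (f4517 H)

theorem f11067 : g 4 • path g [8, 1, 4, 2, 4] p = path g [8, 9, 2, 4, 2] p :=
  H.back (i := 9) (by decide) (f11065 H)

theorem f11068 : g 3 • path g [8, 6, 4, 2, 9] p = path g [3, 1, 3, 6] p :=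
  (congrArg (g 3 • ·) (f11064 H).symm).trans (f4961 H)

theorem f11071 : g 2 • path g [8, 6, 4, 2, 9] p = path g [8, 9, 2, 1, 4] p :=
  (congrArg (g 2 • ·) (f11064 H).symm).trans (f11020 H)

theorem f11073 : g 7 • path g [8, 9, 2, 1, 4] p = path g [8, 6, 4, 2, 9] p :=
  H.back (i := 2) (by decide) (f11071 H)

theorem f11074 : g 7 • path g [8, 6, 4, 2, 9] p = path g [8, 9, 2, 1, 4] p :=
  (congrArg (g 7 • ·) (f11064 H).symm).trans (f11023 H)

theorem f11076 : g 2 • path g [8, 9, 2, 1, 4] p = path g [8, 6, 4, 2, 9] p :=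
  H.back (i := 7) (by decide) (f11074 H)

theorem f11077 : g 8 • path g [8, 6, 4, 2, 9] p = path g [3, 1, 3, 6, 3] p :=
  (congrArg (g 8 • ·) (f11064 H).symm).trans (f4969 H)

theorem f11079 : g 3 • path g [3, 1, 3, 6, 3] p = path g [8, 6, 4, 2, 9] p :=
  H.back (i := 8) (by decide) (f11077 H)

theorem f11081 : g 1 • path g [8, 6, 4, 2, 9] p = path g [8, 9, 2, 4, 2] p :=
  (f4507 H).trans (f11050 H)

theorem f11083 : g 5 • path g [8, 6, 3, 1, 8] p = path g [8, 1, 8, 1, 3] p :=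
  scan (u := [5, 3, 1, 0, 2, 1, 0, 8, 7]) (w := [7]) (i := 5) (r8_1_0 H) (step (f11043 H) (step (f11014 H) (step (f1121 H) (step (f6902 H) (step (f314 H) (step (f1094 H) (step (f7213 H) (step (f4194 H) (step (f4812 H) rfl))))))))) (step (H.back (i := 2) (by decide) (f9646 H)) rfl)

theorem f11084 : g 0 • path g [8, 1, 8, 1, 3] p = path g [8, 6, 3, 1, 8] p :=
  H.back (i := 5) (by decide) (f11083 H)

theorem f11085 : g 5 • path g [8, 1, 8, 1, 3] p = path g [8, 6, 3, 1, 8] p :=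
  scan (u := [5, 7, 4, 2, 0, 2, 0, 2, 0, 2, 0, 4, 5, 7]) (w := [7, 5, 7]) (i := 5) (r11_0_12 H) (step (f11043 H) (step (f11073 H) (step (f4227 H) (step (f864 H) (step (f237 H) (step (f862 H) (step (f3154 H) (step (f3256 H) (step (f5317 H) (step (f5318 H) (step (f3890 H) (step (f3899 H) (step (f11045 H) (step (f9648 H) rfl)))))))))))))) (step (H.back (i := 2) (by decide) (f4813 H)) (step (H.back (i := 0) (by decide) (f11084 H)) (step (H.back (i := 2) (by decide) (f9646 H)) rfl)))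

theorem f11086 : g 0 • path g [8, 6, 3, 1, 8] p = path g [8, 1, 8, 1, 3] p :=
  H.back (i := 5) (by decide) (f11085 H)

theorem f11087 : path g [8, 4, 2, 9, 2] p = path g [8, 9, 2, 6, 4] p :=
  close (u := [5, 3, 1, 0, 2, 0, 1, 0, 8, 6, 5, 7]) (w := [6, 5, 7]) (r9_1_10 H) (step (f11085 H) (step (f4195 H) (step (f854 H) (step (f4303 H) (step (f4433 H) (step (f6630 H) (step (f884 H) (step (f4325 H) (step (f4866 H) (step (f10977 H) (step (f4532 H) (step (f4529 H) rfl)))))))))))) (step (H.back (i := 1) (by decide) (f3905 H)) (step (H.back (i := 0) (by decide) (f11046 H)) (step (H.back (i := 2) (by decide) (f9649 H)) rfl)))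

theorem f11088 : g 7 • path g [8, 9, 2, 6, 4] p = path g [8, 4, 2, 9] p :=
  (congrArg (g 7 • ·) (f11087 H).symm).trans (f4527 H)

theorem f11090 : g 2 • path g [8, 4, 2, 9] p = path g [8, 9, 2, 6, 4] p :=
  H.back (i := 7) (by decide) (f11088 H)

theorem f11091 : g 2 • path g [8, 9, 2, 6, 4] p = path g [8, 4, 2, 9] p :=
  (congrArg (g 2 • ·) (f11087 H).symm).trans (f4528 H)

theorem f11093 : g 7 • path g [8, 4, 2, 9] p = path g [8, 9, 2, 6, 4] p :=
  H.back (i := 2) (by decide) (f11091 H)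

theorem f11094 : g 7 • path g [3, 1, 8, 6, 3] p = path g [8, 6, 3, 1, 3] p :=
  scan (u := [0, 2, 0, 1, 2, 0, 1, 8]) (w := [3]) (i := 7) (r7_1_1 H) (step (f11086 H) (step (f9649 H) (step (f11046 H) (step (f3905 H) (step (f11091 H) (step (f4533 H) (step (f10978 H) (step (f4875 H) rfl)))))))) (step (H.back (i := 8) (by decide) (f4203 H)) rfl)

theorem f11095 : g 2 • path g [8, 6, 3, 1, 3] p = path g [3, 1, 8, 6, 3] p :=
  H.back (i := 7) (by decide) (f11094 H)

theorem f11096 : g 7 • path g [8, 6, 3, 1, 3] p = path g [3, 1, 8, 6, 3] p :=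
  scan (u := [7]) (w := []) (i := 7) (r2_1_0 H) (step (f11094 H) rfl) rfl

theorem f11097 : g 2 • path g [3, 1, 8, 6, 3] p = path g [8, 6, 3, 1, 3] p :=
  H.back (i := 7) (by decide) (f11096 H)

theorem f11098 : g 9 • path g [3, 1, 3, 6, 3] p = path g [8, 6, 4, 2, 3] p :=
  scan (u := [8]) (w := [8, 9]) (i := 9) (r15_1_0 H) (step (f11077 H) rfl) (step (H.back (i := 3) (by decide) (f4236 H)) (step (H.back (i := 4) (by decide) (f4227 H)) rfl))

theorem f11099 : g 4 • path g [8, 6, 4, 2, 3] p = path g [3, 1, 3, 6, 3] p :=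
  H.back (i := 9) (by decide) (f11098 H)

theorem f11100 : g 9 • path g [9, 2, 9, 5, 2, 1] p = path g [3, 1, 3, 6, 3] p :=
  scan (u := [9, 9]) (w := []) (i := 9) (r10_1_0 H) (step (f11098 H) (step (f10133 H) rfl)) rfl

theorem f11101 : g 4 • path g [3, 1, 3, 6, 3] p = path g [9, 2, 9, 5, 2, 1] p :=
  H.back (i := 9) (by decide) (f11100 H)

theorem f11102 : g 5 • path g [8, 6, 3, 6, 8] p = path g [3, 1, 3, 6, 3] p :=
  scan (u := [9, 0, 4]) (w := []) (i := 5) (r13_0_1 H) (step (f11098 H) (step (f10567 H) (step (f10564 H) rfl))) rfl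

theorem f11103 : g 0 • path g [3, 1, 3, 6, 3] p = path g [8, 6, 3, 6, 8] p :=
  H.back (i := 5) (by decide) (f11102 H)

theorem f11104 : g 1 • path g [9, 2, 9, 5, 2, 9] p = path g [3, 1, 3, 6, 3] p :=
  scan (u := [9, 6, 4]) (w := []) (i := 1) (r14_1_2 H) (step (f11098 H) (step (f10130 H) (step (f7619 H) rfl))) rfl

theorem f11105 : g 6 • path g [3, 1, 3, 6, 3] p = path g [9, 2, 9, 5, 2, 9] p :=
  H.back (i := 1) (by decide) (f11104 H)

theorem f11106 : g 8 • path g [8, 6, 3, 6, 8] p = path g [9, 2, 8, 9, 1] p :=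
  (f4193 H).trans (f10819 H)

theorem f11107 : g 5 • path g [3, 1, 3, 6, 3] p = path g [8, 6, 3, 6, 8] p :=
  scan (u := [5]) (w := []) (i := 5) (r0_1_0 H) (step (f11102 H) rfl) rfl

theorem f11108 : g 0 • path g [8, 6, 3, 6, 8] p = path g [3, 1, 3, 6, 3] p :=
  H.back (i := 5) (by decide) (f11107 H)

theorem f11109 : path g [8, 6, 3, 1, 3] p = path g [9, 2, 8, 6, 5, 4] p :=
  close (u := [5, 8, 2, 3]) (w := [6, 5, 7, 6, 5, 7]) (r7_0_8 H) (step (f11102 H) (step (f4967 H) (step (f4183 H) (step (f4200 H) rfl)))) (step (H.back (i := 1) (by decide) (f9731 H)) (step (H.back (i := 0) (by decide) (f9725 H)) (step (H.back (i := 2) (by decide) (f3025 H)) (step (H.back (i := 1) (by decide) (f3034 H)) (step (H.back (i := 0) (by decide) (f9637 H)) (step (H.back (i := 2) (by decide) (f4811 H)) rfl))))))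

theorem f11110 : path g [9, 2, 8, 6, 5, 4] p = path g [8, 6, 3, 1, 3] p :=
  (f11109 H).symm

theorem f11111 : g 9 • path g [8, 6, 3, 1, 3] p = path g [9, 2, 8, 6, 5] p :=
  (congrArg (g 9 • ·) (f11110 H).symm).trans (f7972 H)

theorem f11113 : g 4 • path g [9, 2, 8, 6, 5] p = path g [8, 6, 3, 1, 3] p :=
  H.back (i := 9) (by decide) (f11111 H)

theorem f11114 : g 4 • path g [8, 6, 3, 1, 3] p = path g [4, 2, 8, 4, 2] p :=
  (congrArg (g 4 • ·) (f11110 H).symm).trans (f10996 H)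

theorem f11117 : g 5 • path g [8, 6, 3, 1, 3] p = path g [9, 2, 8, 6, 4] p :=
  (congrArg (g 5 • ·) (f11110 H).symm).trans (f7975 H)

theorem f11119 : g 0 • path g [9, 2, 8, 6, 4] p = path g [8, 6, 3, 1, 3] p :=
  H.back (i := 5) (by decide) (f11117 H)

theorem f11120 : g 0 • path g [8, 6, 3, 1, 3] p = path g [9, 2, 8, 6, 4] p :=
  (congrArg (g 0 • ·) (f11110 H).symm).trans (f7977 H)

theorem f11122 : g 5 • path g [9, 2, 8, 6, 4] p = path g [8, 6, 3, 1, 3] p :=
  H.back (i := 0) (by decide) (f11120 H)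

theorem f11123 : g 1 • path g [8, 6, 3, 1, 3] p = path g [8, 4, 2, 5, 4] p :=
  (congrArg (g 1 • ·) (f11110 H).symm).trans (f7979 H)

theorem f11125 : g 6 • path g [8, 4, 2, 5, 4] p = path g [8, 6, 3, 1, 3] p :=
  H.back (i := 1) (by decide) (f11123 H)

theorem f11126 : g 6 • path g [8, 6, 3, 1, 3] p = path g [9, 2, 9, 5, 2, 8] p :=
  (congrArg (g 6 • ·) (f11110 H).symm).trans (f9730 H)

theorem f11128 : g 1 • path g [9, 2, 9, 5, 2, 8] p = path g [8, 6, 3, 1, 3] p :=
  H.back (i := 6) (by decide) (f11126 H)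

theorem f11129 : path g [9, 3, 2, 9, 6] p = path g [4, 2, 9, 3, 2] p :=
  close (u := [5, 3, 1, 0]) (w := [2, 1, 0, 8, 7, 5, 7]) (r8_1_0 H) (step (f11102 H) (step (f11079 H) (step (f11081 H) (step (f11054 H) rfl)))) (step (H.back (i := 7) (by decide) (f5228 H)) (step (H.back (i := 6) (by decide) (f9506 H)) (step (H.back (i := 5) (by decide) (f10941 H)) (step (H.back (i := 3) (by decide) (f10935 H)) (step (H.back (i := 2) (by decide) (f9576 H)) (step (H.back (i := 0) (by decide) (f9637 H)) (step (H.back (i := 2) (by decide) (f4811 H)) rfl)))))))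

theorem f11130 : path g [4, 2, 9, 3, 2] p = path g [9, 3, 2, 9, 6] p :=
  (f11129 H).symm

theorem f11131 : g 7 • path g [9, 3, 2, 9, 6] p = path g [4, 2, 9, 3] p :=
  (congrArg (g 7 • ·) (f11130 H).symm).trans (f5226 H)

theorem f11133 : g 2 • path g [4, 2, 9, 3] p = path g [9, 3, 2, 9, 6] p :=
  H.back (i := 7) (by decide) (f11131 H)

theorem f11134 : g 2 • path g [9, 3, 2, 9, 6] p = path g [4, 2, 9, 3] p :=
  (congrArg (g 2 • ·) (f11130 H).symm).trans (f5227 H)

theorem f11136 : g 7 • path g [4, 2, 9, 3] p = path g [9, 3, 2, 9, 6] p :=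
  H.back (i := 2) (by decide) (f11134 H)

theorem f11137 : g 1 • path g [4, 2, 9, 3, 5] p = path g [8, 1, 8, 1, 3] p :=
  scan (u := [5, 3, 1, 0, 2, 0]) (w := [0, 8, 6, 5, 7, 6, 5, 7]) (i := 1) (r9_1_10 H) (step (f11102 H) (step (f11079 H) (step (f11081 H) (step (f11054 H) (step (f11134 H) (step (f5232 H) rfl)))))) (step (H.back (i := 5) (by decide) (f11083 H)) (step (H.back (i := 3) (by decide) (f4202 H)) (step (H.back (i := 1) (by decide) (f11128 H)) (step (H.back (i := 0) (by decide) (f9725 H)) (step (H.back (i := 2) (by decide) (f3025 H)) (step (H.back (i := 1) (by decide) (f3034 H)) (step (H.back (i := 0) (by decide) (f9637 H)) (step (H.back (i := 2) (by decide) (f4811 H)) rfl))))))))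

theorem f11138 : g 6 • path g [8, 1, 8, 1, 3] p = path g [4, 2, 9, 3, 5] p :=
  H.back (i := 1) (by decide) (f11137 H)

theorem f11139 : g 7 • path g [3, 1, 3, 6, 3] p = path g [3, 1, 8, 1, 3] p :=
  scan (u := [5]) (w := [5, 7, 4, 2, 0, 2, 0, 2, 0, 2, 0, 4, 5, 7, 5, 7]) (i := 7) (r11_0_10 H) (step (f11102 H) rfl) (step (H.back (i := 0) (by decide) (f9395 H)) (step (H.back (i := 2) (by decide) (f9461 H)) (step (H.back (i := 9) (by decide) (f3824 H)) (step (H.back (i := 7) (by decide) (f662 H)) (step (H.back (i := 5) (by decide) (f2076 H)) (step (H.back (i := 7) (by decide) (f958 H)) (step (H.back (i := 5) (by decide) (f3697 H)) (step (H.back (i := 7) (by decide) (f3705 H)) (step (H.back (i := 5) (by decide) (f1616 H)) (step (H.back (i := 7) (by decide) (f594 H)) (step (H.back (i := 5) (by decide) (f2519 H)) (step (H.back (i := 9) (by decide) (f4515 H)) (step (H.back (i := 0) (by decide) (f4519 H)) (step (H.back (i := 2) (by decide) (f9576 H))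 (step (H.back (i := 0) (by decide) (f9637 H)) (step (H.back (i := 2) (by decide) (f4811 H)) rfl))))))))))))))))

theorem f11140 : g 2 • path g [3, 1, 8, 1, 3] p = path g [3, 1, 3, 6, 3] p :=
  H.back (i := 7) (by decide) (f11139 H)

theorem f11141 : path g [3, 6, 3, 1, 8] p = path g [8, 9, 2, 9, 6] p :=
  close (u := [0, 2, 3, 5, 6, 7, 5, 6, 8]) (w := [0, 2]) (r8_0_1 H) (step (f11103 H) (step (f4811 H) (step (f4418 H) (step (f4445 H) (step (f1167 H) (step (f4175 H) (step (f4300 H) (step (f1125 H) (step (f4824 H) rfl))))))))) (step (H.back (i := 5) (by decide) (f9394 H)) (step (H.back (i := 7) (by decide) (f11139 H)) rfl))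

theorem f11142 : g 3 • path g [8, 9, 2, 9, 6] p = path g [3, 6, 3, 1] p :=
  (congrArg (g 3 • ·) (f11141 H).symm).trans (f4825 H)

theorem f11151 : g 8 • path g [8, 9, 2, 9, 6] p = path g [3, 6, 3, 1, 3] p :=
  (congrArg (g 8 • ·) (f11141 H).symm).trans (f4831 H)

theorem f11153 : g 3 • path g [3, 6, 3, 1, 3] p = path g [8, 9, 2, 9, 6] p :=
  H.back (i := 8) (by decide) (f11151 H)

theorem f11155 : g 9 • path g [3, 6, 3, 1, 3] p = path g [8, 9, 2, 6, 3] p :=
  scan (u := [8]) (w := [8, 9]) (i := 9) (r15_1_0 H) (step (f11151 H) rfl) (step (H.back (i := 3) (by decide) (f3873 H)) (step (H.back (i := 4) (by decide) (f3823 H)) rfl))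

theorem f11156 : g 4 • path g [8, 9, 2, 6, 3] p = path g [3, 6, 3, 1, 3] p :=
  H.back (i := 9) (by decide) (f11155 H)

theorem f11157 : g 3 • path g [3, 9, 6, 8, 1] p = path g [8, 9, 2, 6, 4] p :=
  scan (u := [3, 4]) (w := [4]) (i := 3) (r15_0_1 H) (step (f11142 H) (step (f4628 H) rfl)) (step (H.back (i := 9) (by decide) (f3880 H)) rfl)

theorem f11159 : g 2 • path g [3, 1, 3, 6, 3] p = path g [3, 1, 8, 1, 3] p :=
  scan (u := [3, 5, 6, 7, 5, 6, 8, 0]) (w := [0, 2]) (i := 2) (r8_0_3 H) (step (f11142 H) (step (f6577 H) (step (f825 H) (step (f227 H) (step (f7188 H) (step (f850 H) (step (f4167 H) (step (f11108 H) rfl)))))))) (step (H.back (i := 5) (by decide) (f9393 H)) (step (H.back (i := 7) (by decide) (f9462 H)) rfl))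

theorem f11160 : g 7 • path g [3, 1, 8, 1, 3] p = path g [3, 1, 3, 6, 3] p :=
  H.back (i := 2) (by decide) (f11159 H)

theorem f11161 : g 2 • path g [4, 8, 5, 2, 9] p = path g [9, 2, 9, 5, 2, 9] p :=
  scan (u := [2, 1]) (w := [1]) (i := 2) (r3_0_1 H) (step (f11159 H) (step (f9396 H) rfl)) (step (H.back (i := 6) (by decide) (f11105 H)) rfl)

theorem f11162 : g 7 • path g [9, 2, 9, 5, 2, 9] p = path g [4, 8, 5, 2, 9] p :=
  H.back (i := 2) (by decide) (f11161 H)

theorem f11163 : g 2 • path g [9, 2, 9, 5, 2, 9] p = path g [4, 8, 5, 2, 9] p :=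
  scan (u := [2]) (w := []) (i := 2) (r2_0_0 H) (step (f11161 H) rfl) rfl

theorem f11165 : g 1 • path g [3, 1, 8, 1, 8] p = path g [9, 2, 8, 9, 2, 5] p :=
  scan (u := [7, 5, 7, 5, 3]) (w := [0, 2, 1, 0, 8]) (i := 1) (r8_1_8 H) (step (f11139 H) (step (f9394 H) (step (f9462 H) (step (f9393 H) (step (f4892 H) rfl))))) (step (H.back (i := 5) (by decide) (f7874 H)) (step (H.back (i := 7) (by decide) (f3042 H)) (step (H.back (i := 6) (by decide) (f3054 H)) (step (H.back (i := 5) (by decide) (f4230 H)) (step (H.back (i := 3) (by decide) (f11079 H)) rfl)))))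

theorem f11166 : g 6 • path g [9, 2, 8, 9, 2, 5] p = path g [3, 1, 8, 1, 8] p :=
  H.back (i := 1) (by decide) (f11165 H)

theorem f11167 : g 4 • path g [8, 1, 8, 1, 3] p = path g [3, 9, 2, 6, 3] p :=
  scan (u := [1]) (w := [6, 9]) (i := 4) (r14_0_0 H) (step (f11137 H) rfl) (step (H.back (i := 1) (by decide) (f9480 H)) (step (H.back (i := 4) (by decide) (f5391 H)) rfl))

theorem f11168 : g 9 • path g [3, 9, 2, 6, 3] p = path g [8, 1, 8, 1, 3] p :=
  H.back (i := 4) (by decide) (f11167 H)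

theorem f11169 : g 0 • path g [8, 1, 8, 6, 3] p = path g [8, 6, 8, 6, 8] p :=
  scan (u := [1, 8, 7, 3]) (w := [2, 0, 1, 2, 0]) (i := 0) (r7_1_7 H) (step (f11137 H) (step (f4360 H) (step (f889 H) (step (f4341 H) rfl)))) (step (H.back (i := 7) (by decide) (f4870 H)) (step (H.back (i := 5) (by decide) (f10969 H)) (step (H.back (i := 6) (by decide) (f3610 H)) (step (H.back (i := 7) (by decide) (f11136 H)) (step (H.back (i := 5) (by decide) (f5231 H)) rfl)))))

theorem f11170 : g 5 • path g [8, 6, 8, 6, 8] p = path g [8, 1, 8, 6, 3] p :=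
  H.back (i := 0) (by decide) (f11169 H)

theorem f11171 : path g [9, 2, 9, 3, 5, 6] p = path g [8, 1, 8, 6, 8] p :=
  close (u := [1, 3, 5, 6, 5, 7, 5, 6]) (w := [8, 0, 2, 0, 1, 2, 0]) (r9_0_10 H) (step (f11137 H) (step (f9650 H) (step (f11122 H) (step (f11126 H) (step (f9723 H) (step (f3026 H) (step (f3029 H) (step (f7844 H) rfl)))))))) (step (H.back (i := 3) (by decide) (f4343 H)) (step (H.back (i := 5) (by decide) (f11170 H)) (step (H.back (i := 7) (by decide) (f4870 H)) (step (H.back (i := 5) (by decide) (f10969 H)) (step (H.back (i := 6) (by decide) (f3610 H)) (step (H.back (i := 7) (by decide) (f11136 H)) (step (H.back (i := 5) (by decide) (f5231 H)) rfl)))))))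

theorem f11172 : g 1 • path g [8, 1, 8, 6, 8] p = path g [9, 2, 9, 3, 5] p :=
  (congrArg (g 1 • ·) (f11171 H).symm).trans (f7845 H)

theorem f11175 : g 6 • path g [8, 1, 8, 6, 8] p = path g [9, 2, 9, 3, 5, 1] p :=
  (congrArg (g 6 • ·) (f11171 H).symm).trans (f7849 H)

theorem f11177 : g 1 • path g [9, 2, 9, 3, 5, 1] p = path g [8, 1, 8, 6, 8] p :=
  H.back (i := 6) (by decide) (f11175 H)

theorem f11178 : g 4 • path g [8, 1, 8, 6, 8] p = path g [9, 8, 2, 1, 3, 5] p :=
  (congrArg (g 4 • ·) (f11171 H).symm).trans (f10914 H)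

theorem f11180 : g 9 • path g [9, 8, 2, 1, 3, 5] p = path g [8, 1, 8, 6, 8] p :=
  H.back (i := 4) (by decide) (f11178 H)

theorem f11181 : g 5 • path g [8, 1, 8, 6, 8] p = path g [8, 6, 8, 6, 3] p :=
  (congrArg (g 5 • ·) (f11171 H).symm).trans (f10919 H)

theorem f11183 : g 0 • path g [8, 6, 8, 6, 3] p = path g [8, 1, 8, 6, 8] p :=
  H.back (i := 5) (by decide) (f11181 H)

theorem f11184 : g 0 • path g [8, 1, 8, 6, 8] p = path g [8, 6, 8, 6, 3] p :=
  (congrArg (g 0 • ·) (f11171 H).symm).trans (f10921 H)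

theorem f11186 : g 5 • path g [8, 6, 8, 6, 3] p = path g [8, 1, 8, 6, 8] p :=
  H.back (i := 0) (by decide) (f11184 H)

theorem f11187 : g 0 • path g [8, 1, 3, 1, 3] p = path g [3, 6, 8, 1, 8] p :=
  scan (u := [0, 2]) (w := [2, 3, 5, 6, 7, 5, 6, 8]) (i := 0) (r8_0_10 H) (step (f11184 H) (step (f10923 H) rfl)) (step (H.back (i := 7) (by decide) (f4853 H)) (step (H.back (i := 8) (by decide) (f4742 H)) (step (H.back (i := 0) (by decide) (f6448 H)) (step (H.back (i := 1) (by decide) (f852 H)) (step (H.back (i := 2) (by decide) (f4090 H)) (step (H.back (i := 0) (by decide) (f7186 H)) (step (H.back (i := 1) (by decide) (f881 H)) (step (H.back (i := 3) (by decide) (f4340 H)) rfl))))))))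

theorem f11188 : g 5 • path g [3, 6, 8, 1, 8] p = path g [8, 1, 3, 1, 3] p :=
  H.back (i := 0) (by decide) (f11187 H)

theorem f11189 : g 0 • path g [3, 6, 8, 1, 8] p = path g [8, 1, 3, 1, 3] p :=
  scan (u := [0]) (w := []) (i := 0) (r0_0_0 H) (step (f11187 H) rfl) rfl

theorem f11190 : g 5 • path g [8, 1, 3, 1, 3] p = path g [3, 6, 8, 1, 8] p :=
  H.back (i := 0) (by decide) (f11189 H)

theorem f11191 : g 4 • path g [3, 6, 8, 1, 8] p = path g [4, 2, 8, 6, 5] p :=
  scan (u := [0]) (w := [5, 9]) (i := 4) (r13_0_2 H) (step (f11187 H) rfl) (step (H.back (i := 0) (by decide) (f5271 H)) (step (H.back (i := 4) (by decide) (f9468 H)) rfl))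

theorem f11192 : g 9 • path g [4, 2, 8, 6, 5] p = path g [3, 6, 8, 1, 8] p :=
  H.back (i := 4) (by decide) (f11191 H)

theorem f11193 : g 0 • path g [3, 1, 8, 6, 3] p = path g [3, 6, 8, 6, 8] p :=
  scan (u := [0, 2, 0, 4, 5, 7, 5, 7, 5, 7, 5, 7, 4, 2]) (w := [2, 0, 2]) (i := 0) (r11_0_2 H) (step (f11187 H) (step (f4852 H) (step (f11189 H) (step (f9468 H) (step (f5268 H) (step (f5276 H) (step (f3510 H) (step (f3492 H) (step (f3490 H) (step (f3362 H) (step (f3357 H) (step (f3395 H) (step (f11113 H) (step (f11095 H) rfl)))))))))))))) (step (H.back (i := 7) (by decide) (f4725 H)) (step (H.back (i := 5) (by decide) (f11186 H)) (step (H.back (i := 7) (by decide) (f10922 H)) rfl)))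

theorem f11194 : g 5 • path g [3, 6, 8, 6, 8] p = path g [3, 1, 8, 6, 3] p :=
  H.back (i := 0) (by decide) (f11193 H)

theorem f11195 : g 0 • path g [3, 6, 8, 6, 8] p = path g [3, 1, 8, 6, 3] p :=
  scan (u := [0]) (w := []) (i := 0) (r0_0_0 H) (step (f11193 H) rfl) rfl

theorem f11197 : g 5 • path g [8, 1, 3, 1, 8] p = path g [9, 2, 8, 9, 2, 6] p :=
  scan (u := [0, 2, 0, 2, 3]) (w := [6, 7, 5, 6, 8]) (i := 5) (r8_0_10 H) (step (f11193 H) (step (f4724 H) (step (f11184 H) (step (f10923 H) (step (f4468 H) rfl))))) (step (H.back (i := 1) (by decide) (f7890 H)) (step (H.back (i := 2) (by decide) (f7894 H)) (step (H.back (i := 0) (by decide) (f10982 H)) (step (H.back (i := 1) (by decide) (f10999 H)) (step (H.back (i := 3) (by decide) (f4874 H)) rfl)))))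

theorem f11198 : g 0 • path g [9, 2, 8, 9, 2, 6] p = path g [8, 1, 3, 1, 8] p :=
  H.back (i := 5) (by decide) (f11197 H)

theorem f11199 : g 6 • path g [3, 6, 8, 6, 8] p = path g [9, 2, 9, 3, 5, 2] p :=
  scan (u := [0]) (w := [2, 0, 2, 1, 0, 2, 1, 0, 6, 2]) (i := 6) (r5_0_0 H) (step (f11193 H) rfl) (step (H.back (i := 7) (by decide) (f7839 H)) (step (H.back (i := 5) (by decide) (f3029 H)) (step (H.back (i := 7) (by decide) (f3026 H)) (step (H.back (i := 6) (by decide) (f9651 H)) (step (H.back (i := 5) (by decide) (f4518 H)) (step (H.back (i := 7) (by decide) (f9426 H)) (step (H.back (i := 6) (by decide) (f4525 H)) (step (H.back (i := 5) (by decide) (f4550 H)) (step (H.back (i := 1) (by decide) (f11123 H)) (step (H.back (i := 7) (by decide) (f11094 H)) rfl))))))))))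

theorem f11200 : g 1 • path g [9, 2, 9, 3, 5, 2] p = path g [3, 6, 8, 6, 8] p :=
  H.back (i := 6) (by decide) (f11199 H)

theorem f11201 : g 8 • path g [9, 2, 9, 3, 5, 2] p = path g [3, 1, 3, 9, 6] p :=
  scan (u := [6]) (w := [0, 2, 0, 2, 3, 5, 6, 7, 5]) (i := 8) (r8_0_8 H) (step (f11199 H) rfl) (step (H.back (i := 5) (by decide) (f9025 H)) (step (H.back (i := 7) (by decide) (f2952 H)) (step (H.back (i := 5) (by decide) (f2955 H)) (step (H.back (i := 7) (by decide) (f9647 H)) (step (H.back (i := 8) (by decide) (f3283 H)) (step (H.back (i := 0) (by decide) (f4552 H)) (step (H.back (i := 1) (by decide) (f11123 H)) (step (H.back (i := 2) (by decide) (f11097 H)) (step (H.back (i := 0) (by decide) (f11195 H)) rfl)))))))))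

theorem f11202 : g 3 • path g [3, 1, 3, 9, 6] p = path g [9, 2, 9, 3, 5, 2] p :=
  H.back (i := 8) (by decide) (f11201 H)

theorem f11203 : g 1 • path g [8, 9, 2, 6, 8] p = path g [9, 3, 2, 4, 8] p :=
  scan (u := [6, 8, 0, 2, 0, 1, 2, 0]) (w := [3, 5, 6, 5, 7, 5]) (i := 1) (r9_0_2 H) (step (f11199 H) (step (f11201 H) (step (f8162 H) (step (f2951 H) (step (f2956 H) (step (f5651 H) (step (f4669 H) (step (f7672 H) rfl)))))))) (step (H.back (i := 8) (by decide) (f3679 H)) (step (H.back (i := 0) (by decide) (f3249 H)) (step (H.back (i := 1) (by decide) (f3313 H)) (step (H.back (i := 0) (by decide) (f11120 H)) (step (H.back (i := 2) (by decide) (f11097 H)) (step (H.back (i := 0) (by decide) (f11195 H)) rfl))))))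

theorem f11205 : g 1 • path g [9, 3, 2, 4, 8] p = path g [9, 8, 2, 5, 6, 8] p :=
  scan (u := [1]) (w := [1]) (i := 1) (r1_0_0 H) (step (f11203 H) rfl) (step (H.back (i := 6) (by decide) (f9012 H)) rfl)

theorem f11207 : g 3 • path g [9, 2, 9, 5, 2, 1] p = path g [3, 1, 3, 9, 6] p :=
  scan (u := [1, 8, 7]) (w := [0, 2, 0, 1, 2, 0]) (i := 3) (r7_1_7 H) (step (f11203 H) (step (f3681 H) (step (f7614 H) rfl))) (step (H.back (i := 5) (by decide) (f9025 H)) (step (H.back (i := 7) (by decide) (f2952 H)) (step (H.back (i := 5) (by decide) (f2955 H)) (step (H.back (i := 6) (by decide) (f5653 H)) (step (H.back (i := 7) (by decide) (f4670 H)) (step (H.back (i := 5) (by decide) (f7673 H)) rfl))))))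

theorem f11209 : g 3 • path g [9, 2, 9, 3, 5, 2] p = path g [9, 2, 9, 5, 2, 1] p :=
  scan (u := [3, 3]) (w := []) (i := 3) (r6_0_0 H) (step (f11207 H) (step (f11202 H) rfl)) rfl

theorem f11211 : g 4 • path g [8, 6, 4, 2, 8] p = path g [9, 2, 9, 3, 5, 2] p :=
  scan (u := [3, 4, 3]) (w := []) (i := 4) (r15_0_1 H) (step (f11209 H) (step (f10134 H) (step (f4238 H) rfl))) rfl

theorem f11213 : g 5 • path g [9, 2, 8, 9, 2, 6] p = path g [8, 1, 3, 1, 8] p :=
  scan (u := [5]) (w := []) (i := 5) (r0_1_0 H) (step (f11197 H) rfl) rfl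

theorem f11214 : g 0 • path g [8, 1, 3, 1, 8] p = path g [9, 2, 8, 9, 2, 6] p :=
  H.back (i := 5) (by decide) (f11213 H)

theorem f11215 : g 9 • path g [9, 2, 8, 9, 2, 6] p = path g [9, 2, 9, 5, 3, 1] p :=
  scan (u := [5]) (w := [0, 4]) (i := 9) (r13_0_0 H) (step (f11197 H) rfl) (step (H.back (i := 5) (by decide) (f9661 H)) (step (H.back (i := 9) (by decide) (f9416 H)) rfl))

theorem f11217 : path g [9, 2, 8, 9, 2, 6] p = path g [3, 6, 8, 1, 3] p :=
  close (u := [5]) (w := [8, 2, 3, 6, 5, 7, 6, 5, 7]) (r7_0_8 H) (step (f11197 H) rfl) (step (H.back (i := 3) (by decide) (f4744 H)) (step (H.back (i := 7) (by decide) (f1099 H)) (step (H.back (i := 8) (by decide) (f10718 H)) (step (H.back (i := 1) (by decide) (f3607 H)) (step (H.back (i := 0) (by decide) (f3092 H)) (step (H.back (i := 2) (by decide) (f3041 H)) (step (H.back (i := 1) (by decide) (f7883 H)) (step (H.back (i := 0) (by decide) (f11214 H)) (step (H.back (i := 2) (by decide) (f4959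 H)) rfl)))))))))

theorem f11218 : g 1 • path g [3, 6, 8, 1, 3] p = path g [9, 2, 8, 9, 2] p :=
  (congrArg (g 1 • ·) (f11217 H).symm).trans (f7883 H)

theorem f11220 : g 6 • path g [9, 2, 8, 9, 2] p = path g [3, 6, 8, 1, 3] p :=
  H.back (i := 1) (by decide) (f11218 H)

theorem f11221 : g 7 • path g [3, 6, 8, 1, 3] p = path g [9, 2, 8, 9, 1] p :=
  (congrArg (g 7 • ·) (f11217 H).symm).trans (f7884 H)

theorem f11223 : g 2 • path g [9, 2, 8, 9, 1] p = path g [3, 6, 8, 1, 3] p :=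
  H.back (i := 7) (by decide) (f11221 H)

theorem f11224 : g 2 • path g [3, 6, 8, 1, 3] p = path g [9, 2, 8, 9, 1] p :=
  (congrArg (g 2 • ·) (f11217 H).symm).trans (f7887 H)

theorem f11227 : g 6 • path g [3, 6, 8, 1, 3] p = path g [9, 2, 8, 9, 2, 1] p :=
  (congrArg (g 6 • ·) (f11217 H).symm).trans (f7891 H)

theorem f11229 : g 1 • path g [9, 2, 8, 9, 2, 1] p = path g [3, 6, 8, 1, 3] p :=
  H.back (i := 6) (by decide) (f11227 H)

theorem f11230 : g 0 • path g [3, 6, 8, 1, 3] p = path g [8, 1, 3, 1, 8] p :=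
  (congrArg (g 0 • ·) (f11217 H).symm).trans (f11198 H)

theorem f11232 : g 5 • path g [8, 1, 3, 1, 8] p = path g [3, 6, 8, 1, 3] p :=
  H.back (i := 0) (by decide) (f11230 H)

theorem f11233 : g 5 • path g [3, 6, 8, 1, 3] p = path g [8, 1, 3, 1, 8] p :=
  (congrArg (g 5 • ·) (f11217 H).symm).trans (f11213 H)

theorem f11235 : g 0 • path g [8, 1, 3, 1, 8] p = path g [3, 6, 8, 1, 3] p :=
  H.back (i := 5) (by decide) (f11233 H)

theorem f11236 : g 9 • path g [3, 6, 8, 1, 3] p = path g [9, 2, 9, 5, 3, 1] p :=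
  (congrArg (g 9 • ·) (f11217 H).symm).trans (f11215 H)

theorem f11238 : g 4 • path g [9, 2, 9, 5, 3, 1] p = path g [3, 6, 8, 1, 3] p :=
  H.back (i := 9) (by decide) (f11236 H)

theorem f11239 : g 9 • path g [9, 2, 9, 5, 3, 1] p = path g [9, 8, 6, 3, 1, 8] p :=
  scan (u := [9]) (w := [9]) (i := 9) (r10_1_0 H) (step (f11236 H) rfl) (step (H.back (i := 4) (by decide) (f6015 H)) rfl)

theorem f11240 : g 4 • path g [9, 8, 6, 3, 1, 8] p = path g [9, 2, 9, 5, 3, 1] p :=
  H.back (i := 9) (by decide) (f11239 H)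

theorem f11241 : path g [3, 9, 1, 3, 2] p = path g [9, 2, 8, 9, 2, 9] p :=
  close (u := [9, 1]) (w := [4, 6]) (r14_0_3 H) (step (f11236 H) (step (f9629 H) rfl)) (step (H.back (i := 9) (by decide) (f7870 H)) (step (H.back (i := 1) (by decide) (f11218 H)) rfl))

theorem f11242 : path g [9, 2, 8, 9, 2, 9] p = path g [3, 9, 1, 3, 2] p :=
  (f11241 H).symm

theorem f11243 : g 4 • path g [3, 9, 1, 3, 2] p = path g [9, 2, 8, 9, 2] p :=
  (congrArg (g 4 • ·) (f11242 H).symm).trans (f7871 H)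

theorem f11246 : g 9 • path g [3, 9, 1, 3, 2] p = path g [9, 2, 8, 9, 2, 4] p :=
  (congrArg (g 9 • ·) (f11242 H).symm).trans (f7899 H)

theorem f11248 : g 4 • path g [9, 2, 8, 9, 2, 4] p = path g [3, 9, 1, 3, 2] p :=
  H.back (i := 9) (by decide) (f11246 H)

theorem f11249 : path g [9, 2, 5, 4, 8] p = path g [9, 2, 8, 9, 2, 1] p :=
  close (u := [9, 6, 4]) (w := [1]) (r14_1_2 H) (step (f11236 H) (step (f7632 H) (step (f3449 H) rfl))) (step (H.back (i := 6) (by decide) (f11227 H)) rfl)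

theorem f11250 : path g [9, 2, 8, 9, 2, 1] p = path g [9, 2, 5, 4, 8] p :=
  (f11249 H).symm

theorem f11251 : g 6 • path g [9, 2, 5, 4, 8] p = path g [9, 2, 8, 9, 2] p :=
  (congrArg (g 6 • ·) (f11250 H).symm).trans (f7889 H)

theorem f11253 : g 1 • path g [9, 2, 8, 9, 2] p = path g [9, 2, 5, 4, 8] p :=
  H.back (i := 6) (by decide) (f11251 H)

theorem f11254 : g 1 • path g [9, 2, 5, 4, 8] p = path g [3, 6, 8, 1, 3] p :=
  (congrArg (g 1 • ·) (f11250 H).symm).trans (f11229 H)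

theorem f11256 : g 6 • path g [3, 6, 8, 1, 3] p = path g [9, 2, 5, 4, 8] p :=
  H.back (i := 1) (by decide) (f11254 H)

theorem f11257 : g 2 • path g [9, 2, 5, 4, 8] p = path g [9, 2, 8, 9, 6] p :=
  (congrArg (g 2 • ·) (f11250 H).symm).trans (f7892 H)

theorem f11259 : g 7 • path g [9, 2, 8, 9, 6] p = path g [9, 2, 5, 4, 8] p :=
  H.back (i := 2) (by decide) (f11257 H)

theorem f11260 : g 7 • path g [9, 2, 5, 4, 8] p = path g [9, 2, 8, 9, 6] p :=
  (congrArg (g 7 • ·) (f11250 H).symm).trans (f7895 H)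

theorem f11262 : g 2 • path g [9, 2, 8, 9, 6] p = path g [9, 2, 5, 4, 8] p :=
  H.back (i := 7) (by decide) (f11260 H)

theorem f11263 : path g [4, 2, 9, 2, 5] p = path g [9, 2, 5, 4] p :=
  close (u := [7, 5, 7, 5, 3, 1, 0, 2, 1, 0]) (w := [8]) (r8_1_8 H) (step (f11260 H) (step (f10984 H) (step (f5301 H) (step (f3815 H) (step (f3842 H) (step (f3837 H) (step (f1257 H) (step (f1250 H) (step (f1254 H) (step (f5198 H) rfl)))))))))) (step (H.back (i := 3) (by decide) (f3445 H)) rfl)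

theorem f11266 : g 5 • path g [9, 2, 5, 4] p = path g [4, 2, 9, 2] p :=
  (congrArg (g 5 • ·) (f11263 H).symm).trans (f5197 H)

theorem f11267 : path g [9, 2, 4] p = path g [4, 2, 9, 2] p :=
  (f518 H).symm.trans (f11266 H)

theorem f11268 : path g [4, 2, 9, 2] p = path g [9, 2, 4] p :=
  (f11267 H).symm

theorem f11271 : g 2 • path g [9, 2, 4] p = path g [4, 2, 9] p :=
  (congrArg (g 2 • ·) (f11268 H).symm).trans (f1252 H)

theorem f11272 : path g [9, 2, 4, 2] p = path g [4, 2, 9] p :=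
  (f548 H).symm.trans (f11271 H)

theorem f11332 : g 7 • path g [4, 2, 9] p = path g [9, 2, 4] p :=
  (f1253 H).trans (f11268 H)

theorem f11335 : g 2 • path g [4, 2, 9] p = path g [9, 2, 4] p :=
  (f1250 H).trans (f11268 H)

theorem f11400 : g 7 • path g [9, 2, 4] p = path g [4, 2, 9] p :=
  (f551 H).trans (f11272 H)

theorem f11401 : g 2 • path g [9, 2, 4] p = path g [4, 2, 9] p :=
  (f548 H).trans (f11272 H)

theorem f11402 : g 6 • path g [9, 8, 6, 3, 1, 8] p = path g [8, 4, 2, 9, 3] p :=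
  scan (u := [1, 4]) (w := [9]) (i := 6) (r14_0_0 H) (step (f11254 H) (step (f6015 H) rfl)) (step (H.back (i := 4) (by decide) (f4544 H)) rfl)

theorem f11403 : g 1 • path g [8, 4, 2, 9, 3] p = path g [9, 8, 6, 3, 1, 8] p :=
  H.back (i := 6) (by decide) (f11402 H)

theorem f11404 : g 8 • path g [9, 2, 8, 9, 2, 5] p = path g [3, 6, 3, 9, 1] p :=
  scan (u := [1, 0, 2, 0, 1, 0]) (w := [6, 5, 7, 6, 5, 7, 5, 3]) (i := 8) (r9_1_12 H) (step (f11254 H) (step (f11230 H) (step (f4959 H) (step (f11235 H) (step (f11218 H) (step (f7877 H) rfl)))))) (step (H.back (i := 1) (by decide) (f4782 H)) (step (H.back (i := 0) (by decide) (f6889 H)) (step (H.back (i := 2) (by decide) (f2885 H)) (step (H.back (i := 1) (by decide) (f10518 H)) (step (H.back (i := 0) (by decide) (f6460 H)) (step (H.back (i := 2) (by decide) (f10694 H)) (step (H.back (i := 0) (by decide) (f10124 H)) (step (H.back (i := 8) (by decide) (f10094 H)) rfl))))))))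

theorem f11405 : g 3 • path g [3, 6, 3, 9, 1] p = path g [9, 2, 8, 9, 2, 5] p :=
  H.back (i := 8) (by decide) (f11404 H)

theorem f11406 : g 8 • path g [9, 2, 5, 4, 2] p = path g [9, 2, 8, 9, 2, 5] p :=
  scan (u := [8, 8]) (w := []) (i := 8) (r6_1_0 H) (step (f11404 H) (step (f10729 H) rfl)) rfl

theorem f11407 : g 3 • path g [9, 2, 8, 9, 2, 5] p = path g [9, 2, 5, 4, 2] p :=
  H.back (i := 8) (by decide) (f11406 H)

theorem f11408 : g 1 • path g [9, 2, 8, 9, 2, 4] p = path g [8, 4, 2, 9, 3] p :=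
  scan (u := [6, 4]) (w := [9]) (i := 1) (r14_1_3 H) (step (f11251 H) (step (f7896 H) rfl)) (step (H.back (i := 4) (by decide) (f4544 H)) rfl)

theorem f11410 : g 1 • path g [9, 8, 6, 3, 1, 8] p = path g [9, 2, 8, 9, 2, 4] p :=
  scan (u := [1, 1]) (w := []) (i := 1) (r1_0_0 H) (step (f11408 H) (step (f11403 H) rfl)) rfl

theorem f11411 : g 6 • path g [9, 2, 8, 9, 2, 4] p = path g [9, 8, 6, 3, 1, 8] p :=
  H.back (i := 1) (by decide) (f11410 H)

theorem f11412 : g 8 • path g [9, 2, 8, 9, 2, 4] p = path g [9, 8, 2, 8, 9, 6] p :=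
  scan (u := [9]) (w := [9, 8]) (i := 8) (r15_1_1 H) (step (f11246 H) rfl) (step (H.back (i := 4) (by decide) (f5511 H)) (step (H.back (i := 3) (by decide) (f8908 H)) rfl))

theorem f11413 : g 3 • path g [9, 8, 2, 8, 9, 6] p = path g [9, 2, 8, 9, 2, 4] p :=
  H.back (i := 8) (by decide) (f11412 H)

theorem f11414 : g 9 • path g [9, 2, 8, 9, 2, 5] p = path g [8, 9, 2, 6, 8] p :=
  scan (u := [4, 5]) (w := [0]) (i := 9) (r13_0_3 H) (step (f11243 H) (step (f7874 H) rfl)) (step (H.back (i := 5) (by decide) (f7671 H)) rfl)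

theorem f11415 : g 4 • path g [8, 9, 2, 6, 8] p = path g [9, 2, 8, 9, 2, 5] p :=
  H.back (i := 9) (by decide) (f11414 H)

theorem f11416 : path g [9, 2, 8, 9, 2, 3] p = path g [9, 8, 2, 8, 9, 6] p :=
  close (u := [4, 3]) (w := [4, 3]) (r15_0_0 H) (step (f11243 H) (step (f7878 H) rfl)) (step (H.back (i := 9) (by decide) (f5513 H)) (step (H.back (i := 8) (by decide) (f7343 H)) rfl))

theorem f11417 : g 8 • path g [9, 8, 2, 8, 9, 6] p = path g [9, 2, 8, 9, 2] p :=
  (congrArg (g 8 • ·) (f11416 H).symm).trans (f7879 H)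

theorem f11420 : g 3 • path g [9, 8, 2, 8, 9, 6] p = path g [9, 2, 8, 9, 2, 8] p :=
  (congrArg (g 3 • ·) (f11416 H).symm).trans (f7880 H)

theorem f11421 : path g [9, 2, 8, 9, 2, 4] p = path g [9, 2, 8, 9, 2, 8] p :=
  (f11413 H).symm.trans (f11420 H)

theorem f11422 : g 9 • path g [9, 2, 8, 9, 2, 8] p = path g [9, 2, 8, 9, 2] p :=
  (congrArg (g 9 • ·) (f11421 H).symm).trans (f7897 H)

theorem f11424 : g 4 • path g [9, 2, 8, 9, 2] p = path g [9, 2, 8, 9, 2, 8] p :=
  H.back (i := 9) (by decide) (f11422 H)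

theorem f11425 : g 4 • path g [9, 2, 8, 9, 2, 8] p = path g [3, 9, 1, 3, 2] p :=
  (congrArg (g 4 • ·) (f11421 H).symm).trans (f11248 H)

theorem f11428 : g 1 • path g [9, 2, 8, 9, 2, 8] p = path g [8, 4, 2, 9, 3] p :=
  (congrArg (g 1 • ·) (f11421 H).symm).trans (f11408 H)

theorem f11430 : g 6 • path g [8, 4, 2, 9, 3] p = path g [9, 2, 8, 9, 2, 8] p :=
  H.back (i := 1) (by decide) (f11428 H)

theorem f11431 : g 6 • path g [9, 2, 8, 9, 2, 8] p = path g [9, 8, 6, 3, 1, 8] p :=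
  (congrArg (g 6 • ·) (f11421 H).symm).trans (f11411 H)

theorem f11433 : g 1 • path g [9, 8, 6, 3, 1, 8] p = path g [9, 2, 8, 9, 2, 8] p :=
  H.back (i := 6) (by decide) (f11431 H)

theorem f11437 : g 3 • path g [9, 8, 2, 8, 9, 6] p = path g [9, 2, 8, 9, 2, 8] p :=
  (f11413 H).trans (f11421 H)

theorem f11438 : g 4 • path g [9, 8, 2, 5, 6, 8] p = path g [3, 1, 8, 1, 8] p :=
  scan (u := [9, 6]) (w := [1]) (i := 4) (r14_1_2 H) (step (f11414 H) (step (f9012 H) rfl)) (step (H.back (i := 6) (by decide) (f11166 H)) rfl)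

theorem f11440 : g 9 • path g [8, 9, 2, 6, 3] p = path g [9, 2, 5, 4, 2] p :=
  scan (u := [9, 8]) (w := [8]) (i := 9) (r15_1_1 H) (step (f11414 H) (step (f3876 H) rfl)) (step (H.back (i := 3) (by decide) (f11407 H)) rfl)

theorem f11441 : g 4 • path g [9, 2, 5, 4, 2] p = path g [8, 9, 2, 6, 3] p :=
  H.back (i := 9) (by decide) (f11440 H)

theorem f11442 : g 9 • path g [9, 2, 5, 4, 2] p = path g [3, 6, 3, 1, 3] p :=
  scan (u := [9]) (w := [9]) (i := 9) (r10_1_0 H) (step (f11440 H) rfl) (step (H.back (i := 4) (by decide) (f11156 H)) rfl)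

theorem f11443 : g 4 • path g [3, 6, 3, 1, 3] p = path g [9, 2, 5, 4, 2] p :=
  H.back (i := 9) (by decide) (f11442 H)

theorem f11444 : g 5 • path g [3, 1, 8, 1, 8] p = path g [3, 6, 3, 1, 3] p :=
  scan (u := [4]) (w := [9, 0]) (i := 5) (r13_0_3 H) (step (f11438 H) rfl) (step (H.back (i := 4) (by decide) (f11156 H)) (step (H.back (i := 5) (by decide) (f7675 H)) rfl))

theorem f11445 : g 0 • path g [3, 6, 3, 1, 3] p = path g [3, 1, 8, 1, 8] p :=
  H.back (i := 5) (by decide) (f11444 H)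

theorem f11446 : g 0 • path g [3, 1, 8, 1, 8] p = path g [3, 6, 3, 1, 3] p :=
  scan (u := [4]) (w := [9, 5]) (i := 0) (r13_1_2 H) (step (f11438 H) rfl) (step (H.back (i := 4) (by decide) (f11156 H)) (step (H.back (i := 0) (by decide) (f7680 H)) rfl))

theorem f11447 : g 5 • path g [3, 6, 3, 1, 3] p = path g [3, 1, 8, 1, 8] p :=
  H.back (i := 0) (by decide) (f11446 H)

theorem f11448 : g 2 • path g [3, 6, 3, 1, 3] p = path g [8, 1, 8, 6, 3] p :=
  scan (u := [4, 2, 0]) (w := [0, 2, 0, 2, 0, 4, 5, 7, 5, 7, 5, 7, 5, 7]) (i := 2) (r11_0_14 H) (step (f11438 H) (step (f4888 H) (step (f11446 H) rfl))) (step (H.back (i := 5) (by decide) (f11170 H)) (step (H.back (i := 7) (by decide) (f4870 H)) (step (H.back (i := 5) (by decide) (f10969 H)) (step (H.back (i := 7) (by decide) (f10965 H)) (step (H.back (i := 5) (by decide) (f10941 H)) (step (H.back (i := 9) (by decide) (f10939 H)) (step (H.back (i := 0) (by decide) (f7751 H)) (step (H.back (i := 2)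 (by decide) (f4978 H)) (step (H.back (i := 0) (by decide) (f3476 H)) (step (H.back (i := 2) (by decide) (f7664 H)) (step (H.back (i := 0) (by decide) (f4676 H)) (step (H.back (i := 2) (by decide) (f4671 H)) (step (H.back (i := 0) (by decide) (f7670 H)) (step (H.back (i := 2) (by decide) (f5568 H)) rfl))))))))))))))

theorem f11450 : g 2 • path g [8, 1, 8, 6, 3] p = path g [3, 6, 3, 1, 3] p :=
  scan (u := [2]) (w := []) (i := 2) (r2_0_0 H) (step (f11448 H) rfl) rfl

theorem f11451 : g 7 • path g [3, 6, 3, 1, 3] p = path g [8, 1, 8, 6, 3] p :=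
  H.back (i := 2) (by decide) (f11450 H)

theorem f11452 : g 4 • path g [4, 8, 5, 2, 1] p = path g [8, 1, 8, 6, 3] p :=
  scan (u := [2, 0, 2, 0, 4, 5, 7, 5, 7, 5, 7, 5, 7]) (w := [2, 0, 2, 0]) (i := 4) (r11_0_1 H) (step (f11448 H) (step (f11169 H) (step (f4871 H) (step (f10970 H) (step (f3611 H) (step (f3655 H) (step (f9952 H) (step (f10131 H) (step (f3625 H) (step (f5074 H) (step (f5076 H) (step (f1634 H) (step (f5070 H) rfl))))))))))))) (step (H.back (i := 7) (by decide) (f11451 H)) (step (H.back (i := 5) (by decide) (f11444 H)) (step (H.back (i := 7) (by decide) (f4889 H)) (step (H.back (i := 5) (by decide) (f11447 H)) rfl))))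

theorem f11454 : g 6 • path g [8, 1, 8, 6, 3] p = path g [4, 8, 5, 2, 4] p :=
  scan (u := [4]) (w := [9, 1]) (i := 6) (r14_0_1 H) (step (f11452 H) rfl) (step (H.back (i := 4) (by decide) (f5077 H)) (step (H.back (i := 6) (by decide) (f5066 H)) rfl))

theorem f11455 : g 1 • path g [4, 8, 5, 2, 4] p = path g [8, 1, 8, 6, 3] p :=
  H.back (i := 6) (by decide) (f11454 H)

theorem f11456 : g 3 • path g [9, 8, 2, 1, 3, 5] p = path g [4, 8, 5, 2, 1] p :=
  scan (u := [4, 3, 4]) (w := []) (i := 3) (r15_0_0 H) (step (f11452 H) (step (f4343 H) (step (f11178 H) rfl))) rfl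

theorem f11458 : g 2 • path g [8, 6, 4, 2, 8] p = path g [9, 8, 2, 1, 3, 5] p :=
  scan (u := [3, 6, 5, 7, 6, 5, 7, 5, 8]) (w := []) (i := 2) (r7_0_1 H) (step (f11456 H) (step (f5066 H) (step (f3571 H) (step (f3568 H) (step (f5308 H) (step (f5316 H) (step (f3255 H) (step (f3155 H) (step (f4234 H) rfl))))))))) rfl

theorem f11461 : path g [4, 8, 2, 1, 3] p = path g [8, 6, 8, 9, 2] p :=
  close (u := [2, 0, 1, 2, 0, 1, 8, 7, 3]) (w := [0]) (r7_1_2 H) (step (f11458 H) (step (f5795 H) (step (f5800 H) (step (f10370 H) (step (f7403 H) (step (f5128 H) (step (f1227 H) (step (f1189 H) (step (f5041 H) rfl))))))))) (step (H.back (i := 5) (by decide) (f10395 H)) rfl)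

theorem f11462 : g 8 • path g [8, 6, 8, 9, 2] p = path g [4, 8, 2, 1] p :=
  (congrArg (g 8 • ·) (f11461 H).symm).trans (f5042 H)

theorem f11464 : g 3 • path g [4, 8, 2, 1] p = path g [8, 6, 8, 9, 2] p :=
  H.back (i := 8) (by decide) (f11462 H)

theorem f11465 : g 3 • path g [8, 6, 8, 9, 2] p = path g [4, 8, 2, 1, 8] p :=
  (congrArg (g 3 • ·) (f11461 H).symm).trans (f5043 H)

theorem f11468 : g 2 • path g [4, 8, 6, 8, 6] p = path g [3, 6, 3, 9, 1] p :=
  scan (u := [2, 1, 0, 2, 1, 0, 6]) (w := [0, 6, 2, 0]) (i := 2) (r5_0_4 H) (step (f11458 H) (step (f10355 H) (step (f3523 H) (step (f3518 H) (step (f10615 H) (step (f2849 H) (step (f5103 H) rfl))))))) (step (H.back (i := 5) (by decide) (f6599 H)) (step (H.back (i := 1) (by decide) (f4020 H)) (step (H.back (i := 7) (by decide) (f4007 H)) (step (H.back (i := 5) (by decide) (f10395 H)) rfl))))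

theorem f11469 : g 7 • path g [3, 6, 3, 9, 1] p = path g [4, 8, 6, 8, 6] p :=
  H.back (i := 2) (by decide) (f11468 H)

theorem f11470 : g 2 • path g [4, 8, 6, 3, 6] p = path g [9, 8, 2, 5, 6, 4] p :=
  scan (u := [2, 3, 5, 6, 7, 5, 6, 8, 0]) (w := [0]) (i := 2) (r8_0_2 H) (step (f11468 H) (step (f11405 H) (step (f7876 H) (step (f11220 H) (step (f11221 H) (step (f4229 H) (step (f4232 H) (step (f3413 H) (step (f7403 H) rfl))))))))) (step (H.back (i := 5) (by decide) (f5583 H)) rfl)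

theorem f11472 : g 6 • path g [9, 8, 2, 1, 8] p = path g [8, 6, 8, 9, 1] p :=
  (f5760 H).trans (f10404 H)

theorem f11473 : g 2 • path g [9, 8, 2, 5, 6, 4] p = path g [4, 8, 6, 3, 6] p :=
  scan (u := [2]) (w := []) (i := 2) (r2_0_0 H) (step (f11470 H) rfl) rfl

theorem f11474 : g 7 • path g [4, 8, 6, 3, 6] p = path g [9, 8, 2, 5, 6, 4] p :=
  H.back (i := 2) (by decide) (f11473 H)

theorem f11475 : g 7 • path g [9, 8, 6, 3, 1, 8] p = path g [8, 4, 2, 9, 3] p :=
  scan (u := [2, 0, 1, 2, 0, 1, 8]) (w := [3, 0]) (i := 7) (r7_1_2 H) (step (f11470 H) (step (f5582 H) (step (f5104 H) (step (f9949 H) (step (f7214 H) (step (f2897 H) (step (f6012 H) rfl))))))) (step (H.back (i := 8) (by decide) (f4541 H)) (step (H.back (i := 5) (by decide) (f7401 H)) rfl))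

theorem f11476 : g 2 • path g [8, 4, 2, 9, 3] p = path g [9, 8, 6, 3, 1, 8] p :=
  H.back (i := 7) (by decide) (f11475 H)

theorem f11477 : g 7 • path g [8, 4, 2, 9, 3] p = path g [9, 8, 6, 3, 1, 8] p :=
  scan (u := [7]) (w := []) (i := 7) (r2_1_0 H) (step (f11475 H) rfl) rfl

theorem f11478 : g 2 • path g [9, 8, 6, 3, 1, 8] p = path g [8, 4, 2, 9, 3] p :=
  H.back (i := 7) (by decide) (f11477 H)

theorem f11479 : g 7 • path g [9, 2, 8, 9, 2, 8] p = path g [9, 2, 8, 9, 2, 8] p :=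
  scan (u := [7, 6]) (w := [6]) (i := 7) (r3_1_0 H) (step (f11475 H) (step (f11430 H) rfl)) (step (H.back (i := 1) (by decide) (f11433 H)) rfl)

theorem f11480 : g 2 • path g [9, 2, 8, 9, 2, 8] p = path g [9, 2, 8, 9, 2, 8] p :=
  H.back (i := 7) (by decide) (f11479 H)

theorem f11481 : g 3 • path g [4, 8, 5, 2, 1] p = path g [3, 9, 6, 3, 2] p :=
  scan (u := [2, 0, 1, 8, 7]) (w := [0, 2, 0, 1]) (i := 3) (r7_1_5 H) (step (f11473 H) (step (f7404 H) (step (f10119 H) (step (f10054 H) (step (f5070 H) rfl))))) (step (H.back (i := 5) (by decide) (f10335 H)) (step (H.back (i := 7) (by decide) (f10308 H)) (step (H.back (i := 5) (by decide) (f10864 H)) (step (H.back (i := 6) (by decide) (f10875 H)) rfl))))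

theorem f11482 : g 8 • path g [3, 9, 6, 3, 2] p = path g [4, 8, 5, 2, 1] p :=
  H.back (i := 3) (by decide) (f11481 H)

theorem f11483 : path g [9, 8, 6, 8, 5, 2] p = path g [9, 8, 2, 1, 5, 3] p :=
  close (u := [2, 1, 0, 8, 7, 5, 7, 5]) (w := [3, 1, 0]) (r8_1_4 H) (step (f11473 H) (step (f5128 H) (step (f8049 H) (step (f10895 H) (step (f9778 H) (step (f9711 H) (step (f9743 H) (step (f9750 H) rfl)))))))) (step (H.back (i := 8) (by decide) (f10688 H)) (step (H.back (i := 6) (by decide) (f5110 H)) (step (H.back (i := 5) (by decide) (f5580 H)) rfl)))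

theorem f11484 : g 7 • path g [9, 8, 2, 1, 5, 3] p = path g [9, 8, 6, 8, 5] p :=
  (congrArg (g 7 • ·) (f11483 H).symm).trans (f5889 H)

theorem f11486 : g 2 • path g [9, 8, 6, 8, 5] p = path g [9, 8, 2, 1, 5, 3] p :=
  H.back (i := 7) (by decide) (f11484 H)

theorem f11487 : g 2 • path g [9, 8, 2, 1, 5, 3] p = path g [9, 8, 6, 8, 5] p :=
  (congrArg (g 2 • ·) (f11483 H).symm).trans (f5890 H)

theorem f11489 : g 7 • path g [9, 8, 6, 8, 5] p = path g [9, 8, 2, 1, 5, 3] p :=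
  H.back (i := 2) (by decide) (f11487 H)

theorem f11490 : g 5 • path g [9, 8, 2, 1, 5, 3] p = path g [9, 2, 9, 5, 2, 4] p :=
  (congrArg (g 5 • ·) (f11483 H).symm).trans (f9749 H)

theorem f11492 : g 0 • path g [9, 2, 9, 5, 2, 4] p = path g [9, 8, 2, 1, 5, 3] p :=
  H.back (i := 5) (by decide) (f11490 H)

theorem f11493 : g 0 • path g [9, 8, 2, 1, 5, 3] p = path g [9, 2, 9, 5, 2, 4] p :=
  (congrArg (g 0 • ·) (f11483 H).symm).trans (f9752 H)

theorem f11495 : g 5 • path g [9, 2, 9, 5, 2, 4] p = path g [9, 8, 2, 1, 5, 3] p :=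
  H.back (i := 0) (by decide) (f11493 H)

theorem f11496 : g 9 • path g [9, 8, 2, 1, 5, 3] p = path g [9, 2, 9, 5, 2, 5] p :=
  (congrArg (g 9 • ·) (f11483 H).symm).trans (f9753 H)

theorem f11498 : g 4 • path g [9, 2, 9, 5, 2, 5] p = path g [9, 8, 2, 1, 5, 3] p :=
  H.back (i := 9) (by decide) (f11496 H)

theorem f11499 : g 8 • path g [9, 8, 2, 1, 3, 5] p = path g [3, 9, 6, 3, 2] p :=
  scan (u := [2, 0, 1, 3, 5, 6, 5, 7, 5, 6]) (w := [0, 2, 0, 1]) (i := 8) (r9_0_8 H) (step (f11473 H) (step (f7404 H) (step (f10119 H) (step (f10057 H) (step (f1434 H) (step (f1683 H) (step (f10882 H) (step (f3519 H) (step (f3522 H) (step (f10356 H) rfl)))))))))) (step (H.back (i := 5) (by decide) (f10335 H)) (step (H.back (i := 7) (by decide) (f10308 H)) (step (H.back (i := 5) (by decide) (f10864 H)) (step (H.back (i := 6) (by decide) (f10875 H)) rfl))))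

theorem f11500 : g 3 • path g [3, 9, 6, 3, 2] p = path g [9, 8, 2, 1, 3, 5] p :=
  H.back (i := 8) (by decide) (f11499 H)

theorem f11501 : path g [4, 2, 3, 9, 2] p = path g [9, 8, 2, 8, 9, 6] p :=
  close (u := [2, 0, 1, 0, 8, 6, 5, 7]) (w := [6, 5, 7, 5, 3, 1, 0]) (r9_1_14 H) (step (f11473 H) (step (f7404 H) (step (f10119 H) (step (f10072 H) (step (f3505 H) (step (f8692 H) (step (f3619 H) (step (f5343 H) rfl)))))))) (step (H.back (i := 1) (by decide) (f5516 H)) (step (H.back (i := 0) (by decide) (f9713 H)) (step (H.back (i := 2) (by decide) (f9741 H)) (step (H.back (i := 0) (by decide) (f11493 H)) (step (H.back (i := 8) (by decide) (f10688 H)) (step (H.back (i := 6) (by decide) (f5110 H)) (step (H.back (i := 5) (by decide) (f5580 H)) rfl)))))))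

theorem f11502 : path g [9, 8, 2, 8, 9, 6] p = path g [4, 2, 3, 9, 2] p :=
  (f11501 H).symm

theorem f11503 : g 1 • path g [4, 2, 3, 9, 2] p = path g [9, 8, 2, 8, 9] p :=
  (congrArg (g 1 • ·) (f11502 H).symm).trans (f5509 H)

theorem f11505 : g 6 • path g [9, 8, 2, 8, 9] p = path g [4, 2, 3, 9, 2] p :=
  H.back (i := 1) (by decide) (f11503 H)

theorem f11506 : g 9 • path g [4, 2, 3, 9, 2] p = path g [4, 8, 1, 8, 6] p :=
  (congrArg (g 9 • ·) (f11502 H).symm).trans (f5510 H)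

theorem f11508 : g 4 • path g [4, 8, 1, 8, 6] p = path g [4, 2, 3, 9, 2] p :=
  H.back (i := 9) (by decide) (f11506 H)

theorem f11509 : g 4 • path g [4, 2, 3, 9, 2] p = path g [9, 8, 2, 8, 6] p :=
  (congrArg (g 4 • ·) (f11502 H).symm).trans (f5512 H)

theorem f11512 : g 6 • path g [4, 2, 3, 9, 2] p = path g [9, 8, 2, 8, 9, 1] p :=
  (congrArg (g 6 • ·) (f11502 H).symm).trans (f5517 H)

theorem f11514 : g 1 • path g [9, 8, 2, 8, 9, 1] p = path g [4, 2, 3, 9, 2] p :=
  H.back (i := 6) (by decide) (f11512 H)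

theorem f11515 : g 3 • path g [4, 2, 3, 9, 2] p = path g [9, 2, 8, 9, 2, 8] p :=
  (congrArg (g 3 • ·) (f11502 H).symm).trans (f11437 H)

theorem f11518 : g 8 • path g [4, 2, 3, 9, 2] p = path g [9, 2, 8, 9, 2] p :=
  (congrArg (g 8 • ·) (f11502 H).symm).trans (f11417 H)

theorem f11520 : g 3 • path g [9, 2, 8, 9, 2] p = path g [4, 2, 3, 9, 2] p :=
  H.back (i := 8) (by decide) (f11518 H)

theorem f11521 : g 1 • path g [8, 9, 2, 4, 8] p = path g [9, 8, 2, 1, 5, 3] p :=
  scan (u := [9, 6, 4]) (w := []) (i := 1) (r14_1_2 H) (step (f11496 H) (step (f9446 H) (step (f3912 H) rfl))) rfl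

theorem f11523 : g 2 • path g [9, 3, 2, 3, 9] p = path g [8, 9, 2, 4, 8] p :=
  scan (u := [1, 2, 1]) (w := []) (i := 2) (r3_0_0 H) (step (f11521 H) (step (f11487 H) (step (f10114 H) rfl))) rfl

theorem f11525 : g 2 • path g [8, 9, 2, 4, 8] p = path g [9, 3, 2, 3, 9] p :=
  scan (u := [2]) (w := []) (i := 2) (r2_0_0 H) (step (f11523 H) rfl) rfl

theorem f11526 : g 7 • path g [9, 3, 2, 3, 9] p = path g [8, 9, 2, 4, 8] p :=
  H.back (i := 2) (by decide) (f11525 H)

theorem f11528 : g 0 • path g [9, 8, 2, 1, 8, 2] p = path g [8, 6, 4, 2, 3] p :=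
  scan (u := [3, 1, 0, 2, 0, 1]) (w := [8, 6, 5, 7, 6, 5, 7, 5]) (i := 0) (r9_1_11 H) (step (f11481 H) (step (f10346 H) (step (f5797 H) (step (f10378 H) (step (f10391 H) (step (f10556 H) rfl)))))) (step (H.back (i := 3) (by decide) (f4236 H)) (step (H.back (i := 1) (by decide) (f866 H)) (step (H.back (i := 0) (by decide) (f933 H)) (step (H.back (i := 2) (by decide) (f2565 H)) (step (H.back (i := 1) (by decide) (f10132 H)) (step (H.back (i := 0) (by decide) (f9966 H)) (step (H.back (i := 2) (by decide) (f3626 H)) (step (H.back (i := 0) (by decide) (f5073 H)) rfl))))))))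

theorem f11529 : g 5 • path g [8, 6, 4, 2, 3] p = path g [9, 8, 2, 1, 8, 2] p :=
  H.back (i := 0) (by decide) (f11528 H)

theorem f11531 : g 4 • path g [9, 8, 2, 1, 8] p = path g [8, 6, 8, 6] p :=
  (f5766 H).trans (f10422 H)

theorem f11532 : g 9 • path g [9, 2, 8, 6, 5, 8] p = path g [8, 6, 3, 1, 8] p :=
  scan (u := [5, 7, 9, 2, 0, 2, 0, 2, 0, 2, 0]) (w := [5, 7, 5, 7, 5, 7]) (i := 9) (r11_1_1 H) (step (f11233 H) (step (f4958 H) (step (f9416 H) (step (f5017 H) (step (f9417 H) (step (f9018 H) (step (f2912 H) (step (f2903 H) (step (f7768 H) (step (f7959 H) (step (f7963 H) rfl))))))))))) (step (H.back (i := 0) (by decide) (f11084 H)) (step (H.back (i := 2) (by decide) (f9646 H)) (step (H.back (i := 0) (by decide) (f11044 H)) (step (H.back (i := 2) (by decide) (f11071 H)) (step (H.back (i := 0) (by decide) (f4231 H)) (step (H.back (i := 2) (by decide) (f11224 H)) rfl))))))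

theorem f11533 : g 4 • path g [8, 6, 3, 1, 8] p = path g [9, 2, 8, 6, 5, 8] p :=
  H.back (i := 9) (by decide) (f11532 H)

theorem f11534 : g 4 • path g [3, 9, 2, 6, 3] p = path g [9, 2, 8, 9, 6, 3] p :=
  scan (u := [4]) (w := [4]) (i := 4) (r10_0_0 H) (step (f11167 H) rfl) (step (H.back (i := 9) (by decide) (f8289 H)) rfl)

theorem f11536 : g 8 • path g [8, 6, 8, 9, 1] p = path g [9, 3, 2, 9, 6] p :=
  scan (u := [2, 3, 6, 5, 7, 6, 5, 7, 5]) (w := []) (i := 8) (r7_0_0 H) (step (f11134 H) (step (f1264 H) (step (f9896 H) (step (f3949 H) (step (f9901 H) (step (f5585 H) (step (f5580 H) (step (f10733 H) (step (f6600 H) rfl))))))))) rfl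

theorem f11537 : g 3 • path g [9, 3, 2, 9, 6] p = path g [8, 6, 8, 9, 1] p :=
  H.back (i := 8) (by decide) (f11536 H)

theorem f11538 : g 3 • path g [4, 2, 8, 4, 2] p = path g [8, 6, 3, 9, 1] p :=
  scan (u := [8, 0, 2, 0, 2]) (w := [5, 6, 7, 5, 6]) (i := 3) (r8_0_9 H) (step (f11536 H) (step (f11059 H) (step (f3915 H) (step (f3816 H) (step (f5300 H) rfl))))) (step (H.back (i := 0) (by decide) (f6465 H)) (step (H.back (i := 1) (by decide) (f2897 H)) (step (H.back (i := 2) (by decide) (f2885 H)) (step (H.back (i := 0) (by decide) (f10386 H)) (step (H.back (i := 1) (by decide) (f10542 H)) rfl)))))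

theorem f11539 : g 8 • path g [8, 6, 3, 9, 1] p = path g [4, 2, 8, 4, 2] p :=
  H.back (i := 3) (by decide) (f11538 H)

theorem f11540 : g 2 • path g [9, 3, 6, 3, 6] p = path g [9, 3, 6, 3, 6] p :=
  scan (u := [7, 6, 5, 7, 5, 8]) (w := [3, 6, 5]) (i := 2) (r7_0_4 H) (step (f11074 H) (step (f3903 H) (step (f3813 H) (step (f5303 H) (step (f10985 H) (step (f8252 H) rfl)))))) (step (H.back (i := 8) (by decide) (f8252 H)) (step (H.back (i := 1) (by decide) (f3055 H)) (step (H.back (i := 0) (by decide) (f4228 H)) rfl)))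

theorem f11542 : g 4 • path g [8, 1, 3, 6, 3] p = path g [9, 2, 9, 8, 2, 8] p :=
  scan (u := [5]) (w := [0, 9]) (i := 4) (r13_1_1 H) (step (f11045 H) rfl) (step (H.back (i := 5) (by decide) (f9553 H)) (step (H.back (i := 4) (by decide) (f9460 H)) rfl))

theorem f11544 : g 4 • path g [9, 2, 9, 8, 2, 8] p = path g [8, 9, 2, 1, 5] p :=
  scan (u := [4]) (w := [4]) (i := 4) (r10_0_0 H) (step (f11542 H) rfl) (step (H.back (i := 9) (by decide) (f11048 H)) rfl)

theorem f11545 : g 9 • path g [8, 9, 2, 1, 5] p = path g [9, 2, 9, 8, 2, 8] p :=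
  H.back (i := 4) (by decide) (f11544 H)

theorem f11546 : g 5 • path g [9, 2, 9, 8, 2, 8] p = path g [8, 9, 2, 9, 2] p :=
  scan (u := [4]) (w := [9, 0]) (i := 5) (r13_0_3 H) (step (f11542 H) rfl) (step (H.back (i := 4) (by decide) (f9460 H)) (step (H.back (i := 5) (by decide) (f11043 H)) rfl))

theorem f11547 : g 0 • path g [8, 9, 2, 9, 2] p = path g [9, 2, 9, 8, 2, 8] p :=
  H.back (i := 5) (by decide) (f11546 H)

theorem f11548 : g 6 • path g [3, 6, 8, 1, 8] p = path g [9, 2, 9, 8, 2, 8] p :=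
  scan (u := [5, 6, 5, 1, 1, 5]) (w := []) (i := 6) (r4_1_1 H) (step (f11546 H) (step (f9449 H) (step (f3809 H) (step (f5247 H) (step (f9473 H) (step (f11190 H) rfl)))))) rfl

theorem f11549 : g 1 • path g [9, 2, 9, 8, 2, 8] p = path g [3, 6, 8, 1, 8] p :=
  H.back (i := 6) (by decide) (f11548 H)

theorem f11550 : g 4 • path g [8, 6, 8, 4, 2] p = path g [9, 2, 9, 8, 2, 3] p :=
  scan (u := [4, 3]) (w := [3]) (i := 4) (r15_0_0 H) (step (f11544 H) (step (f10912 H) rfl)) (step (H.back (i := 8) (by decide) (f7443 H)) rfl)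

theorem f11551 : g 9 • path g [9, 2, 9, 8, 2, 3] p = path g [8, 6, 8, 4, 2] p :=
  H.back (i := 4) (by decide) (f11550 H)

theorem f11552 : g 1 • path g [9, 8, 6, 3, 2] p = path g [9, 8, 6, 3] p :=
  (f5966 H).trans (f10504 H)

theorem f11553 : g 3 • path g [9, 8, 2, 9, 5, 1] p = path g [8, 9, 2, 9, 2] p :=
  scan (u := [4]) (w := [4, 3]) (i := 3) (r15_0_0 H) (step (f10861 H) rfl) (step (H.back (i := 9) (by decide) (f9457 H)) (step (H.back (i := 8) (by decide) (f3896 H)) rfl))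

theorem f11555 : g 3 • path g [9, 2, 9, 3, 9, 6] p = path g [9, 8, 2, 9, 5, 1] p :=
  scan (u := [3, 3]) (w := []) (i := 3) (r6_0_0 H) (step (f11553 H) (step (f11036 H) rfl)) rfl

theorem f11556 : g 8 • path g [9, 8, 2, 9, 5, 1] p = path g [9, 2, 9, 3, 9, 6] p :=
  H.back (i := 3) (by decide) (f11555 H)

theorem f11557 : g 2 • path g [8, 9, 2, 8, 4] p = path g [9, 2, 9, 3, 9, 6] p :=
  scan (u := [3, 6, 5, 7, 6, 5, 7, 5, 8]) (w := []) (i := 2) (r7_0_1 H) (step (f11555 H) (step (f5469 H) (step (f1362 H) (step (f1359 H) (step (f8243 H) (step (f7704 H) (step (f3455 H) (step (f5670 H) (step (f5671 H) rfl))))))))) rfl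

theorem f11558 : g 7 • path g [9, 2, 9, 3, 9, 6] p = path g [8, 9, 2, 8, 4] p :=
  H.back (i := 2) (by decide) (f11557 H)

theorem f11559 : g 7 • path g [8, 9, 2, 8, 4] p = path g [9, 2, 9, 3, 9, 6] p :=
  scan (u := [3, 0, 2, 0, 1, 2, 0, 1, 8]) (w := []) (i := 7) (r7_1_0 H) (step (f11555 H) (step (f5474 H) (step (f9496 H) (step (f5389 H) (step (f9480 H) (step (f7961 H) (step (f7763 H) (step (f8395 H) (step (f5671 H) rfl))))))))) rfl

theorem f11560 : g 2 • path g [9, 2, 9, 3, 9, 6] p = path g [8, 9, 2, 8, 4] p :=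
  H.back (i := 7) (by decide) (f11559 H)

theorem f11561 : path g [9, 2, 9, 3, 9, 1] p = path g [4, 2, 5, 4, 2] p :=
  close (u := [7, 6]) (w := [7, 6]) (r3_1_0 H) (step (f11559 H) (step (f7799 H) rfl)) (step (H.back (i := 2) (by decide) (f5336 H)) (step (H.back (i := 1) (by decide) (f3853 H)) rfl))

theorem f11562 : g 6 • path g [4, 2, 5, 4, 2] p = path g [9, 2, 9, 3, 9] p :=
  (congrArg (g 6 • ·) (f11561 H).symm).trans (f7797 H)

theorem f11564 : g 1 • path g [9, 2, 9, 3, 9] p = path g [4, 2, 5, 4, 2] p :=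
  H.back (i := 6) (by decide) (f11562 H)

theorem f11565 : g 1 • path g [4, 2, 5, 4, 2] p = path g [9, 2, 9, 3, 9, 6] p :=
  (congrArg (g 1 • ·) (f11561 H).symm).trans (f7798 H)

theorem f11568 : g 4 • path g [4, 2, 5, 4, 2] p = path g [9, 2, 9, 3, 1] p :=
  (congrArg (g 4 • ·) (f11561 H).symm).trans (f7800 H)

theorem f11571 : g 9 • path g [4, 2, 5, 4, 2] p = path g [9, 2, 4, 8, 1] p :=
  (congrArg (g 9 • ·) (f11561 H).symm).trans (f7802 H)

theorem f11573 : g 4 • path g [9, 2, 4, 8, 1] p = path g [4, 2, 5, 4, 2] p :=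
  H.back (i := 9) (by decide) (f11571 H)

theorem f11574 : path g [9, 2, 9, 3, 9, 2] p = path g [9, 3, 9, 2, 4] p :=
  close (u := [6, 7]) (w := [6, 7]) (r3_1_1 H) (step (f11562 H) (step (f7781 H) rfl)) (step (H.back (i := 1) (by decide) (f3586 H)) (step (H.back (i := 2) (by decide) (f5338 H)) rfl))

theorem f11575 : g 7 • path g [9, 3, 9, 2, 4] p = path g [9, 2, 9, 3, 9] p :=
  (congrArg (g 7 • ·) (f11574 H).symm).trans (f7779 H)

theorem f11577 : g 2 • path g [9, 2, 9, 3, 9] p = path g [9, 3, 9, 2, 4] p :=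
  H.back (i := 7) (by decide) (f11575 H)

theorem f11578 : g 2 • path g [9, 3, 9, 2, 4] p = path g [9, 2, 9, 3, 9] p :=
  (congrArg (g 2 • ·) (f11574 H).symm).trans (f7780 H)

theorem f11581 : g 4 • path g [9, 2, 8, 1, 3] p = path g [8, 6, 3, 6] p :=
  (f7922 H).trans (f10797 H)

theorem f11582 : g 4 • path g [8, 6, 4, 8] p = path g [4, 2, 3, 6] p :=
  (f3940 H).trans (f9848 H)

theorem f11583 : g 4 • path g [9, 8, 6, 3, 2] p = path g [3, 6, 8, 6] p :=
  (f5974 H).trans (f10534 H)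

theorem f11584 : g 1 • path g [9, 8, 2, 4, 8] p = path g [9, 2, 5, 1, 3] p :=
  (f5836 H).trans (f8604 H)

theorem f11585 : g 6 • path g [8, 6, 4, 2, 8] p = path g [4, 2, 9, 5, 3] p :=
  scan (u := [3, 5, 6, 7, 5]) (w := [8, 0, 2, 0, 2]) (i := 6) (r8_0_3 H) (step (f10728 H) (step (f6600 H) (step (f4021 H) (step (f4009 H) (step (f10392 H) rfl))))) (step (H.back (i := 3) (by decide) (f5213 H)) (step (H.back (i := 5) (by decide) (f1256 H)) (step (H.back (i := 7) (by decide) (f11400 H)) (step (H.back (i := 5) (by decide) (f518 H)) (step (H.back (i := 7) (by decide) (f3451 H)) rfl)))))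

theorem f11586 : g 1 • path g [4, 2, 9, 5, 3] p = path g [8, 6, 4, 2, 8] p :=
  H.back (i := 6) (by decide) (f11585 H)

theorem f11587 : g 7 • path g [4, 2, 9, 5, 3] p = path g [9, 2, 4, 8, 5] p :=
  scan (u := [6]) (w := [6, 7]) (i := 7) (r3_1_1 H) (step (f11585 H) rfl) (step (H.back (i := 1) (by decide) (f10355 H)) (step (H.back (i := 2) (by decide) (f11458 H)) rfl))

theorem f11588 : g 2 • path g [9, 2, 4, 8, 5] p = path g [4, 2, 9, 5, 3] p :=
  H.back (i := 7) (by decide) (f11587 H)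

theorem f11589 : g 1 • path g [4, 2, 5, 4, 8] p = path g [9, 2, 9, 3, 5, 2] p :=
  scan (u := [6, 4]) (w := [9]) (i := 1) (r14_1_3 H) (step (f11585 H) (step (f5335 H) rfl)) (step (H.back (i := 4) (by decide) (f11211 H)) rfl)

theorem f11590 : g 6 • path g [9, 2, 9, 3, 5, 2] p = path g [4, 2, 5, 4, 8] p :=
  H.back (i := 1) (by decide) (f11589 H)

theorem f11591 : g 2 • path g [4, 2, 9, 5, 3] p = path g [9, 2, 4, 8, 5] p :=
  scan (u := [6]) (w := [0, 2, 1, 0, 2, 1, 0, 6, 2, 0]) (i := 2) (r5_0_1 H) (step (f11585 H) rfl) (step (H.back (i := 5) (by decide) (f3522 H)) (step (H.back (i := 7) (by decide) (f3519 H)) (step (H.back (i := 6) (by decide) (f10617 H)) (step (H.back (i := 5) (by decide) (f2850 H)) (step (H.back (i := 7) (by decide) (f10785 H)) (step (H.back (i := 6) (by decide) (f4783 H)) (step (H.back (i := 5) (by decide) (f6599 H)) (step (H.back (i := 1) (by decide) (f4020 H)) (step (H.back (i := 7) (by decide) (f4007 H)) (step (H.back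 (i := 5) (by decide) (f10395 H)) rfl))))))))))

theorem f11593 : g 1 • path g [3, 6, 8, 6, 8] p = path g [4, 2, 5, 4, 8] p :=
  scan (u := [1, 1]) (w := []) (i := 1) (r1_0_0 H) (step (f11589 H) (step (f11200 H) rfl)) rfl

theorem f11594 : g 6 • path g [4, 2, 5, 4, 8] p = path g [3, 6, 8, 6, 8] p :=
  H.back (i := 1) (by decide) (f11593 H)

theorem f11595 : g 2 • path g [9, 2, 9, 3, 5, 1] p = path g [4, 2, 5, 4, 8] p :=
  scan (u := [1, 2, 1]) (w := []) (i := 2) (r3_0_0 H) (step (f11589 H) (step (f7838 H) (step (f7846 H) rfl))) rfl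

theorem f11597 : g 2 • path g [4, 2, 5, 4, 8] p = path g [9, 2, 9, 3, 5, 1] p :=
  scan (u := [2]) (w := []) (i := 2) (r2_0_0 H) (step (f11595 H) rfl) rfl

theorem f11599 : path g [4, 2, 4, 8, 5] p = path g [9, 2, 9, 3, 5, 8] p :=
  close (u := [1, 8, 7]) (w := [3, 0, 2, 0, 1, 2, 0]) (r7_1_7 H) (step (f11593 H) (step (f5332 H) (step (f9481 H) rfl))) (step (H.back (i := 8) (by decide) (f7834 H)) (step (H.back (i := 5) (by decide) (f3029 H)) (step (H.back (i := 7) (by decide) (f3026 H)) (step (H.back (i := 5) (by decide) (f9723 H)) (step (H.back (i := 6) (by decide) (f11126 H)) (step (H.back (i := 7) (by decide) (f11094 H)) (step (H.back (i := 5) (by decide) (f11194 H)) rfl)))))))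

theorem f11600 : path g [9, 2, 9, 3, 5, 8] p = path g [4, 2, 4, 8, 5] p :=
  (f11599 H).symm

theorem f11601 : g 3 • path g [4, 2, 4, 8, 5] p = path g [9, 2, 9, 3, 5] p :=
  (congrArg (g 3 • ·) (f11600 H).symm).trans (f7835 H)

theorem f11604 : g 8 • path g [4, 2, 4, 8, 5] p = path g [9, 2, 9, 3, 5, 3] p :=
  (congrArg (g 8 • ·) (f11600 H).symm).trans (f7843 H)

theorem f11606 : g 3 • path g [9, 2, 9, 3, 5, 3] p = path g [4, 2, 4, 8, 5] p :=
  H.back (i := 8) (by decide) (f11604 H)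

theorem f11607 : g 2 • path g [9, 2, 9, 3, 5, 3] p = path g [9, 8, 1, 3, 6, 8] p :=
  scan (u := [8]) (w := [3, 6, 5, 7, 6, 5, 7, 5]) (i := 2) (r7_0_9 H) (step (f11604 H) rfl) (step (H.back (i := 8) (by decide) (f6198 H)) (step (H.back (i := 1) (by decide) (f2945 H)) (step (H.back (i := 0) (by decide) (f6234 H)) (step (H.back (i := 2) (by decide) (f6250 H)) (step (H.back (i := 1) (by decide) (f5470 H)) (step (H.back (i := 0) (by decide) (f5476 H)) (step (H.back (i := 2) (by decide) (f9539 H)) (step (H.back (i := 0) (by decide) (f5387 H)) rfl))))))))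

theorem f11608 : g 7 • path g [9, 8, 1, 3, 6, 8] p = path g [9, 2, 9, 3, 5, 3] p :=
  H.back (i := 2) (by decide) (f11607 H)

theorem f11609 : g 2 • path g [9, 8, 1, 3, 6, 8] p = path g [9, 2, 9, 3, 5, 3] p :=
  scan (u := [2]) (w := []) (i := 2) (r2_0_0 H) (step (f11607 H) rfl) rfl

theorem f11610 : g 7 • path g [9, 2, 9, 3, 5, 3] p = path g [9, 8, 1, 3, 6, 8] p :=
  H.back (i := 2) (by decide) (f11609 H)

theorem f11611 : g 3 • path g [9, 2, 4, 8, 5] p = path g [4, 2, 9, 3, 5] p :=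
  scan (u := [3, 4]) (w := [4]) (i := 3) (r15_0_1 H) (step (f11601 H) (step (f3527 H) rfl)) (step (H.back (i := 9) (by decide) (f5390 H)) rfl)

theorem f11613 : g 4 • path g [3, 6, 8, 6, 8] p = path g [9, 2, 9, 3, 2, 8] p :=
  scan (u := [3]) (w := [3, 4]) (i := 4) (r15_0_1 H) (step (f10721 H) rfl) (step (H.back (i := 8) (by decide) (f7806 H)) (step (H.back (i := 9) (by decide) (f9588 H)) rfl))

theorem f11615 : g 5 • path g [9, 2, 9, 3, 2, 8] p = path g [9, 8, 1, 3, 6, 8] p :=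
  scan (u := [4]) (w := [9, 0]) (i := 5) (r13_0_3 H) (step (f11613 H) rfl) (step (H.back (i := 4) (by decide) (f6201 H)) (step (H.back (i := 5) (by decide) (f11194 H)) rfl))

theorem f11616 : g 0 • path g [9, 8, 1, 3, 6, 8] p = path g [9, 2, 9, 3, 2, 8] p :=
  H.back (i := 5) (by decide) (f11615 H)

theorem f11617 : g 0 • path g [9, 2, 9, 3, 2, 8] p = path g [9, 8, 1, 3, 6, 8] p :=
  scan (u := [4]) (w := [9, 5]) (i := 0) (r13_1_2 H) (step (f11613 H) rfl) (step (H.back (i := 4) (by decide) (f6201 H)) (step (H.back (i := 0) (by decide) (f11195 H)) rfl))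

theorem f11618 : g 5 • path g [9, 8, 1, 3, 6, 8] p = path g [9, 2, 9, 3, 2, 8] p :=
  H.back (i := 0) (by decide) (f11617 H)

theorem f11619 : g 6 • path g [9, 8, 1, 3, 6, 8] p = path g [9, 2, 9, 5, 2, 5] p :=
  scan (u := [5]) (w := [5, 7, 5, 6, 8, 0, 2, 0, 1, 2, 0, 1, 3]) (i := 6) (r9_0_12 H) (step (f11615 H) rfl) (step (H.back (i := 0) (by decide) (f7598 H)) (step (H.back (i := 2) (by decide) (f2993 H)) (step (H.back (i := 0) (by decide) (f455 H)) (step (H.back (i := 1) (by decide) (f124 H)) (step (H.back (i := 3) (by decide) (f443 H)) (step (H.back (i := 5) (by decide) (f2955 H)) (step (H.back (i := 7) (by decide) (f9647 H)) (step (H.back (i := 5) (by decide) (f7627 H)) (step (H.back (i := 6) (by decide) (f9656 H)) (step (H.back (i := 7) (by decide) (f7679 H)) (step (H.back (i := 5) (by decide) (f4478 H)) (step (H.back (i := 6) (by decide) (f7683 H)) (step (H.back (i := 8) (by decide) (f9385 H)) rfl)))))))))))))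

theorem f11620 : g 1 • path g [9, 2, 9, 5, 2, 5] p = path g [9, 8, 1, 3, 6, 8] p :=
  H.back (i := 6) (by decide) (f11619 H)

theorem f11621 : g 6 • path g [8, 9, 2, 9, 3] p = path g [9, 8, 1, 3, 6, 8] p :=
  scan (u := [6, 6]) (w := []) (i := 6) (r1_1_0 H) (step (f11619 H) (step (f9446 H) rfl)) rfl

theorem f11622 : g 1 • path g [9, 8, 1, 3, 6, 8] p = path g [8, 9, 2, 9, 3] p :=
  H.back (i := 6) (by decide) (f11621 H)

theorem f11623 : g 1 • path g [3, 1, 8, 6, 3] p = path g [9, 8, 1, 8, 6, 3] p :=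
  scan (u := [6, 9]) (w := [4]) (i := 1) (r14_0_2 H) (step (f11621 H) (step (f6200 H) rfl)) (step (H.back (i := 9) (by decide) (f6125 H)) rfl)

theorem f11624 : g 6 • path g [9, 8, 1, 8, 6, 3] p = path g [3, 1, 8, 6, 3] p :=
  H.back (i := 1) (by decide) (f11623 H)

theorem f11625 : g 2 • path g [9, 8, 1, 8, 6, 3] p = path g [9, 2, 9, 5, 2, 8] p :=
  scan (u := [1]) (w := [1, 2]) (i := 2) (r3_0_0 H) (step (f11623 H) rfl) (step (H.back (i := 6) (by decide) (f11126 H)) (step (H.back (i := 7) (by decide) (f11094 H)) rfl))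

theorem f11626 : g 7 • path g [9, 2, 9, 5, 2, 8] p = path g [9, 8, 1, 8, 6, 3] p :=
  H.back (i := 2) (by decide) (f11625 H)

theorem f11627 : g 2 • path g [9, 2, 9, 5, 2, 8] p = path g [9, 8, 1, 8, 6, 3] p :=
  scan (u := [2]) (w := []) (i := 2) (r2_0_0 H) (step (f11625 H) rfl) rfl

theorem f11629 : g 3 • path g [4, 2, 8, 6, 4] p = path g [9, 2, 4, 8, 2] p :=
  scan (u := [4, 3, 4]) (w := []) (i := 3) (r15_0_0 H) (step (f10606 H) (step (f8186 H) (step (f5280 H) rfl))) rfl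

theorem f11630 : g 8 • path g [9, 2, 4, 8, 2] p = path g [4, 2, 8, 6, 4] p :=
  H.back (i := 3) (by decide) (f11629 H)

theorem f11631 : g 2 • path g [9, 3, 5, 2, 9] p = path g [8, 6, 4, 2, 3] p :=
  scan (u := [2, 0, 2, 0]) (w := [0, 2, 0, 4, 5, 7, 5, 7, 5, 7, 5, 7, 4]) (i := 2) (r11_0_15 H) (step (f10575 H) (step (f6877 H) (step (f4605 H) (step (f8444 H) rfl)))) (step (H.back (i := 5) (by decide) (f10566 H)) (step (H.back (i := 7) (by decide) (f5753 H)) (step (H.back (i := 5) (by decide) (f10476 H)) (step (H.back (i := 9) (by decide) (f10536 H)) (step (H.back (i := 0) (by decide) (f4058 H)) (step (H.back (i := 2) (by decide) (f828 H)) (step (H.back (i := 0) (by decide) (f6574 H)) (step (H.back (i := 2) (by decide) (f4427 H)) (step (H.back (i := 0) (by decide) (f4444 H)) (step (H.back (i := 2) (by decide) (f4185 H)) (step (H.back (i := 0) (by decide) (f7213 H)) (step (H.back (i := 2) (by decide) (f1100 H)) (step (H.back (i := 9) (by decide)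 (f4733 H)) rfl)))))))))))))

theorem f11632 : g 7 • path g [8, 6, 4, 2, 3] p = path g [9, 3, 5, 2, 9] p :=
  H.back (i := 2) (by decide) (f11631 H)

theorem f11633 : path g [9, 2, 9, 5, 2, 9] p = path g [9, 8, 1, 3, 6, 3] p :=
  close (u := [8, 9]) (w := [8, 9]) (r15_1_0 H) (step (f9666 H) (step (f7591 H) rfl)) (step (H.back (i := 3) (by decide) (f6202 H)) (step (H.back (i := 4) (by decide) (f4878 H)) rfl))

theorem f11634 : g 4 • path g [9, 8, 1, 3, 6, 3] p = path g [9, 2, 9, 5, 2] p :=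
  (congrArg (g 4 • ·) (f11633 H).symm).trans (f7592 H)

theorem f11637 : g 9 • path g [9, 8, 1, 3, 6, 3] p = path g [9, 2, 9, 5, 2, 4] p :=
  (congrArg (g 9 • ·) (f11633 H).symm).trans (f7620 H)

theorem f11639 : g 4 • path g [9, 2, 9, 5, 2, 4] p = path g [9, 8, 1, 3, 6, 3] p :=
  H.back (i := 9) (by decide) (f11637 H)

theorem f11640 : g 1 • path g [9, 8, 1, 3, 6, 3] p = path g [3, 1, 3, 6, 3] p :=
  (congrArg (g 1 • ·) (f11633 H).symm).trans (f11104 H)

theorem f11642 : g 6 • path g [3, 1, 3, 6, 3] p = path g [9, 8, 1, 3, 6, 3] p :=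
  H.back (i := 1) (by decide) (f11640 H)

theorem f11643 : g 7 • path g [9, 8, 1, 3, 6, 3] p = path g [4, 8, 5, 2, 9] p :=
  (congrArg (g 7 • ·) (f11633 H).symm).trans (f11162 H)

theorem f11645 : g 2 • path g [4, 8, 5, 2, 9] p = path g [9, 8, 1, 3, 6, 3] p :=
  H.back (i := 7) (by decide) (f11643 H)

theorem f11646 : g 2 • path g [9, 8, 1, 3, 6, 3] p = path g [4, 8, 5, 2, 9] p :=
  (congrArg (g 2 • ·) (f11633 H).symm).trans (f11163 H)

theorem f11648 : g 7 • path g [4, 8, 5, 2, 9] p = path g [9, 8, 1, 3, 6, 3] p :=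
  H.back (i := 2) (by decide) (f11646 H)

theorem f11649 : g 7 • path g [3, 9, 1, 3, 1] p = path g [9, 2, 9, 5, 3, 1] p :=
  scan (u := [5, 7, 1, 5, 7, 1, 5, 6, 7, 5, 6]) (w := []) (i := 7) (r5_1_8 H) (step (f9657 H) (step (f5019 H) (step (f9419 H) (step (f4883 H) (step (f8841 H) (step (f2940 H) (step (f7226 H) (step (f9551 H) (step (f2950 H) (step (f2953 H) (step (f5656 H) rfl))))))))))) rfl

theorem f11650 : g 2 • path g [9, 2, 9, 5, 3, 1] p = path g [3, 9, 1, 3, 1] p :=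
  H.back (i := 7) (by decide) (f11649 H)

theorem f11651 : g 4 • path g [9, 8, 2, 4, 8, 6] p = path g [3, 9, 1, 3, 5] p :=
  (f5834 H).trans (f8572 H)

theorem f11652 : g 1 • path g [9, 2, 8, 1, 8] p = path g [9, 2, 8, 1, 8, 1] p :=
  rfl

theorem f11653 : g 6 • path g [9, 2, 8, 1, 8, 1] p = path g [9, 2, 8, 1, 8] p :=
  H.back (i := 1) (by decide) (f11652 H)

theorem f11654 : g 1 • path g [9, 2, 8, 1, 8, 1] p = path g [9, 3, 5, 2, 9] p :=
  scan (u := [1]) (w := [1]) (i := 1) (r1_0_0 H) (step (f11652 H) rfl) (step (H.back (i := 6) (by decide) (f10154 H)) rfl)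

theorem f11655 : g 6 • path g [9, 3, 5, 2, 9] p = path g [9, 2, 8, 1, 8, 1] p :=
  H.back (i := 1) (by decide) (f11654 H)

theorem f11656 : g 4 • path g [9, 2, 8, 1, 8, 1] p = path g [9, 3, 5, 2, 6] p :=
  scan (u := [1]) (w := [6, 9]) (i := 4) (r14_0_0 H) (step (f11652 H) rfl) (step (H.back (i := 1) (by decide) (f3709 H)) (step (H.back (i := 4) (by decide) (f9704 H)) rfl))

theorem f11657 : g 9 • path g [9, 3, 5, 2, 6] p = path g [9, 2, 8, 1, 8, 1] p :=
  H.back (i := 4) (by decide) (f11656 H)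

theorem f11658 : g 9 • path g [9, 2, 8, 1, 8, 1] p = path g [9, 8, 2, 9, 2, 5] p :=
  scan (u := [1]) (w := [6, 4]) (i := 9) (r14_1_1 H) (step (f11652 H) rfl) (step (H.back (i := 1) (by decide) (f9679 H)) (step (H.back (i := 9) (by decide) (f7993 H)) rfl))

theorem f11659 : g 4 • path g [9, 8, 2, 9, 2, 5] p = path g [9, 2, 8, 1, 8, 1] p :=
  H.back (i := 9) (by decide) (f11658 H)

theorem f11660 : g 0 • path g [9, 2, 8, 1, 8, 1] p = path g [9, 3, 6, 3, 6] p :=
  scan (u := [1]) (w := [1, 0, 6, 6, 0]) (i := 0) (r4_0_4 H) (step (f11652 H) rfl) (step (H.back (i := 6) (by decide) (f3772 H)) (step (H.back (i := 5) (by decide) (f3765 H)) (step (H.back (i := 1) (by decide) (f11503 H)) (step (H.back (i := 1) (by decide) (f11514 H)) (step (H.back (i := 5) (by decide) (f9710 H)) rfl)))))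

theorem f11662 : g 5 • path g [9, 2, 8, 1, 8, 1] p = path g [9, 3, 6, 3, 6] p :=
  scan (u := [1]) (w := [6, 5, 6, 5, 1]) (i := 5) (r4_1_5 H) (step (f11652 H) rfl) (step (H.back (i := 1) (by decide) (f10770 H)) (step (H.back (i := 0) (by decide) (f10784 H)) (step (H.back (i := 1) (by decide) (f10788 H)) (step (H.back (i := 0) (by decide) (f8449 H)) (step (H.back (i := 6) (by decide) (f10154 H)) rfl)))))

theorem f11663 : g 0 • path g [9, 3, 6, 3, 6] p = path g [9, 2, 8, 1, 8, 1] p :=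
  H.back (i := 5) (by decide) (f11662 H)

theorem f11664 : g 8 • path g [9, 2, 8, 1, 4] p = path g [9, 2, 8, 1, 4, 8] p :=
  rfl

theorem f11665 : g 3 • path g [9, 2, 8, 1, 4, 8] p = path g [9, 2, 8, 1, 4] p :=
  H.back (i := 8) (by decide) (f11664 H)

theorem f11666 : g 8 • path g [9, 2, 8, 1, 4, 8] p = path g [9, 2, 8, 1, 8, 9] p :=
  scan (u := [8]) (w := [8]) (i := 8) (r6_1_0 H) (step (f11664 H) rfl) (step (H.back (i := 3) (by decide) (f7996 H)) rfl)

theorem f11667 : g 3 • path g [9, 2, 8, 1, 8, 9] p = path g [9, 2, 8, 1, 4, 8] p :=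
  H.back (i := 8) (by decide) (f11666 H)

theorem f11668 : g 9 • path g [9, 2, 8, 1, 4, 8] p = path g [8, 6, 3, 6, 8] p :=
  scan (u := [8]) (w := [8, 9]) (i := 9) (r15_1_0 H) (step (f11664 H) rfl) (step (H.back (i := 3) (by decide) (f10827 H)) (step (H.back (i := 4) (by decide) (f3323 H)) rfl))

theorem f11669 : g 4 • path g [8, 6, 3, 6, 8] p = path g [9, 2, 8, 1, 4, 8] p :=
  H.back (i := 9) (by decide) (f11668 H)

theorem f11670 : g 9 • path g [9, 8, 2, 1, 8, 2] p = path g [9, 2, 8, 1, 4, 8] p :=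
  scan (u := [9, 9]) (w := []) (i := 9) (r10_1_0 H) (step (f11668 H) (step (f10565 H) rfl)) rfl

theorem f11671 : g 4 • path g [9, 2, 8, 1, 4, 8] p = path g [9, 8, 2, 1, 8, 2] p :=
  H.back (i := 9) (by decide) (f11670 H)

theorem f11672 : g 5 • path g [9, 2, 9, 5, 2, 1] p = path g [9, 2, 8, 1, 4, 8] p :=
  scan (u := [9, 0, 4]) (w := []) (i := 5) (r13_0_1 H) (step (f11668 H) (step (f11108 H) (step (f11101 H) rfl))) rfl

theorem f11673 : g 0 • path g [9, 2, 8, 1, 4, 8] p = path g [9, 2, 9, 5, 2, 1] p :=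
  H.back (i := 5) (by decide) (f11672 H)

theorem f11674 : g 0 • path g [9, 2, 9, 5, 2, 1] p = path g [9, 2, 8, 1, 4, 8] p :=
  scan (u := [9, 5, 4]) (w := []) (i := 0) (r13_1_0 H) (step (f11668 H) (step (f11102 H) (step (f11101 H) rfl))) rfl

theorem f11675 : g 5 • path g [9, 2, 8, 1, 4, 8] p = path g [9, 2, 9, 5, 2, 1] p :=
  H.back (i := 0) (by decide) (f11674 H)

theorem f11676 : g 8 • path g [9, 2, 5, 6, 4] p = path g [9, 2, 5, 6, 4, 8] p :=
  rfl

theorem f11677 : g 3 • path g [9, 2, 5, 6, 4, 8] p = path g [9, 2, 5, 6, 4] p :=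
  H.back (i := 8) (by decide) (f11676 H)

theorem f11678 : g 8 • path g [9, 2, 5, 6, 4, 8] p = path g [9, 3, 2, 3, 9] p :=
  scan (u := [8]) (w := [8]) (i := 8) (r6_1_0 H) (step (f11676 H) rfl) (step (H.back (i := 3) (by decide) (f3622 H)) rfl)

theorem f11679 : g 3 • path g [9, 3, 2, 3, 9] p = path g [9, 2, 5, 6, 4, 8] p :=
  H.back (i := 8) (by decide) (f11678 H)

theorem f11680 : g 9 • path g [9, 2, 5, 6, 4, 8] p = path g [9, 3, 2, 4, 8] p :=
  scan (u := [8]) (w := [8, 9]) (i := 9) (r15_1_0 H) (step (f11676 H) rfl) (step (H.back (i := 3) (by decide) (f3682 H)) (step (H.back (i := 4) (by decide) (f3416 H)) rfl))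

theorem f11681 : g 4 • path g [9, 3, 2, 4, 8] p = path g [9, 2, 5, 6, 4, 8] p :=
  H.back (i := 9) (by decide) (f11680 H)

theorem f11682 : g 6 • path g [9, 2, 5, 6, 4, 8] p = path g [9, 2, 8, 9, 2, 5] p :=
  scan (u := [8]) (w := [5, 7, 6, 5, 7, 5, 3, 1, 0, 2, 0, 1, 0]) (i := 6) (r9_1_3 H) (step (f11676 H) rfl) (step (H.back (i := 0) (by decide) (f7877 H)) (step (H.back (i := 2) (by decide) (f3039 H)) (step (H.back (i := 1) (by decide) (f3050 H)) (step (H.back (i := 0) (by decide) (f10982 H)) (step (H.back (i := 2) (by decide) (f5300 H)) (step (H.back (i := 0) (by decide) (f3816 H)) (step (H.back (i := 8) (by decide) (f3841 H)) (step (H.back (i := 6) (by decide) (f3838 H)) (step (H.back (i := 5) (by decide) (f1256 H)) (step (H.back (i := 7) (by decide) (f11400 H)) (step (H.back (i := 5) (by decide) (f518 H)) (step (H.back (i := 6) (by decide) (f3440 H)) (step (H.back (i := 5) (by decide) (f3439 H)) rfl)))))))))))))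

theorem f11683 : g 1 • path g [9, 2, 8, 9, 2, 5] p = path g [9, 2, 5, 6, 4, 8] p :=
  H.back (i := 6) (by decide) (f11682 H)

theorem f11684 : g 6 • path g [3, 1, 8, 1, 8] p = path g [9, 2, 5, 6, 4, 8] p :=
  scan (u := [6, 6]) (w := []) (i := 6) (r1_1_0 H) (step (f11682 H) (step (f11166 H) rfl)) rfl

theorem f11685 : g 1 • path g [9, 2, 5, 6, 4, 8] p = path g [3, 1, 8, 1, 8] p :=
  H.back (i := 6) (by decide) (f11684 H)

theorem f11686 : g 7 • path g [9, 2, 8, 9, 2, 5] p = path g [9, 2, 5, 6, 4, 8] p :=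
  scan (u := [6, 5, 7, 5, 8, 2, 3, 6, 5]) (w := []) (i := 7) (r7_0_5 H) (step (f11682 H) (step (f7876 H) (step (f3040 H) (step (f3089 H) (step (f3587 H) (step (f8030 H) (step (f10732 H) (step (f11251 H) (step (f7874 H) rfl))))))))) rfl

theorem f11687 : g 2 • path g [9, 2, 5, 6, 4, 8] p = path g [9, 2, 8, 9, 2, 5] p :=
  H.back (i := 7) (by decide) (f11686 H)

theorem f11688 : g 7 • path g [9, 2, 5, 6, 4, 8] p = path g [9, 2, 8, 9, 2, 5] p :=
  scan (u := [7]) (w := []) (i := 7) (r2_1_0 H) (step (f11686 H) rfl) rfl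

theorem f11689 : g 2 • path g [9, 2, 8, 9, 2, 5] p = path g [9, 2, 5, 6, 4, 8] p :=
  H.back (i := 7) (by decide) (f11688 H)

theorem f11690 : g 9 • path g [9, 3, 2, 9, 3] p = path g [9, 2, 5, 6, 4, 8] p :=
  scan (u := [9, 9]) (w := []) (i := 9) (r10_1_0 H) (step (f11680 H) (step (f3683 H) rfl)) rfl

theorem f11691 : g 4 • path g [9, 2, 5, 6, 4, 8] p = path g [9, 3, 2, 9, 3] p :=
  H.back (i := 9) (by decide) (f11690 H)

theorem f11692 : g 2 • path g [9, 2, 5, 6, 4] p = path g [9, 2, 5, 6, 4, 2] p :=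
  rfl

theorem f11694 : g 2 • path g [9, 2, 5, 6, 4, 2] p = path g [9, 2, 5, 6, 4] p :=
  scan (u := [2]) (w := []) (i := 2) (r2_0_0 H) (step (f11692 H) rfl) rfl

theorem f11696 : g 1 • path g [9, 2, 5, 4, 2] p = path g [9, 2, 5, 6, 4, 2] p :=
  scan (u := [2, 1, 2]) (w := []) (i := 1) (r3_0_1 H) (step (f11694 H) (step (f3418 H) (step (f3450 H) rfl))) rfl

theorem f11697 : g 6 • path g [9, 2, 5, 6, 4, 2] p = path g [9, 2, 5, 4, 2] p :=
  H.back (i := 1) (by decide) (f11696 H)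

theorem f11698 : g 8 • path g [3, 6, 8, 1, 4] p = path g [9, 2, 5, 6, 4, 2] p :=
  scan (u := [2, 3, 6, 5, 7, 6, 5, 7, 5]) (w := []) (i := 8) (r7_0_0 H) (step (f11694 H) (step (f3622 H) (step (f10112 H) (step (f2867 H) (step (f2864 H) (step (f8055 H) (step (f3594 H) (step (f10148 H) (step (f7212 H) rfl))))))))) rfl

theorem f11699 : g 3 • path g [9, 2, 5, 6, 4, 2] p = path g [3, 6, 8, 1, 4] p :=
  H.back (i := 8) (by decide) (f11698 H)

theorem f11700 : g 9 • path g [9, 2, 5, 6, 4, 2] p = path g [9, 8, 6, 3, 1, 3] p :=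
  scan (u := [8]) (w := [8, 9]) (i := 9) (r15_1_0 H) (step (f11698 H) rfl) (step (H.back (i := 3) (by decide) (f6024 H)) (step (H.back (i := 4) (by decide) (f4750 H)) rfl))

theorem f11701 : g 4 • path g [9, 8, 6, 3, 1, 3] p = path g [9, 2, 5, 6, 4, 2] p :=
  H.back (i := 9) (by decide) (f11700 H)

theorem f11702 : g 6 • path g [9, 8, 6, 3, 1, 3] p = path g [3, 6, 3, 1, 3] p :=
  scan (u := [9]) (w := [4, 1]) (i := 6) (r14_1_2 H) (step (f11700 H) rfl) (step (H.back (i := 9) (by decide) (f11442 H)) (step (H.back (i := 6) (by decide) (f11697 H)) rfl))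

theorem f11703 : g 1 • path g [3, 6, 3, 1, 3] p = path g [9, 8, 6, 3, 1, 3] p :=
  H.back (i := 6) (by decide) (f11702 H)

theorem f11704 : g 7 • path g [4, 8, 5, 2, 4] p = path g [9, 8, 6, 3, 1, 3] p :=
  scan (u := [6, 7, 6]) (w := []) (i := 7) (r3_1_1 H) (step (f11702 H) (step (f11451 H) (step (f11454 H) rfl))) rfl

theorem f11705 : g 2 • path g [9, 8, 6, 3, 1, 3] p = path g [4, 8, 5, 2, 4] p :=
  H.back (i := 7) (by decide) (f11704 H)

theorem f11706 : g 7 • path g [9, 8, 6, 3, 1, 3] p = path g [4, 8, 5, 2, 4] p :=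
  scan (u := [7]) (w := []) (i := 7) (r2_1_0 H) (step (f11704 H) rfl) rfl

theorem f11707 : g 2 • path g [4, 8, 5, 2, 4] p = path g [9, 8, 6, 3, 1, 3] p :=
  H.back (i := 7) (by decide) (f11706 H)

theorem f11708 : g 8 • path g [9, 2, 5, 1, 4] p = path g [9, 2, 5, 1, 4, 8] p :=
  rfl

theorem f11709 : g 3 • path g [9, 2, 5, 1, 4, 8] p = path g [9, 2, 5, 1, 4] p :=
  H.back (i := 8) (by decide) (f11708 H)

theorem f11710 : g 8 • path g [9, 2, 5, 1, 4, 8] p = path g [8, 4, 2, 9, 5] p :=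
  scan (u := [8]) (w := [8]) (i := 8) (r6_1_0 H) (step (f11708 H) rfl) (step (H.back (i := 3) (by decide) (f4536 H)) rfl)

theorem f11711 : g 3 • path g [8, 4, 2, 9, 5] p = path g [9, 2, 5, 1, 4, 8] p :=
  H.back (i := 8) (by decide) (f11710 H)

theorem f11712 : g 9 • path g [9, 2, 5, 1, 4, 8] p = path g [9, 2, 9, 5, 1, 3] p :=
  scan (u := [8]) (w := [8, 9]) (i := 9) (r15_1_0 H) (step (f11708 H) rfl) (step (H.back (i := 3) (by decide) (f7774 H)) (step (H.back (i := 4) (by decide) (f3434 H)) rfl))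

theorem f11713 : g 4 • path g [9, 2, 9, 5, 1, 3] p = path g [9, 2, 5, 1, 4, 8] p :=
  H.back (i := 9) (by decide) (f11712 H)

theorem f11714 : g 5 • path g [9, 8, 2, 1, 3, 1] p = path g [9, 2, 5, 1, 4, 8] p :=
  scan (u := [8, 2, 3, 6, 5, 7, 6, 5, 7]) (w := []) (i := 5) (r7_0_9 H) (step (f11710 H) (step (f11037 H) (step (f11629 H) (step (f10618 H) (step (f10869 H) (step (f10852 H) (step (f5127 H) (step (f7401 H) (step (f10369 H) rfl))))))))) rfl

theorem f11715 : g 0 • path g [9, 2, 5, 1, 4, 8] p = path g [9, 8, 2, 1, 3, 1] p :=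
  H.back (i := 5) (by decide) (f11714 H)

theorem f11716 : g 5 • path g [9, 2, 5, 1, 4, 8] p = path g [9, 8, 2, 1, 3, 1] p :=
  scan (u := [5]) (w := []) (i := 5) (r0_1_0 H) (step (f11714 H) rfl) rfl

theorem f11717 : g 0 • path g [9, 8, 2, 1, 3, 1] p = path g [9, 2, 5, 1, 4, 8] p :=
  H.back (i := 5) (by decide) (f11716 H)

theorem f11718 : g 7 • path g [9, 2, 5, 1, 4, 8] p = path g [8, 6, 8, 1, 4] p :=
  scan (u := [5]) (w := [6, 5, 7, 5, 8, 2, 3, 6]) (i := 7) (r7_0_3 H) (step (f11714 H) rfl) (step (H.back (i := 1) (by decide) (f4118 H)) (step (H.back (i := 0) (by decide) (f7207 H)) (step (H.back (i := 2) (by decide) (f4586 H)) (step (H.back (i := 0) (by decide) (f10072 H)) (step (H.back (i := 3) (by decide) (f10056 H)) (step (H.back (i := 7) (by decide) (f5076 H)) (step (H.back (i := 8) (by decide) (f11482 H)) (step (H.back (i := 1) (by decide) (f10351 H)) rfl))))))))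

theorem f11719 : g 2 • path g [8, 6, 8, 1, 4] p = path g [9, 2, 5, 1, 4, 8] p :=
  H.back (i := 7) (by decide) (f11718 H)

theorem f11720 : g 7 • path g [8, 6, 8, 1, 4] p = path g [9, 2, 5, 1, 4, 8] p :=
  scan (u := [7]) (w := []) (i := 7) (r2_1_0 H) (step (f11718 H) rfl) rfl

theorem f11721 : g 2 • path g [9, 2, 5, 1, 4, 8] p = path g [8, 6, 8, 1, 4] p :=
  H.back (i := 7) (by decide) (f11720 H)

theorem f11722 : g 6 • path g [8, 6, 8, 4, 2] p = path g [9, 2, 5, 1, 4, 8] p :=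
  scan (u := [7, 6, 7]) (w := []) (i := 6) (r3_1_0 H) (step (f11718 H) (step (f4117 H) (step (f4124 H) rfl))) rfl

theorem f11723 : g 1 • path g [9, 2, 5, 1, 4, 8] p = path g [8, 6, 8, 4, 2] p :=
  H.back (i := 6) (by decide) (f11722 H)

theorem f11724 : g 2 • path g [9, 2, 5, 1, 4] p = path g [9, 2, 5, 1, 4, 2] p :=
  rfl

theorem f11726 : g 2 • path g [9, 2, 5, 1, 4, 2] p = path g [9, 2, 5, 1, 4] p :=
  scan (u := [2]) (w := []) (i := 2) (r2_0_0 H) (step (f11724 H) rfl) rfl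

theorem f11727 : g 7 • path g [9, 2, 5, 1, 4] p = path g [9, 2, 5, 1, 4, 2] p :=
  H.back (i := 2) (by decide) (f11726 H)

theorem f11728 : g 1 • path g [9, 2, 5, 1, 4, 2] p = path g [9, 2, 5, 4, 2] p :=
  scan (u := [2]) (w := [2, 1]) (i := 1) (r3_0_1 H) (step (f11724 H) rfl) (step (H.back (i := 7) (by decide) (f3453 H)) (step (H.back (i := 6) (by decide) (f3440 H)) rfl))

theorem f11729 : g 6 • path g [9, 2, 5, 4, 2] p = path g [9, 2, 5, 1, 4, 2] p :=
  H.back (i := 1) (by decide) (f11728 H)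

theorem f11730 : g 0 • path g [9, 2, 5, 1, 4, 2] p = path g [8, 4, 2, 9, 3] p :=
  scan (u := [2]) (w := [1, 8, 7, 3, 0, 2, 0, 1]) (i := 0) (r7_1_5 H) (step (f11724 H) rfl) (step (H.back (i := 6) (by decide) (f11402 H)) (step (H.back (i := 3) (by decide) (f6026 H)) (step (H.back (i := 2) (by decide) (f11707 H)) (step (H.back (i := 8) (by decide) (f5082 H)) (step (H.back (i := 5) (by decide) (f1256 H)) (step (H.back (i := 7) (by decide) (f11400 H)) (step (H.back (i := 5) (by decide) (f518 H)) (step (H.back (i := 6) (by decide) (f3440 H)) rfl))))))))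

theorem f11731 : g 5 • path g [8, 4, 2, 9, 3] p = path g [9, 2, 5, 1, 4, 2] p :=
  H.back (i := 0) (by decide) (f11730 H)

theorem f11732 : g 0 • path g [8, 4, 2, 9, 3] p = path g [9, 2, 5, 1, 4, 2] p :=
  scan (u := [2, 0, 1, 2]) (w := [1, 3, 5, 6, 5, 7, 5, 6, 8, 0]) (i := 0) (r9_0_5 H) (step (f11724 H) (step (f11730 H) (step (f11403 H) (step (f11478 H) rfl)))) (step (H.back (i := 6) (by decide) (f11729 H)) (step (H.back (i := 8) (by decide) (f10729 H)) (step (H.back (i := 0) (by decide) (f6602 H)) (step (H.back (i := 1) (by decide) (f4020 H)) (step (H.back (i := 0) (by decide) (f7204 H)) (step (H.back (i := 2) (by decide) (f9891 H)) (step (H.back (i := 0) (by decide) (f8680 H)) (step (H.back (i := 1) (by decide) (f8694 H)) (step (H.back (i := 3) (by decide) (f3622 H)) (step (H.back (i := 5) (by decide) (f3436 H)) rfl))))))))))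

theorem f11733 : g 5 • path g [9, 2, 5, 1, 4, 2] p = path g [8, 4, 2, 9, 3] p :=
  H.back (i := 0) (by decide) (f11732 H)

theorem f11734 : g 4 • path g [9, 2, 5, 1, 4, 2] p = path g [9, 2, 9, 5, 3, 5] p :=
  scan (u := [0]) (w := [5, 9]) (i := 4) (r13_0_2 H) (step (f11732 H) rfl) (step (H.back (i := 0) (by decide) (f7628 H)) (step (H.back (i := 4) (by decide) (f4542 H)) rfl))

theorem f11736 : g 1 • path g [9, 2, 5, 6, 4, 2] p = path g [9, 2, 5, 1, 4, 2] p :=
  scan (u := [1, 1]) (w := []) (i := 1) (r1_0_0 H) (step (f11728 H) (step (f11696 H) rfl)) rfl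

theorem f11737 : g 6 • path g [9, 2, 5, 1, 4, 2] p = path g [9, 2, 5, 6, 4, 2] p :=
  H.back (i := 1) (by decide) (f11736 H)

theorem f11738 : g 5 • path g [9, 2, 5, 4, 8] p = path g [9, 2, 5, 4, 8, 5] p :=
  rfl

theorem f11739 : g 0 • path g [9, 2, 5, 4, 8, 5] p = path g [9, 2, 5, 4, 8] p :=
  H.back (i := 5) (by decide) (f11738 H)

theorem f11740 : g 5 • path g [9, 2, 5, 4, 8, 5] p = path g [9, 2, 5, 4, 8] p :=
  scan (u := [5]) (w := []) (i := 5) (r0_1_0 H) (step (f11738 H) rfl) rfl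

theorem f11741 : g 0 • path g [9, 2, 5, 4, 8] p = path g [9, 2, 5, 4, 8, 5] p :=
  H.back (i := 5) (by decide) (f11740 H)

theorem f11742 : g 9 • path g [9, 2, 5, 4, 8, 5] p = path g [9, 2, 9, 5, 3, 5] p :=
  scan (u := [5]) (w := [0, 4]) (i := 9) (r13_0_0 H) (step (f11738 H) rfl) (step (H.back (i := 5) (by decide) (f7625 H)) (step (H.back (i := 9) (by decide) (f3448 H)) rfl))

theorem f11743 : g 4 • path g [9, 2, 9, 5, 3, 5] p = path g [9, 2, 5, 4, 8, 5] p :=
  H.back (i := 9) (by decide) (f11742 H)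

theorem f11744 : g 4 • path g [9, 2, 5, 4, 8, 5] p = path g [9, 2, 5, 1, 4, 2] p :=
  scan (u := [5]) (w := [0, 9]) (i := 4) (r13_1_1 H) (step (f11738 H) rfl) (step (H.back (i := 5) (by decide) (f11731 H)) (step (H.back (i := 4) (by decide) (f4544 H)) rfl))

theorem f11746 : g 6 • path g [9, 2, 5, 4, 8, 5] p = path g [9, 8, 6, 3, 1, 3] p :=
  scan (u := [5]) (w := [6, 4, 1, 1, 0, 1, 9, 6]) (i := 6) (r12_1_7 H) (step (f11738 H) rfl) (step (H.back (i := 1) (by decide) (f11703 H)) (step (H.back (i := 9) (by decide) (f11442 H)) (step (H.back (i := 6) (by decide) (f11697 H)) (step (H.back (i := 6) (by decide) (f11737 H)) (step (H.back (i := 5) (by decide) (f11731 H)) (step (H.back (i := 6) (by decide) (f11402 H)) (step (H.back (i := 4) (by decide) (f6015 H)) (step (H.back (i := 1) (by decide) (f11254 H)) rfl))))))))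

theorem f11747 : g 1 • path g [9, 8, 6, 3, 1, 3] p = path g [9, 2, 5, 4, 8, 5] p :=
  H.back (i := 6) (by decide) (f11746 H)

theorem f11748 : g 6 • path g [3, 6, 3, 1, 3] p = path g [9, 2, 5, 4, 8, 5] p :=
  scan (u := [6, 6]) (w := []) (i := 6) (r1_1_0 H) (step (f11746 H) (step (f11702 H) rfl)) rfl

theorem f11749 : g 1 • path g [9, 2, 5, 4, 8, 5] p = path g [3, 6, 3, 1, 3] p :=
  H.back (i := 6) (by decide) (f11748 H)

theorem f11750 : g 5 • path g [9, 2, 5, 4, 2] p = path g [9, 2, 5, 4, 2, 5] p :=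
  rfl

theorem f11751 : g 0 • path g [9, 2, 5, 4, 2, 5] p = path g [9, 2, 5, 4, 2] p :=
  H.back (i := 5) (by decide) (f11750 H)

theorem f11752 : g 5 • path g [9, 2, 5, 4, 2, 5] p = path g [9, 2, 5, 4, 2] p :=
  scan (u := [5]) (w := []) (i := 5) (r0_1_0 H) (step (f11750 H) rfl) rfl

theorem f11753 : g 0 • path g [9, 2, 5, 4, 2] p = path g [9, 2, 5, 4, 2, 5] p :=
  H.back (i := 5) (by decide) (f11752 H)

theorem f11754 : g 9 • path g [9, 2, 5, 4, 2, 5] p = path g [3, 1, 8, 1, 8] p :=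
  scan (u := [5]) (w := [0, 4]) (i := 9) (r13_0_0 H) (step (f11750 H) rfl) (step (H.back (i := 5) (by decide) (f11447 H)) (step (H.back (i := 9) (by decide) (f11442 H)) rfl))

theorem f11755 : g 4 • path g [3, 1, 8, 1, 8] p = path g [9, 2, 5, 4, 2, 5] p :=
  H.back (i := 9) (by decide) (f11754 H)

theorem f11756 : g 4 • path g [9, 2, 5, 4, 2, 5] p = path g [9, 8, 2, 5, 6, 8] p :=
  scan (u := [5]) (w := [0, 9]) (i := 4) (r13_1_1 H) (step (f11750 H) rfl) (step (H.back (i := 5) (by decide) (f7681 H)) (step (H.back (i := 4) (by decide) (f11441 H)) rfl))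

theorem f11757 : g 9 • path g [9, 8, 2, 5, 6, 8] p = path g [9, 2, 5, 4, 2, 5] p :=
  H.back (i := 4) (by decide) (f11756 H)

theorem f11758 : g 7 • path g [9, 2, 5, 4, 2, 5] p = path g [9, 2, 5, 4, 2, 5] p :=
  scan (u := [5]) (w := [5, 8, 2, 3, 6, 5, 7, 6]) (i := 7) (r7_0_6 H) (step (f11750 H) rfl) (step (H.back (i := 0) (by decide) (f11753 H)) (step (H.back (i := 3) (by decide) (f11407 H)) (step (H.back (i := 7) (by decide) (f11688 H)) (step (H.back (i := 8) (by decide) (f11676 H)) (step (H.back (i := 1) (by decide) (f3442 H)) (step (H.back (i := 0) (by decide) (f3437 H)) (step (H.back (i := 2) (by decide) (f11694 H)) (step (H.back (i := 1) (by decide) (f11696 H)) rfl))))))))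

theorem f11759 : g 2 • path g [9, 2, 5, 4, 2, 5] p = path g [9, 2, 5, 4, 2, 5] p :=
  H.back (i := 7) (by decide) (f11758 H)

theorem f11760 : g 8 • path g [9, 2, 5, 4, 2, 5] p = path g [9, 8, 2, 5, 6, 4] p :=
  scan (u := [5]) (w := [2, 3, 6, 5, 7, 6, 5, 7]) (i := 8) (r7_0_8 H) (step (f11750 H) rfl) (step (H.back (i := 7) (by decide) (f11474 H)) (step (H.back (i := 8) (by decide) (f7409 H)) (step (H.back (i := 1) (by decide) (f3561 H)) (step (H.back (i := 0) (by decide) (f1259 H)) (step (H.back (i := 2) (by decide) (f11401 H)) (step (H.back (i := 1) (by decide) (f141 H)) (step (H.back (i := 0) (by decide) (f520 H)) (step (H.back (i := 2) (by decide) (f3452 H)) rfl))))))))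

theorem f11761 : g 3 • path g [9, 8, 2, 5, 6, 4] p = path g [9, 2, 5, 4, 2, 5] p :=
  H.back (i := 8) (by decide) (f11760 H)

theorem f11762 : g 6 • path g [9, 2, 5, 4, 2, 5] p = path g [9, 3, 2, 9, 3] p :=
  scan (u := [5]) (w := [8, 0, 2, 0, 2, 3, 5, 6, 7]) (i := 6) (r8_0_7 H) (step (f11750 H) rfl) (step (H.back (i := 3) (by decide) (f3599 H)) (step (H.back (i := 5) (by decide) (f3089 H)) (step (H.back (i := 7) (by decide) (f3040 H)) (step (H.back (i := 5) (by decide) (f7876 H)) (step (H.back (i := 7) (by decide) (f11688 H)) (step (H.back (i := 8) (by decide) (f11676 H)) (step (H.back (i := 0) (by decide) (f3438 H)) (step (H.back (i := 1) (by decide) (f3441 H)) (step (H.back (i := 2) (by decide) (f3452 H)) rfl)))))))))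

theorem f11763 : g 1 • path g [9, 3, 2, 9, 3] p = path g [9, 2, 5, 4, 2, 5] p :=
  H.back (i := 6) (by decide) (f11762 H)

theorem f11764 : g 4 • path g [4, 2, 9, 5, 2] p = path g [3, 1, 3, 1, 3] p :=
  scan (u := [5, 7, 5, 7, 5, 7, 5, 7]) (w := [2, 0, 2, 0, 2, 0, 2, 0, 4]) (i := 4) (r11_0_6 H) (step (f11750 H) (step (f11758 H) (step (f11752 H) (step (f3451 H) (step (f518 H) (step (f11400 H) (step (f1256 H) (step (f5212 H) rfl)))))))) (step (H.back (i := 7) (by decide) (f10967 H)) (step (H.back (i := 5) (by decide) (f10971 H)) (step (H.back (i := 7) (by decide) (f4869 H)) (step (H.back (i := 5) (by decide) (f11041 H)) (step (H.back (i := 7) (by decide) (f11451 H)) (step (H.back (i := 5) (by decide) (f11444 H)) (step (H.back (i := 7) (by decide) (f4889 H)) (step (H.back (i := 5) (by decide) (f11447 H)) (step (H.back (i := 9) (by decide) (f11442 H)) rfl)))))))))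

theorem f11766 : g 9 • path g [4, 2, 9, 5, 2] p = path g [4, 8, 2, 9, 2] p :=
  scan (u := [5, 7, 5, 7, 5, 7, 5, 7]) (w := [2, 0, 2, 0, 2, 0, 2, 0, 9]) (i := 9) (r11_1_13 H) (step (f11750 H) (step (f11758 H) (step (f11752 H) (step (f3451 H) (step (f518 H) (step (f11400 H) (step (f1256 H) (step (f5212 H) rfl)))))))) (step (H.back (i := 7) (by decide) (f4981 H)) (step (H.back (i := 5) (by decide) (f3478 H)) (step (H.back (i := 7) (by decide) (f7667 H)) (step (H.back (i := 5) (by decide) (f4673 H)) (step (H.back (i := 7) (by decide) (f4670 H)) (step (H.back (i := 5) (by decide) (f7673 H)) (step (H.back (i := 7) (by decide) (f5570 H)) (step (H.back (i := 5) (by decide) (f7681 H)) (step (H.back (i := 4) (by decide) (f11441 H)) rfl)))))))))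

theorem f11767 : g 4 • path g [4, 8, 2, 9, 2] p = path g [4, 2, 9, 5, 2] p :=
  H.back (i := 9) (by decide) (f11766 H)

theorem f11768 : g 6 • path g [9, 8, 2, 6, 8, 4] p = path g [4, 2, 9, 5, 2] p :=
  scan (u := [9, 1, 4]) (w := []) (i := 6) (r14_0_3 H) (step (f11766 H) (step (f8930 H) (step (f5710 H) rfl))) rfl

theorem f11769 : g 1 • path g [4, 2, 9, 5, 2] p = path g [9, 8, 2, 6, 8, 4] p :=
  H.back (i := 6) (by decide) (f11768 H)

theorem f11770 : g 1 • path g [4, 2, 9, 3, 9] p = path g [4, 2, 9, 5, 2] p :=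
  scan (u := [9, 6, 4]) (w := []) (i := 1) (r14_1_2 H) (step (f11766 H) (step (f9499 H) (step (f5220 H) rfl))) rfl

theorem f11772 : g 2 • path g [9, 3, 9, 2, 9] p = path g [4, 2, 9, 3, 9] p :=
  scan (u := [1, 2, 1]) (w := []) (i := 2) (r3_0_0 H) (step (f11770 H) (step (f5211 H) (step (f3561 H) rfl))) rfl

theorem f11774 : g 2 • path g [4, 2, 9, 3, 9] p = path g [9, 3, 9, 2, 9] p :=
  scan (u := [2]) (w := []) (i := 2) (r2_0_0 H) (step (f11772 H) rfl) rfl

theorem f11776 : g 2 • path g [8, 9, 2, 8, 9] p = path g [9, 8, 2, 6, 8, 4] p :=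
  scan (u := [2, 1]) (w := [1]) (i := 2) (r3_0_1 H) (step (f11774 H) (step (f3840 H) rfl)) (step (H.back (i := 6) (by decide) (f9543 H)) rfl)

theorem f11778 : g 2 • path g [9, 8, 2, 6, 8, 4] p = path g [8, 9, 2, 8, 9] p :=
  scan (u := [2]) (w := []) (i := 2) (r2_0_0 H) (step (f11776 H) rfl) rfl

theorem f11780 : g 3 • path g [8, 9, 2, 4, 2] p = path g [4, 2, 9, 5, 2] p :=
  scan (u := [4, 3, 4]) (w := []) (i := 3) (r15_0_0 H) (step (f11764 H) (step (f9432 H) (step (f11067 H) rfl))) rfl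

theorem f11781 : g 8 • path g [4, 2, 9, 5, 2] p = path g [8, 9, 2, 4, 2] p :=
  H.back (i := 3) (by decide) (f11780 H)

theorem f11782 : g 3 • path g [9, 2, 3, 9, 6] p = path g [9, 2, 3, 9, 6, 3] p :=
  rfl

theorem f11784 : g 3 • path g [9, 2, 3, 9, 6, 3] p = path g [9, 3, 2, 3, 1] p :=
  scan (u := [3]) (w := [3]) (i := 3) (r6_0_0 H) (step (f11782 H) rfl) (step (H.back (i := 8) (by decide) (f8662 H)) rfl)

theorem f11786 : g 4 • path g [9, 2, 3, 9, 6, 3] p = path g [4, 2, 3, 1, 3] p :=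
  scan (u := [3]) (w := [3, 4]) (i := 4) (r15_0_1 H) (step (f11782 H) rfl) (step (H.back (i := 8) (by decide) (f8101 H)) (step (H.back (i := 9) (by decide) (f3460 H)) rfl))

theorem f11788 : g 6 • path g [9, 2, 3, 9, 6, 3] p = path g [8, 9, 1, 3, 5] p :=
  scan (u := [3]) (w := [5, 7, 6, 5, 7, 5, 8, 2]) (i := 6) (r7_0_1 H) (step (f11782 H) rfl) (step (H.back (i := 0) (by decide) (f3998 H)) (step (H.back (i := 2) (by decide) (f3993 H)) (step (H.back (i := 1) (by decide) (f8949 H)) (step (H.back (i := 0) (by decide) (f7199 H)) (step (H.back (i := 2) (by decide) (f2931 H)) (step (H.back (i := 0) (by decide) (f7323 H)) (step (H.back (i := 3) (by decide) (f4512 H)) (step (H.back (i := 7) (by decide) (f8659 H)) rfl))))))))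

theorem f11789 : g 1 • path g [8, 9, 1, 3, 5] p = path g [9, 2, 3, 9, 6, 3] p :=
  H.back (i := 6) (by decide) (f11788 H)

theorem f11790 : g 0 • path g [9, 2, 3, 9, 6, 3] p = path g [3, 9, 1, 3, 1] p :=
  scan (u := [3]) (w := [2, 0, 1, 2, 0, 1, 8, 7]) (i := 0) (r7_1_0 H) (step (f11782 H) rfl) (step (H.back (i := 7) (by decide) (f9653 H)) (step (H.back (i := 5) (by decide) (f9661 H)) (step (H.back (i := 6) (by decide) (f9663 H)) (step (H.back (i := 7) (by decide) (f4374 H)) (step (H.back (i := 5) (by decide) (f7184 H)) (step (H.back (i := 6) (by decide) (f8875 H)) (step (H.back (i := 3) (by decide) (f4512 H)) (step (H.back (i := 2) (by decide) (f8656 H)) rfl))))))))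

theorem f11792 : g 5 • path g [9, 2, 3, 9, 6, 3] p = path g [3, 9, 1, 3, 1] p :=
  scan (u := [3]) (w := [6, 7, 5, 6, 8, 0, 2, 0, 2]) (i := 5) (r8_0_3 H) (step (f11782 H) rfl) (step (H.back (i := 1) (by decide) (f4683 H)) (step (H.back (i := 2) (by decide) (f4671 H)) (step (H.back (i := 0) (by decide) (f7670 H)) (step (H.back (i := 1) (by decide) (f9013 H)) (step (H.back (i := 3) (by decide) (f7703 H)) (step (H.back (i := 5) (by decide) (f7326 H)) (step (H.back (i := 7) (by decide) (f8901 H)) (step (H.back (i := 5) (by decide) (f8914 H)) (step (H.back (i := 7) (by decide) (f8659 H)) rfl)))))))))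

theorem f11793 : g 0 • path g [3, 9, 1, 3, 1] p = path g [9, 2, 3, 9, 6, 3] p :=
  H.back (i := 5) (by decide) (f11792 H)

theorem f11794 : g 1 • path g [9, 2, 3, 9, 6, 3] p = path g [4, 2, 5, 8, 4] p :=
  scan (u := [3]) (w := [0, 2, 1, 0, 8, 7, 5, 7, 5]) (i := 1) (r8_1_1 H) (step (f11782 H) rfl) (step (H.back (i := 5) (by decide) (f8568 H)) (step (H.back (i := 7) (by decide) (f8581 H)) (step (H.back (i := 6) (by decide) (f8984 H)) (step (H.back (i := 5) (by decide) (f8979 H)) (step (H.back (i := 3) (by decide) (f8954 H)) (step (H.back (i := 2) (by decide) (f8950 H)) (step (H.back (i := 0) (by decide) (f7349 H)) (step (H.back (i := 2) (by decide) (f3701 H)) (step (H.back (i := 0) (by decide) (f8647 H)) rfl)))))))))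

theorem f11796 : g 2 • path g [8, 9, 1, 3, 5] p = path g [9, 2, 3, 9, 6, 3] p :=
  scan (u := [1, 2, 1]) (w := []) (i := 2) (r3_0_0 H) (step (f11794 H) (step (f8991 H) (step (f7649 H) rfl))) rfl

theorem f11798 : g 4 • path g [4, 2, 5, 8, 6] p = path g [9, 2, 3, 9, 6, 3] p :=
  scan (u := [1, 9, 6]) (w := []) (i := 4) (r14_1_1 H) (step (f11794 H) (step (f5325 H) (step (f5308 H) rfl))) rfl

theorem f11800 : g 7 • path g [8, 9, 1, 3, 5] p = path g [9, 2, 3, 9, 6, 3] p :=
  scan (u := [1, 5, 6, 7, 5, 6, 7, 5, 7, 1, 5]) (w := []) (i := 7) (r5_1_1 H) (step (f11794 H) (step (f8567 H) (step (f5170 H) (step (f5158 H) (step (f8975 H) (step (f5471 H) (step (f7220 H) (step (f8165 H) (step (f2950 H) (step (f7312 H) (step (f3995 H) rfl))))))))))) rfl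

theorem f11801 : g 2 • path g [9, 2, 3, 9, 6, 3] p = path g [8, 9, 1, 3, 5] p :=
  H.back (i := 7) (by decide) (f11800 H)

theorem f11802 : g 7 • path g [8, 9, 2, 9, 3] p = path g [9, 8, 2, 9, 1, 8] p :=
  scan (u := [2, 0, 1, 8]) (w := [3, 0, 2, 0, 1]) (i := 7) (r7_1_5 H) (step (f11796 H) (step (f11790 H) (step (f5658 H) (step (f3820 H) rfl)))) (step (H.back (i := 8) (by decide) (f5486 H)) (step (H.back (i := 5) (by decide) (f5492 H)) (step (H.back (i := 7) (by decide) (f8576 H)) (step (H.back (i := 5) (by decide) (f8567 H)) (step (H.back (i := 6) (by decide) (f7650 H)) rfl)))))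

theorem f11803 : g 2 • path g [9, 8, 2, 9, 1, 8] p = path g [8, 9, 2, 9, 3] p :=
  H.back (i := 7) (by decide) (f11802 H)

theorem f11804 : g 7 • path g [9, 8, 2, 9, 1, 8] p = path g [8, 9, 2, 9, 3] p :=
  scan (u := [7]) (w := []) (i := 7) (r2_1_0 H) (step (f11802 H) rfl) rfl

theorem f11805 : g 2 • path g [8, 9, 2, 9, 3] p = path g [9, 8, 2, 9, 1, 8] p :=
  H.back (i := 7) (by decide) (f11804 H)

theorem f11806 : g 6 • path g [9, 2, 9, 3, 5, 3] p = path g [9, 8, 2, 9, 1, 8] p :=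
  scan (u := [7, 6, 7]) (w := []) (i := 6) (r3_1_0 H) (step (f11804 H) (step (f11621 H) (step (f11608 H) rfl))) rfl

theorem f11807 : g 1 • path g [9, 8, 2, 9, 1, 8] p = path g [9, 2, 9, 3, 5, 3] p :=
  H.back (i := 6) (by decide) (f11806 H)

theorem f11808 : g 4 • path g [9, 8, 2, 1, 3, 1] p = path g [9, 2, 9, 3, 5, 3] p :=
  scan (u := [6, 9, 1]) (w := []) (i := 4) (r14_0_2 H) (step (f11806 H) (step (f5488 H) (step (f5800 H) rfl))) rfl

theorem f11810 : g 8 • path g [9, 2, 3, 2, 6] p = path g [9, 2, 3, 2, 6, 8] p :=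
  rfl

theorem f11811 : g 3 • path g [9, 2, 3, 2, 6, 8] p = path g [9, 2, 3, 2, 6] p :=
  H.back (i := 8) (by decide) (f11810 H)

theorem f11812 : g 8 • path g [9, 2, 3, 2, 6, 8] p = path g [4, 8, 1, 3, 2] p :=
  scan (u := [8]) (w := [8]) (i := 8) (r6_1_0 H) (step (f11810 H) rfl) (step (H.back (i := 3) (by decide) (f8990 H)) rfl)

theorem f11813 : g 3 • path g [4, 8, 1, 3, 2] p = path g [9, 2, 3, 2, 6, 8] p :=
  H.back (i := 8) (by decide) (f11812 H)

theorem f11814 : g 2 • path g [9, 2, 3, 2, 6, 8] p = path g [9, 3, 2, 6, 8] p :=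
  scan (u := [8]) (w := [3, 6, 5, 7, 6, 5, 7, 5]) (i := 2) (r7_0_9 H) (step (f11810 H) rfl) (step (H.back (i := 8) (by decide) (f3641 H)) (step (H.back (i := 1) (by decide) (f600 H)) (step (H.back (i := 0) (by decide) (f3656 H)) (step (H.back (i := 2) (by decide) (f10157 H)) (step (H.back (i := 1) (by decide) (f9988 H)) (step (H.back (i := 0) (by decide) (f3359 H)) (step (H.back (i := 2) (by decide) (f3361 H)) (step (H.back (i := 0) (by decide) (f3488 H)) rfl))))))))

theorem f11815 : g 7 • path g [9, 3, 2, 6, 8] p = path g [9, 2, 3, 2, 6, 8] p :=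
  H.back (i := 2) (by decide) (f11814 H)

theorem f11816 : g 7 • path g [9, 2, 3, 2, 6, 8] p = path g [9, 3, 2, 6, 8] p :=
  scan (u := [8]) (w := [3, 0, 2, 0, 1, 2, 0, 1]) (i := 7) (r7_1_8 H) (step (f11810 H) rfl) (step (H.back (i := 8) (by decide) (f3641 H)) (step (H.back (i := 5) (by decide) (f2519 H)) (step (H.back (i := 7) (by decide) (f923 H)) (step (H.back (i := 5) (by decide) (f2846 H)) (step (H.back (i := 6) (by decide) (f119 H)) (step (H.back (i := 7) (by decide) (f393 H)) (step (H.back (i := 5) (by decide) (f1688 H)) (step (H.back (i := 6) (by decide) (f3484 H)) rfl))))))))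

theorem f11817 : g 2 • path g [9, 3, 2, 6, 8] p = path g [9, 2, 3, 2, 6, 8] p :=
  H.back (i := 7) (by decide) (f11816 H)

theorem f11818 : g 0 • path g [9, 2, 3, 2, 6, 8] p = path g [9, 3, 2, 6, 3] p :=
  scan (u := [8]) (w := [2, 0, 2, 3, 5, 6, 7, 5, 6]) (i := 0) (r8_0_9 H) (step (f11810 H) rfl) (step (H.back (i := 7) (by decide) (f7758 H)) (step (H.back (i := 5) (by decide) (f4482 H)) (step (H.back (i := 7) (by decide) (f4471 H)) (step (H.back (i := 8) (by decide) (f4475 H)) (step (H.back (i := 0) (by decide) (f1628 H)) (step (H.back (i := 1) (by decide) (f342 H)) (step (H.back (i := 2) (by decide) (f330 H)) (step (H.back (i := 0) (by decide) (f3119 H)) (step (H.back (i := 1) (by decide) (f3483 H)) rfl)))))))))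

theorem f11820 : g 6 • path g [9, 2, 3, 2, 6, 8] p = path g [9, 3, 2, 6, 8] p :=
  scan (u := [8]) (w := [5, 7, 6, 5, 7, 5, 3, 1, 0, 2, 0, 1, 0]) (i := 6) (r9_1_3 H) (step (f11810 H) rfl) (step (H.back (i := 0) (by decide) (f7751 H)) (step (H.back (i := 2) (by decide) (f4978 H)) (step (H.back (i := 1) (by decide) (f4983 H)) (step (H.back (i := 0) (by decide) (f4987 H)) (step (H.back (i := 2) (by decide) (f8218 H)) (step (H.back (i := 0) (by decide) (f3769 H)) (step (H.back (i := 8) (by decide) (f1232 H)) (step (H.back (i := 6) (by decide) (f345 H)) (step (H.back (i := 5) (by decide) (f1643 H)) (step (H.back (i := 7) (by decide) (f1191 H)) (step (H.back (i := 5) (by decide) (f1760 H)) (step (H.back (i := 6) (by decide) (f1429 H)) (step (H.back (i := 5) (by decide) (f3490 H)) rfl)))))))))))))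

theorem f11821 : g 1 • path g [9, 3, 2, 6, 8] p = path g [9, 2, 3, 2, 6, 8] p :=
  H.back (i := 6) (by decide) (f11820 H)

theorem f11822 : g 5 • path g [9, 2, 3, 2, 6, 8] p = path g [9, 3, 2, 6, 3] p :=
  scan (u := [6, 7]) (w := [6, 8, 0, 2, 0, 2, 3, 5]) (i := 5) (r8_0_5 H) (step (f11820 H) (step (f11815 H) rfl)) (step (H.back (i := 1) (by decide) (f8181 H)) (step (H.back (i := 3) (by decide) (f4560 H)) (step (H.back (i := 5) (by decide) (f3697 H)) (step (H.back (i := 7) (by decide) (f3705 H)) (step (H.back (i := 5) (by decide) (f1616 H)) (step (H.back (i := 7) (by decide) (f594 H)) (step (H.back (i := 8) (by decide) (f3644 H)) (step (H.back (i := 0) (by decide) (f11818 H)) rfl))))))))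

theorem f11823 : g 0 • path g [9, 3, 2, 6, 3] p = path g [9, 2, 3, 2, 6, 8] p :=
  H.back (i := 5) (by decide) (f11822 H)

theorem f11824 : g 2 • path g [9, 2, 3, 6, 3] p = path g [9, 2, 3, 6, 3, 2] p :=
  rfl

theorem f11826 : g 2 • path g [9, 2, 3, 6, 3, 2] p = path g [9, 2, 3, 6, 3] p :=
  scan (u := [2]) (w := []) (i := 2) (r2_0_0 H) (step (f11824 H) rfl) rfl

theorem f11828 : g 1 • path g [9, 2, 3, 6, 3, 2] p = path g [8, 9, 2, 4, 8] p :=
  scan (u := [2]) (w := [2, 1]) (i := 1) (r3_0_1 H) (step (f11824 H) rfl) (step (H.back (i := 7) (by decide) (f11526 H)) (step (H.back (i := 6) (by decide) (f8692 H)) rfl))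

theorem f11829 : g 6 • path g [8, 9, 2, 4, 8] p = path g [9, 2, 3, 6, 3, 2] p :=
  H.back (i := 1) (by decide) (f11828 H)

theorem f11830 : g 3 • path g [9, 2, 3, 6, 3, 2] p = path g [9, 2, 9, 5, 2, 4] p :=
  scan (u := [2]) (w := [5, 6, 7, 5, 6, 8, 0, 2, 0]) (i := 3) (r8_0_2 H) (step (f11824 H) rfl) (step (H.back (i := 0) (by decide) (f11493 H)) (step (H.back (i := 1) (by decide) (f11521 H)) (step (H.back (i := 2) (by decide) (f11523 H)) (step (H.back (i := 0) (by decide) (f3620 H)) (step (H.back (i := 1) (by decide) (f9806 H)) (step (H.back (i := 3) (by decide) (f859 H)) (step (H.back (i := 5) (by decide) (f7219 H)) (step (H.back (i := 7) (by decide) (f9888 H)) (step (H.back (i := 5) (by decide) (f8683 H)) rfl)))))))))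

theorem f11832 : g 3 • path g [9, 3, 2, 1, 5] p = path g [9, 2, 3, 6, 3, 2] p :=
  scan (u := [3, 3]) (w := []) (i := 3) (r6_0_0 H) (step (f11830 H) (step (f9744 H) rfl)) rfl

theorem f11834 : g 4 • path g [9, 8, 1, 3, 6, 8] p = path g [9, 2, 3, 6, 3, 2] p :=
  scan (u := [3, 4, 3]) (w := []) (i := 4) (r15_0_1 H) (step (f11830 H) (step (f11639 H) (step (f6204 H) rfl))) rfl

theorem f11836 : g 4 • path g [9, 2, 3, 6, 3, 2] p = path g [3, 1, 8, 6, 3] p :=
  scan (u := [4]) (w := [4]) (i := 4) (r10_0_0 H) (step (f11834 H) rfl) (step (H.back (i := 9) (by decide) (f6200 H)) rfl)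

theorem f11838 : g 6 • path g [9, 2, 3, 6, 3, 2] p = path g [9, 8, 2, 1, 5, 3] p :=
  scan (u := [4]) (w := [9, 1]) (i := 6) (r14_0_1 H) (step (f11834 H) rfl) (step (H.back (i := 4) (by decide) (f11498 H)) (step (H.back (i := 6) (by decide) (f11619 H)) rfl))

theorem f11839 : g 1 • path g [9, 8, 2, 1, 5, 3] p = path g [9, 2, 3, 6, 3, 2] p :=
  H.back (i := 6) (by decide) (f11838 H)

theorem f11840 : g 3 • path g [9, 2, 4, 8, 2] p = path g [9, 2, 4, 8, 2, 3] p :=
  rfl

theorem f11842 : g 3 • path g [9, 2, 4, 8, 2, 3] p = path g [4, 2, 8, 6, 4] p :=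
  scan (u := [3]) (w := [3]) (i := 3) (r6_0_0 H) (step (f11840 H) rfl) (step (H.back (i := 8) (by decide) (f11630 H)) rfl)

theorem f11844 : g 4 • path g [9, 2, 4, 8, 2, 3] p = path g [4, 8, 2, 6, 8] p :=
  scan (u := [3]) (w := [3, 4]) (i := 4) (r15_0_1 H) (step (f11840 H) rfl) (step (H.back (i := 8) (by decide) (f5015 H)) (step (H.back (i := 9) (by decide) (f10603 H)) rfl))

theorem f11845 : g 9 • path g [4, 8, 2, 6, 8] p = path g [9, 2, 4, 8, 2, 3] p :=
  H.back (i := 4) (by decide) (f11844 H)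

theorem f11846 : g 0 • path g [9, 2, 4, 8, 2, 3] p = path g [9, 8, 6, 3, 1, 8] p :=
  scan (u := [3]) (w := [2, 0, 1, 2, 0, 1, 8, 7]) (i := 0) (r7_1_0 H) (step (f11840 H) rfl) (step (H.back (i := 7) (by decide) (f11477 H)) (step (H.back (i := 5) (by decide) (f11733 H)) (step (H.back (i := 6) (by decide) (f11729 H)) (step (H.back (i := 7) (by decide) (f3453 H)) (step (H.back (i := 5) (by decide) (f521 H)) (step (H.back (i := 6) (by decide) (f140 H)) (step (H.back (i := 3) (by decide) (f543 H)) (step (H.back (i := 2) (by decide) (f3520 H)) rfl))))))))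

theorem f11847 : g 5 • path g [9, 8, 6, 3, 1, 8] p = path g [9, 2, 4, 8, 2, 3] p :=
  H.back (i := 0) (by decide) (f11846 H)

theorem f11848 : g 5 • path g [9, 2, 4, 8, 2, 3] p = path g [9, 8, 6, 3, 1, 8] p :=
  scan (u := [3]) (w := [6, 5, 7, 5, 6, 8, 0, 2, 0, 1, 2, 0, 1]) (i := 5) (r9_0_11 H) (step (f11840 H) rfl) (step (H.back (i := 1) (by decide) (f11403 H)) (step (H.back (i := 0) (by decide) (f11730 H)) (step (H.back (i := 2) (by decide) (f11724 H)) (step (H.back (i := 0) (by decide) (f3437 H)) (step (H.back (i := 1) (by decide) (f3442 H)) (step (H.back (i := 3) (by decide) (f11709 H)) (step (H.back (i := 5) (by decide) (f11714 H)) (step (H.back (i := 7) (by decide) (f10369 H)) (step (H.back (i := 5) (by decide) (f7401 H)) (step (H.back (i := 6) (by decide) (f5127 H)) (step (H.back (i := 7) (by decide) (f10852 H)) (step (H.back (i := 5) (by decide) (f10869 H)) (step (H.back (i := 6) (by decide) (f10618 H)) rfl)))))))))))))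

theorem f11849 : g 0 • path g [9, 8, 6, 3, 1, 8] p = path g [9, 2, 4, 8, 2, 3] p :=
  H.back (i := 5) (by decide) (f11848 H)

theorem f11850 : g 4 • path g [8, 1, 3, 1, 8] p = path g [9, 2, 4, 8, 2, 3] p :=
  scan (u := [5, 9, 0]) (w := []) (i := 4) (r13_0_0 H) (step (f11848 H) (step (f6014 H) (step (f11230 H) rfl))) rfl

theorem f11852 : g 8 • path g [9, 2, 4, 8, 5] p = path g [9, 2, 4, 8, 5, 8] p :=
  rfl

theorem f11853 : g 3 • path g [9, 2, 4, 8, 5, 8] p = path g [9, 2, 4, 8, 5] p :=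
  H.back (i := 8) (by decide) (f11852 H)

theorem f11854 : g 8 • path g [9, 2, 4, 8, 5, 8] p = path g [4, 2, 9, 3, 5] p :=
  scan (u := [8]) (w := [8]) (i := 8) (r6_1_0 H) (step (f11852 H) rfl) (step (H.back (i := 3) (by decide) (f11611 H)) rfl)

theorem f11855 : g 3 • path g [4, 2, 9, 3, 5] p = path g [9, 2, 4, 8, 5, 8] p :=
  H.back (i := 8) (by decide) (f11854 H)

theorem f11856 : g 5 • path g [9, 2, 4, 8, 6] p = path g [9, 2, 4, 8, 6, 5] p :=
  rfl

theorem f11857 : g 0 • path g [9, 2, 4, 8, 6, 5] p = path g [9, 2, 4, 8, 6] p :=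
  H.back (i := 5) (by decide) (f11856 H)

theorem f11858 : g 5 • path g [9, 2, 4, 8, 6, 5] p = path g [9, 2, 4, 8, 6] p :=
  scan (u := [5]) (w := []) (i := 5) (r0_1_0 H) (step (f11856 H) rfl) rfl

theorem f11859 : g 0 • path g [9, 2, 4, 8, 6] p = path g [9, 2, 4, 8, 6, 5] p :=
  H.back (i := 5) (by decide) (f11858 H)

theorem f11860 : g 9 • path g [9, 2, 4, 8, 6, 5] p = path g [8, 1, 3, 6, 8] p :=
  scan (u := [5]) (w := [0, 4]) (i := 9) (r13_0_0 H) (step (f11856 H) rfl) (step (H.back (i := 5) (by decide) (f9639 H)) (step (H.back (i := 9) (by decide) (f3530 H)) rfl))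

theorem f11861 : g 4 • path g [8, 1, 3, 6, 8] p = path g [9, 2, 4, 8, 6, 5] p :=
  H.back (i := 9) (by decide) (f11860 H)

theorem f11862 : g 6 • path g [9, 2, 4, 8, 6, 5] p = path g [8, 6, 8, 4, 2] p :=
  scan (u := [5]) (w := [5, 1, 1, 5, 6]) (i := 6) (r4_1_1 H) (step (f11856 H) rfl) (step (H.back (i := 0) (by decide) (f7745 H)) (step (H.back (i := 6) (by decide) (f10559 H)) (step (H.back (i := 6) (by decide) (f10356 H)) (step (H.back (i := 0) (by decide) (f3525 H)) (step (H.back (i := 1) (by decide) (f3529 H)) rfl)))))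

theorem f11863 : g 1 • path g [8, 6, 8, 4, 2] p = path g [9, 2, 4, 8, 6, 5] p :=
  H.back (i := 6) (by decide) (f11862 H)

theorem f11864 : g 1 • path g [9, 2, 4, 8, 6, 5] p = path g [9, 2, 5, 1, 4, 8] p :=
  scan (u := [5]) (w := [1, 5, 6, 5, 6]) (i := 1) (r4_1_3 H) (step (f11856 H) rfl) (step (H.back (i := 6) (by decide) (f11722 H)) (step (H.back (i := 0) (by decide) (f7745 H)) (step (H.back (i := 1) (by decide) (f10907 H)) (step (H.back (i := 0) (by decide) (f3525 H)) (step (H.back (i := 1) (by decide) (f3529 H)) rfl)))))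

theorem f11866 : g 7 • path g [9, 2, 4, 8, 6, 5] p = path g [8, 6, 8, 6, 4] p :=
  scan (u := [5]) (w := [5, 8, 2, 3, 6, 5, 7, 6]) (i := 7) (r7_0_6 H) (step (f11856 H) rfl) (step (H.back (i := 0) (by decide) (f4738 H)) (step (H.back (i := 3) (by decide) (f10880 H)) (step (H.back (i := 7) (by decide) (f8998 H)) (step (H.back (i := 8) (by decide) (f1702 H)) (step (H.back (i := 1) (by decide) (f1682 H)) (step (H.back (i := 0) (by decide) (f10613 H)) (step (H.back (i := 2) (by decide) (f3518 H)) (step (H.back (i := 1) (by decide) (f3529 H)) rfl))))))))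

theorem f11867 : g 2 • path g [8, 6, 8, 6, 4] p = path g [9, 2, 4, 8, 6, 5] p :=
  H.back (i := 7) (by decide) (f11866 H)

theorem f11868 : g 8 • path g [9, 2, 4, 8, 6, 5] p = path g [8, 6, 8, 4, 2] p :=
  scan (u := [5]) (w := [2, 3, 6, 5, 7, 6, 5, 7]) (i := 8) (r7_0_8 H) (step (f11856 H) rfl) (step (H.back (i := 7) (by decide) (f4124 H)) (step (H.back (i := 8) (by decide) (f840 H)) (step (H.back (i := 1) (by decide) (f10790 H)) (step (H.back (i := 0) (by decide) (f10806 H)) (step (H.back (i := 2) (by decide) (f10743 H)) (step (H.back (i := 1) (by decide) (f5107 H)) (step (H.back (i := 0) (by decide) (f2849 H)) (step (H.back (i := 2) (by decide) (f10341 H)) rfl))))))))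

theorem f11869 : g 3 • path g [8, 6, 8, 4, 2] p = path g [9, 2, 4, 8, 6, 5] p :=
  H.back (i := 8) (by decide) (f11868 H)

theorem f11870 : g 3 • path g [9, 2, 4, 8, 6, 5] p = path g [8, 9, 2, 1, 5] p :=
  scan (u := [5]) (w := [1, 0, 2, 1, 0, 8, 7, 5, 7]) (i := 3) (r8_1_0 H) (step (f11856 H) rfl) (step (H.back (i := 6) (by decide) (f5272 H)) (step (H.back (i := 5) (by decide) (f5268 H)) (step (H.back (i := 7) (by decide) (f3640 H)) (step (H.back (i := 6) (by decide) (f3636 H)) (step (H.back (i := 5) (by decide) (f10131 H)) (step (H.back (i := 3) (by decide) (f2881 H)) (step (H.back (i := 2) (by decide) (f9949 H)) (step (H.back (i := 0) (by decide) (f2849 H)) (step (H.back (i := 2) (by decide) (f10341 H)) rfl)))))))))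

theorem f11872 : g 7 • path g [8, 6, 8, 6, 4] p = path g [9, 2, 4, 8, 6, 5] p :=
  scan (u := [3, 0, 2, 0, 1, 2, 0, 1, 8]) (w := []) (i := 7) (r7_1_0 H) (step (f11870 H) (step (f3890 H) (step (f668 H) (step (f178 H) (step (f175 H) (step (f164 H) (step (f2193 H) (step (f1280 H) (step (f10413 H) rfl))))))))) rfl

theorem f11873 : g 2 • path g [9, 2, 4, 8, 6, 5] p = path g [8, 6, 8, 6, 4] p :=
  H.back (i := 7) (by decide) (f11872 H)

theorem f11874 : g 6 • path g [9, 2, 9, 5, 1, 3] p = path g [8, 1, 3, 6, 8] p :=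
  scan (u := [1, 9]) (w := [4]) (i := 6) (r14_1_1 H) (step (f11864 H) (step (f11712 H) rfl)) (step (H.back (i := 9) (by decide) (f11860 H)) rfl)

theorem f11875 : g 1 • path g [8, 1, 3, 6, 8] p = path g [9, 2, 9, 5, 1, 3] p :=
  H.back (i := 6) (by decide) (f11874 H)

theorem f11876 : g 3 • path g [9, 3, 9, 2, 9] p = path g [9, 3, 9, 2, 9, 3] p :=
  rfl

theorem f11878 : g 3 • path g [9, 3, 9, 2, 9, 3] p = path g [4, 8, 6, 3, 6] p :=
  scan (u := [3]) (w := [3]) (i := 3) (r6_0_0 H) (step (f11876 H) rfl) (step (H.back (i := 8) (by decide) (f7409 H)) rfl)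

theorem f11879 : g 8 • path g [4, 8, 6, 3, 6] p = path g [9, 3, 9, 2, 9, 3] p :=
  H.back (i := 3) (by decide) (f11878 H)

theorem f11880 : g 9 • path g [9, 3, 9, 2, 8] p = path g [9, 3, 9, 2, 8, 9] p :=
  rfl

theorem f11881 : g 4 • path g [9, 3, 9, 2, 8, 9] p = path g [9, 3, 9, 2, 8] p :=
  H.back (i := 9) (by decide) (f11880 H)

theorem f11882 : g 0 • path g [9, 3, 9, 2, 8, 9] p = path g [4, 8, 5, 2, 9] p :=
  scan (u := [9]) (w := [4, 5]) (i := 0) (r13_0_1 H) (step (f11880 H) rfl) (step (H.back (i := 9) (by decide) (f5063 H)) (step (H.back (i := 0) (by decide) (f3570 H)) rfl))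

theorem f11884 : g 5 • path g [9, 3, 9, 2, 8, 9] p = path g [4, 8, 5, 2, 9] p :=
  scan (u := [9]) (w := [4, 0]) (i := 5) (r13_1_0 H) (step (f11880 H) rfl) (step (H.back (i := 9) (by decide) (f5063 H)) (step (H.back (i := 5) (by decide) (f3573 H)) rfl))

theorem f11885 : g 0 • path g [4, 8, 5, 2, 9] p = path g [9, 3, 9, 2, 8, 9] p :=
  H.back (i := 5) (by decide) (f11884 H)

theorem f11886 : g 1 • path g [9, 3, 9, 2, 8, 9] p = path g [9, 2, 9, 8, 2, 8] p :=
  scan (u := [9]) (w := [4, 6]) (i := 1) (r14_0_3 H) (step (f11880 H) rfl) (step (H.back (i := 9) (by decide) (f11545 H)) (step (H.back (i := 1) (by decide) (f3894 H)) rfl))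

theorem f11888 : g 6 • path g [9, 3, 9, 2, 8, 9] p = path g [3, 6, 8, 1, 8] p :=
  scan (u := [9]) (w := [4, 1]) (i := 6) (r14_1_2 H) (step (f11880 H) rfl) (step (H.back (i := 9) (by decide) (f11192 H)) (step (H.back (i := 6) (by decide) (f5275 H)) rfl))

theorem f11889 : g 1 • path g [3, 6, 8, 1, 8] p = path g [9, 3, 9, 2, 8, 9] p :=
  H.back (i := 6) (by decide) (f11888 H)

theorem f11890 : g 8 • path g [9, 3, 9, 2, 8, 9] p = path g [9, 3, 9, 2, 4] p :=
  scan (u := [9]) (w := [9, 8]) (i := 8) (r15_1_1 H) (step (f11880 H) rfl) (step (H.back (i := 4) (by decide) (f3581 H)) (step (H.back (i := 3) (by decide) (f3563 H)) rfl))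

theorem f11891 : g 3 • path g [9, 3, 9, 2, 4] p = path g [9, 3, 9, 2, 8, 9] p :=
  H.back (i := 8) (by decide) (f11890 H)

theorem f11892 : g 2 • path g [9, 3, 9, 2, 8, 9] p = path g [9, 2, 9, 8, 2, 8] p :=
  scan (u := [9]) (w := [0, 2, 0, 2, 0, 2, 0, 9, 5, 7, 5, 7, 5, 7, 5, 7]) (i := 2) (r11_1_3 H) (step (f11880 H) rfl) (step (H.back (i := 5) (by decide) (f9553 H)) (step (H.back (i := 7) (by decide) (f3801 H)) (step (H.back (i := 5) (by decide) (f3810 H)) (step (H.back (i := 7) (by decide) (f5240 H)) (step (H.back (i := 5) (by decide) (f9616 H)) (step (H.back (i := 7) (by decide) (f9734 H)) (step (H.back (i := 5) (by decide) (f3252 H)) (step (H.back (i := 4) (by decide) (f480 H)) (step (H.back (i := 0) (by decide) (f3079 H)) (step (H.back (i := 2) (by decide) (f150 H)) (step (H.back (i := 0) (by decide) (f155 H)) (step (H.back (i := 2) (by decide) (f614 H)) (step (H.back (i := 0) (by decide) (f3403 H)) (step (H.back (i := 2) (by decide) (f3427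 H)) (step (H.back (i := 0) (by decide) (f3429 H)) (step (H.back (i := 2) (by decide) (f3566 H)) rfl))))))))))))))))

theorem f11894 : g 2 • path g [9, 2, 9, 8, 2, 8] p = path g [9, 3, 9, 2, 8, 9] p :=
  scan (u := [2]) (w := []) (i := 2) (r2_0_0 H) (step (f11892 H) rfl) rfl

theorem f11895 : g 7 • path g [9, 3, 9, 2, 8, 9] p = path g [9, 2, 9, 8, 2, 8] p :=
  H.back (i := 2) (by decide) (f11894 H)

theorem f11896 : g 4 • path g [9, 3, 9, 2, 8] p = path g [9, 3, 9, 2, 8, 4] p :=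
  rfl

theorem f11898 : g 4 • path g [9, 3, 9, 2, 8, 4] p = path g [9, 3, 9, 2, 8, 9] p :=
  scan (u := [4]) (w := [4]) (i := 4) (r10_0_0 H) (step (f11896 H) rfl) (step (H.back (i := 9) (by decide) (f11880 H)) rfl)

theorem f11900 : g 5 • path g [9, 3, 9, 2, 8, 4] p = path g [4, 8, 5, 2, 4] p :=
  scan (u := [4]) (w := [9, 0]) (i := 5) (r13_0_3 H) (step (f11896 H) rfl) (step (H.back (i := 4) (by decide) (f5077 H)) (step (H.back (i := 5) (by decide) (f3573 H)) rfl))

theorem f11901 : g 0 • path g [4, 8, 5, 2, 4] p = path g [9, 3, 9, 2, 8, 4] p :=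
  H.back (i := 5) (by decide) (f11900 H)

theorem f11902 : g 0 • path g [9, 3, 9, 2, 8, 4] p = path g [4, 8, 5, 2, 4] p :=
  scan (u := [4]) (w := [9, 5]) (i := 0) (r13_1_2 H) (step (f11896 H) rfl) (step (H.back (i := 4) (by decide) (f5077 H)) (step (H.back (i := 0) (by decide) (f3570 H)) rfl))

theorem f11904 : g 1 • path g [9, 3, 9, 2, 8, 4] p = path g [8, 1, 3, 6, 3] p :=
  scan (u := [4]) (w := [9, 6]) (i := 1) (r14_1_0 H) (step (f11896 H) rfl) (step (H.back (i := 4) (by decide) (f11047 H)) (step (H.back (i := 1) (by decide) (f3894 H)) rfl))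

theorem f11905 : g 6 • path g [8, 1, 3, 6, 3] p = path g [9, 3, 9, 2, 8, 4] p :=
  H.back (i := 1) (by decide) (f11904 H)

theorem f11906 : g 3 • path g [9, 3, 9, 2, 8, 4] p = path g [9, 3, 6, 8, 6] p :=
  scan (u := [4]) (w := [4, 3]) (i := 3) (r15_0_0 H) (step (f11896 H) rfl) (step (H.back (i := 9) (by decide) (f7413 H)) (step (H.back (i := 8) (by decide) (f3564 H)) rfl))

theorem f11907 : g 8 • path g [9, 3, 6, 8, 6] p = path g [9, 3, 9, 2, 8, 4] p :=
  H.back (i := 3) (by decide) (f11906 H)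

theorem f11908 : g 8 • path g [9, 3, 9, 2, 4] p = path g [9, 3, 9, 2, 4, 8] p :=
  rfl

theorem f11909 : g 3 • path g [9, 3, 9, 2, 4, 8] p = path g [9, 3, 9, 2, 4] p :=
  H.back (i := 8) (by decide) (f11908 H)

theorem f11910 : g 8 • path g [9, 3, 9, 2, 4, 8] p = path g [9, 3, 9, 2, 8, 9] p :=
  scan (u := [8]) (w := [8]) (i := 8) (r6_1_0 H) (step (f11908 H) rfl) (step (H.back (i := 3) (by decide) (f11891 H)) rfl)

theorem f11911 : g 3 • path g [9, 3, 9, 2, 8, 9] p = path g [9, 3, 9, 2, 4, 8] p :=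
  H.back (i := 8) (by decide) (f11910 H)

theorem f11912 : g 9 • path g [9, 3, 9, 2, 4, 8] p = path g [9, 3, 9, 2, 9, 3] p :=
  scan (u := [8]) (w := [8, 9]) (i := 9) (r15_1_0 H) (step (f11908 H) rfl) (step (H.back (i := 3) (by decide) (f11876 H)) (step (H.back (i := 4) (by decide) (f3583 H)) rfl))

theorem f11913 : g 4 • path g [9, 3, 9, 2, 9, 3] p = path g [9, 3, 9, 2, 4, 8] p :=
  H.back (i := 9) (by decide) (f11912 H)

theorem f11914 : g 1 • path g [8, 1, 8, 9, 2] p = path g [9, 3, 9, 2, 4, 8] p :=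
  scan (u := [8, 7, 3, 0, 2, 0, 1, 2, 0]) (w := []) (i := 1) (r7_1_8 H) (step (f11910 H) (step (f11895 H) (step (f7435 H) (step (f8976 H) (step (f7221 H) (step (f5474 H) (step (f4992 H) (step (f8199 H) (step (f6777 H) rfl))))))))) rfl

theorem f11916 : g 1 • path g [9, 3, 9, 2, 4, 8] p = path g [9, 2, 8, 6, 5, 8] p :=
  scan (u := [1]) (w := [1]) (i := 1) (r1_0_0 H) (step (f11914 H) rfl) (step (H.back (i := 6) (by decide) (f8180 H)) rfl)

theorem f11917 : g 6 • path g [9, 2, 8, 6, 5, 8] p = path g [9, 3, 9, 2, 4, 8] p :=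
  H.back (i := 1) (by decide) (f11916 H)

theorem f11918 : g 2 • path g [9, 3, 9, 2, 4, 8] p = path g [8, 1, 8, 9, 6] p :=
  scan (u := [1]) (w := [1, 2]) (i := 2) (r3_0_0 H) (step (f11914 H) rfl) (step (H.back (i := 6) (by decide) (f4260 H)) (step (H.back (i := 7) (by decide) (f4251 H)) rfl))

theorem f11919 : g 7 • path g [8, 1, 8, 9, 6] p = path g [9, 3, 9, 2, 4, 8] p :=
  H.back (i := 2) (by decide) (f11918 H)

theorem f11920 : g 2 • path g [8, 1, 8, 9, 6] p = path g [9, 3, 9, 2, 4, 8] p :=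
  scan (u := [2]) (w := []) (i := 2) (r2_0_0 H) (step (f11918 H) rfl) rfl

theorem f11922 : g 6 • path g [8, 6, 3, 1, 8] p = path g [9, 3, 9, 2, 9, 3] p :=
  scan (u := [1, 9]) (w := [4]) (i := 6) (r14_1_1 H) (step (f11916 H) (step (f11532 H) rfl)) (step (H.back (i := 9) (by decide) (f11912 H)) rfl)

theorem f11923 : g 1 • path g [9, 3, 9, 2, 9, 3] p = path g [8, 6, 3, 1, 8] p :=
  H.back (i := 6) (by decide) (f11922 H)

theorem f11924 : g 5 • path g [9, 3, 2, 9, 2] p = path g [9, 3, 2, 9, 2, 5] p :=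
  rfl

theorem f11925 : g 0 • path g [9, 3, 2, 9, 2, 5] p = path g [9, 3, 2, 9, 2] p :=
  H.back (i := 5) (by decide) (f11924 H)

theorem f11926 : g 5 • path g [9, 3, 2, 9, 2, 5] p = path g [9, 3, 2, 9, 2] p :=
  scan (u := [5]) (w := []) (i := 5) (r0_1_0 H) (step (f11924 H) rfl) rfl

theorem f11927 : g 0 • path g [9, 3, 2, 9, 2] p = path g [9, 3, 2, 9, 2, 5] p :=
  H.back (i := 5) (by decide) (f11926 H)

theorem f11928 : g 4 • path g [9, 3, 2, 9, 2, 5] p = path g [8, 1, 8, 9, 2] p :=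
  scan (u := [5]) (w := [0, 9]) (i := 4) (r13_1_1 H) (step (f11924 H) rfl) (step (H.back (i := 5) (by decide) (f6774 H)) (step (H.back (i := 4) (by decide) (f10953 H)) rfl))

theorem f11930 : g 1 • path g [9, 3, 2, 9, 2, 5] p = path g [9, 3, 9, 2, 9, 3] p :=
  scan (u := [5]) (w := [1, 5, 6, 5, 6]) (i := 1) (r4_1_3 H) (step (f11924 H) rfl) (step (H.back (i := 6) (by decide) (f11922 H)) (step (H.back (i := 0) (by decide) (f11084 H)) (step (H.back (i := 1) (by decide) (f11137 H)) (step (H.back (i := 0) (by decide) (f5232 H)) (step (H.back (i := 1) (by decide) (f10947 H)) rfl)))))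

theorem f11932 : g 6 • path g [9, 3, 2, 9, 2, 5] p = path g [8, 6, 3, 1, 8] p :=
  scan (u := [5]) (w := [5, 6, 5, 1, 1]) (i := 6) (r4_1_6 H) (step (f11924 H) rfl) (step (H.back (i := 0) (by decide) (f11084 H)) (step (H.back (i := 1) (by decide) (f11137 H)) (step (H.back (i := 0) (by decide) (f5232 H)) (step (H.back (i := 6) (by decide) (f9506 H)) (step (H.back (i := 6) (by decide) (f10950 H)) rfl)))))

theorem f11933 : g 1 • path g [8, 6, 3, 1, 8] p = path g [9, 3, 2, 9, 2, 5] p :=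
  H.back (i := 6) (by decide) (f11932 H)

theorem f11934 : g 7 • path g [9, 3, 2, 9, 2, 5] p = path g [9, 3, 9, 2, 9, 3] p :=
  scan (u := [5]) (w := [6, 5, 7, 5, 8, 2, 3, 6]) (i := 7) (r7_0_3 H) (step (f11924 H) rfl) (step (H.back (i := 1) (by decide) (f11930 H)) (step (H.back (i := 0) (by decide) (f11927 H)) (step (H.back (i := 2) (by decide) (f3595 H)) (step (H.back (i := 0) (by decide) (f3092 H)) (step (H.back (i := 3) (by decide) (f465 H)) (step (H.back (i := 7) (by decide) (f11332 H)) (step (H.back (i := 8) (by decide) (f1263 H)) (step (H.back (i := 1) (by decide) (f10947 H)) rfl))))))))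

theorem f11935 : g 2 • path g [9, 3, 9, 2, 9, 3] p = path g [9, 3, 2, 9, 2, 5] p :=
  H.back (i := 7) (by decide) (f11934 H)

theorem f11936 : g 7 • path g [9, 3, 9, 2, 9, 3] p = path g [9, 3, 2, 9, 2, 5] p :=
  scan (u := [7]) (w := []) (i := 7) (r2_1_0 H) (step (f11934 H) rfl) rfl

theorem f11937 : g 2 • path g [9, 3, 2, 9, 2, 5] p = path g [9, 3, 9, 2, 9, 3] p :=
  H.back (i := 7) (by decide) (f11936 H)

theorem f11938 : g 8 • path g [8, 9, 6, 8, 1] p = path g [9, 3, 2, 9, 2, 5] p :=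
  scan (u := [7, 3, 0, 2, 0, 1, 2, 0, 1]) (w := []) (i := 8) (r7_1_9 H) (step (f11934 H) (step (f11878 H) (step (f7404 H) (step (f10354 H) (step (f11717 H) (step (f11723 H) (step (f4123 H) (step (f6494 H) (step (f3931 H) rfl))))))))) rfl

theorem f11939 : g 3 • path g [9, 3, 2, 9, 2, 5] p = path g [8, 9, 6, 8, 1] p :=
  H.back (i := 8) (by decide) (f11938 H)

theorem f11940 : g 2 • path g [9, 3, 2, 9, 3] p = path g [9, 3, 2, 9, 3, 2] p :=
  rfl

theorem f11941 : g 7 • path g [9, 3, 2, 9, 3, 2] p = path g [9, 3, 2, 9, 3] p :=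
  H.back (i := 2) (by decide) (f11940 H)

theorem f11942 : g 2 • path g [9, 3, 2, 9, 3, 2] p = path g [9, 3, 2, 9, 3] p :=
  scan (u := [2]) (w := []) (i := 2) (r2_0_0 H) (step (f11940 H) rfl) rfl

theorem f11943 : g 7 • path g [9, 3, 2, 9, 3] p = path g [9, 3, 2, 9, 3, 2] p :=
  H.back (i := 2) (by decide) (f11942 H)

theorem f11944 : g 3 • path g [9, 3, 2, 9, 3, 2] p = path g [3, 9, 6, 8, 1] p :=
  scan (u := [2]) (w := [6, 5, 7, 6, 5, 7, 5, 8]) (i := 3) (r7_0_0 H) (step (f11940 H) rfl) (step (H.back (i := 1) (by decide) (f4623 H)) (step (H.back (i := 0) (by decide) (f6877 H)) (step (H.back (i := 2) (by decide) (f10575 H)) (step (H.back (i := 1) (by decide) (f4754 H)) (step (H.back (i := 0) (by decide) (f7215 H)) (step (H.back (i := 2) (by decide) (f10145 H)) (step (H.back (i := 0) (by decide) (f3592 H)) (step (H.back (i := 3) (by decide) (f3601 H)) rfl))))))))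

theorem f11946 : g 0 • path g [9, 3, 2, 9, 3, 2] p = path g [9, 2, 8, 9, 2, 8] p :=
  scan (u := [2]) (w := [2, 1, 0, 2, 1, 0, 6, 2, 0, 6]) (i := 0) (r5_0_2 H) (step (f11940 H) rfl) (step (H.back (i := 7) (by decide) (f11479 H)) (step (H.back (i := 6) (by decide) (f11430 H)) (step (H.back (i := 5) (by decide) (f11733 H)) (step (H.back (i := 7) (by decide) (f11727 H)) (step (H.back (i := 6) (by decide) (f3443 H)) (step (H.back (i := 5) (by decide) (f3436 H)) (step (H.back (i := 1) (by decide) (f3441 H)) (step (H.back (i := 7) (by decide) (f3451 H)) (step (H.back (i := 5) (by decide) (f11752 H)) (step (H.back (i := 1) (by decide) (f11763 H)) rfl))))))))))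

theorem f11947 : g 5 • path g [9, 2, 8, 9, 2, 8] p = path g [9, 3, 2, 9, 3, 2] p :=
  H.back (i := 0) (by decide) (f11946 H)

theorem f11948 : g 0 • path g [9, 2, 8, 9, 2, 8] p = path g [9, 3, 2, 9, 3, 2] p :=
  scan (u := [0]) (w := []) (i := 0) (r0_0_0 H) (step (f11946 H) rfl) rfl

theorem f11949 : g 5 • path g [9, 3, 2, 9, 3, 2] p = path g [9, 2, 8, 9, 2, 8] p :=
  H.back (i := 0) (by decide) (f11948 H)

theorem f11950 : g 9 • path g [8, 9, 2, 6, 8] p = path g [9, 3, 2, 9, 3, 2] p :=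
  scan (u := [0, 4, 5]) (w := []) (i := 9) (r13_0_2 H) (step (f11946 H) (step (f11425 H) (step (f7671 H) rfl))) rfl

theorem f11951 : g 4 • path g [9, 3, 2, 9, 3, 2] p = path g [8, 9, 2, 6, 8] p :=
  H.back (i := 9) (by decide) (f11950 H)

theorem f11952 : g 4 • path g [9, 2, 8, 9, 2, 5] p = path g [9, 3, 2, 9, 3, 2] p :=
  scan (u := [0, 9, 5]) (w := []) (i := 4) (r13_1_3 H) (step (f11946 H) (step (f11422 H) (step (f7874 H) rfl))) rfl

theorem f11953 : g 9 • path g [9, 3, 2, 9, 3, 2] p = path g [9, 2, 8, 9, 2, 5] p :=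
  H.back (i := 4) (by decide) (f11952 H)

theorem f11954 : g 1 • path g [9, 2, 5, 4, 2, 5] p = path g [9, 3, 2, 9, 3, 2] p :=
  scan (u := [0, 6, 6, 0, 1, 0]) (w := []) (i := 1) (r4_0_0 H) (step (f11946 H) (step (f11431 H) (step (f11402 H) (step (f11732 H) (step (f11728 H) (step (f11753 H) rfl)))))) rfl

theorem f11955 : g 6 • path g [9, 3, 2, 9, 3, 2] p = path g [9, 2, 5, 4, 2, 5] p :=
  H.back (i := 1) (by decide) (f11954 H)

theorem f11956 : g 6 • path g [9, 3, 2, 9, 3] p = path g [9, 3, 2, 9, 3, 2] p :=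
  scan (u := [0, 1, 0, 1, 0, 6]) (w := []) (i := 6) (r4_0_3 H) (step (f11946 H) (step (f11428 H) (step (f11732 H) (step (f11728 H) (step (f11753 H) (step (f11762 H) rfl)))))) rfl

theorem f11957 : g 1 • path g [9, 3, 2, 9, 3, 2] p = path g [9, 3, 2, 9, 3] p :=
  H.back (i := 6) (by decide) (f11956 H)

theorem f11958 : g 3 • path g [8, 9, 2, 6, 4] p = path g [9, 3, 2, 9, 3, 2] p :=
  scan (u := [0, 2, 0, 1, 2, 0, 1, 8, 7]) (w := []) (i := 3) (r7_1_1 H) (step (f11946 H) (step (f11480 H) (step (f11948 H) (step (f11957 H) (step (f11940 H) (step (f11946 H) (step (f11428 H) (step (f4539 H) (step (f11093 H) rfl))))))))) rfl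

theorem f11960 : g 5 • path g [9, 3, 2, 9, 3] p = path g [9, 3, 2, 9, 3, 5] p :=
  rfl

theorem f11961 : g 0 • path g [9, 3, 2, 9, 3, 5] p = path g [9, 3, 2, 9, 3] p :=
  H.back (i := 5) (by decide) (f11960 H)

theorem f11962 : g 5 • path g [9, 3, 2, 9, 3, 5] p = path g [9, 3, 2, 9, 3] p :=
  scan (u := [5]) (w := []) (i := 5) (r0_1_0 H) (step (f11960 H) rfl) rfl

theorem f11963 : g 0 • path g [9, 3, 2, 9, 3] p = path g [9, 3, 2, 9, 3, 5] p :=
  H.back (i := 5) (by decide) (f11962 H)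

theorem f11964 : g 3 • path g [9, 3, 2, 9, 3, 5] p = path g [9, 2, 5, 4, 8, 5] p :=
  scan (u := [5]) (w := [1, 0, 2, 1, 0, 8, 7, 5, 7]) (i := 3) (r8_1_0 H) (step (f11960 H) rfl) (step (H.back (i := 6) (by decide) (f11748 H)) (step (H.back (i := 5) (by decide) (f11444 H)) (step (H.back (i := 7) (by decide) (f4889 H)) (step (H.back (i := 6) (by decide) (f11166 H)) (step (H.back (i := 5) (by decide) (f7874 H)) (step (H.back (i := 3) (by decide) (f7873 H)) (step (H.back (i := 2) (by decide) (f11480 H)) (step (H.back (i := 0) (by decide) (f11946 H)) (step (H.back (i := 2) (by decide) (f11940 H)) rfl)))))))))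

theorem f11966 : g 6 • path g [9, 2, 4, 8, 2, 3] p = path g [9, 3, 2, 9, 3, 5] p :=
  scan (u := [5, 6, 5, 1, 1, 5]) (w := []) (i := 6) (r4_1_1 H) (step (f11962 H) (step (f11956 H) (step (f11949 H) (step (f11428 H) (step (f11403 H) (step (f11847 H) rfl)))))) rfl

theorem f11967 : g 1 • path g [9, 3, 2, 9, 3, 5] p = path g [9, 2, 4, 8, 2, 3] p :=
  H.back (i := 6) (by decide) (f11966 H)

theorem f11968 : g 8 • path g [9, 3, 2, 9, 6] p = path g [9, 3, 2, 9, 6, 8] p :=
  rfl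

theorem f11969 : g 3 • path g [9, 3, 2, 9, 6, 8] p = path g [9, 3, 2, 9, 6] p :=
  H.back (i := 8) (by decide) (f11968 H)

theorem f11970 : g 8 • path g [9, 3, 2, 9, 6, 8] p = path g [8, 6, 8, 9, 1] p :=
  scan (u := [8]) (w := [8]) (i := 8) (r6_1_0 H) (step (f11968 H) rfl) (step (H.back (i := 3) (by decide) (f11537 H)) rfl)

theorem f11971 : g 3 • path g [8, 6, 8, 9, 1] p = path g [9, 3, 2, 9, 6, 8] p :=
  H.back (i := 8) (by decide) (f11970 H)

theorem f11972 : g 9 • path g [9, 3, 2, 9, 6, 8] p = path g [9, 3, 2, 6, 3] p :=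
  scan (u := [8]) (w := [8, 9]) (i := 9) (r15_1_0 H) (step (f11968 H) rfl) (step (H.back (i := 3) (by decide) (f3643 H)) (step (H.back (i := 4) (by decide) (f3605 H)) rfl))

theorem f11973 : g 4 • path g [9, 3, 2, 6, 3] p = path g [9, 3, 2, 9, 6, 8] p :=
  H.back (i := 9) (by decide) (f11972 H)

theorem f11974 : g 2 • path g [9, 3, 2, 9, 6, 8] p = path g [9, 3, 2, 9, 6, 8] p :=
  scan (u := [8]) (w := [3, 6, 5, 7, 6, 5, 7, 5]) (i := 2) (r7_0_9 H) (step (f11968 H) rfl) (step (H.back (i := 8) (by decide) (f11968 H)) (step (H.back (i := 1) (by decide) (f3609 H)) (step (H.back (i := 0) (by decide) (f10970 H)) (step (H.back (i := 2) (by decide) (f4871 H)) (step (H.back (i := 1) (by decide) (f10442 H)) (step (H.back (i := 0) (by decide) (f3816 H)) (step (H.back (i := 2) (by decide) (f3915 H)) (step (H.back (i := 0) (by decide) (f11059 H)) rfl))))))))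

theorem f11975 : g 7 • path g [9, 3, 2, 9, 6, 8] p = path g [9, 3, 2, 9, 6, 8] p :=
  H.back (i := 2) (by decide) (f11974 H)

theorem f11976 : g 1 • path g [9, 2, 8, 9, 6, 3] p = path g [9, 3, 2, 9, 6, 8] p :=
  scan (u := [9, 6, 4]) (w := []) (i := 1) (r14_1_2 H) (step (f11972 H) (step (f8182 H) (step (f11534 H) rfl))) rfl

theorem f11977 : g 6 • path g [9, 3, 2, 9, 6, 8] p = path g [9, 2, 8, 9, 6, 3] p :=
  H.back (i := 1) (by decide) (f11976 H)

theorem f11978 : g 6 • path g [9, 3, 2, 6, 8] p = path g [9, 3, 2, 6, 8, 6] p :=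
  rfl

theorem f11979 : g 1 • path g [9, 3, 2, 6, 8, 6] p = path g [9, 3, 2, 6, 8] p :=
  H.back (i := 6) (by decide) (f11978 H)

theorem f11980 : g 6 • path g [9, 3, 2, 6, 8, 6] p = path g [9, 2, 3, 2, 6, 8] p :=
  scan (u := [6]) (w := [6]) (i := 6) (r1_1_0 H) (step (f11978 H) rfl) (step (H.back (i := 1) (by decide) (f11821 H)) rfl)

theorem f11981 : g 1 • path g [9, 2, 3, 2, 6, 8] p = path g [9, 3, 2, 6, 8, 6] p :=
  H.back (i := 6) (by decide) (f11980 H)

theorem f11982 : g 7 • path g [9, 3, 2, 6, 8, 6] p = path g [9, 3, 2, 6, 8, 6] p :=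
  scan (u := [6]) (w := [6, 7]) (i := 7) (r3_1_1 H) (step (f11978 H) rfl) (step (H.back (i := 1) (by decide) (f11981 H)) (step (H.back (i := 2) (by decide) (f11817 H)) rfl))

theorem f11983 : g 2 • path g [9, 3, 2, 6, 8, 6] p = path g [9, 3, 2, 6, 8, 6] p :=
  H.back (i := 7) (by decide) (f11982 H)

theorem f11984 : g 0 • path g [9, 3, 2, 6, 8, 6] p = path g [9, 3, 9, 2, 4, 8] p :=
  scan (u := [6]) (w := [1, 0, 1, 0, 6]) (i := 0) (r4_0_2 H) (step (f11978 H) rfl) (step (H.back (i := 6) (by decide) (f11917 H)) (step (H.back (i := 5) (by decide) (f7966 H)) (step (H.back (i := 6) (by decide) (f8182 H)) (step (H.back (i := 5) (by decide) (f11822 H)) (step (H.back (i := 1) (by decide) (f11821 H)) rfl)))))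

theorem f11985 : g 5 • path g [9, 3, 9, 2, 4, 8] p = path g [9, 3, 2, 6, 8, 6] p :=
  H.back (i := 0) (by decide) (f11984 H)

theorem f11986 : g 5 • path g [9, 3, 2, 6, 8, 6] p = path g [9, 3, 9, 2, 4, 8] p :=
  scan (u := [6]) (w := [6, 5, 1, 1, 5]) (i := 5) (r4_1_0 H) (step (f11978 H) rfl) (step (H.back (i := 1) (by decide) (f11914 H)) (step (H.back (i := 0) (by decide) (f6777 H)) (step (H.back (i := 6) (by decide) (f9537 H)) (step (H.back (i := 6) (by decide) (f9499 H)) (step (H.back (i := 0) (by decide) (f7749 H)) rfl)))))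

theorem f11987 : g 0 • path g [9, 3, 9, 2, 4, 8] p = path g [9, 3, 2, 6, 8, 6] p :=
  H.back (i := 5) (by decide) (f11986 H)

theorem f11988 : g 8 • path g [9, 3, 2, 6, 8, 6] p = path g [9, 2, 9, 3, 9, 5] p :=
  scan (u := [6]) (w := [0, 2, 0, 2, 3, 5, 6, 7, 5]) (i := 8) (r8_0_8 H) (step (f11978 H) rfl) (step (H.back (i := 5) (by decide) (f7782 H)) (step (H.back (i := 7) (by decide) (f11575 H)) (step (H.back (i := 5) (by decide) (f3847 H)) (step (H.back (i := 7) (by decide) (f11558 H)) (step (H.back (i := 8) (by decide) (f11556 H)) (step (H.back (i := 0) (by decide) (f5476 H)) (step (H.back (i := 1) (by decide) (f4990 H)) (step (H.back (i := 2) (by decide) (f4980 H)) (step (H.back (i := 0) (by decide) (f7749 H)) rfl)))))))))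

theorem f11989 : g 3 • path g [9, 2, 9, 3, 9, 5] p = path g [9, 3, 2, 6, 8, 6] p :=
  H.back (i := 8) (by decide) (f11988 H)

theorem f11990 : g 9 • path g [9, 2, 4, 8, 5, 8] p = path g [9, 3, 2, 6, 8, 6] p :=
  scan (u := [8, 9, 8]) (w := []) (i := 9) (r15_1_0 H) (step (f11988 H) (step (f7786 H) (step (f11852 H) rfl))) rfl

theorem f11991 : g 4 • path g [9, 3, 2, 6, 8, 6] p = path g [9, 2, 4, 8, 5, 8] p :=
  H.back (i := 9) (by decide) (f11990 H)

theorem f11992 : g 4 • path g [9, 3, 2, 6, 8] p = path g [9, 3, 2, 6, 8, 4] p :=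
  rfl

theorem f11994 : g 4 • path g [9, 3, 2, 6, 8, 4] p = path g [8, 6, 8, 1, 8] p :=
  scan (u := [4]) (w := [4]) (i := 4) (r10_0_0 H) (step (f11992 H) rfl) (step (H.back (i := 9) (by decide) (f10939 H)) rfl)

theorem f11995 : g 9 • path g [8, 6, 8, 1, 8] p = path g [9, 3, 2, 6, 8, 4] p :=
  H.back (i := 4) (by decide) (f11994 H)

theorem f11996 : g 5 • path g [9, 3, 2, 6, 8, 4] p = path g [4, 2, 9, 5, 2] p :=
  scan (u := [4]) (w := [9, 0]) (i := 5) (r13_0_3 H) (step (f11992 H) rfl) (step (H.back (i := 4) (by decide) (f11767 H)) (step (H.back (i := 5) (by decide) (f7752 H)) rfl))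

theorem f11997 : g 0 • path g [4, 2, 9, 5, 2] p = path g [9, 3, 2, 6, 8, 4] p :=
  H.back (i := 5) (by decide) (f11996 H)

theorem f11998 : g 0 • path g [9, 3, 2, 6, 8, 4] p = path g [4, 2, 9, 5, 2] p :=
  scan (u := [4]) (w := [9, 5]) (i := 0) (r13_1_2 H) (step (f11992 H) rfl) (step (H.back (i := 4) (by decide) (f11767 H)) (step (H.back (i := 0) (by decide) (f7749 H)) rfl))

theorem f11999 : g 5 • path g [4, 2, 9, 5, 2] p = path g [9, 3, 2, 6, 8, 4] p :=
  H.back (i := 0) (by decide) (f11998 H)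

theorem f12000 : g 6 • path g [9, 3, 2, 6, 8, 4] p = path g [9, 2, 4, 8, 5, 8] p :=
  scan (u := [4]) (w := [9, 1]) (i := 6) (r14_0_1 H) (step (f11992 H) rfl) (step (H.back (i := 4) (by decide) (f11991 H)) (step (H.back (i := 6) (by decide) (f11978 H)) rfl))

theorem f12001 : g 1 • path g [9, 2, 4, 8, 5, 8] p = path g [9, 3, 2, 6, 8, 4] p :=
  H.back (i := 6) (by decide) (f12000 H)

theorem f12002 : g 2 • path g [9, 3, 2, 6, 8, 4] p = path g [9, 3, 2, 6, 8, 4] p :=
  scan (u := [4]) (w := [0, 2, 0, 2, 0, 2, 0, 4, 5, 7, 5, 7, 5, 7, 5, 7]) (i := 2) (r11_0_14 H) (step (f11992 H) rfl) (step (H.back (i := 5) (by decide) (f11999 H)) (step (H.back (i := 7) (by decide) (f5212 H)) (step (H.back (i := 5) (by decide) (f1256 H)) (step (H.back (i := 7) (by decide) (f11400 H)) (step (H.back (i := 5) (by decide) (f518 H)) (step (H.back (i := 7) (by decide) (f3451 H)) (step (H.back (i := 5) (by decide) (f11752 H)) (step (H.back (i := 9) (by decide) (f11757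 H)) (step (H.back (i := 0) (by decide) (f7674 H)) (step (H.back (i := 2) (by decide) (f7676 H)) (step (H.back (i := 0) (by decide) (f4480 H)) (step (H.back (i := 2) (by decide) (f4470 H)) (step (H.back (i := 0) (by decide) (f4483 H)) (step (H.back (i := 2) (by decide) (f7757 H)) (step (H.back (i := 0) (by decide) (f11818 H)) (step (H.back (i := 2) (by decide) (f11817 H)) rfl))))))))))))))))

theorem f12004 : g 3 • path g [8, 6, 8, 1, 4] p = path g [9, 3, 2, 6, 8, 4] p :=
  scan (u := [0, 2, 0, 1, 2, 0, 1, 8, 7]) (w := []) (i := 3) (r7_1_1 H) (step (f11998 H) (step (f5211 H) (step (f1257 H) (step (f350 H) (step (f11335 H) (step (f519 H) (step (f3441 H) (step (f11708 H) (step (f11718 H) rfl))))))))) rfl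

theorem f12005 : g 8 • path g [9, 3, 2, 6, 8, 4] p = path g [8, 6, 8, 1, 4] p :=
  H.back (i := 3) (by decide) (f12004 H)

theorem f12006 : g 9 • path g [9, 3, 2, 6, 3] p = path g [9, 3, 2, 6, 3, 9] p :=
  rfl

theorem f12007 : g 4 • path g [9, 3, 2, 6, 3, 9] p = path g [9, 3, 2, 6, 3] p :=
  H.back (i := 9) (by decide) (f12006 H)

theorem f12008 : g 9 • path g [9, 3, 2, 6, 3, 9] p = path g [9, 3, 2, 9, 6, 8] p :=
  scan (u := [9]) (w := [9]) (i := 9) (r10_1_0 H) (step (f12006 H) rfl) (step (H.back (i := 4) (by decide) (f11973 H)) rfl)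

theorem f12009 : g 4 • path g [9, 3, 2, 9, 6, 8] p = path g [9, 3, 2, 6, 3, 9] p :=
  H.back (i := 9) (by decide) (f12008 H)

theorem f12010 : g 1 • path g [9, 3, 2, 6, 3, 9] p = path g [4, 2, 9, 3, 5] p :=
  scan (u := [9]) (w := [4, 6]) (i := 1) (r14_0_3 H) (step (f12006 H) rfl) (step (H.back (i := 9) (by decide) (f5390 H)) (step (H.back (i := 1) (by decide) (f9478 H)) rfl))

theorem f12011 : g 6 • path g [4, 2, 9, 3, 5] p = path g [9, 3, 2, 6, 3, 9] p :=
  H.back (i := 1) (by decide) (f12010 H)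

theorem f12012 : g 6 • path g [9, 3, 2, 6, 3, 9] p = path g [8, 1, 8, 1, 3] p :=
  scan (u := [9]) (w := [4, 1]) (i := 6) (r14_1_2 H) (step (f12006 H) rfl) (step (H.back (i := 9) (by decide) (f11168 H)) (step (H.back (i := 6) (by decide) (f8182 H)) rfl))

theorem f12013 : g 1 • path g [8, 1, 8, 1, 3] p = path g [9, 3, 2, 6, 3, 9] p :=
  H.back (i := 6) (by decide) (f12012 H)

theorem f12014 : g 8 • path g [9, 3, 2, 6, 3, 9] p = path g [9, 3, 2, 6, 8, 4] p :=
  scan (u := [9]) (w := [9, 8]) (i := 8) (r15_1_1 H) (step (f12006 H) rfl) (step (H.back (i := 4) (by decide) (f11992 H)) (step (H.back (i := 3) (by decide) (f3645 H)) rfl))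

theorem f12015 : g 3 • path g [9, 3, 2, 6, 8, 4] p = path g [9, 3, 2, 6, 3, 9] p :=
  H.back (i := 8) (by decide) (f12014 H)

theorem f12016 : g 8 • path g [8, 6, 8, 1, 4] p = path g [9, 3, 2, 6, 3, 9] p :=
  scan (u := [8, 8]) (w := []) (i := 8) (r6_1_0 H) (step (f12014 H) (step (f12005 H) rfl)) rfl

theorem f12017 : g 3 • path g [9, 3, 2, 6, 3, 9] p = path g [8, 6, 8, 1, 4] p :=
  H.back (i := 8) (by decide) (f12016 H)

theorem f12018 : g 7 • path g [9, 3, 2, 6, 3, 9] p = path g [9, 3, 9, 2, 8, 4] p :=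
  scan (u := [8]) (w := [3, 0, 2, 0, 1, 2, 0, 1]) (i := 7) (r7_1_8 H) (step (f12016 H) rfl) (step (H.back (i := 8) (by decide) (f11907 H)) (step (H.back (i := 5) (by decide) (f10120 H)) (step (H.back (i := 7) (by decide) (f8027 H)) (step (H.back (i := 5) (by decide) (f3591 H)) (step (H.back (i := 6) (by decide) (f8063 H)) (step (H.back (i := 7) (by decide) (f4588 H)) (step (H.back (i := 5) (by decide) (f6497 H)) (step (H.back (i := 6) (by decide) (f4117 H)) rfl))))))))

theorem f12019 : g 2 • path g [9, 3, 9, 2, 8, 4] p = path g [9, 3, 2, 6, 3, 9] p :=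
  H.back (i := 7) (by decide) (f12018 H)

theorem f12020 : g 7 • path g [9, 3, 9, 2, 8, 4] p = path g [9, 3, 2, 6, 3, 9] p :=
  scan (u := [7]) (w := []) (i := 7) (r2_1_0 H) (step (f12018 H) rfl) rfl

theorem f12021 : g 2 • path g [9, 3, 2, 6, 3, 9] p = path g [9, 3, 9, 2, 8, 4] p :=
  H.back (i := 7) (by decide) (f12020 H)

theorem f12022 : g 1 • path g [9, 3, 2, 1, 8] p = path g [9, 3, 2, 1, 8, 1] p :=
  rfl

theorem f12024 : g 1 • path g [9, 3, 2, 1, 8, 1] p = path g [3, 9, 6, 8, 2] p :=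
  scan (u := [1]) (w := [1]) (i := 1) (r1_0_0 H) (step (f12022 H) rfl) (step (H.back (i := 6) (by decide) (f10787 H)) rfl)

theorem f12026 : g 2 • path g [9, 3, 2, 1, 8, 1] p = path g [3, 9, 6, 8, 1] p :=
  scan (u := [1]) (w := [1, 2]) (i := 2) (r3_0_0 H) (step (f12022 H) rfl) (step (H.back (i := 6) (by decide) (f10843 H)) (step (H.back (i := 7) (by decide) (f3887 H)) rfl))

theorem f12028 : g 4 • path g [9, 3, 2, 1, 8, 1] p = path g [4, 8, 2, 8, 6] p :=
  scan (u := [1]) (w := [6, 9]) (i := 4) (r14_0_0 H) (step (f12022 H) rfl) (step (H.back (i := 1) (by decide) (f5009 H)) (step (H.back (i := 4) (by decide) (f10761 H)) rfl))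

theorem f12030 : g 9 • path g [9, 3, 2, 1, 8, 1] p = path g [8, 1, 4, 2, 3] p :=
  scan (u := [1]) (w := [6, 4]) (i := 9) (r14_1_1 H) (step (f12022 H) rfl) (step (H.back (i := 1) (by decide) (f9004 H)) (step (H.back (i := 9) (by decide) (f10763 H)) rfl))

theorem f12031 : g 4 • path g [8, 1, 4, 2, 3] p = path g [9, 3, 2, 1, 8, 1] p :=
  H.back (i := 9) (by decide) (f12030 H)

theorem f12032 : g 0 • path g [9, 3, 2, 1, 8, 1] p = path g [4, 2, 3, 9, 2] p :=
  scan (u := [1]) (w := [1, 0, 6, 6, 0]) (i := 0) (r4_0_4 H) (step (f12022 H) rfl) (step (H.back (i := 6) (by decide) (f11505 H)) (step (H.back (i := 5) (by decide) (f3764 H)) (step (H.back (i := 1) (by decide) (f3773 H)) (step (H.back (i := 1) (by decide) (f10770 H)) (step (H.back (i := 5) (by decide) (f10781 H)) rfl)))))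

theorem f12034 : g 5 • path g [9, 3, 2, 1, 8, 1] p = path g [4, 2, 3, 9, 2] p :=
  scan (u := [1]) (w := [6, 5, 6, 5, 1]) (i := 5) (r4_1_5 H) (step (f12022 H) rfl) (step (H.back (i := 1) (by decide) (f11514 H)) (step (H.back (i := 0) (by decide) (f9713 H)) (step (H.back (i := 1) (by decide) (f10153 H)) (step (H.back (i := 0) (by decide) (f8444 H)) (step (H.back (i := 6) (by decide) (f10787 H)) rfl)))))

theorem f12035 : g 0 • path g [4, 2, 3, 9, 2] p = path g [9, 3, 2, 1, 8, 1] p :=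
  H.back (i := 5) (by decide) (f12034 H)

theorem f12036 : g 3 • path g [4, 2, 9, 5, 2] p = path g [9, 3, 2, 1, 8, 1] p :=
  scan (u := [5, 6, 7, 5, 6, 8, 0, 2, 0, 2]) (w := []) (i := 3) (r8_0_4 H) (step (f12034 H) (step (f11512 H) (step (f9777 H) (step (f10051 H) (step (f2874 H) (step (f10727 H) (step (f520 H) (step (f11401 H) (step (f1259 H) (step (f5209 H) rfl)))))))))) rfl

theorem f12038 : g 3 • path g [9, 3, 2, 1, 8, 1] p = path g [8, 9, 2, 4, 2] p :=
  scan (u := [3]) (w := [3]) (i := 3) (r6_0_0 H) (step (f12036 H) rfl) (step (H.back (i := 8) (by decide) (f11781 H)) rfl)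

theorem f12039 : g 8 • path g [8, 9, 2, 4, 2] p = path g [9, 3, 2, 1, 8, 1] p :=
  H.back (i := 3) (by decide) (f12038 H)

theorem f12040 : g 2 • path g [3, 9, 6, 8, 1] p = path g [9, 3, 2, 1, 8, 1] p :=
  scan (u := [0, 1, 2, 0, 1, 8, 7, 3, 0]) (w := []) (i := 2) (r7_1_3 H) (step (f12032 H) (step (f11503 H) (step (f10136 H) (step (f9899 H) (step (f3743 H) (step (f11907 H) (step (f12020 H) (step (f12017 H) (step (f7200 H) rfl))))))))) rfl

theorem f12041 : g 7 • path g [9, 3, 2, 1, 8, 1] p = path g [3, 9, 6, 8, 1] p :=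
  H.back (i := 2) (by decide) (f12040 H)

theorem f12042 : g 5 • path g [9, 3, 2, 4, 8] p = path g [9, 3, 2, 4, 8, 5] p :=
  rfl

theorem f12043 : g 0 • path g [9, 3, 2, 4, 8, 5] p = path g [9, 3, 2, 4, 8] p :=
  H.back (i := 5) (by decide) (f12042 H)

theorem f12044 : g 5 • path g [9, 3, 2, 4, 8, 5] p = path g [9, 3, 2, 4, 8] p :=
  scan (u := [5]) (w := []) (i := 5) (r0_1_0 H) (step (f12042 H) rfl) rfl

theorem f12045 : g 0 • path g [9, 3, 2, 4, 8] p = path g [9, 3, 2, 4, 8, 5] p :=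
  H.back (i := 5) (by decide) (f12044 H)

theorem f12046 : g 9 • path g [9, 3, 2, 4, 8, 5] p = path g [9, 3, 2, 9, 3, 5] p :=
  scan (u := [5]) (w := [0, 4]) (i := 9) (r13_0_0 H) (step (f12042 H) rfl) (step (H.back (i := 5) (by decide) (f11960 H)) (step (H.back (i := 9) (by decide) (f3683 H)) rfl))

theorem f12047 : g 4 • path g [9, 3, 2, 9, 3, 5] p = path g [9, 3, 2, 4, 8, 5] p :=
  H.back (i := 9) (by decide) (f12046 H)

theorem f12048 : g 7 • path g [9, 3, 2, 4, 8, 5] p = path g [8, 1, 8, 6, 4] p :=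
  scan (u := [5]) (w := [6, 5, 7, 5, 8, 2, 3, 6]) (i := 7) (r7_0_3 H) (step (f12042 H) rfl) (step (H.back (i := 1) (by decide) (f9419 H)) (step (H.back (i := 0) (by decide) (f8341 H)) (step (H.back (i := 2) (by decide) (f8354 H)) (step (H.back (i := 0) (by decide) (f2914 H)) (step (H.back (i := 3) (by decide) (f438 H)) (step (H.back (i := 7) (by decide) (f2930 H)) (step (H.back (i := 8) (by decide) (f7690 H)) (step (H.back (i := 1) (by decide) (f11205 H)) rfl))))))))

theorem f12049 : g 2 • path g [8, 1, 8, 6, 4] p = path g [9, 3, 2, 4, 8, 5] p :=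
  H.back (i := 7) (by decide) (f12048 H)

theorem f12050 : g 6 • path g [9, 3, 2, 4, 8, 5] p = path g [8, 1, 8, 4, 2] p :=
  scan (u := [5]) (w := [8, 0, 2, 0, 2, 3, 5, 6, 7]) (i := 6) (r8_0_7 H) (step (f12042 H) rfl) (step (H.back (i := 3) (by decide) (f7351 H)) (step (H.back (i := 5) (by decide) (f3703 H)) (step (H.back (i := 7) (by decide) (f960 H)) (step (H.back (i := 5) (by decide) (f2848 H)) (step (H.back (i := 7) (by decide) (f660 H)) (step (H.back (i := 8) (by decide) (f3874 H)) (step (H.back (i := 0) (by decide) (f7680 H)) (step (H.back (i := 1) (by decide) (f11205 H)) (step (H.back (i := 2) (by decide) (f9441 H)) rfl)))))))))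

theorem f12051 : g 1 • path g [8, 1, 8, 4, 2] p = path g [9, 3, 2, 4, 8, 5] p :=
  H.back (i := 6) (by decide) (f12050 H)

theorem f12052 : g 6 • path g [4, 8, 2, 6, 8] p = path g [9, 3, 2, 4, 8, 5] p :=
  scan (u := [5, 6, 8, 0, 2, 0, 1, 2, 0, 1, 3, 5]) (w := [5, 7]) (i := 6) (r9_0_1 H) (step (f12042 H) (step (f12050 H) (step (f7350 H) (step (f3704 H) (step (f961 H) (step (f2073 H) (step (f182 H) (step (f670 H) (step (f3892 H) (step (f5273 H) (step (f9660 H) (step (f9657 H) rfl)))))))))))) (step (H.back (i := 0) (by decide) (f12045 H)) (step (H.back (i := 2) (by decide) (f9441 H)) rfl))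

theorem f12053 : g 1 • path g [9, 3, 2, 4, 8, 5] p = path g [4, 8, 2, 6, 8] p :=
  H.back (i := 6) (by decide) (f12052 H)

theorem f12054 : g 7 • path g [8, 1, 8, 6, 4] p = path g [9, 3, 2, 4, 8, 5] p :=
  scan (u := [5, 7, 5, 7, 4, 2, 0, 2, 0, 2, 0, 2, 0, 4, 5]) (w := [5, 7]) (i := 7) (r11_0_10 H) (step (f12042 H) (step (f12048 H) (step (f4883 H) (step (f8841 H) (step (f2941 H) (step (f1142 H) (step (f6272 H) (step (f4178 H) (step (f4303 H) (step (f4433 H) (step (f6630 H) (step (f886 H) (step (f4325 H) (step (f4876 H) (step (f4880 H) rfl))))))))))))))) (step (H.back (i := 0) (by decide) (f12045 H)) (step (H.back (i := 2) (by decide) (f9441 H)) rfl))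

theorem f12055 : g 2 • path g [9, 3, 2, 4, 8, 5] p = path g [8, 1, 8, 6, 4] p :=
  H.back (i := 7) (by decide) (f12054 H)

theorem f12056 : g 3 • path g [9, 3, 6, 8, 6] p = path g [9, 3, 6, 8, 6, 3] p :=
  rfl

theorem f12058 : g 3 • path g [9, 3, 6, 8, 6, 3] p = path g [9, 3, 9, 2, 8, 4] p :=
  scan (u := [3]) (w := [3]) (i := 3) (r6_0_0 H) (step (f12056 H) rfl) (step (H.back (i := 8) (by decide) (f11907 H)) rfl)

theorem f12060 : g 4 • path g [9, 3, 6, 8, 6, 3] p = path g [9, 3, 9, 2, 9, 3] p :=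
  scan (u := [3]) (w := [3, 4]) (i := 4) (r15_0_1 H) (step (f12056 H) rfl) (step (H.back (i := 8) (by decide) (f11879 H)) (step (H.back (i := 9) (by decide) (f5130 H)) rfl))

theorem f12061 : g 9 • path g [9, 3, 9, 2, 9, 3] p = path g [9, 3, 6, 8, 6, 3] p :=
  H.back (i := 4) (by decide) (f12060 H)

theorem f12062 : g 4 • path g [9, 3, 9, 2, 4, 8] p = path g [9, 3, 6, 8, 6, 3] p :=
  scan (u := [4, 4]) (w := []) (i := 4) (r10_0_0 H) (step (f12060 H) (step (f11913 H) rfl)) rfl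

theorem f12064 : g 5 • path g [9, 3, 6, 8, 6, 3] p = path g [9, 2, 4, 8, 5, 8] p :=
  scan (u := [4]) (w := [9, 0]) (i := 5) (r13_0_3 H) (step (f12062 H) rfl) (step (H.back (i := 4) (by decide) (f11991 H)) (step (H.back (i := 5) (by decide) (f11985 H)) rfl))

theorem f12065 : g 0 • path g [9, 2, 4, 8, 5, 8] p = path g [9, 3, 6, 8, 6, 3] p :=
  H.back (i := 5) (by decide) (f12064 H)

theorem f12066 : g 0 • path g [9, 3, 6, 8, 6, 3] p = path g [9, 2, 4, 8, 5, 8] p :=
  scan (u := [4]) (w := [9, 5]) (i := 0) (r13_1_2 H) (step (f12062 H) rfl) (step (H.back (i := 4) (by decide) (f11991 H)) (step (H.back (i := 0) (by decide) (f11987 H)) rfl))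

theorem f12067 : g 5 • path g [9, 2, 4, 8, 5, 8] p = path g [9, 3, 6, 8, 6, 3] p :=
  H.back (i := 0) (by decide) (f12066 H)

theorem f12068 : g 2 • path g [9, 3, 6, 8, 6, 3] p = path g [9, 3, 2, 9, 3, 5] p :=
  scan (u := [4]) (w := [0, 2, 0, 2, 0, 2, 0, 4, 5, 7, 5, 7, 5, 7, 5, 7]) (i := 2) (r11_0_14 H) (step (f12062 H) rfl) (step (H.back (i := 5) (by decide) (f11960 H)) (step (H.back (i := 7) (by decide) (f11941 H)) (step (H.back (i := 5) (by decide) (f11947 H)) (step (H.back (i := 7) (by decide) (f11479 H)) (step (H.back (i := 5) (by decide) (f11949 H)) (step (H.back (i := 7) (by decide) (f11943 H)) (step (H.back (i := 5) (by decide) (f11962 H)) (step (H.back (i := 9) (by decide) (f12046 H)) (step (H.back (i := 0) (by decide) (f12045 H)) (step (H.back (i := 2) (by decide) (f9441 H)) (step (H.back (i := 0) (by decide) (f12043 H)) (step (H.back (i := 2) (by decide) (f12049 H)) (step (H.back (i := 0) (by decide) (f4882 H)) (step (H.back (i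 := 2) (by decide) (f8843 H)) (step (H.back (i := 0) (by decide) (f4330 H)) (step (H.back (i := 2) (by decide) (f11918 H)) rfl))))))))))))))))

theorem f12069 : g 7 • path g [9, 3, 2, 9, 3, 5] p = path g [9, 3, 6, 8, 6, 3] p :=
  H.back (i := 2) (by decide) (f12068 H)

theorem f12070 : g 2 • path g [9, 3, 2, 9, 3, 5] p = path g [9, 3, 6, 8, 6, 3] p :=
  scan (u := [2]) (w := []) (i := 2) (r2_0_0 H) (step (f12068 H) rfl) rfl

theorem f12071 : g 7 • path g [9, 3, 6, 8, 6, 3] p = path g [9, 3, 2, 9, 3, 5] p :=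
  H.back (i := 2) (by decide) (f12070 H)

theorem f12072 : g 3 • path g [9, 3, 1, 8, 1] p = path g [9, 3, 1, 8, 1, 3] p :=
  rfl

theorem f12074 : g 3 • path g [9, 3, 1, 8, 1, 3] p = path g [8, 4, 2, 5, 4] p :=
  scan (u := [3]) (w := [3]) (i := 3) (r6_0_0 H) (step (f12072 H) rfl) (step (H.back (i := 8) (by decide) (f8611 H)) rfl)

theorem f12076 : g 4 • path g [9, 3, 1, 8, 1, 3] p = path g [9, 2, 9, 5, 1, 3] p :=
  scan (u := [3]) (w := [3, 4]) (i := 4) (r15_0_1 H) (step (f12072 H) rfl) (step (H.back (i := 8) (by decide) (f8582 H)) (step (H.back (i := 9) (by decide) (f5174 H)) rfl))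

theorem f12078 : g 4 • path g [9, 2, 5, 1, 4, 8] p = path g [9, 3, 1, 8, 1, 3] p :=
  scan (u := [4, 4]) (w := []) (i := 4) (r10_0_0 H) (step (f12076 H) (step (f11713 H) rfl)) rfl

theorem f12080 : g 5 • path g [9, 3, 1, 8, 1, 3] p = path g [9, 2, 9, 3, 5, 3] p :=
  scan (u := [4]) (w := [9, 0]) (i := 5) (r13_0_3 H) (step (f12078 H) rfl) (step (H.back (i := 4) (by decide) (f11808 H)) (step (H.back (i := 5) (by decide) (f11716 H)) rfl))

theorem f12081 : g 0 • path g [9, 2, 9, 3, 5, 3] p = path g [9, 3, 1, 8, 1, 3] p :=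
  H.back (i := 5) (by decide) (f12080 H)

theorem f12082 : g 0 • path g [9, 3, 1, 8, 1, 3] p = path g [9, 2, 9, 3, 5, 3] p :=
  scan (u := [4]) (w := [9, 5]) (i := 0) (r13_1_2 H) (step (f12078 H) rfl) (step (H.back (i := 4) (by decide) (f11808 H)) (step (H.back (i := 0) (by decide) (f11715 H)) rfl))

theorem f12083 : g 5 • path g [9, 2, 9, 3, 5, 3] p = path g [9, 3, 1, 8, 1, 3] p :=
  H.back (i := 0) (by decide) (f12082 H)

theorem f12084 : g 1 • path g [9, 3, 1, 8, 1, 3] p = path g [9, 2, 9, 8, 2, 3] p :=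
  scan (u := [4]) (w := [9, 6]) (i := 1) (r14_1_0 H) (step (f12078 H) rfl) (step (H.back (i := 4) (by decide) (f11550 H)) (step (H.back (i := 1) (by decide) (f11723 H)) rfl))

theorem f12085 : g 6 • path g [9, 2, 9, 8, 2, 3] p = path g [9, 3, 1, 8, 1, 3] p :=
  H.back (i := 1) (by decide) (f12084 H)

theorem f12086 : g 2 • path g [9, 3, 1, 8, 1, 3] p = path g [9, 3, 1, 8, 1, 3] p :=
  scan (u := [0, 2, 3, 5, 6, 7, 5, 6, 8, 0]) (w := []) (i := 2) (r8_0_1 H) (step (f12082 H) (step (f11607 H) (step (f6199 H) (step (f4329 H) (step (f4267 H) (step (f8134 H) (step (f7964 H) (step (f9479 H) (step (f11604 H) (step (f12081 H) rfl)))))))))) rfl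

theorem f12087 : g 7 • path g [9, 3, 1, 8, 1, 3] p = path g [9, 3, 1, 8, 1, 3] p :=
  H.back (i := 2) (by decide) (f12086 H)

theorem f12088 : g 5 • path g [8, 9, 2, 9, 3] p = path g [8, 9, 2, 9, 3, 5] p :=
  rfl

theorem f12089 : g 0 • path g [8, 9, 2, 9, 3, 5] p = path g [8, 9, 2, 9, 3] p :=
  H.back (i := 5) (by decide) (f12088 H)

theorem f12090 : g 5 • path g [8, 9, 2, 9, 3, 5] p = path g [8, 9, 2, 9, 3] p :=
  scan (u := [5]) (w := []) (i := 5) (r0_1_0 H) (step (f12088 H) rfl) rfl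

theorem f12091 : g 0 • path g [8, 9, 2, 9, 3] p = path g [8, 9, 2, 9, 3, 5] p :=
  H.back (i := 5) (by decide) (f12090 H)

theorem f12092 : g 6 • path g [8, 9, 2, 9, 3, 5] p = path g [9, 2, 8, 1, 4, 8] p :=
  scan (u := [5]) (w := [5, 1, 1, 5, 6]) (i := 6) (r4_1_1 H) (step (f12088 H) rfl) (step (H.back (i := 0) (by decide) (f11674 H)) (step (H.back (i := 6) (by decide) (f7612 H)) (step (H.back (i := 6) (by decide) (f7603 H)) (step (H.back (i := 0) (by decide) (f7596 H)) (step (H.back (i := 1) (by decide) (f9447 H)) rfl)))))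

theorem f12093 : g 1 • path g [9, 2, 8, 1, 4, 8] p = path g [8, 9, 2, 9, 3, 5] p :=
  H.back (i := 6) (by decide) (f12092 H)

theorem f12094 : g 7 • path g [8, 9, 2, 9, 3, 5] p = path g [8, 9, 2, 9, 3, 5] p :=
  scan (u := [5]) (w := [6, 5, 7, 5, 8, 2, 3, 6]) (i := 7) (r7_0_3 H) (step (f12088 H) rfl) (step (H.back (i := 1) (by decide) (f12093 H)) (step (H.back (i := 0) (by decide) (f11674 H)) (step (H.back (i := 2) (by decide) (f7615 H)) (step (H.back (i := 0) (by decide) (f3013 H)) (step (H.back (i := 3) (by decide) (f8558 H)) (step (H.back (i := 7) (by decide) (f8581 H)) (step (H.back (i := 8) (by decide) (f9024 H)) (step (H.back (i := 1) (by decide) (f9447 H)) rfl))))))))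

theorem f12095 : g 2 • path g [8, 9, 2, 9, 3, 5] p = path g [8, 9, 2, 9, 3, 5] p :=
  H.back (i := 7) (by decide) (f12094 H)

theorem f12096 : g 3 • path g [9, 2, 9, 5, 3, 5] p = path g [8, 9, 2, 9, 3, 5] p :=
  scan (u := [6, 5, 7, 6, 5, 7, 5, 8, 2]) (w := []) (i := 3) (r7_0_2 H) (step (f12092 H) (step (f11675 H) (step (f7616 H) (step (f3010 H) (step (f3016 H) (step (f7614 H) (step (f11672 H) (step (f11666 H) (step (f9673 H) rfl))))))))) rfl

theorem f12097 : g 8 • path g [8, 9, 2, 9, 3, 5] p = path g [9, 2, 9, 5, 3, 5] p :=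
  H.back (i := 3) (by decide) (f12096 H)

theorem f12098 : g 4 • path g [8, 9, 2, 6, 5] p = path g [8, 9, 2, 6, 5, 4] p :=
  rfl

theorem f12100 : g 4 • path g [8, 9, 2, 6, 5, 4] p = path g [3, 1, 8, 1, 3] p :=
  scan (u := [4]) (w := [4]) (i := 4) (r10_0_0 H) (step (f12098 H) rfl) (step (H.back (i := 9) (by decide) (f8964 H)) rfl)

theorem f12102 : g 5 • path g [8, 9, 2, 6, 5, 4] p = path g [8, 9, 2, 6, 4] p :=
  scan (u := [4]) (w := [9, 0]) (i := 5) (r13_0_3 H) (step (f12098 H) rfl) (step (H.back (i := 4) (by decide) (f3877 H)) (step (H.back (i := 5) (by decide) (f3861 H)) rfl))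

theorem f12103 : g 0 • path g [8, 9, 2, 6, 4] p = path g [8, 9, 2, 6, 5, 4] p :=
  H.back (i := 5) (by decide) (f12102 H)

theorem f12104 : g 0 • path g [8, 9, 2, 6, 5, 4] p = path g [8, 9, 2, 6, 4] p :=
  scan (u := [4]) (w := [9, 5]) (i := 0) (r13_1_2 H) (step (f12098 H) rfl) (step (H.back (i := 4) (by decide) (f3877 H)) (step (H.back (i := 0) (by decide) (f3860 H)) rfl))

theorem f12106 : g 6 • path g [8, 9, 2, 6, 5, 4] p = path g [8, 1, 8, 6, 3] p :=
  scan (u := [4]) (w := [9, 1]) (i := 6) (r14_0_1 H) (step (f12098 H) rfl) (step (H.back (i := 4) (by decide) (f11452 H)) (step (H.back (i := 6) (by decide) (f5068 H)) rfl))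

theorem f12107 : g 1 • path g [8, 1, 8, 6, 3] p = path g [8, 9, 2, 6, 5, 4] p :=
  H.back (i := 6) (by decide) (f12106 H)

theorem f12108 : g 1 • path g [8, 9, 2, 6, 5, 4] p = path g [4, 8, 5, 2, 4] p :=
  scan (u := [4]) (w := [9, 6]) (i := 1) (r14_1_0 H) (step (f12098 H) rfl) (step (H.back (i := 4) (by decide) (f5077 H)) (step (H.back (i := 1) (by decide) (f3869 H)) rfl))

theorem f12110 : g 3 • path g [8, 9, 2, 6, 5, 4] p = path g [9, 8, 2, 5, 6, 4] p :=
  scan (u := [4]) (w := [4, 3]) (i := 3) (r15_0_0 H) (step (f12098 H) rfl) (step (H.back (i := 9) (by decide) (f5579 H)) (step (H.back (i := 8) (by decide) (f8967 H)) rfl))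

theorem f12111 : g 8 • path g [9, 8, 2, 5, 6, 4] p = path g [8, 9, 2, 6, 5, 4] p :=
  H.back (i := 3) (by decide) (f12110 H)

theorem f12112 : g 2 • path g [8, 9, 2, 6, 5, 4] p = path g [9, 2, 5, 4, 8, 5] p :=
  scan (u := [4]) (w := [0, 2, 0, 2, 0, 2, 0, 4, 5, 7, 5, 7, 5, 7, 5, 7]) (i := 2) (r11_0_14 H) (step (f12098 H) rfl) (step (H.back (i := 5) (by decide) (f11738 H)) (step (H.back (i := 7) (by decide) (f11259 H)) (step (H.back (i := 5) (by decide) (f10985 H)) (step (H.back (i := 7) (by decide) (f5303 H)) (step (H.back (i := 5) (by decide) (f3813 H)) (step (H.back (i := 7) (by decide) (f3914 H)) (step (H.back (i := 5) (by decide) (f11056 H)) (step (H.back (i := 9) (by decide) (f3606 H)) (step (H.back (i := 0) (by decide) (f2516 H)) (step (H.back (i := 2) (by decide) (f920 H)) (step (H.back (i := 0) (by decide) (f2845 H)) (step (H.back (i := 2) (by decide) (f385 H)) (step (H.back (i := 0) (by decide) (f1749 H)) (step (H.back (i := 2) (by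 decide) (f1181 H)) (step (H.back (i := 0) (by decide) (f1623 H)) (step (H.back (i := 2) (by decide) (f3868 H)) rfl))))))))))))))))

theorem f12114 : g 2 • path g [9, 2, 5, 4, 8, 5] p = path g [8, 9, 2, 6, 5, 4] p :=
  scan (u := [2]) (w := []) (i := 2) (r2_0_0 H) (step (f12112 H) rfl) rfl

theorem f12116 : g 3 • path g [9, 2, 5, 4, 2, 5] p = path g [8, 9, 2, 6, 5, 4] p :=
  scan (u := [3, 3]) (w := []) (i := 3) (r6_0_0 H) (step (f12110 H) (step (f11761 H) rfl)) rfl

theorem f12118 : g 1 • path g [8, 9, 2, 6, 3] p = path g [8, 9, 2, 6, 3, 1] p :=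
  rfl

theorem f12120 : g 1 • path g [8, 9, 2, 6, 3, 1] p = path g [9, 2, 9, 5, 3, 5] p :=
  scan (u := [1]) (w := [1]) (i := 1) (r1_0_0 H) (step (f12118 H) rfl) (step (H.back (i := 6) (by decide) (f9656 H)) rfl)

theorem f12121 : g 6 • path g [9, 2, 9, 5, 3, 5] p = path g [8, 9, 2, 6, 3, 1] p :=
  H.back (i := 1) (by decide) (f12120 H)

theorem f12122 : g 2 • path g [8, 9, 2, 6, 3, 1] p = path g [9, 8, 2, 9, 2, 5] p :=
  scan (u := [1]) (w := [1, 2]) (i := 2) (r3_0_0 H) (step (f12118 H) rfl) (step (H.back (i := 6) (by decide) (f8993 H)) (step (H.back (i := 7) (by decide) (f7677 H)) rfl))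

theorem f12124 : g 4 • path g [8, 9, 2, 6, 3, 1] p = path g [9, 8, 6, 3, 1, 3] p :=
  scan (u := [1]) (w := [6, 9]) (i := 4) (r14_0_0 H) (step (f12118 H) rfl) (step (H.back (i := 1) (by decide) (f11703 H)) (step (H.back (i := 4) (by decide) (f11156 H)) rfl))

theorem f12126 : g 9 • path g [8, 9, 2, 6, 3, 1] p = path g [9, 2, 5, 6, 4, 2] p :=
  scan (u := [1]) (w := [6, 4]) (i := 9) (r14_1_1 H) (step (f12118 H) rfl) (step (H.back (i := 1) (by decide) (f11696 H)) (step (H.back (i := 9) (by decide) (f11440 H)) rfl))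

theorem f12127 : g 4 • path g [9, 2, 5, 6, 4, 2] p = path g [8, 9, 2, 6, 3, 1] p :=
  H.back (i := 9) (by decide) (f12126 H)

theorem f12128 : g 0 • path g [8, 9, 2, 6, 3, 1] p = path g [8, 1, 8, 4, 2] p :=
  scan (u := [1]) (w := [1, 0, 6, 6, 0]) (i := 0) (r4_0_4 H) (step (f12118 H) rfl) (step (H.back (i := 6) (by decide) (f12050 H)) (step (H.back (i := 5) (by decide) (f12042 H)) (step (H.back (i := 1) (by decide) (f11203 H)) (step (H.back (i := 1) (by decide) (f9013 H)) (step (H.back (i := 5) (by decide) (f7681 H)) rfl)))))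

theorem f12129 : g 5 • path g [8, 1, 8, 4, 2] p = path g [8, 9, 2, 6, 3, 1] p :=
  H.back (i := 0) (by decide) (f12128 H)

theorem f12130 : g 5 • path g [8, 9, 2, 6, 3, 1] p = path g [8, 1, 8, 4, 2] p :=
  scan (u := [1]) (w := [6, 5, 6, 5, 1]) (i := 5) (r4_1_5 H) (step (f12118 H) rfl) (step (H.back (i := 1) (by decide) (f9664 H)) (step (H.back (i := 0) (by decide) (f9662 H)) (step (H.back (i := 1) (by decide) (f7631 H)) (step (H.back (i := 0) (by decide) (f7626 H)) (step (H.back (i := 6) (by decide) (f9656 H)) rfl)))))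

theorem f12131 : g 0 • path g [8, 1, 8, 4, 2] p = path g [8, 9, 2, 6, 3, 1] p :=
  H.back (i := 5) (by decide) (f12130 H)

theorem f12132 : g 8 • path g [8, 9, 2, 6, 3, 1] p = path g [9, 2, 9, 5, 3, 1] p :=
  scan (u := [1]) (w := [7, 3, 0, 2, 0, 1, 2, 0]) (i := 8) (r7_1_7 H) (step (f12118 H) rfl) (step (H.back (i := 2) (by decide) (f9654 H)) (step (H.back (i := 8) (by decide) (f8473 H)) (step (H.back (i := 5) (by decide) (f4481 H)) (step (H.back (i := 7) (by decide) (f7677 H)) (step (H.back (i := 5) (by decide) (f7675 H)) (step (H.back (i := 6) (by decide) (f9012 H)) (step (H.back (i := 7) (by decide) (f5570 H)) (step (H.back (i := 5) (by decide) (f7681 H)) rfl))))))))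

theorem f12133 : g 3 • path g [9, 2, 9, 5, 3, 1] p = path g [8, 9, 2, 6, 3, 1] p :=
  H.back (i := 8) (by decide) (f12132 H)

theorem f12134 : g 3 • path g [8, 9, 2, 6, 3, 1] p = path g [4, 2, 8, 6, 5] p :=
  scan (u := [1]) (w := [5, 6, 5, 7, 5, 6, 8, 0, 2, 0, 1, 2, 0]) (i := 3) (r9_0_10 H) (step (f12118 H) rfl) (step (H.back (i := 0) (by decide) (f5271 H)) (step (H.back (i := 1) (by decide) (f1282 H)) (step (H.back (i := 0) (by decide) (f5073 H)) (step (H.back (i := 2) (by decide) (f5075 H)) (step (H.back (i := 0) (by decide) (f1635 H)) (step (H.back (i := 1) (by decide) (f1214 H)) (step (H.back (i := 3) (by decide) (f4474 H)) (step (H.back (i := 5) (by decide) (f4481 H)) (step (H.back (i := 7) (by decide) (f7677 H)) (step (H.back (i := 5) (by decide) (f7675 H)) (step (H.back (i := 6) (by decide) (f9012 H)) (step (H.back (i := 7) (by decide) (f5570 H)) (step (H.back (i := 5) (by decide) (f7681 H)) rfl)))))))))))))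

theorem f12136 : g 2 • path g [9, 8, 2, 9, 2, 5] p = path g [8, 9, 2, 6, 3, 1] p :=
  scan (u := [3, 6, 5, 7, 6, 5, 7, 5, 8]) (w := []) (i := 2) (r7_0_1 H) (step (f12134 H) (step (f5272 H) (step (f3891 H) (step (f671 H) (step (f183 H) (step (f2848 H) (step (f960 H) (step (f3703 H) (step (f6118 H) rfl))))))))) rfl

theorem f12138 : g 5 • path g [8, 9, 2, 4, 8] p = path g [8, 9, 2, 4, 8, 5] p :=
  rfl

theorem f12139 : g 0 • path g [8, 9, 2, 4, 8, 5] p = path g [8, 9, 2, 4, 8] p :=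
  H.back (i := 5) (by decide) (f12138 H)

theorem f12140 : g 5 • path g [8, 9, 2, 4, 8, 5] p = path g [8, 9, 2, 4, 8] p :=
  scan (u := [5]) (w := []) (i := 5) (r0_1_0 H) (step (f12138 H) rfl) rfl

theorem f12141 : g 0 • path g [8, 9, 2, 4, 8] p = path g [8, 9, 2, 4, 8, 5] p :=
  H.back (i := 5) (by decide) (f12140 H)

theorem f12142 : g 9 • path g [8, 9, 2, 4, 8, 5] p = path g [8, 9, 2, 9, 3, 5] p :=
  scan (u := [5]) (w := [0, 4]) (i := 9) (r13_0_0 H) (step (f12138 H) rfl) (step (H.back (i := 5) (by decide) (f12088 H)) (step (H.back (i := 9) (by decide) (f3911 H)) rfl))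

theorem f12143 : g 4 • path g [8, 9, 2, 9, 3, 5] p = path g [8, 9, 2, 4, 8, 5] p :=
  H.back (i := 9) (by decide) (f12142 H)

theorem f12144 : g 1 • path g [8, 9, 2, 4, 8, 5] p = path g [8, 6, 8, 9, 2] p :=
  scan (u := [5]) (w := [1, 5, 6, 5, 6]) (i := 1) (r4_1_3 H) (step (f12138 H) rfl) (step (H.back (i := 6) (by decide) (f10557 H)) (step (H.back (i := 0) (by decide) (f10567 H)) (step (H.back (i := 1) (by decide) (f10129 H)) (step (H.back (i := 0) (by decide) (f11493 H)) (step (H.back (i := 1) (by decide) (f11521 H)) rfl)))))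

theorem f12145 : g 6 • path g [8, 6, 8, 9, 2] p = path g [8, 9, 2, 4, 8, 5] p :=
  H.back (i := 1) (by decide) (f12144 H)

theorem f12146 : g 6 • path g [8, 9, 2, 4, 8, 5] p = path g [9, 8, 2, 1, 8, 2] p :=
  scan (u := [5]) (w := [5, 6, 5, 1, 1]) (i := 6) (r4_1_6 H) (step (f12138 H) rfl) (step (H.back (i := 0) (by decide) (f10567 H)) (step (H.back (i := 1) (by decide) (f10129 H)) (step (H.back (i := 0) (by decide) (f11493 H)) (step (H.back (i := 6) (by decide) (f11838 H)) (step (H.back (i := 6) (by decide) (f11829 H)) rfl)))))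

theorem f12147 : g 1 • path g [9, 8, 2, 1, 8, 2] p = path g [8, 9, 2, 4, 8, 5] p :=
  H.back (i := 6) (by decide) (f12146 H)

theorem f12148 : g 7 • path g [8, 9, 2, 4, 8, 5] p = path g [8, 6, 8, 9, 1] p :=
  scan (u := [5]) (w := [6, 5, 7, 5, 8, 2, 3, 6]) (i := 7) (r7_0_3 H) (step (f12138 H) rfl) (step (H.back (i := 1) (by decide) (f4020 H)) (step (H.back (i := 0) (by decide) (f7204 H)) (step (H.back (i := 2) (by decide) (f9891 H)) (step (H.back (i := 0) (by decide) (f8680 H)) (step (H.back (i := 3) (by decide) (f3502 H)) (step (H.back (i := 7) (by decide) (f3157 H)) (step (H.back (i := 8) (by decide) (f5781 H)) (step (H.back (i := 1) (by decide) (f11521 H)) rfl))))))))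

theorem f12149 : g 2 • path g [8, 6, 8, 9, 1] p = path g [8, 9, 2, 4, 8, 5] p :=
  H.back (i := 7) (by decide) (f12148 H)

theorem f12150 : g 3 • path g [8, 9, 2, 4, 8, 5] p = path g [9, 2, 5, 1, 4, 2] p :=
  scan (u := [5]) (w := [1, 0, 2, 1, 0, 8, 7, 5, 7]) (i := 3) (r8_1_0 H) (step (f12138 H) rfl) (step (H.back (i := 6) (by decide) (f11729 H)) (step (H.back (i := 5) (by decide) (f11752 H)) (step (H.back (i := 7) (by decide) (f11758 H)) (step (H.back (i := 6) (by decide) (f11955 H)) (step (H.back (i := 5) (by decide) (f11947 H)) (step (H.back (i := 3) (by decide) (f11515 H)) (step (H.back (i := 2) (by decide) (f5340 H)) (step (H.back (i := 0) (by decide) (f3617 H)) (step (H.back (i := 2) (by decide) (f11525 H)) rfl)))))))))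

theorem f12152 : g 7 • path g [8, 6, 8, 9, 1] p = path g [8, 9, 2, 4, 8, 5] p :=
  scan (u := [7]) (w := []) (i := 7) (r2_1_0 H) (step (f12148 H) rfl) rfl

theorem f12153 : g 2 • path g [8, 9, 2, 4, 8, 5] p = path g [8, 6, 8, 9, 1] p :=
  H.back (i := 7) (by decide) (f12152 H)

theorem f12154 : g 3 • path g [8, 9, 6, 8, 1] p = path g [8, 9, 6, 8, 1, 3] p :=
  rfl

theorem f12156 : g 3 • path g [8, 9, 6, 8, 1, 3] p = path g [9, 3, 2, 9, 2, 5] p :=
  scan (u := [3]) (w := [3]) (i := 3) (r6_0_0 H) (step (f12154 H) rfl) (step (H.back (i := 8) (by decide) (f11938 H)) rfl)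

theorem f12158 : g 4 • path g [8, 9, 6, 8, 1, 3] p = path g [8, 6, 3, 1, 8] p :=
  scan (u := [3]) (w := [3, 4]) (i := 4) (r15_0_1 H) (step (f12154 H) rfl) (step (H.back (i := 8) (by decide) (f4194 H)) (step (H.back (i := 9) (by decide) (f3935 H)) rfl))

theorem f12160 : g 4 • path g [9, 2, 8, 6, 5, 8] p = path g [8, 9, 6, 8, 1, 3] p :=
  scan (u := [4, 4]) (w := []) (i := 4) (r10_0_0 H) (step (f12158 H) (step (f11533 H) rfl)) rfl

theorem f12162 : g 0 • path g [9, 2, 8, 9, 6, 3] p = path g [8, 9, 6, 8, 1, 3] p :=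
  scan (u := [4, 5, 9]) (w := []) (i := 0) (r13_0_3 H) (step (f12158 H) (step (f11083 H) (step (f8289 H) rfl))) rfl

theorem f12164 : g 5 • path g [9, 2, 8, 9, 6, 3] p = path g [8, 9, 6, 8, 1, 3] p :=
  scan (u := [4, 0, 9]) (w := []) (i := 5) (r13_1_2 H) (step (f12158 H) (step (f11086 H) (step (f8289 H) rfl))) rfl

theorem f12165 : g 0 • path g [8, 9, 6, 8, 1, 3] p = path g [9, 2, 8, 9, 6, 3] p :=
  H.back (i := 5) (by decide) (f12164 H)

theorem f12166 : g 1 • path g [9, 3, 6, 8, 6, 3] p = path g [8, 9, 6, 8, 1, 3] p :=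
  scan (u := [4, 6, 9]) (w := []) (i := 1) (r14_0_1 H) (step (f12158 H) (step (f11922 H) (step (f12061 H) rfl))) rfl

theorem f12168 : g 8 • path g [8, 9, 1, 8, 6] p = path g [8, 9, 1, 8, 6, 8] p :=
  rfl

theorem f12169 : g 3 • path g [8, 9, 1, 8, 6, 8] p = path g [8, 9, 1, 8, 6] p :=
  H.back (i := 8) (by decide) (f12168 H)

theorem f12170 : g 9 • path g [8, 9, 1, 8, 6, 8] p = path g [9, 2, 9, 8, 2, 3] p :=
  scan (u := [8]) (w := [8, 9]) (i := 9) (r15_1_0 H) (step (f12168 H) rfl) (step (H.back (i := 3) (by decide) (f7440 H)) (step (H.back (i := 4) (by decide) (f8174 H)) rfl))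

theorem f12171 : g 4 • path g [9, 2, 9, 8, 2, 3] p = path g [8, 9, 1, 8, 6, 8] p :=
  H.back (i := 9) (by decide) (f12170 H)

theorem f12172 : g 9 • path g [8, 6, 8, 4, 2] p = path g [8, 9, 1, 8, 6, 8] p :=
  scan (u := [9, 9]) (w := []) (i := 9) (r10_1_0 H) (step (f12170 H) (step (f11551 H) rfl)) rfl

theorem f12173 : g 4 • path g [8, 9, 1, 8, 6, 8] p = path g [8, 6, 8, 4, 2] p :=
  H.back (i := 9) (by decide) (f12172 H)

theorem f12174 : g 1 • path g [9, 2, 9, 5, 1, 3] p = path g [8, 9, 1, 8, 6, 8] p :=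
  scan (u := [9, 6, 4]) (w := []) (i := 1) (r14_1_2 H) (step (f12170 H) (step (f12085 H) (step (f12076 H) rfl))) rfl

theorem f12175 : g 6 • path g [8, 9, 1, 8, 6, 8] p = path g [9, 2, 9, 5, 1, 3] p :=
  H.back (i := 1) (by decide) (f12174 H)

theorem f12176 : g 1 • path g [8, 9, 1, 8, 6, 8] p = path g [8, 1, 3, 6, 8] p :=
  scan (u := [1]) (w := [1]) (i := 1) (r1_0_0 H) (step (f12174 H) rfl) (step (H.back (i := 6) (by decide) (f11874 H)) rfl)

theorem f12177 : g 6 • path g [8, 1, 3, 6, 8] p = path g [8, 9, 1, 8, 6, 8] p :=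
  H.back (i := 1) (by decide) (f12176 H)

theorem f12178 : g 5 • path g [8, 9, 1, 8, 6, 8] p = path g [9, 2, 9, 3, 5, 1] p :=
  scan (u := [1]) (w := [6, 5, 6, 5, 1]) (i := 5) (r4_1_5 H) (step (f12174 H) rfl) (step (H.back (i := 1) (by decide) (f7846 H)) (step (H.back (i := 0) (by decide) (f3032 H)) (step (H.back (i := 1) (by decide) (f3034 H)) (step (H.back (i := 0) (by decide) (f9637 H)) (step (H.back (i := 6) (by decide) (f11874 H)) rfl)))))

theorem f12179 : g 0 • path g [9, 2, 9, 3, 5, 1] p = path g [8, 9, 1, 8, 6, 8] p :=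
  H.back (i := 5) (by decide) (f12178 H)

theorem f12180 : g 0 • path g [8, 9, 1, 8, 6, 8] p = path g [9, 2, 9, 3, 5, 1] p :=
  scan (u := [1]) (w := [1, 4, 6, 5, 6, 6, 9, 1]) (i := 0) (r12_0_1 H) (step (f12174 H) rfl) (step (H.back (i := 6) (by decide) (f11175 H)) (step (H.back (i := 9) (by decide) (f11180 H)) (step (H.back (i := 1) (by decide) (f10558 H)) (step (H.back (i := 0) (by decide) (f7747 H)) (step (H.back (i := 1) (by decide) (f11723 H)) (step (H.back (i := 1) (by decide) (f11864 H)) (step (H.back (i := 4) (by decide) (f11861 H)) (step (H.back (i := 6) (by decide) (f11874 H)) rfl))))))))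

theorem f12181 : g 5 • path g [9, 2, 9, 3, 5, 1] p = path g [8, 9, 1, 8, 6, 8] p :=
  H.back (i := 0) (by decide) (f12180 H)

theorem f12182 : g 3 • path g [8, 9, 1, 8, 6] p = path g [8, 9, 1, 8, 6, 3] p :=
  rfl

theorem f12183 : g 8 • path g [8, 9, 1, 8, 6, 3] p = path g [8, 9, 1, 8, 6] p :=
  H.back (i := 3) (by decide) (f12182 H)

theorem f12184 : g 3 • path g [8, 9, 1, 8, 6, 3] p = path g [8, 9, 1, 8, 6, 8] p :=
  scan (u := [3]) (w := [3]) (i := 3) (r6_0_0 H) (step (f12182 H) rfl) (step (H.back (i := 8) (by decide) (f12168 H)) rfl)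

theorem f12185 : g 8 • path g [8, 9, 1, 8, 6, 8] p = path g [8, 9, 1, 8, 6, 3] p :=
  H.back (i := 3) (by decide) (f12184 H)

theorem f12186 : g 4 • path g [8, 9, 1, 8, 6, 3] p = path g [8, 1, 3, 6, 8] p :=
  scan (u := [3]) (w := [3, 4]) (i := 4) (r15_0_1 H) (step (f12182 H) rfl) (step (H.back (i := 8) (by decide) (f4417 H)) (step (H.back (i := 9) (by decide) (f3969 H)) rfl))

theorem f12188 : g 5 • path g [8, 9, 1, 8, 6, 3] p = path g [9, 2, 9, 3, 9, 6] p :=
  scan (u := [3]) (w := [6, 7, 5, 6, 8, 0, 2, 0, 2]) (i := 5) (r8_0_3 H) (step (f12182 H) rfl) (step (H.back (i := 1) (by decide) (f11565 H)) (step (H.back (i := 2) (by decide) (f5336 H)) (step (H.back (i := 0) (by decide) (f1309 H)) (step (H.back (i := 1) (by decide) (f367 H)) (step (H.back (i := 3) (by decide) (f1341 H)) (step (H.back (i := 5) (by decide) (f5388 H)) (step (H.back (i := 7) (by decide) (f9481 H)) (step (H.back (i := 5) (by decide) (f8605 H)) (step (H.back (i := 7) (by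 decide) (f3967 H)) rfl)))))))))

theorem f12189 : g 0 • path g [9, 2, 9, 3, 9, 6] p = path g [8, 9, 1, 8, 6, 3] p :=
  H.back (i := 5) (by decide) (f12188 H)

theorem f12190 : g 1 • path g [8, 9, 1, 8, 6, 3] p = path g [9, 3, 1, 8, 1, 3] p :=
  scan (u := [3]) (w := [0, 2, 1, 0, 8, 7, 5, 7, 5]) (i := 1) (r8_1_1 H) (step (f12182 H) rfl) (step (H.back (i := 5) (by decide) (f12083 H)) (step (H.back (i := 7) (by decide) (f11608 H)) (step (H.back (i := 6) (by decide) (f11621 H)) (step (H.back (i := 5) (by decide) (f12090 H)) (step (H.back (i := 3) (by decide) (f12096 H)) (step (H.back (i := 2) (by decide) (f9673 H)) (step (H.back (i := 0) (by decide) (f9554 H)) (step (H.back (i := 2) (by decide) (f5153 H)) (step (H.back (i := 0) (by decide) (f4660 H)) rfl)))))))))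

theorem f12191 : g 6 • path g [9, 3, 1, 8, 1, 3] p = path g [8, 9, 1, 8, 6, 3] p :=
  H.back (i := 1) (by decide) (f12190 H)

theorem f12192 : g 5 • path g [9, 2, 9, 3, 9, 6] p = path g [8, 9, 1, 8, 6, 3] p :=
  scan (u := [8, 2, 3, 6, 5, 7, 6, 5, 7]) (w := []) (i := 5) (r7_0_9 H) (step (f12183 H) (step (f3972 H) (step (f12072 H) (step (f12191 H) (step (f12188 H) (step (f11558 H) (step (f3851 H) (step (f3850 H) (step (f11559 H) rfl))))))))) rfl

theorem f12193 : g 0 • path g [8, 9, 1, 8, 6, 3] p = path g [9, 2, 9, 3, 9, 6] p :=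
  H.back (i := 5) (by decide) (f12192 H)

theorem f12194 : g 9 • path g [8, 9, 1, 8, 6, 3] p = path g [9, 2, 4, 8, 6, 5] p :=
  scan (u := [5]) (w := [0, 4]) (i := 9) (r13_0_0 H) (step (f12192 H) rfl) (step (H.back (i := 5) (by decide) (f11856 H)) (step (H.back (i := 9) (by decide) (f7792 H)) rfl))

theorem f12195 : g 4 • path g [9, 2, 4, 8, 6, 5] p = path g [8, 9, 1, 8, 6, 3] p :=
  H.back (i := 9) (by decide) (f12194 H)

theorem f12196 : g 7 • path g [8, 9, 1, 8, 6, 3] p = path g [9, 2, 9, 8, 2, 3] p :=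
  scan (u := [5]) (w := [6, 5, 7, 5, 8, 2, 3, 6]) (i := 7) (r7_0_3 H) (step (f12192 H) rfl) (step (H.back (i := 1) (by decide) (f12084 H)) (step (H.back (i := 0) (by decide) (f12081 H)) (step (H.back (i := 2) (by decide) (f11609 H)) (step (H.back (i := 0) (by decide) (f11617 H)) (step (H.back (i := 3) (by decide) (f9383 H)) (step (H.back (i := 7) (by decide) (f3457 H)) (step (H.back (i := 8) (by decide) (f3021 H)) (step (H.back (i := 1) (by decide) (f7791 H)) rfl))))))))

theorem f12197 : g 2 • path g [9, 2, 9, 8, 2, 3] p = path g [8, 9, 1, 8, 6, 3] p :=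
  H.back (i := 7) (by decide) (f12196 H)

theorem f12198 : g 6 • path g [8, 9, 1, 8, 6, 3] p = path g [9, 2, 9, 8, 2, 3] p :=
  scan (u := [5]) (w := [6, 9, 1, 1, 0, 1, 4, 6]) (i := 6) (r12_0_6 H) (step (f12192 H) rfl) (step (H.back (i := 1) (by decide) (f12084 H)) (step (H.back (i := 4) (by decide) (f12078 H)) (step (H.back (i := 6) (by decide) (f11722 H)) (step (H.back (i := 6) (by decide) (f11862 H)) (step (H.back (i := 5) (by decide) (f11856 H)) (step (H.back (i := 6) (by decide) (f3528 H)) (step (H.back (i := 9) (by decide) (f3019 H)) (step (H.back (i := 1) (by decide) (f7791 H)) rfl))))))))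

theorem f12199 : g 1 • path g [9, 2, 9, 8, 2, 3] p = path g [8, 9, 1, 8, 6, 3] p :=
  H.back (i := 6) (by decide) (f12198 H)

theorem f12200 : g 7 • path g [9, 2, 9, 8, 2, 3] p = path g [8, 9, 1, 8, 6, 3] p :=
  scan (u := [5, 6]) (w := [5, 6, 8, 0, 2, 0, 2, 3]) (i := 7) (r8_0_4 H) (step (f12192 H) (step (f12198 H) rfl)) (step (H.back (i := 0) (by decide) (f12189 H)) (step (H.back (i := 1) (by decide) (f11565 H)) (step (H.back (i := 3) (by decide) (f10224 H)) (step (H.back (i := 5) (by decide) (f9613 H)) (step (H.back (i := 7) (by decide) (f5242 H)) (step (H.back (i := 5) (by decide) (f3809 H)) (step (H.back (i := 7) (by decide) (f3799 H)) (step (H.back (i := 8) (by decide) (f11035 H)) rfl))))))))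

theorem f12201 : g 2 • path g [8, 9, 1, 8, 6, 3] p = path g [9, 2, 9, 8, 2, 3] p :=
  H.back (i := 7) (by decide) (f12200 H)

theorem f12202 : g 9 • path g [8, 6, 8, 9, 2] p = path g [8, 6, 8, 9, 2, 9] p :=
  rfl

theorem f12203 : g 4 • path g [8, 6, 8, 9, 2, 9] p = path g [8, 6, 8, 9, 2] p :=
  H.back (i := 9) (by decide) (f12202 H)

theorem f12204 : g 1 • path g [8, 6, 8, 9, 2, 9] p = path g [9, 2, 8, 1, 4, 8] p :=
  scan (u := [9]) (w := [4, 6]) (i := 1) (r14_0_3 H) (step (f12202 H) rfl) (step (H.back (i := 9) (by decide) (f11670 H)) (step (H.back (i := 1) (by decide) (f10556 H)) rfl))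

theorem f12206 : g 6 • path g [8, 6, 8, 9, 2, 9] p = path g [8, 9, 2, 9, 3, 5] p :=
  scan (u := [9]) (w := [4, 1]) (i := 6) (r14_1_2 H) (step (f12202 H) rfl) (step (H.back (i := 9) (by decide) (f12142 H)) (step (H.back (i := 6) (by decide) (f12145 H)) rfl))

theorem f12207 : g 1 • path g [8, 9, 2, 9, 3, 5] p = path g [8, 6, 8, 9, 2, 9] p :=
  H.back (i := 6) (by decide) (f12206 H)

theorem f12208 : g 8 • path g [8, 6, 8, 9, 2, 9] p = path g [4, 8, 2, 9, 1] p :=
  scan (u := [9]) (w := [9, 8]) (i := 8) (r15_1_1 H) (step (f12202 H) rfl) (step (H.back (i := 4) (by decide) (f10317 H)) (step (H.back (i := 3) (by decide) (f11465 H)) rfl))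

theorem f12209 : g 3 • path g [4, 8, 2, 9, 1] p = path g [8, 6, 8, 9, 2, 9] p :=
  H.back (i := 8) (by decide) (f12208 H)

theorem f12210 : g 7 • path g [9, 2, 8, 1, 4, 8] p = path g [8, 6, 8, 9, 2, 9] p :=
  scan (u := [6, 7, 6]) (w := []) (i := 7) (r3_1_1 H) (step (f12206 H) (step (f12094 H) (step (f12092 H) rfl))) rfl

theorem f12211 : g 2 • path g [8, 6, 8, 9, 2, 9] p = path g [9, 2, 8, 1, 4, 8] p :=
  H.back (i := 7) (by decide) (f12210 H)

theorem f12212 : g 7 • path g [8, 6, 8, 9, 2, 9] p = path g [9, 2, 8, 1, 4, 8] p :=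
  scan (u := [7]) (w := []) (i := 7) (r2_1_0 H) (step (f12210 H) rfl) rfl

theorem f12213 : g 2 • path g [9, 2, 8, 1, 4, 8] p = path g [8, 6, 8, 9, 2, 9] p :=
  H.back (i := 7) (by decide) (f12212 H)

theorem f12214 : g 4 • path g [8, 6, 8, 9, 2] p = path g [8, 6, 8, 9, 2, 4] p :=
  rfl

theorem f12216 : g 4 • path g [8, 6, 8, 9, 2, 4] p = path g [8, 6, 8, 9, 2, 9] p :=
  scan (u := [4]) (w := [4]) (i := 4) (r10_0_0 H) (step (f12214 H) rfl) (step (H.back (i := 9) (by decide) (f12202 H)) rfl)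

theorem f12218 : g 5 • path g [8, 6, 8, 9, 2, 4] p = path g [9, 2, 9, 3, 5, 2] p :=
  scan (u := [4]) (w := [9, 0]) (i := 5) (r13_0_3 H) (step (f12214 H) rfl) (step (H.back (i := 4) (by decide) (f11211 H)) (step (H.back (i := 5) (by decide) (f10392 H)) rfl))

theorem f12219 : g 0 • path g [9, 2, 9, 3, 5, 2] p = path g [8, 6, 8, 9, 2, 4] p :=
  H.back (i := 5) (by decide) (f12218 H)

theorem f12220 : g 0 • path g [8, 6, 8, 9, 2, 4] p = path g [9, 2, 9, 3, 5, 2] p :=
  scan (u := [4]) (w := [9, 5]) (i := 0) (r13_1_2 H) (step (f12214 H) rfl) (step (H.back (i := 4) (by decide) (f11211 H)) (step (H.back (i := 0) (by decide) (f10394 H)) rfl))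

theorem f12222 : g 1 • path g [8, 6, 8, 9, 2, 4] p = path g [8, 6, 3, 6, 8] p :=
  scan (u := [4]) (w := [9, 6]) (i := 1) (r14_1_0 H) (step (f12214 H) rfl) (step (H.back (i := 4) (by decide) (f10564 H)) (step (H.back (i := 1) (by decide) (f10556 H)) rfl))

theorem f12223 : g 6 • path g [8, 6, 3, 6, 8] p = path g [8, 6, 8, 9, 2, 4] p :=
  H.back (i := 1) (by decide) (f12222 H)

theorem f12224 : g 3 • path g [8, 6, 8, 9, 2, 4] p = path g [4, 8, 2, 9, 1] p :=
  scan (u := [4]) (w := [4, 3]) (i := 3) (r15_0_0 H) (step (f12214 H) rfl) (step (H.back (i := 9) (by decide) (f4995 H)) (step (H.back (i := 8) (by decide) (f11462 H)) rfl))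

theorem f12225 : g 8 • path g [4, 8, 2, 9, 1] p = path g [8, 6, 8, 9, 2, 4] p :=
  H.back (i := 3) (by decide) (f12224 H)

theorem f12226 : g 3 • path g [8, 6, 8, 9, 2, 9] p = path g [8, 6, 8, 9, 2, 4] p :=
  scan (u := [3, 3]) (w := []) (i := 3) (r6_0_0 H) (step (f12224 H) (step (f12209 H) rfl)) rfl

theorem f12228 : g 2 • path g [9, 2, 9, 5, 1, 3] p = path g [8, 6, 8, 9, 2, 4] p :=
  scan (u := [3, 6, 5, 7, 6, 5, 7, 5, 8]) (w := []) (i := 2) (r7_0_1 H) (step (f12224 H) (step (f4991 H) (step (f3477 H) (step (f7665 H) (step (f8592 H) (step (f8568 H) (step (f8992 H) (step (f8567 H) (step (f8582 H) rfl))))))))) rfl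

theorem f12229 : g 7 • path g [8, 6, 8, 9, 2, 4] p = path g [9, 2, 9, 5, 1, 3] p :=
  H.back (i := 2) (by decide) (f12228 H)

theorem f12230 : g 7 • path g [9, 2, 9, 5, 1, 3] p = path g [8, 6, 8, 9, 2, 4] p :=
  scan (u := [3, 0, 2, 0, 1, 2, 0, 1, 8]) (w := []) (i := 7) (r7_1_0 H) (step (f12224 H) (step (f5476 H) (step (f7223 H) (step (f8162 H) (step (f8148 H) (step (f8108 H) (step (f8700 H) (step (f5169 H) (step (f8582 H) rfl))))))))) rfl

theorem f12231 : g 2 • path g [8, 6, 8, 9, 2, 4] p = path g [9, 2, 9, 5, 1, 3] p :=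
  H.back (i := 7) (by decide) (f12230 H)

theorem f12232 : g 1 • path g [8, 6, 8, 6, 3] p = path g [8, 6, 8, 6, 3, 1] p :=
  rfl

theorem f12234 : g 1 • path g [8, 6, 8, 6, 3, 1] p = path g [4, 2, 8, 9, 2] p :=
  scan (u := [1]) (w := [1]) (i := 1) (r1_0_0 H) (step (f12232 H) rfl) (step (H.back (i := 6) (by decide) (f10926 H)) rfl)

theorem f12236 : g 2 • path g [8, 6, 8, 6, 3, 1] p = path g [4, 2, 8, 9, 1] p :=
  scan (u := [1]) (w := [1, 2]) (i := 2) (r3_0_0 H) (step (f12232 H) rfl) (step (H.back (i := 6) (by decide) (f9471 H)) (step (H.back (i := 7) (by decide) (f10924 H)) rfl))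

theorem f12238 : g 4 • path g [8, 6, 8, 6, 3, 1] p = path g [9, 8, 2, 1, 3, 1] p :=
  scan (u := [1]) (w := [6, 9]) (i := 4) (r14_0_0 H) (step (f12232 H) rfl) (step (H.back (i := 1) (by decide) (f5800 H)) (step (H.back (i := 4) (by decide) (f10452 H)) rfl))

theorem f12240 : g 9 • path g [8, 6, 8, 6, 3, 1] p = path g [9, 2, 9, 3, 5, 3] p :=
  scan (u := [1]) (w := [6, 4]) (i := 9) (r14_1_1 H) (step (f12232 H) rfl) (step (H.back (i := 1) (by decide) (f11807 H)) (step (H.back (i := 9) (by decide) (f10455 H)) rfl))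

theorem f12241 : g 4 • path g [9, 2, 9, 3, 5, 3] p = path g [8, 6, 8, 6, 3, 1] p :=
  H.back (i := 9) (by decide) (f12240 H)

theorem f12242 : g 0 • path g [8, 6, 8, 6, 3, 1] p = path g [9, 2, 9, 5, 1, 3] p :=
  scan (u := [1]) (w := [1, 0, 6, 6, 0]) (i := 0) (r4_0_4 H) (step (f12232 H) rfl) (step (H.back (i := 6) (by decide) (f12175 H)) (step (H.back (i := 5) (by decide) (f12181 H)) (step (H.back (i := 1) (by decide) (f7846 H)) (step (H.back (i := 1) (by decide) (f11172 H)) (step (H.back (i := 5) (by decide) (f11186 H)) rfl)))))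

theorem f12243 : g 5 • path g [9, 2, 9, 5, 1, 3] p = path g [8, 6, 8, 6, 3, 1] p :=
  H.back (i := 0) (by decide) (f12242 H)

theorem f12244 : g 5 • path g [8, 6, 8, 6, 3, 1] p = path g [9, 2, 9, 5, 1, 3] p :=
  scan (u := [1]) (w := [6, 5, 6, 5, 1]) (i := 5) (r4_1_5 H) (step (f12232 H) rfl) (step (H.back (i := 1) (by decide) (f11875 H)) (step (H.back (i := 0) (by decide) (f9642 H)) (step (H.back (i := 1) (by decide) (f3037 H)) (step (H.back (i := 0) (by decide) (f9610 H)) (step (H.back (i := 6) (by decide) (f10926 H)) rfl)))))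

theorem f12245 : g 0 • path g [9, 2, 9, 5, 1, 3] p = path g [8, 6, 8, 6, 3, 1] p :=
  H.back (i := 5) (by decide) (f12244 H)

theorem f12246 : g 3 • path g [9, 3, 2, 6, 8, 6] p = path g [8, 6, 8, 6, 3, 1] p :=
  scan (u := [5, 6, 7, 5, 6, 8, 0, 2, 0, 2]) (w := []) (i := 3) (r8_0_4 H) (step (f12244 H) (step (f11874 H) (step (f4810 H) (step (f11102 H) (step (f11642 H) (step (f6203 H) (step (f4328 H) (step (f11920 H) (step (f11987 H) (step (f11983 H) rfl)))))))))) rfl

theorem f12248 : g 3 • path g [8, 6, 8, 6, 3, 1] p = path g [9, 2, 9, 3, 9, 5] p :=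
  scan (u := [3]) (w := [3]) (i := 3) (r6_0_0 H) (step (f12246 H) rfl) (step (H.back (i := 8) (by decide) (f11988 H)) rfl)

theorem f12249 : g 8 • path g [9, 2, 9, 3, 9, 5] p = path g [8, 6, 8, 6, 3, 1] p :=
  H.back (i := 3) (by decide) (f12248 H)

theorem f12250 : g 2 • path g [4, 2, 8, 9, 1] p = path g [8, 6, 8, 6, 3, 1] p :=
  scan (u := [0, 1, 8, 7, 3, 0, 2, 0, 1]) (w := []) (i := 2) (r7_1_6 H) (step (f12242 H) (step (f12174 H) (step (f12185 H) (step (f12196 H) (step (f7442 H) (step (f9552 H) (step (f3800 H) (step (f3812 H) (step (f5247 H) rfl))))))))) rfl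

theorem f12251 : g 7 • path g [8, 6, 8, 6, 3, 1] p = path g [4, 2, 8, 9, 1] p :=
  H.back (i := 2) (by decide) (f12250 H)

theorem f12252 : g 6 • path g [8, 6, 8, 1, 8] p = path g [8, 6, 8, 1, 8, 6] p :=
  rfl

theorem f12253 : g 1 • path g [8, 6, 8, 1, 8, 6] p = path g [8, 6, 8, 1, 8] p :=
  H.back (i := 6) (by decide) (f12252 H)

theorem f12254 : g 9 • path g [8, 6, 8, 1, 8, 6] p = path g [9, 2, 4, 8, 5, 8] p :=
  scan (u := [6]) (w := [1, 4]) (i := 9) (r14_0_2 H) (step (f12252 H) rfl) (step (H.back (i := 6) (by decide) (f12000 H)) (step (H.back (i := 9) (by decide) (f11995 H)) rfl))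

theorem f12255 : g 4 • path g [9, 2, 4, 8, 5, 8] p = path g [8, 6, 8, 1, 8, 6] p :=
  H.back (i := 9) (by decide) (f12254 H)

theorem f12256 : g 4 • path g [8, 6, 8, 1, 8, 6] p = path g [9, 3, 2, 6, 8, 6] p :=
  scan (u := [6]) (w := [1, 9]) (i := 4) (r14_1_3 H) (step (f12252 H) rfl) (step (H.back (i := 6) (by decide) (f11978 H)) (step (H.back (i := 4) (by decide) (f10938 H)) rfl))

theorem f12258 : g 5 • path g [8, 6, 8, 1, 8, 6] p = path g [9, 3, 9, 2, 9, 3] p :=
  scan (u := [6]) (w := [6, 5, 1, 1, 5]) (i := 5) (r4_1_0 H) (step (f12252 H) rfl) (step (H.back (i := 1) (by decide) (f11930 H)) (step (H.back (i := 0) (by decide) (f11927 H)) (step (H.back (i := 6) (by decide) (f10949 H)) (step (H.back (i := 6) (by decide) (f9506 H)) (step (H.back (i := 0) (by decide) (f10943 H)) rfl)))))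

theorem f12259 : g 0 • path g [9, 3, 9, 2, 9, 3] p = path g [8, 6, 8, 1, 8, 6] p :=
  H.back (i := 5) (by decide) (f12258 H)

theorem f12260 : g 8 • path g [8, 6, 8, 1, 8, 6] p = path g [9, 8, 2, 1, 3, 1] p :=
  scan (u := [6]) (w := [0, 2, 0, 2, 3, 5, 6, 7, 5]) (i := 8) (r8_0_8 H) (step (f12252 H) rfl) (step (H.back (i := 5) (by decide) (f11716 H)) (step (H.back (i := 7) (by decide) (f11720 H)) (step (H.back (i := 5) (by decide) (f7201 H)) (step (H.back (i := 7) (by decide) (f12041 H)) (step (H.back (i := 8) (by decide) (f12039 H)) (step (H.back (i := 0) (by decide) (f11059 H)) (step (H.back (i := 1) (by decide) (f3609 H)) (step (H.back (i := 2) (by decide) (f10968 H)) (step (H.back (i := 0) (by decide) (f10943 H)) rfl)))))))))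

theorem f12261 : g 3 • path g [9, 8, 2, 1, 3, 1] p = path g [8, 6, 8, 1, 8, 6] p :=
  H.back (i := 8) (by decide) (f12260 H)

theorem f12262 : g 5 • path g [9, 3, 9, 2, 9, 3] p = path g [8, 6, 8, 1, 8, 6] p :=
  scan (u := [8, 2, 3, 6, 5, 7, 6, 5, 7]) (w := []) (i := 5) (r7_0_9 H) (step (f12260 H) (step (f10370 H) (step (f3412 H) (step (f11062 H) (step (f11057 H) (step (f11131 H) (step (f10949 H) (step (f11924 H) (step (f11934 H) rfl))))))))) rfl

theorem f12263 : g 0 • path g [8, 6, 8, 1, 8, 6] p = path g [9, 3, 9, 2, 9, 3] p :=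
  H.back (i := 5) (by decide) (f12262 H)

theorem f12264 : g 1 • path g [8, 6, 8, 1, 8] p = path g [8, 6, 8, 1, 8, 1] p :=
  rfl

theorem f12265 : g 6 • path g [8, 6, 8, 1, 8, 1] p = path g [8, 6, 8, 1, 8] p :=
  H.back (i := 1) (by decide) (f12264 H)

theorem f12266 : g 1 • path g [8, 6, 8, 1, 8, 1] p = path g [8, 6, 8, 1, 8, 6] p :=
  scan (u := [1]) (w := [1]) (i := 1) (r1_0_0 H) (step (f12264 H) rfl) (step (H.back (i := 6) (by decide) (f12252 H)) rfl)

theorem f12268 : g 2 • path g [8, 6, 8, 1, 8, 1] p = path g [8, 6, 8, 1, 8, 6] p :=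
  scan (u := [1]) (w := [1, 2]) (i := 2) (r3_0_0 H) (step (f12264 H) rfl) (step (H.back (i := 6) (by decide) (f12252 H)) (step (H.back (i := 7) (by decide) (f4856 H)) rfl))

theorem f12270 : g 4 • path g [8, 6, 8, 1, 8, 1] p = path g [9, 2, 3, 2, 6, 8] p :=
  scan (u := [1]) (w := [6, 9]) (i := 4) (r14_0_0 H) (step (f12264 H) rfl) (step (H.back (i := 1) (by decide) (f11821 H)) (step (H.back (i := 4) (by decide) (f10938 H)) rfl))

theorem f12272 : g 0 • path g [8, 6, 8, 1, 8, 1] p = path g [9, 3, 2, 6, 3, 9] p :=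
  scan (u := [1]) (w := [1, 0, 6, 6, 0]) (i := 0) (r4_0_4 H) (step (f12264 H) rfl) (step (H.back (i := 6) (by decide) (f12011 H)) (step (H.back (i := 5) (by decide) (f5229 H)) (step (H.back (i := 1) (by decide) (f10947 H)) (step (H.back (i := 1) (by decide) (f10952 H)) (step (H.back (i := 5) (by decide) (f10941 H)) rfl)))))

theorem f12273 : g 5 • path g [9, 3, 2, 6, 3, 9] p = path g [8, 6, 8, 1, 8, 1] p :=
  H.back (i := 0) (by decide) (f12272 H)

theorem f12274 : g 5 • path g [8, 6, 8, 1, 8, 1] p = path g [9, 3, 2, 6, 3, 9] p :=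
  scan (u := [1]) (w := [6, 5, 6, 5, 1]) (i := 5) (r4_1_5 H) (step (f12264 H) rfl) (step (H.back (i := 1) (by decide) (f12013 H)) (step (H.back (i := 0) (by decide) (f11086 H)) (step (H.back (i := 1) (by decide) (f11923 H)) (step (H.back (i := 0) (by decide) (f12263 H)) (step (H.back (i := 6) (by decide) (f12252 H)) rfl)))))

theorem f12275 : g 0 • path g [9, 3, 2, 6, 3, 9] p = path g [8, 6, 8, 1, 8, 1] p :=
  H.back (i := 5) (by decide) (f12274 H)

theorem f12276 : g 8 • path g [8, 6, 8, 1, 8, 1] p = path g [4, 8, 6, 8, 6] p :=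
  scan (u := [1]) (w := [7, 3, 0, 2, 0, 1, 2, 0]) (i := 8) (r7_1_7 H) (step (f12264 H) rfl) (step (H.back (i := 2) (by decide) (f10734 H)) (step (H.back (i := 8) (by decide) (f11404 H)) (step (H.back (i := 5) (by decide) (f7874 H)) (step (H.back (i := 7) (by decide) (f3042 H)) (step (H.back (i := 5) (by decide) (f3090 H)) (step (H.back (i := 6) (by decide) (f3608 H)) (step (H.back (i := 7) (by decide) (f10965 H)) (step (H.back (i := 5) (by decide) (f10941 H)) rfl))))))))

theorem f12277 : g 3 • path g [4, 8, 6, 8, 6] p = path g [8, 6, 8, 1, 8, 1] p :=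
  H.back (i := 8) (by decide) (f12276 H)

theorem f12278 : g 7 • path g [8, 6, 8, 1, 8, 1] p = path g [8, 6, 8, 1, 8, 6] p :=
  scan (u := [5, 7, 5, 8, 2, 3, 6, 5]) (w := [6]) (i := 7) (r7_0_6 H) (step (f12274 H) (step (f12018 H) (step (f11900 H) (step (f5216 H) (step (f11591 H) (step (f11611 H) (step (f12011 H) (step (f12273 H) rfl)))))))) (step (H.back (i := 1) (by decide) (f12266 H)) rfl)

theorem f12279 : g 2 • path g [8, 6, 8, 1, 8, 6] p = path g [8, 6, 8, 1, 8, 1] p :=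
  H.back (i := 7) (by decide) (f12278 H)

theorem f12280 : g 3 • path g [8, 6, 3, 9, 1] p = path g [8, 6, 3, 9, 1, 3] p :=
  rfl

theorem f12281 : g 8 • path g [8, 6, 3, 9, 1, 3] p = path g [8, 6, 3, 9, 1] p :=
  H.back (i := 3) (by decide) (f12280 H)

theorem f12282 : g 3 • path g [8, 6, 3, 9, 1, 3] p = path g [4, 2, 8, 4, 2] p :=
  scan (u := [3]) (w := [3]) (i := 3) (r6_0_0 H) (step (f12280 H) rfl) (step (H.back (i := 8) (by decide) (f11539 H)) rfl)

theorem f12283 : g 8 • path g [4, 2, 8, 4, 2] p = path g [8, 6, 3, 9, 1, 3] p :=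
  H.back (i := 3) (by decide) (f12282 H)

theorem f12284 : g 4 • path g [8, 6, 3, 9, 1, 3] p = path g [9, 3, 2, 9, 2, 5] p :=
  scan (u := [3]) (w := [3, 4]) (i := 4) (r15_0_1 H) (step (f12280 H) rfl) (step (H.back (i := 8) (by decide) (f11938 H)) (step (H.back (i := 9) (by decide) (f4149 H)) rfl))

theorem f12286 : g 5 • path g [8, 6, 3, 9, 1, 3] p = path g [9, 8, 2, 6, 8, 4] p :=
  scan (u := [3]) (w := [6, 7, 5, 6, 8, 0, 2, 0, 2]) (i := 5) (r8_0_3 H) (step (f12280 H) rfl) (step (H.back (i := 1) (by decide) (f11769 H)) (step (H.back (i := 2) (by decide) (f5209 H)) (step (H.back (i := 0) (by decide) (f1259 H)) (step (H.back (i := 1) (by decide) (f350 H)) (step (H.back (i := 3) (by decide) (f1247 H)) (step (H.back (i := 5) (by decide) (f3594 H)) (step (H.back (i := 7) (by decide) (f8032 H)) (step (H.back (i := 5) (by decide) (f10091 H)) (step (H.back (i := 7) (by decide) (f10693 H)) rfl)))))))))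

theorem f12287 : g 0 • path g [9, 8, 2, 6, 8, 4] p = path g [8, 6, 3, 9, 1, 3] p :=
  H.back (i := 5) (by decide) (f12286 H)

theorem f12288 : g 5 • path g [9, 8, 2, 6, 8, 4] p = path g [8, 6, 3, 9, 1, 3] p :=
  scan (u := [5]) (w := []) (i := 5) (r0_1_0 H) (step (f12286 H) rfl) rfl

theorem f12289 : g 0 • path g [8, 6, 3, 9, 1, 3] p = path g [9, 8, 2, 6, 8, 4] p :=
  H.back (i := 5) (by decide) (f12288 H)

theorem f12290 : g 4 • path g [8, 1, 8, 9, 2] p = path g [8, 6, 3, 9, 1, 3] p :=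
  scan (u := [5, 9, 0]) (w := []) (i := 4) (r13_0_0 H) (step (f12286 H) (step (f5711 H) (step (f6777 H) rfl))) rfl

theorem f12292 : g 6 • path g [9, 3, 6, 8, 6, 3] p = path g [8, 6, 3, 9, 1, 3] p :=
  scan (u := [5, 1, 1, 5, 6, 5]) (w := []) (i := 6) (r4_1_3 H) (step (f12286 H) (step (f9542 H) (step (f11770 H) (step (f11999 H) (step (f12000 H) (step (f12067 H) rfl)))))) rfl

theorem f12293 : g 1 • path g [8, 6, 3, 9, 1, 3] p = path g [9, 3, 6, 8, 6, 3] p :=
  H.back (i := 6) (by decide) (f12292 H)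

theorem f12294 : g 1 • path g [8, 9, 6, 8, 1, 3] p = path g [8, 6, 3, 9, 1, 3] p :=
  scan (u := [5, 6, 5, 6, 5, 1]) (w := []) (i := 1) (r4_1_6 H) (step (f12286 H) (step (f11768 H) (step (f11999 H) (step (f12000 H) (step (f12067 H) (step (f12166 H) rfl)))))) rfl

theorem f12295 : g 6 • path g [8, 6, 3, 9, 1, 3] p = path g [8, 9, 6, 8, 1, 3] p :=
  H.back (i := 1) (by decide) (f12294 H)

theorem f12296 : g 7 • path g [9, 2, 4, 8, 2, 3] p = path g [8, 6, 3, 9, 1, 3] p :=
  scan (u := [5, 8, 2, 3, 6, 5, 7, 6, 5]) (w := []) (i := 7) (r7_0_8 H) (step (f12286 H) (step (f10964 H) (step (f3597 H) (step (f3599 H) (step (f11956 H) (step (f11949 H) (step (f11479 H) (step (f11431 H) (step (f11847 H) rfl))))))))) rfl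

theorem f12297 : g 2 • path g [8, 6, 3, 9, 1, 3] p = path g [9, 2, 4, 8, 2, 3] p :=
  H.back (i := 7) (by decide) (f12296 H)

theorem f12298 : g 7 • path g [8, 6, 3, 9, 1, 3] p = path g [9, 2, 4, 8, 2, 3] p :=
  scan (u := [7]) (w := []) (i := 7) (r2_1_0 H) (step (f12296 H) rfl) rfl

theorem f12299 : g 2 • path g [9, 2, 4, 8, 2, 3] p = path g [8, 6, 3, 9, 1, 3] p :=
  H.back (i := 7) (by decide) (f12298 H)

theorem f12301 : g 1 • path g [8, 6, 3, 6, 8] p = path g [8, 6, 3, 6, 8, 1] p :=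
  rfl

theorem f12303 : g 1 • path g [8, 6, 3, 6, 8, 1] p = path g [8, 6, 8, 9, 2, 4] p :=
  scan (u := [1]) (w := [1]) (i := 1) (r1_0_0 H) (step (f12301 H) rfl) (step (H.back (i := 6) (by decide) (f12223 H)) rfl)

theorem f12304 : g 6 • path g [8, 6, 8, 9, 2, 4] p = path g [8, 6, 3, 6, 8, 1] p :=
  H.back (i := 1) (by decide) (f12303 H)

theorem f12305 : g 2 • path g [8, 6, 3, 6, 8, 1] p = path g [8, 9, 1, 8, 6, 8] p :=
  scan (u := [1]) (w := [1, 2]) (i := 2) (r3_0_0 H) (step (f12301 H) rfl) (step (H.back (i := 6) (by decide) (f12177 H)) (step (H.back (i := 7) (by decide) (f4808 H)) rfl))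

theorem f12307 : g 4 • path g [8, 6, 3, 6, 8, 1] p = path g [8, 9, 2, 9, 3, 5] p :=
  scan (u := [1]) (w := [6, 9]) (i := 4) (r14_0_0 H) (step (f12301 H) rfl) (step (H.back (i := 1) (by decide) (f12093 H)) (step (H.back (i := 4) (by decide) (f11669 H)) rfl))

theorem f12309 : g 9 • path g [8, 6, 3, 6, 8, 1] p = path g [8, 9, 2, 4, 8, 5] p :=
  scan (u := [1]) (w := [6, 4]) (i := 9) (r14_1_1 H) (step (f12301 H) rfl) (step (H.back (i := 1) (by decide) (f12147 H)) (step (H.back (i := 9) (by decide) (f10565 H)) rfl))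

theorem f12310 : g 4 • path g [8, 9, 2, 4, 8, 5] p = path g [8, 6, 3, 6, 8, 1] p :=
  H.back (i := 9) (by decide) (f12309 H)

theorem f12311 : g 5 • path g [8, 6, 3, 6, 8, 1] p = path g [9, 8, 1, 8, 6, 3] p :=
  scan (u := [1]) (w := [6, 5, 6, 5, 1]) (i := 5) (r4_1_5 H) (step (f12301 H) rfl) (step (H.back (i := 1) (by decide) (f11623 H)) (step (H.back (i := 0) (by decide) (f11195 H)) (step (H.back (i := 1) (by decide) (f11200 H)) (step (H.back (i := 0) (by decide) (f12220 H)) (step (H.back (i := 6) (by decide) (f12223 H)) rfl)))))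

theorem f12312 : g 0 • path g [9, 8, 1, 8, 6, 3] p = path g [8, 6, 3, 6, 8, 1] p :=
  H.back (i := 5) (by decide) (f12311 H)

theorem f12313 : g 0 • path g [8, 6, 3, 6, 8, 1] p = path g [9, 8, 1, 8, 6, 3] p :=
  scan (u := [1]) (w := [2, 1, 0, 8, 7, 5, 7, 5, 3]) (i := 0) (r8_1_2 H) (step (f12301 H) rfl) (step (H.back (i := 7) (by decide) (f11626 H)) (step (H.back (i := 6) (by decide) (f11126 H)) (step (H.back (i := 5) (by decide) (f11122 H)) (step (H.back (i := 3) (by decide) (f9650 H)) (step (H.back (i := 2) (by decide) (f9646 H)) (step (H.back (i := 0) (by decide) (f11044 H)) (step (H.back (i := 2) (by decide) (f11071 H)) (step (H.back (i := 0) (by decide) (f4231 H)) (step (H.back (i := 8) (by decide) (f11106 H)) rfl)))))))))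

theorem f12315 : g 3 • path g [9, 2, 9, 5, 2, 6] p = path g [8, 6, 3, 6, 8, 1] p :=
  scan (u := [0, 2, 0, 1, 2, 0, 1, 8, 7]) (w := []) (i := 3) (r7_1_1 H) (step (f12313 H) (step (f11625 H) (step (f9720 H) (step (f9585 H) (step (f9571 H) (step (f9642 H) (step (f11875 H) (step (f7775 H) (step (f7607 H) rfl))))))))) rfl

theorem f12316 : g 8 • path g [8, 6, 3, 6, 8, 1] p = path g [9, 2, 9, 5, 2, 6] p :=
  H.back (i := 3) (by decide) (f12315 H)

theorem f12317 : g 8 • path g [9, 3, 2, 4, 8, 5] p = path g [8, 6, 3, 6, 8, 1] p :=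
  scan (u := [0, 2, 0, 2, 3, 5, 6, 7, 5, 6]) (w := []) (i := 8) (r8_0_10 H) (step (f12313 H) (step (f11625 H) (step (f9720 H) (step (f3027 H) (step (f460 H) (step (f2953 H) (step (f5656 H) (step (f11649 H) (step (f9657 H) (step (f12052 H) rfl)))))))))) rfl

theorem f12318 : g 3 • path g [8, 6, 3, 6, 8, 1] p = path g [9, 3, 2, 4, 8, 5] p :=
  H.back (i := 8) (by decide) (f12317 H)

theorem f12319 : g 2 • path g [8, 9, 1, 8, 6, 8] p = path g [8, 6, 3, 6, 8, 1] p :=
  scan (u := [0, 6, 2, 0, 2, 1, 0, 2, 1, 0, 6]) (w := []) (i := 2) (r5_0_0 H) (step (f12313 H) (step (f11624 H) (step (f11097 H) (step (f11120 H) (step (f8308 H) (step (f3313 H) (step (f3249 H) (step (f9644 H) (step (f3037 H) (step (f9642 H) (step (f12177 H) rfl))))))))))) rfl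

theorem f12321 : g 8 • path g [9, 2, 9, 5, 2, 6] p = path g [9, 3, 2, 4, 8, 5] p :=
  scan (u := [8, 8]) (w := []) (i := 8) (r6_1_0 H) (step (f12317 H) (step (f12316 H) rfl)) rfl

theorem f12322 : g 3 • path g [9, 3, 2, 4, 8, 5] p = path g [9, 2, 9, 5, 2, 6] p :=
  H.back (i := 8) (by decide) (f12321 H)

theorem f12323 : g 9 • path g [8, 6, 4, 2, 8] p = path g [8, 6, 4, 2, 8, 9] p :=
  rfl

theorem f12324 : g 4 • path g [8, 6, 4, 2, 8, 9] p = path g [8, 6, 4, 2, 8] p :=
  H.back (i := 9) (by decide) (f12323 H)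

theorem f12325 : g 9 • path g [8, 6, 4, 2, 8, 9] p = path g [9, 2, 9, 3, 5, 2] p :=
  scan (u := [9]) (w := [9]) (i := 9) (r10_1_0 H) (step (f12323 H) rfl) (step (H.back (i := 4) (by decide) (f11211 H)) rfl)

theorem f12326 : g 4 • path g [9, 2, 9, 3, 5, 2] p = path g [8, 6, 4, 2, 8, 9] p :=
  H.back (i := 9) (by decide) (f12325 H)

theorem f12327 : g 0 • path g [8, 6, 4, 2, 8, 9] p = path g [8, 6, 8, 9, 2, 9] p :=
  scan (u := [9]) (w := [4, 5]) (i := 0) (r13_0_1 H) (step (f12323 H) rfl) (step (H.back (i := 9) (by decide) (f12202 H)) (step (H.back (i := 0) (by decide) (f10391 H)) rfl))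

theorem f12328 : g 5 • path g [8, 6, 8, 9, 2, 9] p = path g [8, 6, 4, 2, 8, 9] p :=
  H.back (i := 0) (by decide) (f12327 H)

theorem f12329 : g 5 • path g [8, 6, 4, 2, 8, 9] p = path g [8, 6, 8, 9, 2, 9] p :=
  scan (u := [9]) (w := [4, 0]) (i := 5) (r13_1_0 H) (step (f12323 H) rfl) (step (H.back (i := 9) (by decide) (f12202 H)) (step (H.back (i := 5) (by decide) (f10395 H)) rfl))

theorem f12330 : g 0 • path g [8, 6, 8, 9, 2, 9] p = path g [8, 6, 4, 2, 8, 9] p :=
  H.back (i := 5) (by decide) (f12329 H)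

theorem f12331 : g 8 • path g [8, 6, 4, 2, 8, 9] p = path g [8, 6, 4, 2, 4] p :=
  scan (u := [9]) (w := [9, 8]) (i := 8) (r15_1_1 H) (step (f12323 H) rfl) (step (H.back (i := 4) (by decide) (f4240 H)) (step (H.back (i := 3) (by decide) (f4235 H)) rfl))

theorem f12332 : g 3 • path g [8, 6, 4, 2, 4] p = path g [8, 6, 4, 2, 8, 9] p :=
  H.back (i := 8) (by decide) (f12331 H)

theorem f12333 : g 8 • path g [3, 9, 1, 8, 6] p = path g [8, 6, 4, 2, 8, 9] p :=
  scan (u := [8, 8]) (w := []) (i := 8) (r6_1_0 H) (step (f12331 H) (step (f9717 H) rfl)) rfl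

theorem f12334 : g 3 • path g [8, 6, 4, 2, 8, 9] p = path g [3, 9, 1, 8, 6] p :=
  H.back (i := 8) (by decide) (f12333 H)

theorem f12335 : g 2 • path g [8, 6, 4, 2, 8, 9] p = path g [9, 2, 9, 3, 9, 5] p :=
  scan (u := [8]) (w := [3, 6, 5, 7, 6, 5, 7, 5]) (i := 2) (r7_0_9 H) (step (f12333 H) rfl) (step (H.back (i := 8) (by decide) (f11988 H)) (step (H.back (i := 1) (by decide) (f11981 H)) (step (H.back (i := 0) (by decide) (f11823 H)) (step (H.back (i := 2) (by decide) (f7759 H)) (step (H.back (i := 1) (by decide) (f7652 H)) (step (H.back (i := 0) (by decide) (f8608 H)) (step (H.back (i := 2) (by decide) (f3972 H)) (step (H.back (i := 0) (by decide) (f4662 H)) rfl))))))))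

theorem f12337 : g 7 • path g [8, 6, 4, 2, 8, 9] p = path g [9, 2, 9, 3, 9, 5] p :=
  scan (u := [8]) (w := [3, 0, 2, 0, 1, 2, 0, 1]) (i := 7) (r7_1_8 H) (step (f12333 H) rfl) (step (H.back (i := 8) (by decide) (f11988 H)) (step (H.back (i := 5) (by decide) (f11985 H)) (step (H.back (i := 7) (by decide) (f11919 H)) (step (H.back (i := 5) (by decide) (f4329 H)) (step (H.back (i := 6) (by decide) (f2939 H)) (step (H.back (i := 7) (by decide) (f2930 H)) (step (H.back (i := 5) (by decide) (f7326 H)) (step (H.back (i := 6) (by decide) (f8880 H)) rfl))))))))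

theorem f12338 : g 2 • path g [9, 2, 9, 3, 9, 5] p = path g [8, 6, 4, 2, 8, 9] p :=
  H.back (i := 7) (by decide) (f12337 H)

theorem f12339 : g 6 • path g [9, 2, 9, 3, 2, 8] p = path g [8, 6, 4, 2, 8, 9] p :=
  scan (u := [7, 5, 8, 2, 3]) (w := [5, 7, 6, 5]) (i := 6) (r7_0_7 H) (step (f12337 H) (step (f7784 H) (step (f3021 H) (step (f3454 H) (step (f9383 H) rfl))))) (step (H.back (i := 0) (by decide) (f12330 H)) (step (H.back (i := 2) (by decide) (f12213 H)) (step (H.back (i := 1) (by decide) (f12204 H)) (step (H.back (i := 0) (by decide) (f12327 H)) rfl))))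

theorem f12340 : g 1 • path g [8, 6, 4, 2, 8, 9] p = path g [9, 2, 9, 3, 2, 8] p :=
  H.back (i := 6) (by decide) (f12339 H)

theorem f12341 : g 1 • path g [8, 6, 4, 2, 8] p = path g [8, 6, 4, 2, 8, 1] p :=
  rfl

theorem f12343 : g 1 • path g [8, 6, 4, 2, 8, 1] p = path g [4, 2, 9, 5, 3] p :=
  scan (u := [1]) (w := [1]) (i := 1) (r1_0_0 H) (step (f12341 H) rfl) (step (H.back (i := 6) (by decide) (f11585 H)) rfl)

theorem f12345 : g 2 • path g [8, 6, 4, 2, 8, 1] p = path g [9, 8, 2, 8, 1, 8] p :=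
  scan (u := [1]) (w := [1, 2]) (i := 2) (r3_0_0 H) (step (f12341 H) rfl) (step (H.back (i := 6) (by decide) (f10559 H)) (step (H.back (i := 7) (by decide) (f10379 H)) rfl))

theorem f12347 : g 4 • path g [8, 6, 4, 2, 8, 1] p = path g [3, 6, 8, 6, 8] p :=
  scan (u := [1]) (w := [6, 9]) (i := 4) (r14_0_0 H) (step (f12341 H) rfl) (step (H.back (i := 1) (by decide) (f11200 H)) (step (H.back (i := 4) (by decide) (f11211 H)) rfl))

theorem f12349 : g 9 • path g [8, 6, 4, 2, 8, 1] p = path g [9, 2, 9, 3, 2, 8] p :=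
  scan (u := [1]) (w := [6, 4]) (i := 9) (r14_1_1 H) (step (f12341 H) rfl) (step (H.back (i := 1) (by decide) (f12340 H)) (step (H.back (i := 9) (by decide) (f12323 H)) rfl))

theorem f12350 : g 4 • path g [9, 2, 9, 3, 2, 8] p = path g [8, 6, 4, 2, 8, 1] p :=
  H.back (i := 9) (by decide) (f12349 H)

theorem f12351 : g 0 • path g [8, 6, 4, 2, 8, 1] p = path g [9, 2, 3, 6, 3, 2] p :=
  scan (u := [1]) (w := [1, 0, 6, 6, 0]) (i := 0) (r4_0_4 H) (step (f12341 H) rfl) (step (H.back (i := 6) (by decide) (f11829 H)) (step (H.back (i := 5) (by decide) (f12140 H)) (step (H.back (i := 1) (by decide) (f12147 H)) (step (H.back (i := 1) (by decide) (f10556 H)) (step (H.back (i := 5) (by decide) (f10395 H)) rfl)))))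

theorem f12353 : g 8 • path g [8, 6, 4, 2, 8, 1] p = path g [3, 6, 8, 6, 4] p :=
  scan (u := [1]) (w := [7, 3, 0, 2, 0, 1, 2, 0]) (i := 8) (r7_1_7 H) (step (f12341 H) rfl) (step (H.back (i := 2) (by decide) (f10574 H)) (step (H.back (i := 8) (by decide) (f1110 H)) (step (H.back (i := 5) (by decide) (f6892 H)) (step (H.back (i := 7) (by decide) (f2884 H)) (step (H.back (i := 5) (by decide) (f10389 H)) (step (H.back (i := 6) (by decide) (f10548 H)) (step (H.back (i := 7) (by decide) (f4007 H)) (step (H.back (i := 5) (by decide) (f10395 H)) rfl))))))))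

theorem f12354 : g 3 • path g [3, 6, 8, 6, 4] p = path g [8, 6, 4, 2, 8, 1] p :=
  H.back (i := 8) (by decide) (f12353 H)

theorem f12355 : g 5 • path g [8, 6, 4, 2, 8, 1] p = path g [9, 2, 3, 6, 3, 2] p :=
  scan (u := [1]) (w := [6, 7, 5, 6, 7, 5, 7, 1, 5, 7]) (i := 5) (r5_1_1 H) (step (f12341 H) rfl) (step (H.back (i := 1) (by decide) (f11839 H)) (step (H.back (i := 2) (by decide) (f11486 H)) (step (H.back (i := 0) (by decide) (f2868 H)) (step (H.back (i := 1) (by decide) (f2870 H)) (step (H.back (i := 2) (by decide) (f9974 H)) (step (H.back (i := 0) (by decide) (f4636 H)) (step (H.back (i := 2) (by decide) (f4631 H)) (step (H.back (i := 6) (by decide) (f10348 H)) (step (H.back (i := 0) (by decide) (f5795 H)) (step (H.back (i := 2) (by decide) (f11458 H)) rfl))))))))))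

theorem f12356 : g 0 • path g [9, 2, 3, 6, 3, 2] p = path g [8, 6, 4, 2, 8, 1] p :=
  H.back (i := 5) (by decide) (f12355 H)

theorem f12357 : g 3 • path g [8, 6, 4, 2, 8, 1] p = path g [3, 9, 2, 1, 5] p :=
  scan (u := [1]) (w := [5, 6, 5, 7, 5, 6, 8, 0, 2, 0, 1, 2, 0]) (i := 3) (r9_0_10 H) (step (f12341 H) rfl) (step (H.back (i := 0) (by decide) (f4575 H)) (step (H.back (i := 1) (by decide) (f962 H)) (step (H.back (i := 0) (by decide) (f3397 H)) (step (H.back (i := 2) (by decide) (f1386 H)) (step (H.back (i := 0) (by decide) (f3379 H)) (step (H.back (i := 1) (by decide) (f10132 H)) (step (H.back (i := 3) (by decide) (f2881 H)) (step (H.back (i := 5) (by decide) (f6892 H)) (step (H.back (i := 7) (by decide) (f2884 H)) (step (H.back (i := 5) (by decide) (f10389 H)) (step (H.back (i := 6) (by decide) (f10548 H)) (step (H.back (i := 7) (by decide) (f4007 H)) (step (H.back (i := 5) (by decide) (f10395 H)) rfl)))))))))))))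

theorem f12359 : g 2 • path g [9, 8, 2, 8, 1, 8] p = path g [8, 6, 4, 2, 8, 1] p :=
  scan (u := [3, 6, 5, 7, 6, 5, 7, 5, 8]) (w := []) (i := 2) (r7_0_1 H) (step (f12357 H) (step (f4576 H) (step (f3406 H) (step (f613 H) (step (f620 H) (step (f1637 H) (step (f3712 H) (step (f3713 H) (step (f5560 H) rfl))))))))) rfl

theorem f12361 : g 1 • path g [8, 6, 4, 2, 3] p = path g [8, 6, 4, 2, 3, 1] p :=
  rfl

theorem f12363 : g 1 • path g [8, 6, 4, 2, 3, 1] p = path g [9, 2, 9, 5, 2, 4] p :=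
  scan (u := [1]) (w := [1]) (i := 1) (r1_0_0 H) (step (f12361 H) rfl) (step (H.back (i := 6) (by decide) (f10130 H)) rfl)

theorem f12365 : g 2 • path g [8, 6, 4, 2, 3, 1] p = path g [9, 2, 8, 1, 8, 1] p :=
  scan (u := [1]) (w := [1, 2]) (i := 2) (r3_0_0 H) (step (f12361 H) rfl) (step (H.back (i := 6) (by decide) (f11655 H)) (step (H.back (i := 7) (by decide) (f11632 H)) rfl))

theorem f12367 : g 9 • path g [8, 6, 4, 2, 3, 1] p = path g [9, 2, 9, 5, 2, 6] p :=
  scan (u := [1]) (w := [6, 4]) (i := 9) (r14_1_1 H) (step (f12361 H) rfl) (step (H.back (i := 1) (by decide) (f7611 H)) (step (H.back (i := 9) (by decide) (f10133 H)) rfl))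

theorem f12368 : g 4 • path g [9, 2, 9, 5, 2, 6] p = path g [8, 6, 4, 2, 3, 1] p :=
  H.back (i := 9) (by decide) (f12367 H)

theorem f12369 : g 0 • path g [8, 6, 4, 2, 3, 1] p = path g [4, 2, 9, 5, 3] p :=
  scan (u := [1]) (w := [1, 0, 6, 6, 0]) (i := 0) (r4_0_4 H) (step (f12361 H) rfl) (step (H.back (i := 6) (by decide) (f11585 H)) (step (H.back (i := 5) (by decide) (f10392 H)) (step (H.back (i := 1) (by decide) (f12144 H)) (step (H.back (i := 1) (by decide) (f12147 H)) (step (H.back (i := 5) (by decide) (f11529 H)) rfl)))))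

theorem f12371 : g 5 • path g [8, 6, 4, 2, 3, 1] p = path g [4, 2, 9, 5, 3] p :=
  scan (u := [1]) (w := [6, 5, 6, 5, 1]) (i := 5) (r4_1_5 H) (step (f12361 H) rfl) (step (H.back (i := 1) (by decide) (f12343 H)) (step (H.back (i := 0) (by decide) (f12356 H)) (step (H.back (i := 1) (by decide) (f11839 H)) (step (H.back (i := 0) (by decide) (f11492 H)) (step (H.back (i := 6) (by decide) (f10130 H)) rfl)))))

theorem f12372 : g 0 • path g [4, 2, 9, 5, 3] p = path g [8, 6, 4, 2, 3, 1] p :=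
  H.back (i := 5) (by decide) (f12371 H)

theorem f12373 : g 8 • path g [8, 6, 4, 2, 3, 1] p = path g [9, 2, 5, 4, 8, 5] p :=
  scan (u := [1]) (w := [7, 3, 0, 2, 0, 1, 2, 0]) (i := 8) (r7_1_7 H) (step (f12361 H) rfl) (step (H.back (i := 2) (by decide) (f12112 H)) (step (H.back (i := 8) (by decide) (f12111 H)) (step (H.back (i := 5) (by decide) (f5583 H)) (step (H.back (i := 7) (by decide) (f11469 H)) (step (H.back (i := 5) (by decide) (f6599 H)) (step (H.back (i := 6) (by decide) (f11472 H)) (step (H.back (i := 7) (by decide) (f5751 H)) (step (H.back (i := 5) (by decide) (f11529 H)) rfl))))))))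

theorem f12374 : g 3 • path g [9, 2, 5, 4, 8, 5] p = path g [8, 6, 4, 2, 3, 1] p :=
  H.back (i := 8) (by decide) (f12373 H)

theorem f12375 : g 3 • path g [8, 6, 4, 2, 3, 1] p = path g [9, 3, 2, 9, 3, 5] p :=
  scan (u := [1]) (w := [5, 6, 5, 7, 5, 6, 8, 0, 2, 0, 1, 2, 0]) (i := 3) (r9_0_10 H) (step (f12361 H) rfl) (step (H.back (i := 0) (by decide) (f11963 H)) (step (H.back (i := 1) (by decide) (f11957 H)) (step (H.back (i := 0) (by decide) (f11948 H)) (step (H.back (i := 2) (by decide) (f11480 H)) (step (H.back (i := 0) (by decide) (f11946 H)) (step (H.back (i := 1) (by decide) (f11954 H)) (step (H.back (i := 3) (by decide) (f11761 H)) (step (H.back (i := 5) (by decide) (f5583 H)) (step (H.back (i := 7) (by decide) (f11469 H)) (step (H.back (i := 5) (by decide) (f6599 H)) (step (H.back (i := 6) (by decide) (f11472 H)) (step (H.back (i := 7) (by decide) (f5751 H)) (step (H.back (i := 5) (by decide) (f11529 H)) rfl)))))))))))))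

theorem f12377 : g 2 • path g [9, 2, 8, 1, 8, 1] p = path g [8, 6, 4, 2, 3, 1] p :=
  scan (u := [0, 1, 8, 7, 3, 0, 2, 0, 1]) (w := []) (i := 2) (r7_1_6 H) (step (f12369 H) (step (f11586 H) (step (f4239 H) (step (f11632 H) (step (f10076 H) (step (f10141 H) (step (f9775 H) (step (f9708 H) (step (f11652 H) rfl))))))))) rfl

theorem f12379 : g 8 • path g [8, 1, 8, 9, 6] p = path g [8, 1, 8, 9, 6, 8] p :=
  rfl

theorem f12380 : g 3 • path g [8, 1, 8, 9, 6, 8] p = path g [8, 1, 8, 9, 6] p :=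
  H.back (i := 8) (by decide) (f12379 H)

theorem f12381 : g 9 • path g [8, 1, 8, 9, 6, 8] p = path g [8, 1, 8, 6, 3] p :=
  scan (u := [8]) (w := [8, 9]) (i := 9) (r15_1_0 H) (step (f12379 H) rfl) (step (H.back (i := 3) (by decide) (f4341 H)) (step (H.back (i := 4) (by decide) (f4262 H)) rfl))

theorem f12382 : g 4 • path g [8, 1, 8, 6, 3] p = path g [8, 1, 8, 9, 6, 8] p :=
  H.back (i := 9) (by decide) (f12381 H)

theorem f12383 : g 0 • path g [8, 1, 8, 9, 6, 8] p = path g [4, 2, 8, 9, 1] p :=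
  scan (u := [8]) (w := [2, 0, 2, 3, 5, 6, 7, 5, 6]) (i := 0) (r8_0_9 H) (step (f12379 H) rfl) (step (H.back (i := 7) (by decide) (f12251 H)) (step (H.back (i := 5) (by decide) (f12243 H)) (step (H.back (i := 7) (by decide) (f12229 H)) (step (H.back (i := 8) (by decide) (f12225 H)) (step (H.back (i := 0) (by decide) (f5474 H)) (step (H.back (i := 1) (by decide) (f5468 H)) (step (H.back (i := 2) (by decide) (f5703 H)) (step (H.back (i := 0) (by decide) (f6756 H)) (step (H.back (i := 1) (by decide) (f4261 H)) rfl)))))))))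

theorem f12385 : g 0 • path g [4, 2, 8, 9, 1] p = path g [8, 1, 8, 9, 6, 8] p :=
  scan (u := [0]) (w := []) (i := 0) (r0_0_0 H) (step (f12383 H) rfl) rfl

theorem f12387 : g 9 • path g [4, 8, 5, 2, 1] p = path g [8, 1, 8, 9, 6, 8] p :=
  scan (u := [0, 4, 5]) (w := []) (i := 9) (r13_0_2 H) (step (f12383 H) (step (f5251 H) (step (f5074 H) rfl))) rfl

theorem f12388 : g 4 • path g [8, 1, 8, 9, 6, 8] p = path g [4, 8, 5, 2, 1] p :=
  H.back (i := 9) (by decide) (f12387 H)

theorem f12389 : g 1 • path g [4, 8, 5, 2, 9] p = path g [8, 1, 8, 9, 6, 8] p :=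
  scan (u := [0, 6, 6, 0, 1, 0]) (w := []) (i := 1) (r4_0_0 H) (step (f12383 H) (step (f5248 H) (step (f9467 H) (step (f11187 H) (step (f11889 H) (step (f11882 H) rfl)))))) rfl

theorem f12391 : g 6 • path g [3, 1, 8, 1, 3] p = path g [8, 1, 8, 9, 6, 8] p :=
  scan (u := [0, 1, 0, 1, 0, 6]) (w := []) (i := 6) (r4_0_3 H) (step (f12383 H) (step (f9473 H) (step (f11187 H) (step (f11889 H) (step (f11882 H) (step (f9397 H) rfl)))))) rfl

theorem f12392 : g 1 • path g [8, 1, 8, 9, 6, 8] p = path g [3, 1, 8, 1, 3] p :=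
  H.back (i := 6) (by decide) (f12391 H)

theorem f12393 : g 3 • path g [8, 1, 8, 9, 6] p = path g [8, 1, 8, 9, 6, 3] p :=
  rfl

theorem f12395 : g 3 • path g [8, 1, 8, 9, 6, 3] p = path g [8, 1, 8, 9, 6, 8] p :=
  scan (u := [3]) (w := [3]) (i := 3) (r6_0_0 H) (step (f12393 H) rfl) (step (H.back (i := 8) (by decide) (f12379 H)) rfl)

theorem f12396 : g 8 • path g [8, 1, 8, 9, 6, 8] p = path g [8, 1, 8, 9, 6, 3] p :=
  H.back (i := 3) (by decide) (f12395 H)

theorem f12397 : g 4 • path g [8, 1, 8, 9, 6, 3] p = path g [4, 2, 8, 9, 2] p :=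
  scan (u := [3]) (w := [3, 4]) (i := 4) (r15_0_1 H) (step (f12393 H) rfl) (step (H.back (i := 8) (by decide) (f9549 H)) (step (H.back (i := 9) (by decide) (f4348 H)) rfl))

theorem f12399 : g 6 • path g [8, 1, 8, 9, 6, 3] p = path g [9, 2, 9, 3, 5, 3] p :=
  scan (u := [3]) (w := [5, 7, 6, 5, 7, 5, 8, 2]) (i := 6) (r7_0_1 H) (step (f12393 H) rfl) (step (H.back (i := 0) (by decide) (f12082 H)) (step (H.back (i := 2) (by decide) (f12086 H)) (step (H.back (i := 1) (by decide) (f12190 H)) (step (H.back (i := 0) (by decide) (f12189 H)) (step (H.back (i := 2) (by decide) (f11557 H)) (step (H.back (i := 0) (by decide) (f3848 H)) (step (H.back (i := 3) (by decide) (f11909 H)) (step (H.back (i := 7) (by decide) (f11919 H)) rfl))))))))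

theorem f12400 : g 1 • path g [9, 2, 9, 3, 5, 3] p = path g [8, 1, 8, 9, 6, 3] p :=
  H.back (i := 6) (by decide) (f12399 H)

theorem f12401 : g 0 • path g [8, 1, 8, 9, 6, 3] p = path g [4, 2, 5, 4, 2] p :=
  scan (u := [3]) (w := [2, 0, 1, 2, 0, 1, 8, 7]) (i := 0) (r7_1_0 H) (step (f12393 H) rfl) (step (H.back (i := 7) (by decide) (f5339 H)) (step (H.back (i := 5) (by decide) (f1311 H)) (step (H.back (i := 6) (by decide) (f366 H)) (step (H.back (i := 7) (by decide) (f10235 H)) (step (H.back (i := 5) (by decide) (f1308 H)) (step (H.back (i := 6) (by decide) (f3585 H)) (step (H.back (i := 3) (by decide) (f11909 H)) (step (H.back (i := 2) (by decide) (f11920 H)) rfl))))))))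

theorem f12402 : g 5 • path g [4, 2, 5, 4, 2] p = path g [8, 1, 8, 9, 6, 3] p :=
  H.back (i := 0) (by decide) (f12401 H)

theorem f12403 : g 5 • path g [8, 1, 8, 9, 6, 3] p = path g [4, 2, 5, 4, 2] p :=
  scan (u := [3]) (w := [6, 7, 5, 6, 8, 0, 2, 0, 2]) (i := 5) (r8_0_3 H) (step (f12393 H) rfl) (step (H.back (i := 1) (by decide) (f11564 H)) (step (H.back (i := 2) (by decide) (f11578 H)) (step (H.back (i := 0) (by decide) (f3849 H)) (step (H.back (i := 1) (by decide) (f3852 H)) (step (H.back (i := 3) (by decide) (f11909 H)) (step (H.back (i := 5) (by decide) (f11986 H)) (step (H.back (i := 7) (by decide) (f11982 H)) (step (H.back (i := 5) (by decide) (f11985 H)) (step (H.back (i := 7) (by decide) (f11919 H)) rfl)))))))))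

theorem f12404 : g 0 • path g [4, 2, 5, 4, 2] p = path g [8, 1, 8, 9, 6, 3] p :=
  H.back (i := 5) (by decide) (f12403 H)

theorem f12405 : g 4 • path g [3, 9, 6, 3, 2] p = path g [8, 1, 8, 9, 6, 3] p :=
  scan (u := [5, 9, 0]) (w := []) (i := 4) (r13_0_0 H) (step (f12403 H) (step (f11571 H) (step (f10333 H) rfl))) rfl

theorem f12406 : g 9 • path g [8, 1, 8, 9, 6, 3] p = path g [3, 9, 6, 3, 2] p :=
  H.back (i := 4) (by decide) (f12405 H)

theorem f12407 : g 6 • path g [9, 8, 2, 9, 1, 8] p = path g [8, 1, 8, 9, 6, 3] p :=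
  scan (u := [5, 7, 6, 5, 7, 5, 8, 2, 3]) (w := []) (i := 6) (r7_0_3 H) (step (f12403 H) (step (f5337 H) (step (f3854 H) (step (f3847 H) (step (f11575 H) (step (f7782 H) (step (f12249 H) (step (f12236 H) (step (f10183 H) rfl))))))))) rfl

theorem f12408 : g 1 • path g [8, 1, 8, 9, 6, 3] p = path g [9, 8, 2, 9, 1, 8] p :=
  H.back (i := 6) (by decide) (f12407 H)

theorem f12409 : g 7 • path g [9, 2, 9, 5, 2, 5] p = path g [8, 1, 8, 9, 6, 3] p :=
  scan (u := [5, 8, 2, 3, 6, 5, 7, 6, 5]) (w := []) (i := 7) (r7_0_8 H) (step (f12403 H) (step (f10222 H) (step (f9603 H) (step (f3005 H) (step (f3010 H) (step (f3016 H) (step (f7614 H) (step (f7610 H) (step (f7595 H) rfl))))))))) rfl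

theorem f12410 : g 2 • path g [8, 1, 8, 9, 6, 3] p = path g [9, 2, 9, 5, 2, 5] p :=
  H.back (i := 7) (by decide) (f12409 H)

theorem f12411 : g 7 • path g [8, 1, 8, 9, 6, 3] p = path g [9, 2, 9, 5, 2, 5] p :=
  scan (u := [5, 7, 5, 7, 5, 7, 5]) (w := [4, 2, 0, 2, 0, 2, 0, 2, 0, 4]) (i := 7) (r11_0_6 H) (step (f12403 H) (step (f5337 H) (step (f1308 H) (step (f10235 H) (step (f1311 H) (step (f5339 H) (step (f12402 H) rfl))))))) (step (H.back (i := 9) (by decide) (f11496 H)) (step (H.back (i := 7) (by decide) (f11489 H)) (step (H.back (i := 5) (by decide) (f2865 H)) (step (H.back (i := 7) (by decide) (f2862 H)) (step (H.back (i := 5) (by decide) (f8052 H)) (step (H.back (i := 7) (by decide) (f10852 H)) (step (H.back (i := 5) (by decide) (f10869 H)) (step (H.back (i := 7) (by decide) (f10309 H)) (step (H.back (i := 5) (by decide) (f10332 H)) (step (H.back (i := 9) (by decide) (f12406 H)) rfl))))))))))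

theorem f12412 : g 2 • path g [9, 2, 9, 5, 2, 5] p = path g [8, 1, 8, 9, 6, 3] p :=
  H.back (i := 7) (by decide) (f12411 H)

theorem f12413 : g 9 • path g [8, 1, 8, 6, 8] p = path g [8, 1, 8, 6, 8, 9] p :=
  rfl

theorem f12414 : g 4 • path g [8, 1, 8, 6, 8, 9] p = path g [8, 1, 8, 6, 8] p :=
  H.back (i := 9) (by decide) (f12413 H)

theorem f12415 : g 9 • path g [8, 1, 8, 6, 8, 9] p = path g [9, 8, 2, 1, 3, 5] p :=
  scan (u := [9]) (w := [9]) (i := 9) (r10_1_0 H) (step (f12413 H) rfl) (step (H.back (i := 4) (by decide) (f11178 H)) rfl)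

theorem f12416 : g 4 • path g [9, 8, 2, 1, 3, 5] p = path g [8, 1, 8, 6, 8, 9] p :=
  H.back (i := 9) (by decide) (f12415 H)

theorem f12417 : g 0 • path g [8, 1, 8, 6, 8, 9] p = path g [9, 8, 2, 9, 1, 8] p :=
  scan (u := [9]) (w := [4, 5]) (i := 0) (r13_0_1 H) (step (f12413 H) rfl) (step (H.back (i := 9) (by decide) (f10455 H)) (step (H.back (i := 0) (by decide) (f11184 H)) rfl))

theorem f12418 : g 5 • path g [9, 8, 2, 9, 1, 8] p = path g [8, 1, 8, 6, 8, 9] p :=
  H.back (i := 0) (by decide) (f12417 H)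

theorem f12419 : g 5 • path g [8, 1, 8, 6, 8, 9] p = path g [9, 8, 2, 9, 1, 8] p :=
  scan (u := [9]) (w := [4, 0]) (i := 5) (r13_1_0 H) (step (f12413 H) rfl) (step (H.back (i := 9) (by decide) (f10455 H)) (step (H.back (i := 5) (by decide) (f11181 H)) rfl))

theorem f12420 : g 0 • path g [9, 8, 2, 9, 1, 8] p = path g [8, 1, 8, 6, 8, 9] p :=
  H.back (i := 5) (by decide) (f12419 H)

theorem f12421 : g 1 • path g [8, 1, 8, 6, 8, 9] p = path g [9, 2, 9, 3, 9, 5] p :=
  scan (u := [9]) (w := [4, 6]) (i := 1) (r14_0_3 H) (step (f12413 H) rfl) (step (H.back (i := 9) (by decide) (f7789 H)) (step (H.back (i := 1) (by decide) (f11172 H)) rfl))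

theorem f12422 : g 6 • path g [9, 2, 9, 3, 9, 5] p = path g [8, 1, 8, 6, 8, 9] p :=
  H.back (i := 1) (by decide) (f12421 H)

theorem f12423 : g 8 • path g [8, 1, 8, 6, 8, 9] p = path g [8, 1, 8, 6, 4] p :=
  scan (u := [9]) (w := [9, 8]) (i := 8) (r15_1_1 H) (step (f12413 H) rfl) (step (H.back (i := 4) (by decide) (f4345 H)) (step (H.back (i := 3) (by decide) (f4340 H)) rfl))

theorem f12424 : g 3 • path g [8, 1, 8, 6, 4] p = path g [8, 1, 8, 6, 8, 9] p :=
  H.back (i := 8) (by decide) (f12423 H)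

theorem f12425 : g 2 • path g [8, 1, 8, 6, 8, 9] p = path g [9, 2, 9, 3, 2, 8] p :=
  scan (u := [9]) (w := [0, 2, 0, 2, 0, 2, 0, 9, 5, 7, 5, 7, 5, 7, 5, 7]) (i := 2) (r11_1_3 H) (step (f12413 H) rfl) (step (H.back (i := 5) (by decide) (f11618 H)) (step (H.back (i := 7) (by decide) (f11610 H)) (step (H.back (i := 5) (by decide) (f12080 H)) (step (H.back (i := 7) (by decide) (f12087 H)) (step (H.back (i := 5) (by decide) (f12083 H)) (step (H.back (i := 7) (by decide) (f11608 H)) (step (H.back (i := 5) (by decide) (f11615 H)) (step (H.back (i := 4) (by decide) (f11613 H)) (step (H.back (i := 0) (by decide) (f11193 H)) (step (H.back (i := 2) (by decide) (f11095 H)) (step (H.back (i := 0) (by decide) (f11119 H)) (step (H.back (i := 2) (by decide) (f8308 H)) (step (H.back (i := 0) (by decide) (f11120 H)) (step (H.back (i := 2) (by decide) (f11097 H)) (step (H.back (i := 0) (by decide) (f11195 H)) (step (H.back (i := 2) (by decide) (f4727 H)) rfl))))))))))))))))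

theorem f12427 : g 7 • path g [8, 1, 8, 6, 8, 9] p = path g [9, 2, 9, 3, 2, 8] p :=
  scan (u := [9, 5, 7, 5, 7, 5, 7, 5]) (w := [9, 2, 0, 2, 0, 2, 0, 2, 0]) (i := 7) (r11_1_12 H) (step (f12413 H) (step (f12419 H) (step (f11804 H) (step (f12088 H) (step (f12094 H) (step (f12090 H) (step (f11802 H) (step (f12418 H) rfl)))))))) (step (H.back (i := 4) (by decide) (f11613 H)) (step (H.back (i := 7) (by decide) (f4725 H)) (step (H.back (i := 5) (by decide) (f11186 H)) (step (H.back (i := 7) (by decide) (f10922 H)) (step (H.back (i := 5) (by decide) (f11188 H)) (step (H.back (i := 7) (by decide) (f4853 H)) (step (H.back (i := 5) (by decide) (f11190 H)) (step (H.back (i := 7) (by decide) (f10924 H)) (step (H.back (i := 5) (by decide) (f11181 H)) rfl)))))))))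

theorem f12428 : g 2 • path g [9, 2, 9, 3, 2, 8] p = path g [8, 1, 8, 6, 8, 9] p :=
  H.back (i := 7) (by decide) (f12427 H)

theorem f12429 : g 8 • path g [4, 2, 8, 9, 2] p = path g [8, 1, 8, 6, 8, 9] p :=
  scan (u := [7, 3, 0, 2, 0, 1, 2, 0, 1]) (w := []) (i := 8) (r7_1_9 H) (step (f12427 H) (step (f7807 H) (step (f9725 H) (step (f11627 H) (step (f12312 H) (step (f12303 H) (step (f12231 H) (step (f12245 H) (step (f12234 H) rfl))))))))) rfl

theorem f12430 : g 3 • path g [8, 1, 8, 6, 8, 9] p = path g [4, 2, 8, 9, 2] p :=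
  H.back (i := 8) (by decide) (f12429 H)

theorem f12431 : g 9 • path g [8, 1, 8, 4, 2] p = path g [8, 1, 8, 4, 2, 9] p :=
  rfl

theorem f12432 : g 4 • path g [8, 1, 8, 4, 2, 9] p = path g [8, 1, 8, 4, 2] p :=
  H.back (i := 9) (by decide) (f12431 H)

theorem f12433 : g 0 • path g [8, 1, 8, 4, 2, 9] p = path g [9, 2, 5, 6, 4, 2] p :=
  scan (u := [9]) (w := [4, 5]) (i := 0) (r13_0_1 H) (step (f12431 H) rfl) (step (H.back (i := 9) (by decide) (f12126 H)) (step (H.back (i := 0) (by decide) (f12131 H)) rfl))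

theorem f12435 : g 5 • path g [8, 1, 8, 4, 2, 9] p = path g [9, 2, 5, 6, 4, 2] p :=
  scan (u := [9]) (w := [4, 0]) (i := 5) (r13_1_0 H) (step (f12431 H) rfl) (step (H.back (i := 9) (by decide) (f12126 H)) (step (H.back (i := 5) (by decide) (f12129 H)) rfl))

theorem f12436 : g 0 • path g [9, 2, 5, 6, 4, 2] p = path g [8, 1, 8, 4, 2, 9] p :=
  H.back (i := 5) (by decide) (f12435 H)

theorem f12437 : g 1 • path g [8, 1, 8, 4, 2, 9] p = path g [9, 3, 2, 9, 3, 5] p :=
  scan (u := [9]) (w := [4, 6]) (i := 1) (r14_0_3 H) (step (f12431 H) rfl) (step (H.back (i := 9) (by decide) (f12046 H)) (step (H.back (i := 1) (by decide) (f12051 H)) rfl))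

theorem f12439 : g 6 • path g [8, 1, 8, 4, 2, 9] p = path g [9, 2, 4, 8, 2, 3] p :=
  scan (u := [9]) (w := [4, 1]) (i := 6) (r14_1_2 H) (step (f12431 H) rfl) (step (H.back (i := 9) (by decide) (f11845 H)) (step (H.back (i := 6) (by decide) (f9663 H)) rfl))

theorem f12440 : g 1 • path g [9, 2, 4, 8, 2, 3] p = path g [8, 1, 8, 4, 2, 9] p :=
  H.back (i := 6) (by decide) (f12439 H)

theorem f12441 : g 8 • path g [8, 1, 8, 4, 2, 9] p = path g [9, 2, 8, 1, 8, 1] p :=
  scan (u := [9]) (w := [9, 8]) (i := 8) (r15_1_1 H) (step (f12431 H) rfl) (step (H.back (i := 4) (by decide) (f11659 H)) (step (H.back (i := 3) (by decide) (f7225 H)) rfl))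

theorem f12442 : g 3 • path g [9, 2, 8, 1, 8, 1] p = path g [8, 1, 8, 4, 2, 9] p :=
  H.back (i := 8) (by decide) (f12441 H)

theorem f12443 : g 7 • path g [8, 9, 6, 8, 1, 3] p = path g [8, 1, 8, 4, 2, 9] p :=
  scan (u := [6, 7, 6]) (w := []) (i := 7) (r3_1_1 H) (step (f12439 H) (step (f12296 H) (step (f12295 H) rfl))) rfl

theorem f12444 : g 2 • path g [8, 1, 8, 4, 2, 9] p = path g [8, 9, 6, 8, 1, 3] p :=
  H.back (i := 7) (by decide) (f12443 H)

theorem f12445 : g 7 • path g [8, 1, 8, 4, 2, 9] p = path g [8, 9, 6, 8, 1, 3] p :=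
  scan (u := [7]) (w := []) (i := 7) (r2_1_0 H) (step (f12443 H) rfl) rfl

theorem f12446 : g 2 • path g [8, 9, 6, 8, 1, 3] p = path g [8, 1, 8, 4, 2, 9] p :=
  H.back (i := 7) (by decide) (f12445 H)

theorem f12447 : g 4 • path g [8, 1, 8, 4, 2] p = path g [8, 1, 8, 4, 2, 4] p :=
  rfl

theorem f12449 : g 4 • path g [8, 1, 8, 4, 2, 4] p = path g [8, 1, 8, 4, 2, 9] p :=
  scan (u := [4]) (w := [4]) (i := 4) (r10_0_0 H) (step (f12447 H) rfl) (step (H.back (i := 9) (by decide) (f12431 H)) rfl)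

theorem f12451 : g 5 • path g [8, 1, 8, 4, 2, 4] p = path g [9, 8, 6, 3, 1, 3] p :=
  scan (u := [4]) (w := [9, 0]) (i := 5) (r13_0_3 H) (step (f12447 H) rfl) (step (H.back (i := 4) (by decide) (f12124 H)) (step (H.back (i := 5) (by decide) (f12129 H)) rfl))

theorem f12452 : g 0 • path g [9, 8, 6, 3, 1, 3] p = path g [8, 1, 8, 4, 2, 4] p :=
  H.back (i := 5) (by decide) (f12451 H)

theorem f12453 : g 0 • path g [8, 1, 8, 4, 2, 4] p = path g [9, 8, 6, 3, 1, 3] p :=
  scan (u := [4]) (w := [9, 5]) (i := 0) (r13_1_2 H) (step (f12447 H) rfl) (step (H.back (i := 4) (by decide) (f12124 H)) (step (H.back (i := 0) (by decide) (f12131 H)) rfl))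

theorem f12454 : g 5 • path g [9, 8, 6, 3, 1, 3] p = path g [8, 1, 8, 4, 2, 4] p :=
  H.back (i := 0) (by decide) (f12453 H)

theorem f12455 : g 6 • path g [8, 1, 8, 4, 2, 4] p = path g [8, 1, 3, 1, 8] p :=
  scan (u := [4]) (w := [9, 1]) (i := 6) (r14_0_1 H) (step (f12447 H) rfl) (step (H.back (i := 4) (by decide) (f9415 H)) (step (H.back (i := 6) (by decide) (f9663 H)) rfl))

theorem f12456 : g 1 • path g [8, 1, 3, 1, 8] p = path g [8, 1, 8, 4, 2, 4] p :=
  H.back (i := 6) (by decide) (f12455 H)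

theorem f12457 : g 3 • path g [8, 1, 8, 4, 2, 4] p = path g [9, 2, 8, 1, 8, 1] p :=
  scan (u := [4]) (w := [4, 3]) (i := 3) (r15_0_0 H) (step (f12447 H) rfl) (step (H.back (i := 9) (by decide) (f11657 H)) (step (H.back (i := 8) (by decide) (f7350 H)) rfl))

theorem f12459 : g 3 • path g [8, 1, 8, 4, 2, 9] p = path g [8, 1, 8, 4, 2, 4] p :=
  scan (u := [3, 3]) (w := []) (i := 3) (r6_0_0 H) (step (f12457 H) (step (f12442 H) rfl)) rfl

theorem f12462 : g 1 • path g [8, 1, 3, 6, 3] p = path g [8, 1, 3, 6, 3, 1] p :=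
  rfl

theorem f12464 : g 1 • path g [8, 1, 3, 6, 3, 1] p = path g [9, 3, 9, 2, 8, 4] p :=
  scan (u := [1]) (w := [1]) (i := 1) (r1_0_0 H) (step (f12462 H) rfl) (step (H.back (i := 6) (by decide) (f11905 H)) rfl)

theorem f12466 : g 2 • path g [8, 1, 3, 6, 3, 1] p = path g [4, 2, 9, 3, 5] p :=
  scan (u := [1]) (w := [1, 2]) (i := 2) (r3_0_0 H) (step (f12462 H) rfl) (step (H.back (i := 6) (by decide) (f11138 H)) (step (H.back (i := 7) (by decide) (f9648 H)) rfl))

theorem f12468 : g 4 • path g [8, 1, 3, 6, 3, 1] p = path g [3, 6, 8, 1, 8] p :=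
  scan (u := [1]) (w := [6, 9]) (i := 4) (r14_0_0 H) (step (f12462 H) rfl) (step (H.back (i := 1) (by decide) (f11549 H)) (step (H.back (i := 4) (by decide) (f11542 H)) rfl))

theorem f12470 : g 9 • path g [8, 1, 3, 6, 3, 1] p = path g [4, 2, 8, 6, 5] p :=
  scan (u := [1]) (w := [6, 4]) (i := 9) (r14_1_1 H) (step (f12462 H) rfl) (step (H.back (i := 1) (by decide) (f5273 H)) (step (H.back (i := 9) (by decide) (f11048 H)) rfl))

theorem f12471 : g 4 • path g [4, 2, 8, 6, 5] p = path g [8, 1, 3, 6, 3, 1] p :=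
  H.back (i := 9) (by decide) (f12470 H)

theorem f12472 : g 0 • path g [8, 1, 3, 6, 3, 1] p = path g [4, 2, 8, 6, 4] p :=
  scan (u := [1]) (w := [1, 0, 6, 6, 0]) (i := 0) (r4_0_4 H) (step (f12462 H) rfl) (step (H.back (i := 6) (by decide) (f5285 H)) (step (H.back (i := 5) (by decide) (f3813 H)) (step (H.back (i := 1) (by decide) (f3881 H)) (step (H.back (i := 1) (by decide) (f3905 H)) (step (H.back (i := 5) (by decide) (f11043 H)) rfl)))))

theorem f12474 : g 5 • path g [8, 1, 3, 6, 3, 1] p = path g [4, 2, 8, 6, 4] p :=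
  scan (u := [1]) (w := [6, 5, 6, 5, 1]) (i := 5) (r4_1_5 H) (step (f12462 H) rfl) (step (H.back (i := 1) (by decide) (f10443 H)) (step (H.back (i := 0) (by decide) (f11169 H)) (step (H.back (i := 1) (by decide) (f11455 H)) (step (H.back (i := 0) (by decide) (f11902 H)) (step (H.back (i := 6) (by decide) (f11905 H)) rfl)))))

theorem f12475 : g 0 • path g [4, 2, 8, 6, 4] p = path g [8, 1, 3, 6, 3, 1] p :=
  H.back (i := 5) (by decide) (f12474 H)

theorem f12476 : g 3 • path g [3, 6, 8, 1, 4] p = path g [8, 1, 3, 6, 3, 1] p :=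
  scan (u := [5, 6, 7, 5, 6, 8, 0, 2, 0, 2]) (w := []) (i := 3) (r8_0_4 H) (step (f12474 H) (step (f10445 H) (step (f4869 H) (step (f10971 H) (step (f3608 H) (step (f3587 H) (step (f3592 H) (step (f10145 H) (step (f7215 H) (step (f10568 H) rfl)))))))))) rfl

theorem f12478 : g 3 • path g [8, 1, 3, 6, 3, 1] p = path g [9, 2, 5, 6, 4, 2] p :=
  scan (u := [3]) (w := [3]) (i := 3) (r6_0_0 H) (step (f12476 H) rfl) (step (H.back (i := 8) (by decide) (f11698 H)) rfl)

theorem f12480 : g 2 • path g [4, 2, 9, 3, 5] p = path g [8, 1, 3, 6, 3, 1] p :=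
  scan (u := [3, 6, 5, 7, 6, 5, 7, 5, 8]) (w := []) (i := 2) (r7_0_1 H) (step (f12478 H) (step (f11697 H) (step (f11750 H) (step (f11758 H) (step (f11762 H) (step (f11960 H) (step (f12069 H) (step (f12064 H) (step (f11854 H) rfl))))))))) rfl

theorem f12482 : g 6 • path g [8, 1, 3, 1, 8] p = path g [8, 1, 3, 1, 8, 6] p :=
  rfl

theorem f12483 : g 1 • path g [8, 1, 3, 1, 8, 6] p = path g [8, 1, 3, 1, 8] p :=
  H.back (i := 6) (by decide) (f12482 H)

theorem f12484 : g 6 • path g [8, 1, 3, 1, 8, 6] p = path g [8, 1, 8, 4, 2, 4] p :=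
  scan (u := [6]) (w := [6]) (i := 6) (r1_1_0 H) (step (f12482 H) rfl) (step (H.back (i := 1) (by decide) (f12456 H)) rfl)

theorem f12485 : g 1 • path g [8, 1, 8, 4, 2, 4] p = path g [8, 1, 3, 1, 8, 6] p :=
  H.back (i := 6) (by decide) (f12484 H)

theorem f12486 : g 7 • path g [8, 1, 3, 1, 8, 6] p = path g [8, 1, 8, 4, 2, 4] p :=
  scan (u := [6]) (w := [6, 7]) (i := 7) (r3_1_1 H) (step (f12482 H) rfl) (step (H.back (i := 1) (by decide) (f12456 H)) (step (H.back (i := 2) (by decide) (f4959 H)) rfl))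

theorem f12487 : g 2 • path g [8, 1, 8, 4, 2, 4] p = path g [8, 1, 3, 1, 8, 6] p :=
  H.back (i := 7) (by decide) (f12486 H)

theorem f12488 : g 9 • path g [8, 1, 3, 1, 8, 6] p = path g [9, 3, 2, 4, 8, 5] p :=
  scan (u := [6]) (w := [1, 4]) (i := 9) (r14_0_2 H) (step (f12482 H) rfl) (step (H.back (i := 6) (by decide) (f12052 H)) (step (H.back (i := 9) (by decide) (f9416 H)) rfl))

theorem f12489 : g 4 • path g [9, 3, 2, 4, 8, 5] p = path g [8, 1, 3, 1, 8, 6] p :=
  H.back (i := 9) (by decide) (f12488 H)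

theorem f12490 : g 4 • path g [8, 1, 3, 1, 8, 6] p = path g [9, 3, 2, 9, 3, 5] p :=
  scan (u := [6]) (w := [1, 9]) (i := 4) (r14_1_3 H) (step (f12482 H) rfl) (step (H.back (i := 6) (by decide) (f11966 H)) (step (H.back (i := 4) (by decide) (f11850 H)) rfl))

theorem f12492 : g 0 • path g [8, 1, 3, 1, 8, 6] p = path g [9, 2, 5, 6, 4, 8] p :=
  scan (u := [6]) (w := [1, 0, 1, 0, 6]) (i := 0) (r4_0_2 H) (step (f12482 H) rfl) (step (H.back (i := 6) (by decide) (f11684 H)) (step (H.back (i := 5) (by decide) (f11447 H)) (step (H.back (i := 6) (by decide) (f11702 H)) (step (H.back (i := 5) (by decide) (f12451 H)) (step (H.back (i := 1) (by decide) (f12456 H)) rfl)))))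

theorem f12494 : g 5 • path g [8, 1, 3, 1, 8, 6] p = path g [9, 2, 5, 6, 4, 8] p :=
  scan (u := [6]) (w := [6, 5, 1, 1, 5]) (i := 5) (r4_1_0 H) (step (f12482 H) rfl) (step (H.back (i := 1) (by decide) (f11683 H)) (step (H.back (i := 0) (by decide) (f7877 H)) (step (H.back (i := 6) (by decide) (f11251 H)) (step (H.back (i := 6) (by decide) (f11256 H)) (step (H.back (i := 0) (by decide) (f11235 H)) rfl)))))

theorem f12495 : g 0 • path g [9, 2, 5, 6, 4, 8] p = path g [8, 1, 3, 1, 8, 6] p :=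
  H.back (i := 5) (by decide) (f12494 H)

theorem f12496 : g 8 • path g [8, 1, 3, 1, 8, 6] p = path g [9, 2, 5, 1, 4, 2] p :=
  scan (u := [6]) (w := [0, 2, 0, 2, 3, 5, 6, 7, 5]) (i := 8) (r8_0_8 H) (step (f12482 H) rfl) (step (H.back (i := 5) (by decide) (f11731 H)) (step (H.back (i := 7) (by decide) (f11475 H)) (step (H.back (i := 5) (by decide) (f11848 H)) (step (H.back (i := 7) (by decide) (f12298 H)) (step (H.back (i := 8) (by decide) (f12283 H)) (step (H.back (i := 0) (by decide) (f10987 H)) (step (H.back (i := 1) (by decide) (f3055 H)) (step (H.back (i := 2) (by decide) (f11224 H)) (step (H.back (i := 0) (by decide) (f11235 H)) rfl)))))))))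

theorem f12497 : g 3 • path g [9, 2, 5, 1, 4, 2] p = path g [8, 1, 3, 1, 8, 6] p :=
  H.back (i := 8) (by decide) (f12496 H)

theorem f12498 : g 2 • path g [8, 1, 3, 1, 8, 6] p = path g [8, 1, 8, 4, 2, 4] p :=
  scan (u := [6]) (w := [0, 2, 1, 0, 2, 1, 0, 6, 2, 0]) (i := 2) (r5_0_1 H) (step (f12482 H) rfl) (step (H.back (i := 5) (by decide) (f12454 H)) (step (H.back (i := 7) (by decide) (f11704 H)) (step (H.back (i := 6) (by decide) (f11454 H)) (step (H.back (i := 5) (by decide) (f11170 H)) (step (H.back (i := 7) (by decide) (f4870 H)) (step (H.back (i := 6) (by decide) (f10997 H)) (step (H.back (i := 5) (by decide) (f10984 H)) (step (H.back (i := 1) (by decide) (f3055 H)) (step (H.back (i := 7) (by decide) (f11221 H)) (step (H.back (i := 5) (by decide) (f11232 H)) rfl))))))))))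

theorem f12500 : g 8 • path g [8, 9, 2, 4, 8, 5] p = path g [8, 1, 3, 1, 8, 6] p :=
  scan (u := [2, 3, 6, 5, 7, 6, 5, 7, 5]) (w := []) (i := 8) (r7_0_0 H) (step (f12498 H) (step (f12457 H) (step (f11653 H) (step (f9710 H) (step (f9777 H) (step (f9897 H) (step (f3618 H) (step (f11526 H) (step (f12138 H) rfl))))))))) rfl

theorem f12501 : g 3 • path g [8, 1, 3, 1, 8, 6] p = path g [8, 9, 2, 4, 8, 5] p :=
  H.back (i := 8) (by decide) (f12500 H)

theorem f12502 : g 2 • path g [8, 4, 2, 5, 4] p = path g [8, 4, 2, 5, 4, 2] p :=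
  rfl

theorem f12503 : g 7 • path g [8, 4, 2, 5, 4, 2] p = path g [8, 4, 2, 5, 4] p :=
  H.back (i := 2) (by decide) (f12502 H)

theorem f12504 : g 2 • path g [8, 4, 2, 5, 4, 2] p = path g [8, 4, 2, 5, 4] p :=
  scan (u := [2]) (w := []) (i := 2) (r2_0_0 H) (step (f12502 H) rfl) rfl

theorem f12506 : g 1 • path g [8, 4, 2, 5, 4, 2] p = path g [3, 1, 8, 6, 3] p :=
  scan (u := [2]) (w := [2, 1]) (i := 1) (r3_0_1 H) (step (f12502 H) rfl) (step (H.back (i := 7) (by decide) (f11096 H)) (step (H.back (i := 6) (by decide) (f11125 H)) rfl))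

theorem f12508 : g 3 • path g [8, 4, 2, 5, 4, 2] p = path g [9, 8, 2, 9, 1, 5] p :=
  scan (u := [2]) (w := [6, 5, 7, 6, 5, 7, 5, 8]) (i := 3) (r7_0_0 H) (step (f12502 H) rfl) (step (H.back (i := 1) (by decide) (f5499 H)) (step (H.back (i := 0) (by decide) (f3479 H)) (step (H.back (i := 2) (by decide) (f4980 H)) (step (H.back (i := 1) (by decide) (f9538 H)) (step (H.back (i := 0) (by decide) (f5387 H)) (step (H.back (i := 2) (by decide) (f9547 H)) (step (H.back (i := 0) (by decide) (f8608 H)) (step (H.back (i := 3) (by decide) (f8613 H)) rfl))))))))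

theorem f12510 : g 0 • path g [8, 4, 2, 5, 4, 2] p = path g [9, 8, 1, 3, 6, 3] p :=
  scan (u := [2]) (w := [1, 2, 0, 1, 8, 7, 3, 0]) (i := 0) (r7_1_2 H) (step (f12502 H) rfl) (step (H.back (i := 6) (by decide) (f11642 H)) (step (H.back (i := 7) (by decide) (f11160 H)) (step (H.back (i := 5) (by decide) (f9393 H)) (step (H.back (i := 6) (by decide) (f3821 H)) (step (H.back (i := 3) (by decide) (f3795 H)) (step (H.back (i := 2) (by decide) (f9678 H)) (step (H.back (i := 8) (by decide) (f3283 H)) (step (H.back (i := 5) (by decide) (f4550 H)) rfl))))))))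

theorem f12511 : g 5 • path g [9, 8, 1, 3, 6, 3] p = path g [8, 4, 2, 5, 4, 2] p :=
  H.back (i := 0) (by decide) (f12510 H)

theorem f12512 : g 0 • path g [9, 8, 1, 3, 6, 3] p = path g [8, 4, 2, 5, 4, 2] p :=
  scan (u := [0]) (w := []) (i := 0) (r0_0_0 H) (step (f12510 H) rfl) rfl

theorem f12514 : g 9 • path g [9, 2, 9, 5, 2, 5] p = path g [8, 4, 2, 5, 4, 2] p :=
  scan (u := [0, 4, 5]) (w := []) (i := 9) (r13_0_2 H) (step (f12510 H) (step (f11634 H) (step (f7595 H) rfl))) rfl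

theorem f12515 : g 4 • path g [8, 4, 2, 5, 4, 2] p = path g [9, 2, 9, 5, 2, 5] p :=
  H.back (i := 9) (by decide) (f12514 H)

theorem f12516 : g 4 • path g [9, 8, 2, 1, 5, 3] p = path g [8, 4, 2, 5, 4, 2] p :=
  scan (u := [0, 9, 5]) (w := []) (i := 4) (r13_1_3 H) (step (f12510 H) (step (f11637 H) (step (f11495 H) rfl))) rfl

theorem f12518 : g 1 • path g [9, 8, 1, 8, 6, 3] p = path g [8, 4, 2, 5, 4, 2] p :=
  scan (u := [0, 1, 0, 6, 6, 0]) (w := []) (i := 1) (r4_0_5 H) (step (f12510 H) (step (f11640 H) (step (f11103 H) (step (f12223 H) (step (f12304 H) (step (f12313 H) rfl)))))) rfl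

theorem f12520 : g 3 • path g [9, 2, 9, 5, 2, 5] p = path g [8, 4, 2, 5, 4, 2] p :=
  scan (u := [0, 2, 0, 1, 2, 0, 1, 8, 7]) (w := []) (i := 3) (r7_1_1 H) (step (f12510 H) (step (f11646 H) (step (f11885 H) (step (f11886 H) (step (f11894 H) (step (f11882 H) (step (f12389 H) (step (f12396 H) (step (f12411 H) rfl))))))))) rfl

theorem f12522 : g 1 • path g [3, 1, 3, 6, 3] p = path g [3, 1, 3, 6, 3, 1] p :=
  rfl

theorem f12524 : g 1 • path g [3, 1, 3, 6, 3, 1] p = path g [9, 8, 1, 3, 6, 3] p :=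
  scan (u := [1]) (w := [1]) (i := 1) (r1_0_0 H) (step (f12522 H) rfl) (step (H.back (i := 6) (by decide) (f11642 H)) rfl)

theorem f12526 : g 2 • path g [3, 1, 3, 6, 3, 1] p = path g [8, 1, 8, 9, 6, 8] p :=
  scan (u := [1]) (w := [1, 2]) (i := 2) (r3_0_0 H) (step (f12522 H) rfl) (step (H.back (i := 6) (by decide) (f12391 H)) (step (H.back (i := 7) (by decide) (f11139 H)) rfl))

theorem f12528 : g 4 • path g [3, 1, 3, 6, 3, 1] p = path g [9, 2, 9, 5, 2, 6] p :=
  scan (u := [1]) (w := [6, 9]) (i := 4) (r14_0_0 H) (step (f12522 H) rfl) (step (H.back (i := 1) (by decide) (f7611 H)) (step (H.back (i := 4) (by decide) (f11101 H)) rfl))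

theorem f12530 : g 9 • path g [3, 1, 3, 6, 3, 1] p = path g [8, 6, 4, 2, 3, 1] p :=
  scan (u := [1]) (w := [6, 4]) (i := 9) (r14_1_1 H) (step (f12522 H) rfl) (step (H.back (i := 1) (by decide) (f12361 H)) (step (H.back (i := 9) (by decide) (f11098 H)) rfl))

theorem f12531 : g 4 • path g [8, 6, 4, 2, 3, 1] p = path g [3, 1, 3, 6, 3, 1] p :=
  H.back (i := 9) (by decide) (f12530 H)

theorem f12532 : g 0 • path g [3, 1, 3, 6, 3, 1] p = path g [4, 2, 5, 4, 8] p :=
  scan (u := [1]) (w := [1, 0, 6, 6, 0]) (i := 0) (r4_0_4 H) (step (f12522 H) rfl) (step (H.back (i := 6) (by decide) (f11590 H)) (step (H.back (i := 5) (by decide) (f12218 H)) (step (H.back (i := 1) (by decide) (f12303 H)) (step (H.back (i := 1) (by decide) (f12301 H)) (step (H.back (i := 5) (by decide) (f11107 H)) rfl)))))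

theorem f12534 : g 5 • path g [3, 1, 3, 6, 3, 1] p = path g [4, 2, 5, 4, 8] p :=
  scan (u := [1]) (w := [6, 5, 6, 5, 1]) (i := 5) (r4_1_5 H) (step (f12522 H) rfl) (step (H.back (i := 1) (by decide) (f11593 H)) (step (H.back (i := 0) (by decide) (f11193 H)) (step (H.back (i := 1) (by decide) (f12506 H)) (step (H.back (i := 0) (by decide) (f12512 H)) (step (H.back (i := 6) (by decide) (f11642 H)) rfl)))))

theorem f12535 : g 0 • path g [4, 2, 5, 4, 8] p = path g [3, 1, 3, 6, 3, 1] p :=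
  H.back (i := 5) (by decide) (f12534 H)

theorem f12536 : g 3 • path g [8, 9, 2, 9, 3, 5] p = path g [3, 1, 3, 6, 3, 1] p :=
  scan (u := [5, 6, 7, 5, 6, 8, 0, 2, 0, 2]) (w := []) (i := 3) (r8_0_4 H) (step (f12534 H) (step (f11594 H) (step (f4726 H) (step (f11181 H) (step (f10926 H) (step (f12429 H) (step (f12417 H) (step (f11803 H) (step (f12091 H) (step (f12095 H) rfl)))))))))) rfl

theorem f12538 : g 3 • path g [3, 1, 3, 6, 3, 1] p = path g [9, 2, 9, 5, 3, 5] p :=
  scan (u := [3]) (w := [3]) (i := 3) (r6_0_0 H) (step (f12536 H) rfl) (step (H.back (i := 8) (by decide) (f12097 H)) rfl)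

theorem f12540 : g 2 • path g [8, 1, 8, 9, 6, 8] p = path g [3, 1, 3, 6, 3, 1] p :=
  scan (u := [3, 6, 5, 7, 6, 5, 7, 5, 8]) (w := []) (i := 2) (r7_0_1 H) (step (f12538 H) (step (f12121 H) (step (f12130 H) (step (f4372 H) (step (f4350 H) (step (f4883 H) (step (f8841 H) (step (f4329 H) (step (f12379 H) rfl))))))))) rfl

theorem f12542 : g 3 • path g [4, 8, 5, 2, 9] p = path g [4, 8, 5, 2, 9, 3] p :=
  rfl

theorem f12544 : g 3 • path g [4, 8, 5, 2, 9, 3] p = path g [4, 2, 5, 8, 4] p :=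
  scan (u := [3]) (w := [3]) (i := 3) (r6_0_0 H) (step (f12542 H) rfl) (step (H.back (i := 8) (by decide) (f5329 H)) rfl)

theorem f12545 : g 8 • path g [4, 2, 5, 8, 4] p = path g [4, 8, 5, 2, 9, 3] p :=
  H.back (i := 3) (by decide) (f12544 H)

theorem f12546 : g 4 • path g [4, 8, 5, 2, 9, 3] p = path g [4, 2, 9, 5, 3] p :=
  scan (u := [3]) (w := [3, 4]) (i := 4) (r15_0_1 H) (step (f12542 H) rfl) (step (H.back (i := 8) (by decide) (f5216 H)) (step (H.back (i := 9) (by decide) (f5080 H)) rfl))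

theorem f12548 : g 6 • path g [4, 8, 5, 2, 9, 3] p = path g [9, 2, 9, 3, 2, 8] p :=
  scan (u := [3]) (w := [5, 7, 6, 5, 7, 5, 8, 2]) (i := 6) (r7_0_1 H) (step (f12542 H) rfl) (step (H.back (i := 0) (by decide) (f11616 H)) (step (H.back (i := 2) (by decide) (f11607 H)) (step (H.back (i := 1) (by decide) (f11807 H)) (step (H.back (i := 0) (by decide) (f12417 H)) (step (H.back (i := 2) (by decide) (f12428 H)) (step (H.back (i := 0) (by decide) (f11616 H)) (step (H.back (i := 3) (by decide) (f6204 H)) (step (H.back (i := 7) (by decide) (f11648 H)) rfl))))))))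

theorem f12549 : g 1 • path g [9, 2, 9, 3, 2, 8] p = path g [4, 8, 5, 2, 9, 3] p :=
  H.back (i := 6) (by decide) (f12548 H)

theorem f12550 : g 0 • path g [4, 8, 5, 2, 9, 3] p = path g [9, 2, 9, 5, 2, 6] p :=
  scan (u := [3]) (w := [2, 0, 1, 2, 0, 1, 8, 7]) (i := 0) (r7_1_0 H) (step (f12542 H) rfl) (step (H.back (i := 7) (by decide) (f7607 H)) (step (H.back (i := 5) (by decide) (f3014 H)) (step (H.back (i := 6) (by decide) (f3001 H)) (step (H.back (i := 7) (by decide) (f2994 H)) (step (H.back (i := 5) (by decide) (f7597 H)) (step (H.back (i := 6) (by decide) (f11619 H)) (step (H.back (i := 3) (by decide) (f6204 H)) (step (H.back (i := 2) (by decide) (f11645 H)) rfl))))))))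

theorem f12552 : g 5 • path g [4, 8, 5, 2, 9, 3] p = path g [9, 2, 9, 5, 2, 6] p :=
  scan (u := [3]) (w := [6, 7, 5, 6, 8, 0, 2, 0, 2]) (i := 5) (r8_0_3 H) (step (f12542 H) rfl) (step (H.back (i := 1) (by decide) (f7611 H)) (step (H.back (i := 2) (by decide) (f7615 H)) (step (H.back (i := 0) (by decide) (f3013 H)) (step (H.back (i := 1) (by decide) (f3007 H)) (step (H.back (i := 3) (by decide) (f3277 H)) (step (H.back (i := 5) (by decide) (f4550 H)) (step (H.back (i := 7) (by decide) (f12503 H)) (step (H.back (i := 5) (by decide) (f12511 H)) (step (H.back (i := 7) (by decide) (f11648 H)) rfl)))))))))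

theorem f12553 : g 0 • path g [9, 2, 9, 5, 2, 6] p = path g [4, 8, 5, 2, 9, 3] p :=
  H.back (i := 5) (by decide) (f12552 H)

theorem f12554 : g 1 • path g [4, 8, 5, 2, 9, 3] p = path g [8, 6, 4, 2, 8, 9] p :=
  scan (u := [3]) (w := [0, 2, 1, 0, 8, 7, 5, 7, 5]) (i := 1) (r8_1_1 H) (step (f12542 H) rfl) (step (H.back (i := 5) (by decide) (f12328 H)) (step (H.back (i := 7) (by decide) (f12210 H)) (step (H.back (i := 6) (by decide) (f12092 H)) (step (H.back (i := 5) (by decide) (f12088 H)) (step (H.back (i := 3) (by decide) (f3817 H)) (step (H.back (i := 2) (by decide) (f3800 H)) (step (H.back (i := 0) (by decide) (f9552 H)) (step (H.back (i := 2) (by decide) (f11892 H)) (step (H.back (i := 0) (by decide) (f11885 H)) rfl)))))))))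

theorem f12556 : g 4 • path g [4, 2, 5, 4, 8] p = path g [4, 8, 5, 2, 9, 3] p :=
  scan (u := [1, 9, 6]) (w := []) (i := 4) (r14_1_1 H) (step (f12554 H) (step (f12325 H) (step (f11590 H) rfl))) rfl

theorem f12558 : g 8 • path g [4, 8, 6, 8, 6] p = path g [4, 8, 6, 8, 6, 8] p :=
  rfl

theorem f12559 : g 3 • path g [4, 8, 6, 8, 6, 8] p = path g [4, 8, 6, 8, 6] p :=
  H.back (i := 8) (by decide) (f12558 H)

theorem f12560 : g 8 • path g [4, 8, 6, 8, 6, 8] p = path g [8, 6, 8, 1, 8, 1] p :=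
  scan (u := [8]) (w := [8]) (i := 8) (r6_1_0 H) (step (f12558 H) rfl) (step (H.back (i := 3) (by decide) (f12277 H)) rfl)

theorem f12561 : g 3 • path g [8, 6, 8, 1, 8, 1] p = path g [4, 8, 6, 8, 6, 8] p :=
  H.back (i := 8) (by decide) (f12560 H)

theorem f12562 : g 9 • path g [4, 8, 6, 8, 6, 8] p = path g [9, 2, 3, 2, 6, 8] p :=
  scan (u := [8]) (w := [8, 9]) (i := 9) (r15_1_0 H) (step (f12558 H) rfl) (step (H.back (i := 3) (by decide) (f11813 H)) (step (H.back (i := 4) (by decide) (f8983 H)) rfl))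

theorem f12563 : g 4 • path g [9, 2, 3, 2, 6, 8] p = path g [4, 8, 6, 8, 6, 8] p :=
  H.back (i := 9) (by decide) (f12562 H)

theorem f12564 : g 2 • path g [4, 8, 6, 8, 6, 8] p = path g [9, 2, 4, 8, 5, 8] p :=
  scan (u := [8]) (w := [3, 6, 5, 7, 6, 5, 7, 5]) (i := 2) (r7_0_9 H) (step (f12558 H) rfl) (step (H.back (i := 8) (by decide) (f11852 H)) (step (H.back (i := 1) (by decide) (f10355 H)) (step (H.back (i := 0) (by decide) (f5797 H)) (step (H.back (i := 2) (by decide) (f10375 H)) (step (H.back (i := 1) (by decide) (f10119 H)) (step (H.back (i := 0) (by decide) (f7404 H)) (step (H.back (i := 2) (by decide) (f11473 H)) (step (H.back (i := 0) (by decide) (f5581 H)) rfl))))))))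

theorem f12566 : g 7 • path g [4, 8, 6, 8, 6, 8] p = path g [9, 2, 4, 8, 5, 8] p :=
  scan (u := [8]) (w := [3, 0, 2, 0, 1, 2, 0, 1]) (i := 7) (r7_1_8 H) (step (f12558 H) rfl) (step (H.back (i := 8) (by decide) (f11852 H)) (step (H.back (i := 5) (by decide) (f3522 H)) (step (H.back (i := 7) (by decide) (f3519 H)) (step (H.back (i := 5) (by decide) (f10882 H)) (step (H.back (i := 6) (by decide) (f1683 H)) (step (H.back (i := 7) (by decide) (f10623 H)) (step (H.back (i := 5) (by decide) (f5116 H)) (step (H.back (i := 6) (by decide) (f5110 H)) rfl))))))))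

theorem f12567 : g 2 • path g [9, 2, 4, 8, 5, 8] p = path g [4, 8, 6, 8, 6, 8] p :=
  H.back (i := 7) (by decide) (f12566 H)

theorem f12568 : g 6 • path g [9, 2, 4, 8, 5, 8] p = path g [4, 8, 6, 8, 6, 8] p :=
  scan (u := [7, 5, 6, 8, 0, 2, 0, 2, 3, 5]) (w := []) (i := 6) (r8_0_6 H) (step (f12566 H) (step (f12067 H) (step (f12292 H) (step (f12281 H) (step (f6460 H) (step (f10524 H) (step (f6465 H) (step (f10396 H) (step (f12056 H) (step (f12064 H) rfl)))))))))) rfl

theorem f12569 : g 1 • path g [4, 8, 6, 8, 6, 8] p = path g [9, 2, 4, 8, 5, 8] p :=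
  H.back (i := 6) (by decide) (f12568 H)

theorem f12570 : g 5 • path g [9, 3, 2, 9, 6, 8] p = path g [4, 8, 6, 8, 6, 8] p :=
  scan (u := [7, 5, 3, 1, 0, 2, 1, 0, 8, 7]) (w := []) (i := 5) (r8_1_10 H) (step (f12566 H) (step (f12067 H) (step (f12058 H) (step (f11904 H) (step (f11046 H) (step (f11076 H) (step (f11081 H) (step (f11054 H) (step (f11968 H) (step (f11975 H) rfl)))))))))) rfl

theorem f12571 : g 0 • path g [4, 8, 6, 8, 6, 8] p = path g [9, 3, 2, 9, 6, 8] p :=
  H.back (i := 5) (by decide) (f12570 H)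

theorem f12572 : g 5 • path g [4, 8, 6, 8, 6, 8] p = path g [9, 3, 2, 9, 6, 8] p :=
  scan (u := [7, 5, 7, 5, 7, 4, 2, 0, 2, 0, 2, 0, 2, 0, 4]) (w := [7, 5]) (i := 5) (r11_0_9 H) (step (f12566 H) (step (f12067 H) (step (f12071 H) (step (f11962 H) (step (f11943 H) (step (f11951 H) (step (f5571 H) (step (f7680 H) (step (f7678 H) (step (f4479 H) (step (f4472 H) (step (f4485 H) (step (f7759 H) (step (f11823 H) (step (f12563 H) rfl))))))))))))))) (step (H.back (i := 2) (by decide) (f11974 H)) (step (H.back (i := 0) (by decide) (f12571 H)) rfl))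

theorem f12573 : g 0 • path g [9, 3, 2, 9, 6, 8] p = path g [4, 8, 6, 8, 6, 8] p :=
  H.back (i := 5) (by decide) (f12572 H)

theorem f12574 : g 9 • path g [8, 6, 8, 1, 8, 1] p = path g [4, 8, 6, 8, 6, 8] p :=
  scan (u := [7, 5, 7, 5, 7, 9, 2, 0, 2, 0, 2, 0, 2, 0]) (w := [5, 7, 5]) (i := 9) (r11_1_16 H) (step (f12566 H) (step (f12067 H) (step (f12071 H) (step (f11962 H) (step (f11943 H) (step (f11953 H) (step (f11689 H) (step (f12495 H) (step (f12498 H) (step (f12453 H) (step (f11705 H) (step (f11901 H) (step (f12019 H) (step (f12275 H) rfl)))))))))))))) (step (H.back (i := 0) (by decide) (f12573 H)) (step (H.back (i := 2) (by decide) (f11974 H)) (step (H.back (i := 0) (by decide) (f12571 H)) rfl)))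

theorem f12575 : g 4 • path g [4, 8, 6, 8, 6, 8] p = path g [8, 6, 8, 1, 8, 1] p :=
  H.back (i := 9) (by decide) (f12574 H)

theorem f12576 : g 6 • path g [4, 8, 6, 8, 6, 8] p = path g [9, 3, 2, 6, 8, 4] p :=
  scan (u := [9]) (w := [4, 1]) (i := 6) (r14_1_2 H) (step (f12574 H) rfl) (step (H.back (i := 9) (by decide) (f11995 H)) (step (H.back (i := 6) (by decide) (f12265 H)) rfl))

theorem f12577 : g 1 • path g [9, 3, 2, 6, 8, 4] p = path g [4, 8, 6, 8, 6, 8] p :=
  H.back (i := 6) (by decide) (f12576 H)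

theorem f12578 : g 8 • path g [4, 8, 1, 8, 1] p = path g [4, 8, 1, 8, 1, 8] p :=
  rfl

theorem f12579 : g 3 • path g [4, 8, 1, 8, 1, 8] p = path g [4, 8, 1, 8, 1] p :=
  H.back (i := 8) (by decide) (f12578 H)

theorem f12580 : g 8 • path g [4, 8, 1, 8, 1, 8] p = path g [9, 2, 9, 3, 5, 1] p :=
  scan (u := [8]) (w := [8]) (i := 8) (r6_1_0 H) (step (f12578 H) rfl) (step (H.back (i := 3) (by decide) (f10917 H)) rfl)

theorem f12581 : g 3 • path g [9, 2, 9, 3, 5, 1] p = path g [4, 8, 1, 8, 1, 8] p :=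
  H.back (i := 8) (by decide) (f12580 H)

theorem f12582 : g 9 • path g [4, 8, 1, 8, 1, 8] p = path g [9, 8, 2, 8, 1, 8] p :=
  scan (u := [8]) (w := [8, 9]) (i := 9) (r15_1_0 H) (step (f12578 H) rfl) (step (H.back (i := 3) (by decide) (f10888 H)) (step (H.back (i := 4) (by decide) (f5521 H)) rfl))

theorem f12583 : g 4 • path g [9, 8, 2, 8, 1, 8] p = path g [4, 8, 1, 8, 1, 8] p :=
  H.back (i := 9) (by decide) (f12582 H)

theorem f12584 : g 2 • path g [4, 8, 1, 8, 1, 8] p = path g [4, 8, 5, 2, 9, 3] p :=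
  scan (u := [8]) (w := [3, 6, 5, 7, 6, 5, 7, 5]) (i := 2) (r7_0_9 H) (step (f12578 H) rfl) (step (H.back (i := 8) (by decide) (f12545 H)) (step (H.back (i := 1) (by decide) (f11794 H)) (step (H.back (i := 0) (by decide) (f11793 H)) (step (H.back (i := 2) (by decide) (f11650 H)) (step (H.back (i := 1) (by decide) (f7631 H)) (step (H.back (i := 0) (by decide) (f7626 H)) (step (H.back (i := 2) (by decide) (f9673 H)) (step (H.back (i := 0) (by decide) (f9554 H)) rfl))))))))

theorem f12586 : g 7 • path g [4, 8, 1, 8, 1, 8] p = path g [4, 8, 5, 2, 9, 3] p :=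
  scan (u := [8]) (w := [3, 0, 2, 0, 1, 2, 0, 1]) (i := 7) (r7_1_8 H) (step (f12578 H) rfl) (step (H.back (i := 8) (by decide) (f12545 H)) (step (H.back (i := 5) (by decide) (f8568 H)) (step (H.back (i := 7) (by decide) (f8581 H)) (step (H.back (i := 5) (by decide) (f5490 H)) (step (H.back (i := 6) (by decide) (f1377 H)) (step (H.back (i := 7) (by decide) (f8221 H)) (step (H.back (i := 5) (by decide) (f3770 H)) (step (H.back (i := 6) (by decide) (f5146 H)) rfl))))))))

theorem f12587 : g 2 • path g [4, 8, 5, 2, 9, 3] p = path g [4, 8, 1, 8, 1, 8] p :=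
  H.back (i := 7) (by decide) (f12586 H)

theorem f12588 : g 0 • path g [4, 8, 1, 8, 1, 8] p = path g [9, 2, 9, 8, 2, 3] p :=
  scan (u := [8]) (w := [2, 0, 2, 3, 5, 6, 7, 5, 6]) (i := 0) (r8_0_9 H) (step (f12578 H) rfl) (step (H.back (i := 7) (by decide) (f12196 H)) (step (H.back (i := 5) (by decide) (f12192 H)) (step (H.back (i := 7) (by decide) (f11559 H)) (step (H.back (i := 8) (by decide) (f5671 H)) (step (H.back (i := 0) (by decide) (f5667 H)) (step (H.back (i := 1) (by decide) (f3459 H)) (step (H.back (i := 2) (by decide) (f8661 H)) (step (H.back (i := 0) (by decide) (f8912 H)) (step (H.back (i := 1) (by decide) (f5147 H)) rfl)))))))))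

theorem f12590 : g 6 • path g [4, 8, 1, 8, 1, 8] p = path g [9, 2, 9, 3, 9, 5] p :=
  scan (u := [8]) (w := [5, 7, 6, 5, 7, 5, 3, 1, 0, 2, 0, 1, 0]) (i := 6) (r9_1_3 H) (step (f12578 H) rfl) (step (H.back (i := 0) (by decide) (f7785 H)) (step (H.back (i := 2) (by decide) (f11578 H)) (step (H.back (i := 1) (by decide) (f3586 H)) (step (H.back (i := 0) (by decide) (f1309 H)) (step (H.back (i := 2) (by decide) (f10238 H)) (step (H.back (i := 0) (by decide) (f1310 H)) (step (H.back (i := 8) (by decide) (f5306 H)) (step (H.back (i := 6) (by decide) (f7651 H)) (step (H.back (i := 5) (by decide) (f4482 H)) (step (H.back (i := 7) (by decide) (f4471 H)) (step (H.back (i := 5) (by decide) (f4481 H)) (step (H.back (i := 6) (by decide) (f9676 H)) (step (H.back (i := 5) (by decide) (f9705 H)) rfl)))))))))))))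

theorem f12591 : g 1 • path g [9, 2, 9, 3, 9, 5] p = path g [4, 8, 1, 8, 1, 8] p :=
  H.back (i := 6) (by decide) (f12590 H)

theorem f12592 : g 6 • path g [8, 1, 8, 6, 8, 9] p = path g [4, 8, 1, 8, 1, 8] p :=
  scan (u := [6, 6]) (w := []) (i := 6) (r1_1_0 H) (step (f12590 H) (step (f12422 H) rfl)) rfl

theorem f12593 : g 1 • path g [4, 8, 1, 8, 1, 8] p = path g [8, 1, 8, 6, 8, 9] p :=
  H.back (i := 6) (by decide) (f12592 H)

theorem f12594 : g 9 • path g [9, 2, 9, 3, 5, 1] p = path g [4, 8, 1, 8, 1, 8] p :=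
  scan (u := [6, 4, 1]) (w := []) (i := 9) (r14_1_3 H) (step (f12590 H) (step (f7788 H) (step (f7846 H) rfl))) rfl

theorem f12595 : g 4 • path g [4, 8, 1, 8, 1, 8] p = path g [9, 2, 9, 3, 5, 1] p :=
  H.back (i := 9) (by decide) (f12594 H)

theorem f12596 : g 0 • path g [9, 2, 9, 8, 2, 3] p = path g [4, 8, 1, 8, 1, 8] p :=
  scan (u := [6, 6, 0, 1, 0, 1]) (w := []) (i := 0) (r4_0_1 H) (step (f12590 H) (step (f12422 H) (step (f12417 H) (step (f11807 H) (step (f12081 H) (step (f12084 H) rfl)))))) rfl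

theorem f12598 : g 5 • path g [4, 2, 9, 3, 9] p = path g [4, 2, 9, 3, 9, 5] p :=
  rfl

theorem f12599 : g 0 • path g [4, 2, 9, 3, 9, 5] p = path g [4, 2, 9, 3, 9] p :=
  H.back (i := 5) (by decide) (f12598 H)

theorem f12600 : g 5 • path g [4, 2, 9, 3, 9, 5] p = path g [4, 2, 9, 3, 9] p :=
  scan (u := [5]) (w := []) (i := 5) (r0_1_0 H) (step (f12598 H) rfl) rfl

theorem f12601 : g 0 • path g [4, 2, 9, 3, 9] p = path g [4, 2, 9, 3, 9, 5] p :=
  H.back (i := 5) (by decide) (f12600 H)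

theorem f12602 : g 9 • path g [4, 2, 9, 3, 9, 5] p = path g [4, 2, 4, 8, 5] p :=
  scan (u := [5]) (w := [0, 4]) (i := 9) (r13_0_0 H) (step (f12598 H) rfl) (step (H.back (i := 5) (by decide) (f5386 H)) (step (H.back (i := 9) (by decide) (f5219 H)) rfl))

theorem f12603 : g 4 • path g [4, 2, 4, 8, 5] p = path g [4, 2, 9, 3, 9, 5] p :=
  H.back (i := 9) (by decide) (f12602 H)

theorem f12604 : g 4 • path g [4, 2, 9, 3, 9, 5] p = path g [4, 2, 9, 3, 5] p :=
  scan (u := [5]) (w := [0, 9]) (i := 4) (r13_1_1 H) (step (f12598 H) rfl) (step (H.back (i := 5) (by decide) (f5229 H)) (step (H.back (i := 4) (by decide) (f5218 H)) rfl))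

theorem f12606 : g 6 • path g [4, 2, 9, 3, 9, 5] p = path g [9, 3, 2, 9, 6, 8] p :=
  scan (u := [5]) (w := [5, 1, 1, 5, 6]) (i := 6) (r4_1_1 H) (step (f12598 H) rfl) (step (H.back (i := 0) (by decide) (f12571 H)) (step (H.back (i := 6) (by decide) (f12568 H)) (step (H.back (i := 6) (by decide) (f12000 H)) (step (H.back (i := 0) (by decide) (f11997 H)) (step (H.back (i := 1) (by decide) (f11770 H)) rfl)))))

theorem f12607 : g 1 • path g [9, 3, 2, 9, 6, 8] p = path g [4, 2, 9, 3, 9, 5] p :=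
  H.back (i := 6) (by decide) (f12606 H)

theorem f12608 : g 1 • path g [4, 2, 9, 3, 9, 5] p = path g [9, 2, 8, 9, 6, 3] p :=
  scan (u := [5]) (w := [1, 5, 6, 5, 6]) (i := 1) (r4_1_3 H) (step (f12598 H) rfl) (step (H.back (i := 6) (by decide) (f11977 H)) (step (H.back (i := 0) (by decide) (f12571 H)) (step (H.back (i := 1) (by decide) (f12577 H)) (step (H.back (i := 0) (by decide) (f11997 H)) (step (H.back (i := 1) (by decide) (f11770 H)) rfl)))))

theorem f12610 : g 7 • path g [4, 2, 9, 3, 9, 5] p = path g [9, 2, 8, 9, 6, 3] p :=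
  scan (u := [5]) (w := [6, 5, 7, 5, 8, 2, 3, 6]) (i := 7) (r7_0_3 H) (step (f12598 H) rfl) (step (H.back (i := 1) (by decide) (f12608 H)) (step (H.back (i := 0) (by decide) (f12601 H)) (step (H.back (i := 2) (by decide) (f11772 H)) (step (H.back (i := 0) (by decide) (f3833 H)) (step (H.back (i := 3) (by decide) (f3842 H)) (step (H.back (i := 7) (by decide) (f3914 H)) (step (H.back (i := 8) (by decide) (f11781 H)) (step (H.back (i := 1) (by decide) (f11770 H)) rfl))))))))

theorem f12611 : g 2 • path g [9, 2, 8, 9, 6, 3] p = path g [4, 2, 9, 3, 9, 5] p :=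
  H.back (i := 7) (by decide) (f12610 H)

theorem f12612 : g 8 • path g [4, 2, 9, 3, 9, 5] p = path g [8, 6, 8, 1, 8, 6] p :=
  scan (u := [5]) (w := [2, 3, 6, 5, 7, 6, 5, 7]) (i := 8) (r7_0_8 H) (step (f12598 H) rfl) (step (H.back (i := 7) (by decide) (f12278 H)) (step (H.back (i := 8) (by decide) (f12560 H)) (step (H.back (i := 1) (by decide) (f12577 H)) (step (H.back (i := 0) (by decide) (f11997 H)) (step (H.back (i := 2) (by decide) (f5209 H)) (step (H.back (i := 1) (by decide) (f3837 H)) (step (H.back (i := 0) (by decide) (f3836 H)) (step (H.back (i := 2) (by decide) (f11774 H)) rfl))))))))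

theorem f12613 : g 3 • path g [8, 6, 8, 1, 8, 6] p = path g [4, 2, 9, 3, 9, 5] p :=
  H.back (i := 8) (by decide) (f12612 H)

theorem f12614 : g 3 • path g [4, 2, 9, 3, 9, 5] p = path g [9, 8, 2, 1, 3, 1] p :=
  scan (u := [5]) (w := [1, 0, 2, 1, 0, 8, 7, 5, 7]) (i := 3) (r8_1_0 H) (step (f12598 H) rfl) (step (H.back (i := 6) (by decide) (f10349 H)) (step (H.back (i := 5) (by decide) (f10335 H)) (step (H.back (i := 7) (by decide) (f10308 H)) (step (H.back (i := 6) (by decide) (f10618 H)) (step (H.back (i := 5) (by decide) (f10882 H)) (step (H.back (i := 3) (by decide) (f8803 H)) (step (H.back (i := 2) (by decide) (f11776 H)) (step (H.back (i := 0) (by decide) (f3836 H)) (step (H.back (i := 2) (by decide) (f11774 H)) rfl)))))))))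

theorem f12616 : g 7 • path g [9, 2, 8, 9, 6, 3] p = path g [4, 2, 9, 3, 9, 5] p :=
  scan (u := [3, 0, 2, 0, 1, 2, 0, 1, 8]) (w := []) (i := 7) (r7_1_0 H) (step (f12614 H) (step (f11717 H) (step (f11721 H) (step (f7200 H) (step (f10845 H) (step (f3888 H) (step (f10784 H) (step (f10770 H) (step (f8253 H) rfl))))))))) rfl

theorem f12617 : g 2 • path g [4, 2, 9, 3, 9, 5] p = path g [9, 2, 8, 9, 6, 3] p :=
  H.back (i := 7) (by decide) (f12616 H)

end CfsgQS3.Zero.CertA
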