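import Cfsg.Agent.Lib.QS3.Coset
import Cfsg.Agent.Lib.QS3.Zero.RelData

/-!
Groups with an involution centraliser `Q.S₃`: a certificate of coset enumeration for the type 0, case B, part 0.
-/

set_option autoImplicit false
set_option maxRecDepth 10000
set_option linter.unusedSectionVars false

namespace CfsgQS3.Zero.CertB

variable {M α : Type*} [Group M] [MulAction M α] {g : ℕ → M} {p : α} (H : CosetData relsB 3 g p)
include H

theorem r0_0_0 : ∀ x : α, path g [0, 0] x = x :=
  trivial_rot 0 (H.trivial_rev (i := 0) (by decide)) (by decide)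

theorem r0_1_0 : ∀ x : α, path g [5, 5] x = x :=
  trivial_rot 0 (H.trivial_inv (i := 0) (by decide) (by decide)) (by decide)

theorem r1_0_0 : ∀ x : α, path g [1, 1, 1] x = x :=
  trivial_rot 0 (H.trivial_rev (i := 1) (by decide)) (by decide)

theorem r1_1_0 : ∀ x : α, path g [6, 6, 6] x = x :=
  trivial_rot 0 (H.trivial_inv (i := 1) (by decide) (by decide)) (by decide)

theorem r2_0_0 : ∀ x : α, path g [2, 2] x = x :=
  trivial_rot 0 (H.trivial_rev (i := 2) (by decide)) (by decide)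

theorem r2_1_0 : ∀ x : α, path g [7, 7] x = x :=
  trivial_rot 0 (H.trivial_inv (i := 2) (by decide) (by decide)) (by decide)

theorem r3_0_0 : ∀ x : α, path g [1, 2, 1, 2] x = x :=
  trivial_rot 0 (H.trivial_rev (i := 3) (by decide)) (by decide)

theorem r3_0_1 : ∀ x : α, path g [2, 1, 2, 1] x = x :=
  trivial_rot 1 (H.trivial_rev (i := 3) (by decide)) (by decide)

theorem r3_1_0 : ∀ x : α, path g [7, 6, 7, 6] x = x :=
  trivial_rot 0 (H.trivial_inv (i := 3) (by decide) (by decide)) (by decide)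

theorem r3_1_1 : ∀ x : α, path g [6, 7, 6, 7] x = x :=
  trivial_rot 1 (H.trivial_inv (i := 3) (by decide) (by decide)) (by decide)

theorem r4_0_0 : ∀ x : α, path g [1, 0, 1, 0, 6, 6, 0] x = x :=
  trivial_rot 0 (H.trivial_rev (i := 4) (by decide)) (by decide)

theorem r4_0_1 : ∀ x : α, path g [0, 1, 0, 6, 6, 0, 1] x = x :=
  trivial_rot 1 (H.trivial_rev (i := 4) (by decide)) (by decide)

theorem r4_0_3 : ∀ x : α, path g [0, 6, 6, 0, 1, 0, 1] x = x :=
  trivial_rot 3 (H.trivial_rev (i := 4) (by decide)) (by decide)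

theorem r4_0_5 : ∀ x : α, path g [6, 0, 1, 0, 1, 0, 6] x = x :=
  trivial_rot 5 (H.trivial_rev (i := 4) (by decide)) (by decide)

theorem r4_1_1 : ∀ x : α, path g [1, 1, 5, 6, 5, 6, 5] x = x :=
  trivial_rot 1 (H.trivial_inv (i := 4) (by decide) (by decide)) (by decide)

theorem r4_1_2 : ∀ x : α, path g [1, 5, 6, 5, 6, 5, 1] x = x :=
  trivial_rot 2 (H.trivial_inv (i := 4) (by decide) (by decide)) (by decide)

theorem r4_1_4 : ∀ x : α, path g [6, 5, 6, 5, 1, 1, 5] x = x :=
  trivial_rot 4 (H.trivial_inv (i := 4) (by decide) (by decide)) (by decide)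

theorem r4_1_6 : ∀ x : α, path g [6, 5, 1, 1, 5, 6, 5] x = x :=
  trivial_rot 6 (H.trivial_inv (i := 4) (by decide) (by decide)) (by decide)

theorem r5_0_0 : ∀ x : α, path g [6, 2, 0, 6, 2, 0, 2, 1, 0, 2, 1, 0] x = x :=
  trivial_rot 0 (H.trivial_rev (i := 5) (by decide)) (by decide)

theorem r5_0_2 : ∀ x : α, path g [0, 6, 2, 0, 2, 1, 0, 2, 1, 0, 6, 2] x = x :=
  trivial_rot 2 (H.trivial_rev (i := 5) (by decide)) (by decide)

theorem r5_0_3 : ∀ x : α, path g [6, 2, 0, 2, 1, 0, 2, 1, 0, 6, 2, 0] x = x :=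
  trivial_rot 3 (H.trivial_rev (i := 5) (by decide)) (by decide)

theorem r5_0_5 : ∀ x : α, path g [0, 2, 1, 0, 2, 1, 0, 6, 2, 0, 6, 2] x = x :=
  trivial_rot 5 (H.trivial_rev (i := 5) (by decide)) (by decide)

theorem r5_0_7 : ∀ x : α, path g [1, 0, 2, 1, 0, 6, 2, 0, 6, 2, 0, 2] x = x :=
  trivial_rot 7 (H.trivial_rev (i := 5) (by decide)) (by decide)

theorem r5_1_1 : ∀ x : α, path g [6, 7, 5, 6, 7, 5, 7, 1, 5, 7, 1, 5] x = x :=
  trivial_rot 1 (H.trivial_inv (i := 5) (by decide) (by decide)) (by decide)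

theorem r5_1_2 : ∀ x : α, path g [7, 5, 6, 7, 5, 7, 1, 5, 7, 1, 5, 6] x = x :=
  trivial_rot 2 (H.trivial_inv (i := 5) (by decide) (by decide)) (by decide)

theorem r5_1_10 : ∀ x : α, path g [7, 1, 5, 6, 7, 5, 6, 7, 5, 7, 1, 5] x = x :=
  trivial_rot 10 (H.trivial_inv (i := 5) (by decide) (by decide)) (by decide)

theorem r5_1_11 : ∀ x : α, path g [1, 5, 6, 7, 5, 6, 7, 5, 7, 1, 5, 7] x = x :=
  trivial_rot 11 (H.trivial_inv (i := 5) (by decide) (by decide)) (by decide)

theorem r6_0_0 : ∀ x : α, path g [3, 3, 3] x = x :=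
  trivial_rot 0 (H.trivial_rev (i := 6) (by decide)) (by decide)

theorem r6_1_0 : ∀ x : α, path g [8, 8, 8] x = x :=
  trivial_rot 0 (H.trivial_inv (i := 6) (by decide) (by decide)) (by decide)

theorem r7_0_1 : ∀ x : α, path g [7, 5, 8, 2, 3, 6, 5, 7, 6, 5] x = x :=
  trivial_rot 1 (H.trivial_rev (i := 7) (by decide)) (by decide)

theorem r7_0_3 : ∀ x : α, path g [8, 2, 3, 6, 5, 7, 6, 5, 7, 5] x = x :=
  trivial_rot 3 (H.trivial_rev (i := 7) (by decide)) (by decide)

theorem r7_0_5 : ∀ x : α, path g [3, 6, 5, 7, 6, 5, 7, 5, 8, 2] x = x :=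
  trivial_rot 5 (H.trivial_rev (i := 7) (by decide)) (by decide)

theorem r7_0_6 : ∀ x : α, path g [6, 5, 7, 6, 5, 7, 5, 8, 2, 3] x = x :=
  trivial_rot 6 (H.trivial_rev (i := 7) (by decide)) (by decide)

theorem r7_0_8 : ∀ x : α, path g [7, 6, 5, 7, 5, 8, 2, 3, 6, 5] x = x :=
  trivial_rot 8 (H.trivial_rev (i := 7) (by decide)) (by decide)

theorem r7_0_9 : ∀ x : α, path g [6, 5, 7, 5, 8, 2, 3, 6, 5, 7] x = x :=
  trivial_rot 9 (H.trivial_rev (i := 7) (by decide)) (by decide)

theorem r7_1_0 : ∀ x : α, path g [1, 2, 0, 1, 8, 7, 3, 0, 2, 0] x = x :=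
  trivial_rot 0 (H.trivial_inv (i := 7) (by decide) (by decide)) (by decide)

theorem r7_1_2 : ∀ x : α, path g [0, 1, 8, 7, 3, 0, 2, 0, 1, 2] x = x :=
  trivial_rot 2 (H.trivial_inv (i := 7) (by decide) (by decide)) (by decide)

theorem r7_1_3 : ∀ x : α, path g [1, 8, 7, 3, 0, 2, 0, 1, 2, 0] x = x :=
  trivial_rot 3 (H.trivial_inv (i := 7) (by decide) (by decide)) (by decide)

theorem r7_1_4 : ∀ x : α, path g [8, 7, 3, 0, 2, 0, 1, 2, 0, 1] x = x :=
  trivial_rot 4 (H.trivial_inv (i := 7) (by decide) (by decide)) (by decide)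

theorem r7_1_5 : ∀ x : α, path g [7, 3, 0, 2, 0, 1, 2, 0, 1, 8] x = x :=
  trivial_rot 5 (H.trivial_inv (i := 7) (by decide) (by decide)) (by decide)

theorem r7_1_6 : ∀ x : α, path g [3, 0, 2, 0, 1, 2, 0, 1, 8, 7] x = x :=
  trivial_rot 6 (H.trivial_inv (i := 7) (by decide) (by decide)) (by decide)

theorem r7_1_9 : ∀ x : α, path g [0, 1, 2, 0, 1, 8, 7, 3, 0, 2] x = x :=
  trivial_rot 9 (H.trivial_inv (i := 7) (by decide) (by decide)) (by decide)

theorem r8_0_5 : ∀ x : α, path g [5, 7, 6, 8, 0, 2, 0, 2, 3, 5, 7, 5, 7, 6] x = x :=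
  trivial_rot 5 (H.trivial_rev (i := 8) (by decide)) (by decide)

theorem r8_0_7 : ∀ x : α, path g [6, 8, 0, 2, 0, 2, 3, 5, 7, 5, 7, 6, 5, 7] x = x :=
  trivial_rot 7 (H.trivial_rev (i := 8) (by decide)) (by decide)

theorem r8_0_9 : ∀ x : α, path g [0, 2, 0, 2, 3, 5, 7, 5, 7, 6, 5, 7, 6, 8] x = x :=
  trivial_rot 9 (H.trivial_rev (i := 8) (by decide)) (by decide)

theorem r8_0_10 : ∀ x : α, path g [2, 0, 2, 3, 5, 7, 5, 7, 6, 5, 7, 6, 8, 0] x = x :=
  trivial_rot 10 (H.trivial_rev (i := 8) (by decide)) (by decide)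

theorem r8_0_11 : ∀ x : α, path g [0, 2, 3, 5, 7, 5, 7, 6, 5, 7, 6, 8, 0, 2] x = x :=
  trivial_rot 11 (H.trivial_rev (i := 8) (by decide)) (by decide)

theorem r8_0_12 : ∀ x : α, path g [2, 3, 5, 7, 5, 7, 6, 5, 7, 6, 8, 0, 2, 0] x = x :=
  trivial_rot 12 (H.trivial_rev (i := 8) (by decide)) (by decide)

theorem r8_1_1 : ∀ x : α, path g [7, 5, 7, 5, 3, 1, 2, 0, 1, 2, 0, 2, 0, 8] x = x :=
  trivial_rot 1 (H.trivial_inv (i := 8) (by decide) (by decide)) (by decide)

theorem r8_1_2 : ∀ x : α, path g [5, 7, 5, 3, 1, 2, 0, 1, 2, 0, 2, 0, 8, 7] x = x :=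
  trivial_rot 2 (H.trivial_inv (i := 8) (by decide) (by decide)) (by decide)

theorem r8_1_8 : ∀ x : α, path g [0, 1, 2, 0, 2, 0, 8, 7, 5, 7, 5, 3, 1, 2] x = x :=
  trivial_rot 8 (H.trivial_inv (i := 8) (by decide) (by decide)) (by decide)

theorem r8_1_11 : ∀ x : α, path g [0, 2, 0, 8, 7, 5, 7, 5, 3, 1, 2, 0, 1, 2] x = x :=
  trivial_rot 11 (H.trivial_inv (i := 8) (by decide) (by decide)) (by decide)

theorem r9_0_0 : ∀ x : α, path g [1, 2, 0, 1, 3, 5, 7, 5, 8, 0, 2, 0] x = x :=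
  trivial_rot 0 (H.trivial_rev (i := 9) (by decide)) (by decide)

theorem r9_0_5 : ∀ x : α, path g [5, 7, 5, 8, 0, 2, 0, 1, 2, 0, 1, 3] x = x :=
  trivial_rot 5 (H.trivial_rev (i := 9) (by decide)) (by decide)

theorem r9_0_6 : ∀ x : α, path g [7, 5, 8, 0, 2, 0, 1, 2, 0, 1, 3, 5] x = x :=
  trivial_rot 6 (H.trivial_rev (i := 9) (by decide)) (by decide)

theorem r9_0_10 : ∀ x : α, path g [2, 0, 1, 2, 0, 1, 3, 5, 7, 5, 8, 0] x = x :=
  trivial_rot 10 (H.trivial_rev (i := 9) (by decide)) (by decide)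

theorem r9_1_3 : ∀ x : α, path g [3, 0, 2, 0, 8, 6, 5, 7, 6, 5, 7, 5] x = x :=
  trivial_rot 3 (H.trivial_inv (i := 9) (by decide) (by decide)) (by decide)

theorem r9_1_4 : ∀ x : α, path g [0, 2, 0, 8, 6, 5, 7, 6, 5, 7, 5, 3] x = x :=
  trivial_rot 4 (H.trivial_inv (i := 9) (by decide) (by decide)) (by decide)

theorem r9_1_5 : ∀ x : α, path g [2, 0, 8, 6, 5, 7, 6, 5, 7, 5, 3, 0] x = x :=
  trivial_rot 5 (H.trivial_inv (i := 9) (by decide) (by decide)) (by decide)

theorem r9_1_6 : ∀ x : α, path g [0, 8, 6, 5, 7, 6, 5, 7, 5, 3, 0, 2] x = x :=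
  trivial_rot 6 (H.trivial_inv (i := 9) (by decide) (by decide)) (by decide)

theorem r9_1_8 : ∀ x : α, path g [6, 5, 7, 6, 5, 7, 5, 3, 0, 2, 0, 8] x = x :=
  trivial_rot 8 (H.trivial_inv (i := 9) (by decide) (by decide)) (by decide)

theorem r10_0_0 : ∀ x : α, path g [4, 4, 4] x = x :=
  trivial_rot 0 (H.trivial_rev (i := 10) (by decide)) (by decide)

theorem r10_1_0 : ∀ x : α, path g [9, 9, 9] x = x :=
  trivial_rot 0 (H.trivial_inv (i := 10) (by decide) (by decide)) (by decide)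

theorem r11_0_1 : ∀ x : α, path g [0, 2, 0, 4, 5, 7, 5, 7, 5, 7, 5, 7, 4, 2, 0, 2, 0, 2] x = x :=
  trivial_rot 1 (H.trivial_rev (i := 11) (by decide)) (by decide)

theorem r11_0_6 : ∀ x : α, path g [7, 5, 7, 5, 7, 5, 7, 4, 2, 0, 2, 0, 2, 0, 2, 0, 4, 5] x = x :=
  trivial_rot 6 (H.trivial_rev (i := 11) (by decide)) (by decide)

theorem r11_0_14 : ∀ x : α, path g [2, 0, 2, 0, 2, 0, 2, 0, 4, 5, 7, 5, 7, 5, 7, 5, 7, 4] x = x :=
  trivial_rot 14 (H.trivial_rev (i := 11) (by decide)) (by decide)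

theorem r11_1_8 : ∀ x : α, path g [0, 2, 0, 2, 0, 9, 5, 7, 5, 7, 5, 7, 5, 7, 9, 2, 0, 2] x = x :=
  trivial_rot 8 (H.trivial_inv (i := 11) (by decide) (by decide)) (by decide)

theorem r11_1_9 : ∀ x : α, path g [2, 0, 2, 0, 9, 5, 7, 5, 7, 5, 7, 5, 7, 9, 2, 0, 2, 0] x = x :=
  trivial_rot 9 (H.trivial_inv (i := 11) (by decide) (by decide)) (by decide)

theorem r11_1_10 : ∀ x : α, path g [0, 2, 0, 9, 5, 7, 5, 7, 5, 7, 5, 7, 9, 2, 0, 2, 0, 2] x = x :=
  trivial_rot 10 (H.trivial_inv (i := 11) (by decide) (by decide)) (by decide)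

theorem r11_1_11 : ∀ x : α, path g [2, 0, 9, 5, 7, 5, 7, 5, 7, 5, 7, 9, 2, 0, 2, 0, 2, 0] x = x :=
  trivial_rot 11 (H.trivial_inv (i := 11) (by decide) (by decide)) (by decide)

theorem r11_1_12 : ∀ x : α, path g [0, 9, 5, 7, 5, 7, 5, 7, 5, 7, 9, 2, 0, 2, 0, 2, 0, 2] x = x :=
  trivial_rot 12 (H.trivial_inv (i := 11) (by decide) (by decide)) (by decide)

theorem r11_1_15 : ∀ x : α, path g [7, 5, 7, 5, 7, 5, 7, 9, 2, 0, 2, 0, 2, 0, 2, 0, 9, 5] x = x :=
  trivial_rot 15 (H.trivial_inv (i := 11) (by decide) (by decide)) (by decide)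

theorem r12_0_3 : ∀ x : α, path g [5, 7, 6, 5, 9, 0, 1, 2, 0, 1, 2, 0, 4, 5, 7, 6] x = x :=
  trivial_rot 3 (H.trivial_rev (i := 12) (by decide)) (by decide)

theorem r12_0_14 : ∀ x : α, path g [0, 4, 5, 7, 6, 5, 7, 6, 5, 9, 0, 1, 2, 0, 1, 2] x = x :=
  trivial_rot 14 (H.trivial_rev (i := 12) (by decide)) (by decide)

theorem r13_0_0 : ∀ x : α, path g [0, 2, 4, 7, 5, 7, 9, 2] x = x :=
  trivial_rot 0 (H.trivial_rev (i := 13) (by decide)) (by decide)

theorem r13_0_1 : ∀ x : α, path g [2, 4, 7, 5, 7, 9, 2, 0] x = x :=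
  trivial_rot 1 (H.trivial_rev (i := 13) (by decide)) (by decide)

theorem r13_0_3 : ∀ x : α, path g [7, 5, 7, 9, 2, 0, 2, 4] x = x :=
  trivial_rot 3 (H.trivial_rev (i := 13) (by decide)) (by decide)

theorem r13_0_4 : ∀ x : α, path g [5, 7, 9, 2, 0, 2, 4, 7] x = x :=
  trivial_rot 4 (H.trivial_rev (i := 13) (by decide)) (by decide)

theorem r13_0_6 : ∀ x : α, path g [9, 2, 0, 2, 4, 7, 5, 7] x = x :=
  trivial_rot 6 (H.trivial_rev (i := 13) (by decide)) (by decide)

theorem r13_1_3 : ∀ x : α, path g [0, 2, 9, 7, 5, 7, 4, 2] x = x :=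
  trivial_rot 3 (H.trivial_inv (i := 13) (by decide) (by decide)) (by decide)

theorem r13_1_6 : ∀ x : α, path g [7, 5, 7, 4, 2, 0, 2, 9] x = x :=
  trivial_rot 6 (H.trivial_inv (i := 13) (by decide) (by decide)) (by decide)

theorem r13_1_7 : ∀ x : α, path g [5, 7, 4, 2, 0, 2, 9, 7] x = x :=
  trivial_rot 7 (H.trivial_inv (i := 13) (by decide) (by decide)) (by decide)

theorem r14_0_1 : ∀ x : α, path g [4, 6, 5, 9, 0, 1] x = x :=
  trivial_rot 1 (H.trivial_rev (i := 14) (by decide)) (by decide)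

theorem r14_0_2 : ∀ x : α, path g [6, 5, 9, 0, 1, 4] x = x :=
  trivial_rot 2 (H.trivial_rev (i := 14) (by decide)) (by decide)

theorem r14_0_4 : ∀ x : α, path g [9, 0, 1, 4, 6, 5] x = x :=
  trivial_rot 4 (H.trivial_rev (i := 14) (by decide)) (by decide)

theorem r14_0_5 : ∀ x : α, path g [0, 1, 4, 6, 5, 9] x = x :=
  trivial_rot 5 (H.trivial_rev (i := 14) (by decide)) (by decide)

theorem r14_1_1 : ∀ x : α, path g [4, 0, 1, 9, 6, 5] x = x :=
  trivial_rot 1 (H.trivial_inv (i := 14) (by decide) (by decide)) (by decide)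

theorem r14_1_3 : ∀ x : α, path g [1, 9, 6, 5, 4, 0] x = x :=
  trivial_rot 3 (H.trivial_inv (i := 14) (by decide) (by decide)) (by decide)

theorem r14_1_4 : ∀ x : α, path g [9, 6, 5, 4, 0, 1] x = x :=
  trivial_rot 4 (H.trivial_inv (i := 14) (by decide) (by decide)) (by decide)

theorem r14_1_5 : ∀ x : α, path g [6, 5, 4, 0, 1, 9] x = x :=
  trivial_rot 5 (H.trivial_inv (i := 14) (by decide) (by decide)) (by decide)

theorem r15_0_0 : ∀ x : α, path g [4, 3, 4, 3] x = x :=
  trivial_rot 0 (H.trivial_rev (i := 15) (by decide)) (by decide)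

theorem r15_0_1 : ∀ x : α, path g [3, 4, 3, 4] x = x :=
  trivial_rot 1 (H.trivial_rev (i := 15) (by decide)) (by decide)

theorem r15_1_0 : ∀ x : α, path g [8, 9, 8, 9] x = x :=
  trivial_rot 0 (H.trivial_inv (i := 15) (by decide) (by decide)) (by decide)

theorem r15_1_1 : ∀ x : α, path g [9, 8, 9, 8] x = x :=
  trivial_rot 1 (H.trivial_inv (i := 15) (by decide) (by decide)) (by decide)

theorem f0 : g 0 • path g [] p = path g [] p :=
  H.base (i := 0) (by decide)

theorem f1 : g 5 • path g [] p = path g [] p :=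
  H.back (i := 0) (by decide) (f0 H)

theorem f2 : g 1 • path g [] p = path g [] p :=
  H.base (i := 1) (by decide)

theorem f4 : g 2 • path g [] p = path g [] p :=
  H.base (i := 2) (by decide)

theorem f5 : g 7 • path g [] p = path g [] p :=
  H.back (i := 2) (by decide) (f4 H)

theorem f6 : g 9 • path g [] p = path g [9] p :=
  rfl

theorem f7 : g 4 • path g [9] p = path g [] p :=
  H.back (i := 9) (by decide) (f6 H)

theorem f8 : g 8 • path g [] p = path g [8] p :=
  rfl

theorem f9 : g 3 • path g [8] p = path g [] p :=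
  H.back (i := 8) (by decide) (f8 H)

theorem f10 : g 2 • path g [8] p = path g [8] p :=
  scan (u := [8]) (w := [3, 6, 5, 7, 6, 5, 7, 5]) (i := 2) (r7_0_3 H) (step (f8 H) rfl) (step (H.back (i := 8) (by decide) (f8 H)) (step (H.back (i := 1) (by decide) (f2 H)) (step (H.back (i := 0) (by decide) (f0 H)) (step (H.back (i := 2) (by decide) (f4 H)) (step (H.back (i := 1) (by decide) (f2 H)) (step (H.back (i := 0) (by decide) (f0 H)) (step (H.back (i := 2) (by decide) (f4 H)) (step (H.back (i := 0) (by decide) (f0 H)) rfl))))))))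

theorem f11 : g 7 • path g [8] p = path g [8] p :=
  H.back (i := 2) (by decide) (f10 H)

theorem f12 : g 3 • path g [] p = path g [3] p :=
  rfl

theorem f13 : g 8 • path g [3] p = path g [] p :=
  H.back (i := 3) (by decide) (f12 H)

theorem f14 : g 3 • path g [3] p = path g [8] p :=
  scan (u := [3]) (w := [3]) (i := 3) (r6_0_0 H) (step (f12 H) rfl) (step (H.back (i := 8) (by decide) (f8 H)) rfl)

theorem f15 : g 8 • path g [8] p = path g [3] p :=
  H.back (i := 3) (by decide) (f14 H)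

theorem f16 : g 4 • path g [] p = path g [4] p :=
  rfl

theorem f17 : g 9 • path g [4] p = path g [] p :=
  H.back (i := 4) (by decide) (f16 H)

theorem f18 : g 4 • path g [4] p = path g [9] p :=
  scan (u := [4]) (w := [4]) (i := 4) (r10_0_0 H) (step (f16 H) rfl) (step (H.back (i := 9) (by decide) (f6 H)) rfl)

theorem f19 : g 9 • path g [9] p = path g [4] p :=
  H.back (i := 4) (by decide) (f18 H)

theorem f20 : g 7 • path g [9] p = path g [9, 7] p :=
  rfl

theorem f21 : g 2 • path g [9, 7] p = path g [9] p :=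
  H.back (i := 7) (by decide) (f20 H)

theorem f22 : g 7 • path g [9, 7] p = path g [9] p :=
  scan (u := [7]) (w := []) (i := 7) (r2_1_0 H) (step (f20 H) rfl) rfl

theorem f23 : g 2 • path g [9] p = path g [9, 7] p :=
  H.back (i := 7) (by decide) (f22 H)

theorem f24 : g 5 • path g [9, 7] p = path g [9, 7] p :=
  scan (u := [7]) (w := [7, 4, 2, 0, 2, 9]) (i := 5) (r13_1_6 H) (step (f20 H) rfl) (step (H.back (i := 2) (by decide) (f23 H)) (step (H.back (i := 9) (by decide) (f6 H)) (step (H.back (i := 7) (by decide) (f5 H)) (step (H.back (i := 5) (by decide) (f1 H)) (step (H.back (i := 7) (by decide) (f5 H)) (step (H.back (i := 4) (by decide) (f7 H)) rfl))))))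

theorem f25 : g 0 • path g [9, 7] p = path g [9, 7] p :=
  H.back (i := 5) (by decide) (f24 H)

theorem f26 : g 0 • path g [9] p = path g [9, 0] p :=
  rfl

theorem f27 : g 5 • path g [9, 0] p = path g [9] p :=
  H.back (i := 0) (by decide) (f26 H)

theorem f28 : g 0 • path g [9, 0] p = path g [9] p :=
  scan (u := [0]) (w := []) (i := 0) (r0_0_0 H) (step (f26 H) rfl) rfl

theorem f29 : g 5 • path g [9] p = path g [9, 0] p :=
  H.back (i := 0) (by decide) (f28 H)

theorem f30 : g 1 • path g [9, 0] p = path g [9] p :=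
  scan (u := [0]) (w := [4, 6, 5, 9]) (i := 1) (r14_0_5 H) (step (f26 H) rfl) (step (H.back (i := 9) (by decide) (f6 H)) (step (H.back (i := 1) (by decide) (f2 H)) (step (H.back (i := 0) (by decide) (f0 H)) (step (H.back (i := 4) (by decide) (f7 H)) rfl))))

theorem f31 : g 6 • path g [9] p = path g [9, 0] p :=
  H.back (i := 1) (by decide) (f30 H)

theorem f32 : g 8 • path g [9] p = path g [9, 8] p :=
  rfl

theorem f34 : g 9 • path g [9, 8] p = path g [3] p :=
  scan (u := [8]) (w := [8, 9]) (i := 9) (r15_1_0 H) (step (f32 H) rfl) (step (H.back (i := 3) (by decide) (f12 H)) (step (H.back (i := 4) (by decide) (f7 H)) rfl))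

theorem f35 : g 4 • path g [3] p = path g [9, 8] p :=
  H.back (i := 9) (by decide) (f34 H)

theorem f36 : g 3 • path g [9] p = path g [9, 3] p :=
  rfl

theorem f37 : g 8 • path g [9, 3] p = path g [9] p :=
  H.back (i := 3) (by decide) (f36 H)

theorem f38 : g 3 • path g [9, 3] p = path g [9, 8] p :=
  scan (u := [3]) (w := [3]) (i := 3) (r6_0_0 H) (step (f36 H) rfl) (step (H.back (i := 8) (by decide) (f32 H)) rfl)

theorem f39 : g 8 • path g [9, 8] p = path g [9, 3] p :=
  H.back (i := 3) (by decide) (f38 H)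

theorem f40 : g 1 • path g [9] p = path g [9, 1] p :=
  rfl

theorem f41 : g 6 • path g [9, 1] p = path g [9] p :=
  H.back (i := 1) (by decide) (f40 H)

theorem f42 : g 1 • path g [9, 1] p = path g [9, 0] p :=
  scan (u := [1]) (w := [1]) (i := 1) (r1_0_0 H) (step (f40 H) rfl) (step (H.back (i := 6) (by decide) (f31 H)) rfl)

theorem f44 : g 9 • path g [8] p = path g [8, 9] p :=
  rfl

theorem f45 : g 4 • path g [8, 9] p = path g [8] p :=
  H.back (i := 9) (by decide) (f44 H)

theorem f46 : g 8 • path g [8, 9] p = path g [4] p :=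
  scan (u := [9]) (w := [9, 8]) (i := 8) (r15_1_1 H) (step (f44 H) rfl) (step (H.back (i := 4) (by decide) (f16 H)) (step (H.back (i := 3) (by decide) (f9 H)) rfl))

theorem f47 : g 3 • path g [4] p = path g [8, 9] p :=
  H.back (i := 8) (by decide) (f46 H)

theorem f48 : g 0 • path g [8] p = path g [8, 0] p :=
  rfl

theorem f49 : g 5 • path g [8, 0] p = path g [8] p :=
  H.back (i := 0) (by decide) (f48 H)

theorem f50 : g 0 • path g [8, 0] p = path g [8] p :=
  scan (u := [0]) (w := []) (i := 0) (r0_0_0 H) (step (f48 H) rfl) rfl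

theorem f51 : g 5 • path g [8] p = path g [8, 0] p :=
  H.back (i := 0) (by decide) (f50 H)

theorem f52 : g 2 • path g [8, 0] p = path g [8, 0] p :=
  scan (u := [0]) (w := [0, 2, 3, 5, 7, 5, 7, 6, 5, 7, 6, 8]) (i := 2) (r8_0_9 H) (step (f48 H) rfl) (step (H.back (i := 5) (by decide) (f51 H)) (step (H.back (i := 7) (by decide) (f11 H)) (step (H.back (i := 8) (by decide) (f8 H)) (step (H.back (i := 0) (by decide) (f0 H)) (step (H.back (i := 2) (by decide) (f4 H)) (step (H.back (i := 0) (by decide) (f0 H)) (step (H.back (i := 2) (by decide) (f4 H)) (step (H.back (i := 1) (by decide) (f2 H)) (step (H.back (i := 0) (by decide) (f0 H)) (step (H.back (i := 2) (by decide) (f4 H)) (step (H.back (i := 1) (by decide) (f2 H)) (step (H.back (i := 3) (by decide) (f9 H)) rfl))))))))))))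

theorem f53 : g 7 • path g [8, 0] p = path g [8, 0] p :=
  H.back (i := 2) (by decide) (f52 H)

theorem f54 : g 6 • path g [8] p = path g [8, 6] p :=
  rfl

theorem f55 : g 1 • path g [8, 6] p = path g [8] p :=
  H.back (i := 6) (by decide) (f54 H)

theorem f56 : g 1 • path g [8] p = path g [8, 1] p :=
  rfl

theorem f57 : g 6 • path g [8, 1] p = path g [8] p :=
  H.back (i := 1) (by decide) (f56 H)

theorem f58 : g 1 • path g [8, 1] p = path g [8, 6] p :=
  scan (u := [1]) (w := [1]) (i := 1) (r1_0_0 H) (step (f56 H) rfl) (step (H.back (i := 6) (by decide) (f54 H)) rfl)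

theorem f59 : g 6 • path g [8, 6] p = path g [8, 1] p :=
  H.back (i := 1) (by decide) (f58 H)

theorem f60 : g 2 • path g [8, 1] p = path g [8, 6] p :=
  scan (u := [1]) (w := [1, 2]) (i := 2) (r3_0_0 H) (step (f56 H) rfl) (step (H.back (i := 6) (by decide) (f54 H)) (step (H.back (i := 7) (by decide) (f11 H)) rfl))

theorem f61 : g 7 • path g [8, 6] p = path g [8, 1] p :=
  H.back (i := 2) (by decide) (f60 H)

theorem f62 : g 0 • path g [8, 6] p = path g [8, 6] p :=
  scan (u := [1, 2]) (w := [1, 3, 5, 7, 5, 8, 0, 2, 0]) (i := 0) (r9_0_0 H) (step (f56 H) (step (f60 H) rfl)) (step (H.back (i := 6) (by decide) (f54 H)) (step (H.back (i := 8) (by decide) (f8 H)) (step (H.back (i := 0) (by decide) (f0 H)) (step (H.back (i := 2) (by decide) (f4 H)) (step (H.back (i := 0) (by decide) (f0 H)) (step (H.back (i := 3) (by decide) (f9 H)) (step (H.back (i := 5) (by decide) (f49 H)) (step (H.back (i := 7) (by decide) (f53 H)) (step (H.back (i := 5) (by decide) (f51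 H)) rfl)))))))))

theorem f63 : g 5 • path g [8, 6] p = path g [8, 6] p :=
  H.back (i := 0) (by decide) (f62 H)

theorem f64 : g 2 • path g [3] p = path g [3] p :=
  scan (u := [6, 5, 7, 5, 8]) (w := [3, 6, 5, 7]) (i := 2) (r7_0_9 H) (step (f57 H) (step (f51 H) (step (f53 H) (step (f49 H) (step (f15 H) rfl))))) (step (H.back (i := 8) (by decide) (f15 H)) (step (H.back (i := 1) (by decide) (f55 H)) (step (H.back (i := 0) (by decide) (f62 H)) (step (H.back (i := 2) (by decide) (f60 H)) rfl))))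

theorem f65 : g 7 • path g [3] p = path g [3] p :=
  H.back (i := 2) (by decide) (f64 H)

theorem f66 : g 2 • path g [8, 6] p = path g [8, 1] p :=
  scan (u := [2]) (w := []) (i := 2) (r2_0_0 H) (step (f60 H) rfl) rfl

theorem f67 : g 7 • path g [8, 1] p = path g [8, 6] p :=
  H.back (i := 2) (by decide) (f66 H)

theorem f68 : g 4 • path g [8] p = path g [8, 4] p :=
  rfl

theorem f69 : g 9 • path g [8, 4] p = path g [8] p :=
  H.back (i := 4) (by decide) (f68 H)

theorem f70 : g 4 • path g [8, 4] p = path g [8, 9] p :=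
  scan (u := [4]) (w := [4]) (i := 4) (r10_0_0 H) (step (f68 H) rfl) (step (H.back (i := 9) (by decide) (f44 H)) rfl)

theorem f71 : g 9 • path g [8, 9] p = path g [8, 4] p :=
  H.back (i := 4) (by decide) (f70 H)

theorem f72 : g 9 • path g [3] p = path g [3, 9] p :=
  rfl

theorem f74 : g 9 • path g [3, 9] p = path g [9, 8] p :=
  scan (u := [9]) (w := [9]) (i := 9) (r10_1_0 H) (step (f72 H) rfl) (step (H.back (i := 4) (by decide) (f35 H)) rfl)

theorem f75 : g 4 • path g [9, 8] p = path g [3, 9] p :=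
  H.back (i := 9) (by decide) (f74 H)

theorem f76 : g 8 • path g [3, 9] p = path g [8, 4] p :=
  scan (u := [9]) (w := [9, 8]) (i := 8) (r15_1_1 H) (step (f72 H) rfl) (step (H.back (i := 4) (by decide) (f68 H)) (step (H.back (i := 3) (by decide) (f14 H)) rfl))

theorem f78 : g 0 • path g [3] p = path g [3, 0] p :=
  rfl

theorem f79 : g 5 • path g [3, 0] p = path g [3] p :=
  H.back (i := 0) (by decide) (f78 H)

theorem f80 : g 0 • path g [3, 0] p = path g [3] p :=
  scan (u := [0]) (w := []) (i := 0) (r0_0_0 H) (step (f78 H) rfl) rfl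

theorem f81 : g 5 • path g [3] p = path g [3, 0] p :=
  H.back (i := 0) (by decide) (f80 H)

theorem f82 : g 2 • path g [3, 0] p = path g [3, 0] p :=
  scan (u := [0]) (w := [0, 8, 6, 5, 7, 6, 5, 7, 5, 3]) (i := 2) (r9_1_4 H) (step (f78 H) rfl) (step (H.back (i := 5) (by decide) (f81 H)) (step (H.back (i := 3) (by decide) (f12 H)) (step (H.back (i := 1) (by decide) (f2 H)) (step (H.back (i := 0) (by decide) (f0 H)) (step (H.back (i := 2) (by decide) (f4 H)) (step (H.back (i := 1) (by decide) (f2 H)) (step (H.back (i := 0) (by decide) (f0 H)) (step (H.back (i := 2) (by decide) (f4 H)) (step (H.back (i := 0) (by decide) (f0 H)) (step (H.back (i := 8) (by decide) (f13 H)) rfl))))))))))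

theorem f83 : g 7 • path g [3, 0] p = path g [3, 0] p :=
  H.back (i := 2) (by decide) (f82 H)

theorem f84 : g 6 • path g [3] p = path g [3, 6] p :=
  rfl

theorem f85 : g 1 • path g [3, 6] p = path g [3] p :=
  H.back (i := 6) (by decide) (f84 H)

theorem f86 : g 1 • path g [3] p = path g [3, 1] p :=
  rfl

theorem f87 : g 6 • path g [3, 1] p = path g [3] p :=
  H.back (i := 1) (by decide) (f86 H)

theorem f88 : g 1 • path g [3, 1] p = path g [3, 6] p :=
  scan (u := [1]) (w := [1]) (i := 1) (r1_0_0 H) (step (f86 H) rfl) (step (H.back (i := 6) (by decide) (f84 H)) rfl)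

theorem f89 : g 6 • path g [3, 6] p = path g [3, 1] p :=
  H.back (i := 1) (by decide) (f88 H)

theorem f90 : g 2 • path g [3, 1] p = path g [3, 6] p :=
  scan (u := [1]) (w := [1, 2]) (i := 2) (r3_0_0 H) (step (f86 H) rfl) (step (H.back (i := 6) (by decide) (f84 H)) (step (H.back (i := 7) (by decide) (f65 H)) rfl))

theorem f91 : g 7 • path g [3, 6] p = path g [3, 1] p :=
  H.back (i := 2) (by decide) (f90 H)

theorem f92 : g 0 • path g [3, 6] p = path g [3, 6] p :=
  scan (u := [1, 2]) (w := [1, 8, 7, 3, 0, 2, 0]) (i := 0) (r7_1_0 H) (step (f86 H) (step (f90 H) rfl)) (step (H.back (i := 6) (by decide) (f84 H)) (step (H.back (i := 3) (by decide) (f12 H)) (step (H.back (i := 2) (by decide) (f4 H)) (step (H.back (i := 8) (by decide) (f13 H)) (step (H.back (i := 5) (by decide) (f79 H)) (step (H.back (i := 7) (by decide) (f83 H)) (step (H.back (i := 5) (by decide) (f81 H)) rfl)))))))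

theorem f93 : g 5 • path g [3, 6] p = path g [3, 6] p :=
  H.back (i := 0) (by decide) (f92 H)

theorem f94 : g 2 • path g [3, 6] p = path g [3, 1] p :=
  scan (u := [2]) (w := []) (i := 2) (r2_0_0 H) (step (f90 H) rfl) rfl

theorem f95 : g 7 • path g [3, 1] p = path g [3, 6] p :=
  H.back (i := 2) (by decide) (f94 H)

theorem f96 : g 7 • path g [4] p = path g [4, 7] p :=
  rfl

theorem f97 : g 2 • path g [4, 7] p = path g [4] p :=
  H.back (i := 7) (by decide) (f96 H)

theorem f98 : g 7 • path g [4, 7] p = path g [4] p :=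
  scan (u := [7]) (w := []) (i := 7) (r2_1_0 H) (step (f96 H) rfl) rfl

theorem f99 : g 2 • path g [4] p = path g [4, 7] p :=
  H.back (i := 7) (by decide) (f98 H)

theorem f100 : g 5 • path g [4, 7] p = path g [4, 7] p :=
  scan (u := [7]) (w := [7, 9, 2, 0, 2, 4]) (i := 5) (r13_0_3 H) (step (f96 H) rfl) (step (H.back (i := 2) (by decide) (f99 H)) (step (H.back (i := 4) (by decide) (f16 H)) (step (H.back (i := 7) (by decide) (f5 H)) (step (H.back (i := 5) (by decide) (f1 H)) (step (H.back (i := 7) (by decide) (f5 H)) (step (H.back (i := 9) (by decide) (f17 H)) rfl))))))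

theorem f101 : g 0 • path g [4, 7] p = path g [4, 7] p :=
  H.back (i := 5) (by decide) (f100 H)

theorem f102 : g 0 • path g [4] p = path g [4, 0] p :=
  rfl

theorem f103 : g 5 • path g [4, 0] p = path g [4] p :=
  H.back (i := 0) (by decide) (f102 H)

theorem f104 : g 0 • path g [4, 0] p = path g [4] p :=
  scan (u := [0]) (w := []) (i := 0) (r0_0_0 H) (step (f102 H) rfl) rfl

theorem f105 : g 5 • path g [4] p = path g [4, 0] p :=
  H.back (i := 0) (by decide) (f104 H)

theorem f106 : g 1 • path g [4, 0] p = path g [4] p :=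
  scan (u := [0]) (w := [4, 6, 5, 9]) (i := 1) (r14_0_5 H) (step (f102 H) rfl) (step (H.back (i := 9) (by decide) (f19 H)) (step (H.back (i := 1) (by decide) (f30 H)) (step (H.back (i := 0) (by decide) (f26 H)) (step (H.back (i := 4) (by decide) (f18 H)) rfl))))

theorem f107 : g 6 • path g [4] p = path g [4, 0] p :=
  H.back (i := 1) (by decide) (f106 H)

theorem f108 : g 8 • path g [4] p = path g [4, 8] p :=
  rfl

theorem f109 : g 3 • path g [4, 8] p = path g [4] p :=
  H.back (i := 8) (by decide) (f108 H)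

theorem f110 : g 8 • path g [4, 8] p = path g [8, 9] p :=
  scan (u := [8]) (w := [8]) (i := 8) (r6_1_0 H) (step (f108 H) rfl) (step (H.back (i := 3) (by decide) (f47 H)) rfl)

theorem f112 : g 9 • path g [4, 8] p = path g [9, 3] p :=
  scan (u := [8]) (w := [8, 9]) (i := 9) (r15_1_0 H) (step (f108 H) rfl) (step (H.back (i := 3) (by decide) (f36 H)) (step (H.back (i := 4) (by decide) (f18 H)) rfl))

theorem f113 : g 4 • path g [9, 3] p = path g [4, 8] p :=
  H.back (i := 9) (by decide) (f112 H)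

theorem f114 : g 1 • path g [4] p = path g [4, 1] p :=
  rfl

theorem f115 : g 6 • path g [4, 1] p = path g [4] p :=
  H.back (i := 1) (by decide) (f114 H)

theorem f116 : g 1 • path g [4, 1] p = path g [4, 0] p :=
  scan (u := [1]) (w := [1]) (i := 1) (r1_0_0 H) (step (f114 H) rfl) (step (H.back (i := 6) (by decide) (f107 H)) rfl)

theorem f117 : g 6 • path g [4, 0] p = path g [4, 1] p :=
  H.back (i := 1) (by decide) (f116 H)

theorem f120 : g 8 • path g [9, 7] p = path g [9, 7, 8] p :=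
  rfl

theorem f121 : g 3 • path g [9, 7, 8] p = path g [9, 7] p :=
  H.back (i := 8) (by decide) (f120 H)

theorem f122 : g 6 • path g [9, 7] p = path g [9, 7, 6] p :=
  rfl

theorem f123 : g 1 • path g [9, 7, 6] p = path g [9, 7] p :=
  H.back (i := 6) (by decide) (f122 H)

theorem f124 : g 7 • path g [9, 7, 6] p = path g [9, 1] p :=
  scan (u := [6]) (w := [6, 7]) (i := 7) (r3_1_1 H) (step (f122 H) rfl) (step (H.back (i := 1) (by decide) (f40 H)) (step (H.back (i := 2) (by decide) (f21 H)) rfl))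

theorem f125 : g 2 • path g [9, 1] p = path g [9, 7, 6] p :=
  H.back (i := 7) (by decide) (f124 H)

theorem f126 : g 7 • path g [9, 1] p = path g [9, 7, 6] p :=
  scan (u := [7]) (w := []) (i := 7) (r2_1_0 H) (step (f124 H) rfl) rfl

theorem f128 : g 3 • path g [9, 7] p = path g [9, 7, 3] p :=
  rfl

theorem f129 : g 8 • path g [9, 7, 3] p = path g [9, 7] p :=
  H.back (i := 3) (by decide) (f128 H)

theorem f130 : g 3 • path g [9, 7, 3] p = path g [9, 7, 8] p :=
  scan (u := [3]) (w := [3]) (i := 3) (r6_0_0 H) (step (f128 H) rfl) (step (H.back (i := 8) (by decide) (f120 H)) rfl)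

theorem f131 : g 8 • path g [9, 7, 8] p = path g [9, 7, 3] p :=
  H.back (i := 3) (by decide) (f130 H)

theorem f132 : g 1 • path g [9, 7] p = path g [9, 7, 1] p :=
  rfl

theorem f133 : g 6 • path g [9, 7, 1] p = path g [9, 7] p :=
  H.back (i := 1) (by decide) (f132 H)

theorem f134 : g 1 • path g [9, 7, 1] p = path g [9, 7, 6] p :=
  scan (u := [1]) (w := [1]) (i := 1) (r1_0_0 H) (step (f132 H) rfl) (step (H.back (i := 6) (by decide) (f122 H)) rfl)

theorem f135 : g 6 • path g [9, 7, 6] p = path g [9, 7, 1] p :=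
  H.back (i := 1) (by decide) (f134 H)

theorem f136 : g 2 • path g [9, 7, 1] p = path g [9, 0] p :=
  scan (u := [1]) (w := [1, 2]) (i := 2) (r3_0_0 H) (step (f132 H) rfl) (step (H.back (i := 6) (by decide) (f31 H)) (step (H.back (i := 7) (by decide) (f22 H)) rfl))

theorem f137 : g 7 • path g [9, 0] p = path g [9, 7, 1] p :=
  H.back (i := 2) (by decide) (f136 H)

theorem f138 : g 2 • path g [9, 0] p = path g [9, 7, 1] p :=
  scan (u := [2]) (w := []) (i := 2) (r2_0_0 H) (step (f136 H) rfl) rfl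

theorem f139 : g 7 • path g [9, 7, 1] p = path g [9, 0] p :=
  H.back (i := 2) (by decide) (f138 H)

theorem f144 : g 9 • path g [9, 0] p = path g [9, 0, 9] p :=
  rfl

theorem f145 : g 4 • path g [9, 0, 9] p = path g [9, 0] p :=
  H.back (i := 9) (by decide) (f144 H)

theorem f146 : g 8 • path g [9, 0] p = path g [9, 0, 8] p :=
  rfl

theorem f147 : g 3 • path g [9, 0, 8] p = path g [9, 0] p :=
  H.back (i := 8) (by decide) (f146 H)

theorem f148 : g 3 • path g [9, 0] p = path g [9, 0, 3] p :=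
  rfl

theorem f150 : g 3 • path g [9, 0, 3] p = path g [9, 0, 8] p :=
  scan (u := [3]) (w := [3]) (i := 3) (r6_0_0 H) (step (f148 H) rfl) (step (H.back (i := 8) (by decide) (f146 H)) rfl)

theorem f151 : g 8 • path g [9, 0, 8] p = path g [9, 0, 3] p :=
  H.back (i := 3) (by decide) (f150 H)

theorem f152 : g 4 • path g [9, 0] p = path g [9, 0, 4] p :=
  rfl

theorem f153 : g 9 • path g [9, 0, 4] p = path g [9, 0] p :=
  H.back (i := 4) (by decide) (f152 H)

theorem f154 : g 4 • path g [9, 0, 4] p = path g [9, 0, 9] p :=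
  scan (u := [4]) (w := [4]) (i := 4) (r10_0_0 H) (step (f152 H) rfl) (step (H.back (i := 9) (by decide) (f144 H)) rfl)

theorem f155 : g 9 • path g [9, 0, 9] p = path g [9, 0, 4] p :=
  H.back (i := 4) (by decide) (f154 H)

theorem f156 : g 7 • path g [9, 8] p = path g [9, 8, 7] p :=
  rfl

theorem f157 : g 2 • path g [9, 8, 7] p = path g [9, 8] p :=
  H.back (i := 7) (by decide) (f156 H)

theorem f158 : g 7 • path g [9, 8, 7] p = path g [9, 8] p :=
  scan (u := [7]) (w := []) (i := 7) (r2_1_0 H) (step (f156 H) rfl) rfl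

theorem f159 : g 2 • path g [9, 8] p = path g [9, 8, 7] p :=
  H.back (i := 7) (by decide) (f158 H)

theorem f160 : g 0 • path g [9, 8] p = path g [9, 8, 0] p :=
  rfl

theorem f161 : g 5 • path g [9, 8, 0] p = path g [9, 8] p :=
  H.back (i := 0) (by decide) (f160 H)

theorem f162 : g 0 • path g [9, 8, 0] p = path g [9, 8] p :=
  scan (u := [0]) (w := []) (i := 0) (r0_0_0 H) (step (f160 H) rfl) rfl

theorem f163 : g 5 • path g [9, 8] p = path g [9, 8, 0] p :=
  H.back (i := 0) (by decide) (f162 H)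

theorem f164 : g 6 • path g [9, 8] p = path g [9, 8, 6] p :=
  rfl

theorem f165 : g 1 • path g [9, 8, 6] p = path g [9, 8] p :=
  H.back (i := 6) (by decide) (f164 H)

theorem f166 : g 1 • path g [9, 8] p = path g [9, 8, 1] p :=
  rfl

theorem f167 : g 6 • path g [9, 8, 1] p = path g [9, 8] p :=
  H.back (i := 1) (by decide) (f166 H)

theorem f168 : g 1 • path g [9, 8, 1] p = path g [9, 8, 6] p :=
  scan (u := [1]) (w := [1]) (i := 1) (r1_0_0 H) (step (f166 H) rfl) (step (H.back (i := 6) (by decide) (f164 H)) rfl)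

theorem f170 : g 7 • path g [9, 3] p = path g [9, 3, 7] p :=
  rfl

theorem f171 : g 2 • path g [9, 3, 7] p = path g [9, 3] p :=
  H.back (i := 7) (by decide) (f170 H)

theorem f172 : g 7 • path g [9, 3, 7] p = path g [9, 3] p :=
  scan (u := [7]) (w := []) (i := 7) (r2_1_0 H) (step (f170 H) rfl) rfl

theorem f173 : g 2 • path g [9, 3] p = path g [9, 3, 7] p :=
  H.back (i := 7) (by decide) (f172 H)

theorem f174 : g 9 • path g [9, 3] p = path g [9, 3, 9] p :=
  rfl

theorem f176 : g 9 • path g [9, 3, 9] p = path g [4, 8] p :=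
  scan (u := [9]) (w := [9]) (i := 9) (r10_1_0 H) (step (f174 H) rfl) (step (H.back (i := 4) (by decide) (f113 H)) rfl)

theorem f178 : g 8 • path g [9, 3, 9] p = path g [3, 9] p :=
  scan (u := [9]) (w := [9, 8]) (i := 8) (r15_1_1 H) (step (f174 H) rfl) (step (H.back (i := 4) (by decide) (f75 H)) (step (H.back (i := 3) (by decide) (f38 H)) rfl))

theorem f179 : g 3 • path g [3, 9] p = path g [9, 3, 9] p :=
  H.back (i := 8) (by decide) (f178 H)

theorem f180 : g 8 • path g [8, 4] p = path g [9, 3, 9] p :=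
  scan (u := [8, 8]) (w := []) (i := 8) (r6_1_0 H) (step (f178 H) (step (f76 H) rfl)) rfl

theorem f182 : g 0 • path g [9, 3] p = path g [9, 3, 0] p :=
  rfl

theorem f183 : g 5 • path g [9, 3, 0] p = path g [9, 3] p :=
  H.back (i := 0) (by decide) (f182 H)

theorem f184 : g 0 • path g [9, 3, 0] p = path g [9, 3] p :=
  scan (u := [0]) (w := []) (i := 0) (r0_0_0 H) (step (f182 H) rfl) rfl

theorem f186 : g 6 • path g [9, 3] p = path g [9, 3, 6] p :=
  rfl

theorem f187 : g 1 • path g [9, 3, 6] p = path g [9, 3] p :=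
  H.back (i := 6) (by decide) (f186 H)

theorem f188 : g 1 • path g [9, 3] p = path g [9, 3, 1] p :=
  rfl

theorem f190 : g 1 • path g [9, 3, 1] p = path g [9, 3, 6] p :=
  scan (u := [1]) (w := [1]) (i := 1) (r1_0_0 H) (step (f188 H) rfl) (step (H.back (i := 6) (by decide) (f186 H)) rfl)

theorem f191 : g 6 • path g [9, 3, 6] p = path g [9, 3, 1] p :=
  H.back (i := 1) (by decide) (f190 H)

theorem f192 : g 9 • path g [9, 1] p = path g [9, 1, 9] p :=
  rfl

theorem f194 : g 0 • path g [9, 1] p = path g [9, 1, 0] p :=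
  rfl

theorem f195 : g 5 • path g [9, 1, 0] p = path g [9, 1] p :=
  H.back (i := 0) (by decide) (f194 H)

theorem f196 : g 0 • path g [9, 1, 0] p = path g [9, 1] p :=
  scan (u := [0]) (w := []) (i := 0) (r0_0_0 H) (step (f194 H) rfl) rfl

theorem f197 : g 5 • path g [9, 1] p = path g [9, 1, 0] p :=
  H.back (i := 0) (by decide) (f196 H)

theorem f198 : g 1 • path g [9, 1, 0] p = path g [9, 1, 0] p :=
  scan (u := [0]) (w := [0, 6, 6, 0, 1]) (i := 1) (r4_0_1 H) (step (f194 H) rfl) (step (H.back (i := 5) (by decide) (f197 H)) (step (H.back (i := 1) (by decide) (f40 H)) (step (H.back (i := 1) (by decide) (f30 H)) (step (H.back (i := 5) (by decide) (f29 H)) (step (H.back (i := 6) (by decide) (f41 H)) rfl)))))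

theorem f199 : g 6 • path g [9, 1, 0] p = path g [9, 1, 0] p :=
  H.back (i := 1) (by decide) (f198 H)

theorem f200 : g 8 • path g [9, 1] p = path g [9, 1, 8] p :=
  rfl

theorem f202 : g 7 • path g [9, 1, 8] p = path g [9, 0, 8] p :=
  scan (u := [8]) (w := [3, 0, 2, 0, 1, 2, 0, 1]) (i := 7) (r7_1_4 H) (step (f200 H) rfl) (step (H.back (i := 8) (by decide) (f146 H)) (step (H.back (i := 5) (by decide) (f29 H)) (step (H.back (i := 7) (by decide) (f22 H)) (step (H.back (i := 5) (by decide) (f24 H)) (step (H.back (i := 6) (by decide) (f133 H)) (step (H.back (i := 7) (by decide) (f137 H)) (step (H.back (i := 5) (by decide) (f29 H)) (step (H.back (i := 6) (by decide) (f41 H)) rfl))))))))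

theorem f203 : g 2 • path g [9, 0, 8] p = path g [9, 1, 8] p :=
  H.back (i := 7) (by decide) (f202 H)

theorem f204 : g 7 • path g [9, 0, 8] p = path g [9, 1, 8] p :=
  scan (u := [7]) (w := []) (i := 7) (r2_1_0 H) (step (f202 H) rfl) rfl

theorem f206 : g 3 • path g [9, 1] p = path g [9, 1, 3] p :=
  rfl

theorem f207 : g 8 • path g [9, 1, 3] p = path g [9, 1] p :=
  H.back (i := 3) (by decide) (f206 H)

theorem f208 : g 3 • path g [9, 1, 3] p = path g [9, 1, 8] p :=
  scan (u := [3]) (w := [3]) (i := 3) (r6_0_0 H) (step (f206 H) rfl) (step (H.back (i := 8) (by decide) (f200 H)) rfl)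

theorem f209 : g 8 • path g [9, 1, 8] p = path g [9, 1, 3] p :=
  H.back (i := 3) (by decide) (f208 H)

theorem f210 : g 4 • path g [9, 1] p = path g [9, 1, 4] p :=
  rfl

theorem f212 : g 4 • path g [9, 1, 4] p = path g [9, 1, 9] p :=
  scan (u := [4]) (w := [4]) (i := 4) (r10_0_0 H) (step (f210 H) rfl) (step (H.back (i := 9) (by decide) (f192 H)) rfl)

theorem f213 : g 9 • path g [9, 1, 9] p = path g [9, 1, 4] p :=
  H.back (i := 4) (by decide) (f212 H)

theorem f214 : g 7 • path g [8, 9] p = path g [8, 9, 7] p :=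
  rfl

theorem f215 : g 2 • path g [8, 9, 7] p = path g [8, 9] p :=
  H.back (i := 7) (by decide) (f214 H)

theorem f216 : g 7 • path g [8, 9, 7] p = path g [8, 9] p :=
  scan (u := [7]) (w := []) (i := 7) (r2_1_0 H) (step (f214 H) rfl) rfl

theorem f217 : g 2 • path g [8, 9] p = path g [8, 9, 7] p :=
  H.back (i := 7) (by decide) (f216 H)

theorem f218 : g 0 • path g [8, 9] p = path g [8, 9, 0] p :=
  rfl

theorem f219 : g 5 • path g [8, 9, 0] p = path g [8, 9] p :=
  H.back (i := 0) (by decide) (f218 H)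

theorem f220 : g 0 • path g [8, 9, 0] p = path g [8, 9] p :=
  scan (u := [0]) (w := []) (i := 0) (r0_0_0 H) (step (f218 H) rfl) rfl

theorem f221 : g 5 • path g [8, 9] p = path g [8, 9, 0] p :=
  H.back (i := 0) (by decide) (f220 H)

theorem f222 : g 6 • path g [8, 9] p = path g [8, 9, 6] p :=
  rfl

theorem f224 : g 1 • path g [8, 9] p = path g [8, 9, 1] p :=
  rfl

theorem f225 : g 6 • path g [8, 9, 1] p = path g [8, 9] p :=
  H.back (i := 1) (by decide) (f224 H)

theorem f226 : g 1 • path g [8, 9, 1] p = path g [8, 9, 6] p :=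
  scan (u := [1]) (w := [1]) (i := 1) (r1_0_0 H) (step (f224 H) rfl) (step (H.back (i := 6) (by decide) (f222 H)) rfl)

theorem f227 : g 6 • path g [8, 9, 6] p = path g [8, 9, 1] p :=
  H.back (i := 1) (by decide) (f226 H)

theorem f228 : g 9 • path g [8, 0] p = path g [8, 0, 9] p :=
  rfl

theorem f229 : g 4 • path g [8, 0, 9] p = path g [8, 0] p :=
  H.back (i := 9) (by decide) (f228 H)

theorem f232 : g 6 • path g [8, 0] p = path g [8, 0, 6] p :=
  rfl

theorem f233 : g 1 • path g [8, 0, 6] p = path g [8, 0] p :=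
  H.back (i := 6) (by decide) (f232 H)

theorem f238 : g 1 • path g [8, 0] p = path g [8, 0, 1] p :=
  rfl

theorem f240 : g 1 • path g [8, 0, 1] p = path g [8, 0, 6] p :=
  scan (u := [1]) (w := [1]) (i := 1) (r1_0_0 H) (step (f238 H) rfl) (step (H.back (i := 6) (by decide) (f232 H)) rfl)

theorem f244 : g 0 • path g [8, 0, 1] p = path g [8, 1] p :=
  scan (u := [1]) (w := [1, 0, 6, 6, 0]) (i := 0) (r4_0_0 H) (step (f238 H) rfl) (step (H.back (i := 6) (by decide) (f59 H)) (step (H.back (i := 5) (by decide) (f63 H)) (step (H.back (i := 1) (by decide) (f58 H)) (step (H.back (i := 1) (by decide) (f56 H)) (step (H.back (i := 5) (by decide) (f49 H)) rfl)))))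

theorem f245 : g 5 • path g [8, 1] p = path g [8, 0, 1] p :=
  H.back (i := 0) (by decide) (f244 H)

theorem f246 : g 2 • path g [8, 0, 6] p = path g [8, 0, 1] p :=
  scan (u := [1, 0, 2, 1, 0, 6]) (w := [0, 6, 2, 0, 2]) (i := 2) (r5_0_7 H) (step (f238 H) (step (f244 H) (step (f60 H) (step (f55 H) (step (f48 H) (step (f232 H) rfl)))))) (step (H.back (i := 5) (by decide) (f245 H)) (step (H.back (i := 1) (by decide) (f56 H)) (step (H.back (i := 7) (by decide) (f11 H)) (step (H.back (i := 5) (by decide) (f49 H)) (step (H.back (i := 7) (by decide) (f53 H)) rfl)))))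

theorem f247 : g 7 • path g [8, 0, 1] p = path g [8, 0, 6] p :=
  H.back (i := 2) (by decide) (f246 H)

theorem f248 : g 0 • path g [8, 1] p = path g [8, 0, 1] p :=
  scan (u := [0]) (w := []) (i := 0) (r0_0_0 H) (step (f244 H) rfl) rfl

theorem f254 : g 4 • path g [8, 0] p = path g [8, 0, 4] p :=
  rfl

theorem f256 : g 4 • path g [8, 0, 4] p = path g [8, 0, 9] p :=
  scan (u := [4]) (w := [4]) (i := 4) (r10_0_0 H) (step (f254 H) rfl) (step (H.back (i := 9) (by decide) (f228 H)) rfl)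

theorem f258 : g 9 • path g [8, 6] p = path g [8, 6, 9] p :=
  rfl

theorem f260 : g 0 • path g [8, 6, 9] p = path g [8, 9, 6] p :=
  scan (u := [9]) (w := [1, 4, 6, 5]) (i := 0) (r14_0_4 H) (step (f258 H) rfl) (step (H.back (i := 6) (by decide) (f222 H)) (step (H.back (i := 9) (by decide) (f44 H)) (step (H.back (i := 1) (by decide) (f55 H)) (step (H.back (i := 0) (by decide) (f62 H)) rfl))))

theorem f262 : g 0 • path g [8, 9, 6] p = path g [8, 6, 9] p :=
  scan (u := [0]) (w := []) (i := 0) (r0_0_0 H) (step (f260 H) rfl) rfl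

theorem f264 : g 8 • path g [8, 6] p = path g [8, 6, 8] p :=
  rfl

theorem f266 : g 2 • path g [8, 6, 8] p = path g [8, 6, 8] p :=
  scan (u := [8]) (w := [3, 6, 5, 7, 6, 5, 7, 5]) (i := 2) (r7_0_3 H) (step (f264 H) rfl) (step (H.back (i := 8) (by decide) (f264 H)) (step (H.back (i := 1) (by decide) (f58 H)) (step (H.back (i := 0) (by decide) (f244 H)) (step (H.back (i := 2) (by decide) (f246 H)) (step (H.back (i := 1) (by decide) (f240 H)) (step (H.back (i := 0) (by decide) (f248 H)) (step (H.back (i := 2) (by decide) (f66 H)) (step (H.back (i := 0) (by decide) (f62 H)) rfl))))))))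

theorem f267 : g 7 • path g [8, 6, 8] p = path g [8, 6, 8] p :=
  H.back (i := 2) (by decide) (f266 H)

theorem f268 : g 3 • path g [8, 6] p = path g [8, 6, 3] p :=
  rfl

theorem f269 : g 8 • path g [8, 6, 3] p = path g [8, 6] p :=
  H.back (i := 3) (by decide) (f268 H)

theorem f270 : g 3 • path g [8, 6, 3] p = path g [8, 6, 8] p :=
  scan (u := [3]) (w := [3]) (i := 3) (r6_0_0 H) (step (f268 H) rfl) (step (H.back (i := 8) (by decide) (f264 H)) rfl)

theorem f272 : g 4 • path g [8, 6] p = path g [8, 6, 4] p :=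
  rfl

theorem f273 : g 9 • path g [8, 6, 4] p = path g [8, 6] p :=
  H.back (i := 4) (by decide) (f272 H)

theorem f274 : g 4 • path g [8, 6, 4] p = path g [8, 6, 9] p :=
  scan (u := [4]) (w := [4]) (i := 4) (r10_0_0 H) (step (f272 H) rfl) (step (H.back (i := 9) (by decide) (f258 H)) rfl)

theorem f276 : g 9 • path g [8, 1] p = path g [8, 1, 9] p :=
  rfl

theorem f277 : g 4 • path g [8, 1, 9] p = path g [8, 1] p :=
  H.back (i := 9) (by decide) (f276 H)

theorem f278 : g 8 • path g [8, 1] p = path g [8, 1, 8] p :=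
  rfl

theorem f279 : g 3 • path g [8, 1, 8] p = path g [8, 1] p :=
  H.back (i := 8) (by decide) (f278 H)

theorem f282 : g 3 • path g [8, 1] p = path g [8, 1, 3] p :=
  rfl

theorem f283 : g 8 • path g [8, 1, 3] p = path g [8, 1] p :=
  H.back (i := 3) (by decide) (f282 H)

theorem f284 : g 3 • path g [8, 1, 3] p = path g [8, 1, 8] p :=
  scan (u := [3]) (w := [3]) (i := 3) (r6_0_0 H) (step (f282 H) rfl) (step (H.back (i := 8) (by decide) (f278 H)) rfl)

theorem f285 : g 8 • path g [8, 1, 8] p = path g [8, 1, 3] p :=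
  H.back (i := 3) (by decide) (f284 H)

theorem f286 : g 4 • path g [8, 1] p = path g [8, 1, 4] p :=
  rfl

theorem f287 : g 9 • path g [8, 1, 4] p = path g [8, 1] p :=
  H.back (i := 4) (by decide) (f286 H)

theorem f288 : g 4 • path g [8, 1, 4] p = path g [8, 1, 9] p :=
  scan (u := [4]) (w := [4]) (i := 4) (r10_0_0 H) (step (f286 H) rfl) (step (H.back (i := 9) (by decide) (f276 H)) rfl)

theorem f289 : g 9 • path g [8, 1, 9] p = path g [8, 1, 4] p :=
  H.back (i := 4) (by decide) (f288 H)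

theorem f290 : g 7 • path g [8, 4] p = path g [8, 4, 7] p :=
  rfl

theorem f291 : g 2 • path g [8, 4, 7] p = path g [8, 4] p :=
  H.back (i := 7) (by decide) (f290 H)

theorem f292 : g 7 • path g [8, 4, 7] p = path g [8, 4] p :=
  scan (u := [7]) (w := []) (i := 7) (r2_1_0 H) (step (f290 H) rfl) rfl

theorem f293 : g 2 • path g [8, 4] p = path g [8, 4, 7] p :=
  H.back (i := 7) (by decide) (f292 H)

theorem f294 : g 0 • path g [8, 4] p = path g [8, 4, 0] p :=
  rfl

theorem f295 : g 5 • path g [8, 4, 0] p = path g [8, 4] p :=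
  H.back (i := 0) (by decide) (f294 H)

theorem f296 : g 0 • path g [8, 4, 0] p = path g [8, 4] p :=
  scan (u := [0]) (w := []) (i := 0) (r0_0_0 H) (step (f294 H) rfl) rfl

theorem f297 : g 5 • path g [8, 4] p = path g [8, 4, 0] p :=
  H.back (i := 0) (by decide) (f296 H)

theorem f298 : g 6 • path g [8, 4] p = path g [8, 4, 6] p :=
  rfl

theorem f300 : g 5 • path g [8, 4, 6] p = path g [8, 6, 4] p :=
  scan (u := [6]) (w := [9, 0, 1, 4]) (i := 5) (r14_0_2 H) (step (f298 H) rfl) (step (H.back (i := 4) (by decide) (f272 H)) (step (H.back (i := 5) (by decide) (f63 H)) (step (H.back (i := 6) (by decide) (f54 H)) (step (H.back (i := 9) (by decide) (f69 H)) rfl))))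

theorem f302 : g 5 • path g [8, 6, 4] p = path g [8, 4, 6] p :=
  scan (u := [5]) (w := []) (i := 5) (r0_1_0 H) (step (f300 H) rfl) rfl

theorem f303 : g 0 • path g [8, 4, 6] p = path g [8, 6, 4] p :=
  H.back (i := 5) (by decide) (f302 H)

theorem f304 : g 1 • path g [8, 4] p = path g [8, 4, 1] p :=
  rfl

theorem f308 : g 7 • path g [3, 9] p = path g [3, 9, 7] p :=
  rfl

theorem f310 : g 7 • path g [3, 9, 7] p = path g [3, 9] p :=
  scan (u := [7]) (w := []) (i := 7) (r2_1_0 H) (step (f308 H) rfl) rfl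

theorem f311 : g 2 • path g [3, 9] p = path g [3, 9, 7] p :=
  H.back (i := 7) (by decide) (f310 H)

theorem f312 : g 0 • path g [3, 9] p = path g [3, 9, 0] p :=
  rfl

theorem f314 : g 0 • path g [3, 9, 0] p = path g [3, 9] p :=
  scan (u := [0]) (w := []) (i := 0) (r0_0_0 H) (step (f312 H) rfl) rfl

theorem f315 : g 5 • path g [3, 9] p = path g [3, 9, 0] p :=
  H.back (i := 0) (by decide) (f314 H)

theorem f316 : g 6 • path g [3, 9] p = path g [3, 9, 6] p :=
  rfl

theorem f318 : g 1 • path g [3, 9] p = path g [3, 9, 1] p :=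
  rfl

theorem f319 : g 6 • path g [3, 9, 1] p = path g [3, 9] p :=
  H.back (i := 1) (by decide) (f318 H)

theorem f320 : g 1 • path g [3, 9, 1] p = path g [3, 9, 6] p :=
  scan (u := [1]) (w := [1]) (i := 1) (r1_0_0 H) (step (f318 H) rfl) (step (H.back (i := 6) (by decide) (f316 H)) rfl)

theorem f322 : g 9 • path g [3, 0] p = path g [3, 0, 9] p :=
  rfl

theorem f323 : g 4 • path g [3, 0, 9] p = path g [3, 0] p :=
  H.back (i := 9) (by decide) (f322 H)

theorem f326 : g 6 • path g [3, 0] p = path g [3, 0, 6] p :=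
  rfl

theorem f327 : g 1 • path g [3, 0, 6] p = path g [3, 0] p :=
  H.back (i := 6) (by decide) (f326 H)

theorem f332 : g 1 • path g [3, 0] p = path g [3, 0, 1] p :=
  rfl

theorem f334 : g 1 • path g [3, 0, 1] p = path g [3, 0, 6] p :=
  scan (u := [1]) (w := [1]) (i := 1) (r1_0_0 H) (step (f332 H) rfl) (step (H.back (i := 6) (by decide) (f326 H)) rfl)

theorem f336 : g 2 • path g [3, 0, 1] p = path g [3, 0, 6] p :=
  scan (u := [1]) (w := [1, 2]) (i := 2) (r3_0_0 H) (step (f332 H) rfl) (step (H.back (i := 6) (by decide) (f326 H)) (step (H.back (i := 7) (by decide) (f83 H)) rfl))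

theorem f338 : g 0 • path g [3, 0, 1] p = path g [3, 1] p :=
  scan (u := [1]) (w := [1, 0, 6, 6, 0]) (i := 0) (r4_0_0 H) (step (f332 H) rfl) (step (H.back (i := 6) (by decide) (f89 H)) (step (H.back (i := 5) (by decide) (f93 H)) (step (H.back (i := 1) (by decide) (f88 H)) (step (H.back (i := 1) (by decide) (f86 H)) (step (H.back (i := 5) (by decide) (f79 H)) rfl)))))

theorem f339 : g 5 • path g [3, 1] p = path g [3, 0, 1] p :=
  H.back (i := 0) (by decide) (f338 H)

theorem f342 : g 0 • path g [3, 1] p = path g [3, 0, 1] p :=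
  scan (u := [0]) (w := []) (i := 0) (r0_0_0 H) (step (f338 H) rfl) rfl

theorem f343 : g 5 • path g [3, 0, 1] p = path g [3, 1] p :=
  H.back (i := 0) (by decide) (f342 H)

theorem f344 : g 0 • path g [3, 0, 6] p = path g [3, 0, 6] p :=
  scan (u := [0, 1]) (w := [6, 6, 0, 1]) (i := 0) (r4_0_1 H) (step (f342 H) (step (f334 H) rfl)) (step (H.back (i := 1) (by decide) (f334 H)) (step (H.back (i := 1) (by decide) (f332 H)) (step (H.back (i := 5) (by decide) (f81 H)) (step (H.back (i := 6) (by decide) (f87 H)) rfl))))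

theorem f348 : g 4 • path g [3, 0] p = path g [3, 0, 4] p :=
  rfl

theorem f349 : g 9 • path g [3, 0, 4] p = path g [3, 0] p :=
  H.back (i := 4) (by decide) (f348 H)

theorem f350 : g 4 • path g [3, 0, 4] p = path g [3, 0, 9] p :=
  scan (u := [4]) (w := [4]) (i := 4) (r10_0_0 H) (step (f348 H) rfl) (step (H.back (i := 9) (by decide) (f322 H)) rfl)

theorem f351 : g 9 • path g [3, 0, 9] p = path g [3, 0, 4] p :=
  H.back (i := 4) (by decide) (f350 H)

theorem f352 : g 9 • path g [3, 6] p = path g [3, 6, 9] p :=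
  rfl

theorem f353 : g 4 • path g [3, 6, 9] p = path g [3, 6] p :=
  H.back (i := 9) (by decide) (f352 H)

theorem f354 : g 0 • path g [3, 6, 9] p = path g [3, 9, 6] p :=
  scan (u := [9]) (w := [1, 4, 6, 5]) (i := 0) (r14_0_4 H) (step (f352 H) rfl) (step (H.back (i := 6) (by decide) (f316 H)) (step (H.back (i := 9) (by decide) (f72 H)) (step (H.back (i := 1) (by decide) (f85 H)) (step (H.back (i := 0) (by decide) (f92 H)) rfl))))

theorem f356 : g 0 • path g [3, 9, 6] p = path g [3, 6, 9] p :=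
  scan (u := [0]) (w := []) (i := 0) (r0_0_0 H) (step (f354 H) rfl) rfl

theorem f358 : g 8 • path g [3, 6] p = path g [3, 6, 8] p :=
  rfl

theorem f359 : g 3 • path g [3, 6, 8] p = path g [3, 6] p :=
  H.back (i := 8) (by decide) (f358 H)

theorem f362 : g 3 • path g [3, 6] p = path g [3, 6, 3] p :=
  rfl

theorem f363 : g 8 • path g [3, 6, 3] p = path g [3, 6] p :=
  H.back (i := 3) (by decide) (f362 H)

theorem f364 : g 3 • path g [3, 6, 3] p = path g [3, 6, 8] p :=
  scan (u := [3]) (w := [3]) (i := 3) (r6_0_0 H) (step (f362 H) rfl) (step (H.back (i := 8) (by decide) (f358 H)) rfl)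

theorem f365 : g 8 • path g [3, 6, 8] p = path g [3, 6, 3] p :=
  H.back (i := 3) (by decide) (f364 H)

theorem f366 : g 4 • path g [3, 6] p = path g [3, 6, 4] p :=
  rfl

theorem f367 : g 9 • path g [3, 6, 4] p = path g [3, 6] p :=
  H.back (i := 4) (by decide) (f366 H)

theorem f370 : g 0 • path g [3, 6, 4] p = path g [9, 8, 6] p :=
  scan (u := [4]) (w := [1, 9, 6, 5]) (i := 0) (r14_1_1 H) (step (f366 H) rfl) (step (H.back (i := 6) (by decide) (f164 H)) (step (H.back (i := 4) (by decide) (f35 H)) (step (H.back (i := 1) (by decide) (f85 H)) (step (H.back (i := 0) (by decide) (f92 H)) rfl))))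

theorem f371 : g 5 • path g [9, 8, 6] p = path g [3, 6, 4] p :=
  H.back (i := 0) (by decide) (f370 H)

theorem f372 : g 0 • path g [9, 8, 6] p = path g [3, 6, 4] p :=
  scan (u := [0]) (w := []) (i := 0) (r0_0_0 H) (step (f370 H) rfl) rfl

theorem f373 : g 5 • path g [3, 6, 4] p = path g [9, 8, 6] p :=
  H.back (i := 0) (by decide) (f372 H)

theorem f374 : g 9 • path g [3, 1] p = path g [3, 1, 9] p :=
  rfl

theorem f375 : g 4 • path g [3, 1, 9] p = path g [3, 1] p :=
  H.back (i := 9) (by decide) (f374 H)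

theorem f376 : g 8 • path g [3, 1] p = path g [3, 1, 8] p :=
  rfl

theorem f378 : g 2 • path g [3, 1, 8] p = path g [3, 1, 8] p :=
  scan (u := [8]) (w := [3, 6, 5, 7, 6, 5, 7, 5]) (i := 2) (r7_0_3 H) (step (f376 H) rfl) (step (H.back (i := 8) (by decide) (f376 H)) (step (H.back (i := 1) (by decide) (f86 H)) (step (H.back (i := 0) (by decide) (f80 H)) (step (H.back (i := 2) (by decide) (f82 H)) (step (H.back (i := 1) (by decide) (f327 H)) (step (H.back (i := 0) (by decide) (f344 H)) (step (H.back (i := 2) (by decide) (f336 H)) (step (H.back (i := 0) (by decide) (f342 H)) rfl))))))))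

theorem f380 : g 3 • path g [3, 1] p = path g [3, 1, 3] p :=
  rfl

theorem f381 : g 8 • path g [3, 1, 3] p = path g [3, 1] p :=
  H.back (i := 3) (by decide) (f380 H)

theorem f382 : g 3 • path g [3, 1, 3] p = path g [3, 1, 8] p :=
  scan (u := [3]) (w := [3]) (i := 3) (r6_0_0 H) (step (f380 H) rfl) (step (H.back (i := 8) (by decide) (f376 H)) rfl)

theorem f383 : g 8 • path g [3, 1, 8] p = path g [3, 1, 3] p :=
  H.back (i := 3) (by decide) (f382 H)

theorem f384 : g 4 • path g [3, 1] p = path g [3, 1, 4] p :=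
  rfl

theorem f385 : g 9 • path g [3, 1, 4] p = path g [3, 1] p :=
  H.back (i := 4) (by decide) (f384 H)

theorem f386 : g 4 • path g [3, 1, 4] p = path g [3, 1, 9] p :=
  scan (u := [4]) (w := [4]) (i := 4) (r10_0_0 H) (step (f384 H) rfl) (step (H.back (i := 9) (by decide) (f374 H)) rfl)

theorem f387 : g 9 • path g [3, 1, 9] p = path g [3, 1, 4] p :=
  H.back (i := 4) (by decide) (f386 H)

theorem f390 : g 8 • path g [4, 7] p = path g [4, 7, 8] p :=
  rfl

theorem f391 : g 3 • path g [4, 7, 8] p = path g [4, 7] p :=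
  H.back (i := 8) (by decide) (f390 H)

theorem f392 : g 6 • path g [4, 7] p = path g [4, 7, 6] p :=
  rfl

theorem f394 : g 7 • path g [4, 7, 6] p = path g [4, 1] p :=
  scan (u := [6]) (w := [6, 7]) (i := 7) (r3_1_1 H) (step (f392 H) rfl) (step (H.back (i := 1) (by decide) (f114 H)) (step (H.back (i := 2) (by decide) (f97 H)) rfl))

theorem f395 : g 2 • path g [4, 1] p = path g [4, 7, 6] p :=
  H.back (i := 7) (by decide) (f394 H)

theorem f396 : g 7 • path g [4, 1] p = path g [4, 7, 6] p :=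
  scan (u := [7]) (w := []) (i := 7) (r2_1_0 H) (step (f394 H) rfl) rfl

theorem f397 : g 2 • path g [4, 7, 6] p = path g [4, 1] p :=
  H.back (i := 7) (by decide) (f396 H)

theorem f398 : g 3 • path g [4, 7] p = path g [4, 7, 3] p :=
  rfl

theorem f399 : g 8 • path g [4, 7, 3] p = path g [4, 7] p :=
  H.back (i := 3) (by decide) (f398 H)

theorem f400 : g 3 • path g [4, 7, 3] p = path g [4, 7, 8] p :=
  scan (u := [3]) (w := [3]) (i := 3) (r6_0_0 H) (step (f398 H) rfl) (step (H.back (i := 8) (by decide) (f390 H)) rfl)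

theorem f401 : g 8 • path g [4, 7, 8] p = path g [4, 7, 3] p :=
  H.back (i := 3) (by decide) (f400 H)

theorem f402 : g 1 • path g [4, 7] p = path g [4, 7, 1] p :=
  rfl

theorem f403 : g 6 • path g [4, 7, 1] p = path g [4, 7] p :=
  H.back (i := 1) (by decide) (f402 H)

theorem f404 : g 1 • path g [4, 7, 1] p = path g [4, 7, 6] p :=
  scan (u := [1]) (w := [1]) (i := 1) (r1_0_0 H) (step (f402 H) rfl) (step (H.back (i := 6) (by decide) (f392 H)) rfl)

theorem f405 : g 6 • path g [4, 7, 6] p = path g [4, 7, 1] p :=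
  H.back (i := 1) (by decide) (f404 H)

theorem f406 : g 2 • path g [4, 7, 1] p = path g [4, 0] p :=
  scan (u := [1]) (w := [1, 2]) (i := 2) (r3_0_0 H) (step (f402 H) rfl) (step (H.back (i := 6) (by decide) (f107 H)) (step (H.back (i := 7) (by decide) (f98 H)) rfl))

theorem f407 : g 7 • path g [4, 0] p = path g [4, 7, 1] p :=
  H.back (i := 2) (by decide) (f406 H)

theorem f408 : g 2 • path g [4, 0] p = path g [4, 7, 1] p :=
  scan (u := [2]) (w := []) (i := 2) (r2_0_0 H) (step (f406 H) rfl) rfl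

theorem f409 : g 7 • path g [4, 7, 1] p = path g [4, 0] p :=
  H.back (i := 2) (by decide) (f408 H)

theorem f410 : g 0 • path g [9, 7, 1] p = path g [4, 7, 1] p :=
  scan (u := [2, 0, 9, 5, 7, 5, 7, 5, 7, 5, 7, 9, 2, 0, 2, 0, 2]) (w := []) (i := 0) (r11_1_11 H) (step (f406 H) (step (f104 H) (step (f17 H) (step (f1 H) (step (f5 H) (step (f1 H) (step (f5 H) (step (f1 H) (step (f5 H) (step (f1 H) (step (f5 H) (step (f6 H) (step (f23 H) (step (f25 H) (step (f21 H) (step (f26 H) (step (f138 H) rfl))))))))))))))))) rfl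

theorem f411 : g 5 • path g [4, 7, 1] p = path g [9, 7, 1] p :=
  H.back (i := 0) (by decide) (f410 H)

theorem f412 : g 5 • path g [9, 7, 6] p = path g [4, 7, 6] p :=
  scan (u := [7, 5, 6, 7, 5, 7, 1]) (w := [7, 1, 5, 6]) (i := 5) (r5_1_2 H) (step (f407 H) (step (f411 H) (step (f133 H) (step (f22 H) (step (f29 H) (step (f137 H) (step (f134 H) rfl))))))) (step (H.back (i := 2) (by decide) (f395 H)) (step (H.back (i := 6) (by decide) (f117 H)) (step (H.back (i := 0) (by decide) (f102 H)) (step (H.back (i := 1) (by decide) (f106 H)) rfl))))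

theorem f413 : g 0 • path g [4, 7, 6] p = path g [9, 7, 6] p :=
  H.back (i := 5) (by decide) (f412 H)

theorem f414 : g 0 • path g [4, 7, 1] p = path g [9, 7, 1] p :=
  scan (u := [7, 5, 7, 5, 7, 5, 7, 9, 2, 0, 2, 0, 2]) (w := [2, 0, 9, 5]) (i := 0) (r11_1_15 H) (step (f407 H) (step (f411 H) (step (f139 H) (step (f27 H) (step (f20 H) (step (f24 H) (step (f22 H) (step (f19 H) (step (f99 H) (step (f101 H) (step (f97 H) (step (f102 H) (step (f408 H) rfl))))))))))))) (step (H.back (i := 7) (by decide) (f137 H)) (step (H.back (i := 5) (by decide) (f29 H)) (step (H.back (i := 4) (by decide) (f18 H)) (step (H.back (i := 0) (by decide) (f104 H)) rfl))))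

theorem f415 : g 5 • path g [9, 7, 1] p = path g [4, 7, 1] p :=
  H.back (i := 0) (by decide) (f414 H)

theorem f416 : g 0 • path g [9, 7, 6] p = path g [4, 7, 6] p :=
  scan (u := [0, 1]) (w := [6, 6, 0, 1]) (i := 0) (r4_0_1 H) (step (f414 H) (step (f134 H) rfl)) (step (H.back (i := 1) (by decide) (f404 H)) (step (H.back (i := 1) (by decide) (f402 H)) (step (H.back (i := 5) (by decide) (f100 H)) (step (H.back (i := 6) (by decide) (f403 H)) rfl))))

theorem f417 : g 5 • path g [4, 7, 6] p = path g [9, 7, 6] p :=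
  H.back (i := 0) (by decide) (f416 H)

theorem f418 : g 4 • path g [4, 7] p = path g [4, 7, 4] p :=
  rfl

theorem f419 : g 9 • path g [4, 7, 4] p = path g [4, 7] p :=
  H.back (i := 4) (by decide) (f418 H)

theorem f422 : g 9 • path g [4, 0] p = path g [4, 0, 9] p :=
  rfl

theorem f423 : g 4 • path g [4, 0, 9] p = path g [4, 0] p :=
  H.back (i := 9) (by decide) (f422 H)

theorem f424 : g 8 • path g [4, 0] p = path g [4, 0, 8] p :=
  rfl

theorem f425 : g 3 • path g [4, 0, 8] p = path g [4, 0] p :=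
  H.back (i := 8) (by decide) (f424 H)

theorem f426 : g 3 • path g [4, 0] p = path g [4, 0, 3] p :=
  rfl

theorem f428 : g 3 • path g [4, 0, 3] p = path g [4, 0, 8] p :=
  scan (u := [3]) (w := [3]) (i := 3) (r6_0_0 H) (step (f426 H) rfl) (step (H.back (i := 8) (by decide) (f424 H)) rfl)

theorem f430 : g 4 • path g [4, 0] p = path g [4, 0, 4] p :=
  rfl

theorem f432 : g 4 • path g [4, 0, 4] p = path g [4, 0, 9] p :=
  scan (u := [4]) (w := [4]) (i := 4) (r10_0_0 H) (step (f430 H) rfl) (step (H.back (i := 9) (by decide) (f422 H)) rfl)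

theorem f433 : g 9 • path g [4, 0, 9] p = path g [4, 0, 4] p :=
  H.back (i := 4) (by decide) (f432 H)

theorem f434 : g 7 • path g [4, 8] p = path g [4, 8, 7] p :=
  rfl

theorem f435 : g 2 • path g [4, 8, 7] p = path g [4, 8] p :=
  H.back (i := 7) (by decide) (f434 H)

theorem f436 : g 7 • path g [4, 8, 7] p = path g [4, 8] p :=
  scan (u := [7]) (w := []) (i := 7) (r2_1_0 H) (step (f434 H) rfl) rfl

theorem f437 : g 2 • path g [4, 8] p = path g [4, 8, 7] p :=
  H.back (i := 7) (by decide) (f436 H)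

theorem f438 : g 3 • path g [4, 8, 7] p = path g [9, 1, 0] p :=
  scan (u := [7]) (w := [0, 2, 0, 1, 2, 0, 1, 8]) (i := 3) (r7_1_5 H) (step (f434 H) rfl) (step (H.back (i := 5) (by decide) (f197 H)) (step (H.back (i := 7) (by decide) (f124 H)) (step (H.back (i := 5) (by decide) (f417 H)) (step (H.back (i := 6) (by decide) (f392 H)) (step (H.back (i := 7) (by decide) (f96 H)) (step (H.back (i := 5) (by decide) (f103 H)) (step (H.back (i := 6) (by decide) (f107 H)) (step (H.back (i := 3) (by decide) (f109 H)) rfl))))))))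

theorem f439 : g 8 • path g [9, 1, 0] p = path g [4, 8, 7] p :=
  H.back (i := 3) (by decide) (f438 H)

theorem f440 : g 0 • path g [4, 8] p = path g [4, 8, 0] p :=
  rfl

theorem f441 : g 5 • path g [4, 8, 0] p = path g [4, 8] p :=
  H.back (i := 0) (by decide) (f440 H)

theorem f442 : g 0 • path g [4, 8, 0] p = path g [4, 8] p :=
  scan (u := [0]) (w := []) (i := 0) (r0_0_0 H) (step (f440 H) rfl) rfl

theorem f443 : g 5 • path g [4, 8] p = path g [4, 8, 0] p :=
  H.back (i := 0) (by decide) (f442 H)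

theorem f444 : g 6 • path g [4, 8] p = path g [4, 8, 6] p :=
  rfl

theorem f445 : g 1 • path g [4, 8, 6] p = path g [4, 8] p :=
  H.back (i := 6) (by decide) (f444 H)

theorem f446 : g 1 • path g [4, 8] p = path g [4, 8, 1] p :=
  rfl

theorem f448 : g 1 • path g [4, 8, 1] p = path g [4, 8, 6] p :=
  scan (u := [1]) (w := [1]) (i := 1) (r1_0_0 H) (step (f446 H) rfl) (step (H.back (i := 6) (by decide) (f444 H)) rfl)

theorem f449 : g 6 • path g [4, 8, 6] p = path g [4, 8, 1] p :=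
  H.back (i := 1) (by decide) (f448 H)

theorem f450 : g 9 • path g [4, 1] p = path g [4, 1, 9] p :=
  rfl

theorem f451 : g 4 • path g [4, 1, 9] p = path g [4, 1] p :=
  H.back (i := 9) (by decide) (f450 H)

theorem f452 : g 0 • path g [4, 1] p = path g [4, 1, 0] p :=
  rfl

theorem f453 : g 5 • path g [4, 1, 0] p = path g [4, 1] p :=
  H.back (i := 0) (by decide) (f452 H)

theorem f454 : g 0 • path g [4, 1, 0] p = path g [4, 1] p :=
  scan (u := [0]) (w := []) (i := 0) (r0_0_0 H) (step (f452 H) rfl) rfl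

theorem f455 : g 5 • path g [4, 1] p = path g [4, 1, 0] p :=
  H.back (i := 0) (by decide) (f454 H)

theorem f456 : g 1 • path g [4, 1, 0] p = path g [4, 1, 0] p :=
  scan (u := [0]) (w := [0, 6, 6, 0, 1]) (i := 1) (r4_0_1 H) (step (f452 H) rfl) (step (H.back (i := 5) (by decide) (f455 H)) (step (H.back (i := 1) (by decide) (f114 H)) (step (H.back (i := 1) (by decide) (f106 H)) (step (H.back (i := 5) (by decide) (f105 H)) (step (H.back (i := 6) (by decide) (f115 H)) rfl)))))

theorem f457 : g 6 • path g [4, 1, 0] p = path g [4, 1, 0] p :=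
  H.back (i := 1) (by decide) (f456 H)

theorem f458 : g 8 • path g [4, 1, 0] p = path g [9, 8, 7] p :=
  scan (u := [0, 1]) (w := [7, 3, 0, 2, 0, 1, 2]) (i := 8) (r7_1_2 H) (step (f452 H) (step (f456 H) rfl)) (step (H.back (i := 2) (by decide) (f159 H)) (step (H.back (i := 8) (by decide) (f32 H)) (step (H.back (i := 5) (by decide) (f27 H)) (step (H.back (i := 7) (by decide) (f139 H)) (step (H.back (i := 5) (by decide) (f411 H)) (step (H.back (i := 6) (by decide) (f405 H)) (step (H.back (i := 7) (by decide) (f396 H)) rfl)))))))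

theorem f459 : g 3 • path g [9, 8, 7] p = path g [4, 1, 0] p :=
  H.back (i := 8) (by decide) (f458 H)

theorem f460 : g 8 • path g [4, 1] p = path g [4, 1, 8] p :=
  rfl

theorem f461 : g 3 • path g [4, 1, 8] p = path g [4, 1] p :=
  H.back (i := 8) (by decide) (f460 H)

theorem f462 : g 7 • path g [4, 1, 8] p = path g [4, 0, 8] p :=
  scan (u := [8]) (w := [3, 0, 2, 0, 1, 2, 0, 1]) (i := 7) (r7_1_4 H) (step (f460 H) rfl) (step (H.back (i := 8) (by decide) (f424 H)) (step (H.back (i := 5) (by decide) (f105 H)) (step (H.back (i := 7) (by decide) (f98 H)) (step (H.back (i := 5) (by decide) (f100 H)) (step (H.back (i := 6) (by decide) (f403 H)) (step (H.back (i := 7) (by decide) (f407 H)) (step (H.back (i := 5) (by decide) (f105 H)) (step (H.back (i := 6) (by decide) (f115 H)) rfl))))))))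

theorem f463 : g 2 • path g [4, 0, 8] p = path g [4, 1, 8] p :=
  H.back (i := 7) (by decide) (f462 H)

theorem f464 : g 7 • path g [4, 0, 8] p = path g [4, 1, 8] p :=
  scan (u := [7]) (w := []) (i := 7) (r2_1_0 H) (step (f462 H) rfl) rfl

theorem f465 : g 2 • path g [4, 1, 8] p = path g [4, 0, 8] p :=
  H.back (i := 7) (by decide) (f464 H)

theorem f466 : g 3 • path g [4, 1] p = path g [4, 1, 3] p :=
  rfl

theorem f467 : g 8 • path g [4, 1, 3] p = path g [4, 1] p :=
  H.back (i := 3) (by decide) (f466 H)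

theorem f468 : g 3 • path g [4, 1, 3] p = path g [4, 1, 8] p :=
  scan (u := [3]) (w := [3]) (i := 3) (r6_0_0 H) (step (f466 H) rfl) (step (H.back (i := 8) (by decide) (f460 H)) rfl)

theorem f470 : g 4 • path g [4, 1] p = path g [4, 1, 4] p :=
  rfl

theorem f471 : g 9 • path g [4, 1, 4] p = path g [4, 1] p :=
  H.back (i := 4) (by decide) (f470 H)

theorem f472 : g 4 • path g [4, 1, 4] p = path g [4, 1, 9] p :=
  scan (u := [4]) (w := [4]) (i := 4) (r10_0_0 H) (step (f470 H) rfl) (step (H.back (i := 9) (by decide) (f450 H)) rfl)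

theorem f496 : g 7 • path g [9, 7, 8] p = path g [9, 7, 8, 7] p :=
  rfl

theorem f497 : g 2 • path g [9, 7, 8, 7] p = path g [9, 7, 8] p :=
  H.back (i := 7) (by decide) (f496 H)

theorem f498 : g 7 • path g [9, 7, 8, 7] p = path g [9, 7, 8] p :=
  scan (u := [7]) (w := []) (i := 7) (r2_1_0 H) (step (f496 H) rfl) rfl

theorem f499 : g 2 • path g [9, 7, 8] p = path g [9, 7, 8, 7] p :=
  H.back (i := 7) (by decide) (f498 H)

theorem f500 : g 3 • path g [9, 7, 8, 7] p = path g [9, 7, 1] p :=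
  scan (u := [7]) (w := [0, 2, 0, 1, 2, 0, 1, 8]) (i := 3) (r7_1_5 H) (step (f496 H) rfl) (step (H.back (i := 5) (by decide) (f411 H)) (step (H.back (i := 7) (by decide) (f407 H)) (step (H.back (i := 5) (by decide) (f105 H)) (step (H.back (i := 6) (by decide) (f115 H)) (step (H.back (i := 7) (by decide) (f394 H)) (step (H.back (i := 5) (by decide) (f412 H)) (step (H.back (i := 6) (by decide) (f122 H)) (step (H.back (i := 3) (by decide) (f121 H)) rfl))))))))

theorem f501 : g 8 • path g [9, 7, 1] p = path g [9, 7, 8, 7] p :=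
  H.back (i := 3) (by decide) (f500 H)

theorem f506 : g 0 • path g [9, 7, 8] p = path g [9, 7, 8, 0] p :=
  rfl

theorem f507 : g 5 • path g [9, 7, 8, 0] p = path g [9, 7, 8] p :=
  H.back (i := 0) (by decide) (f506 H)

theorem f508 : g 0 • path g [9, 7, 8, 0] p = path g [9, 7, 8] p :=
  scan (u := [0]) (w := []) (i := 0) (r0_0_0 H) (step (f506 H) rfl) rfl

theorem f509 : g 5 • path g [9, 7, 8] p = path g [9, 7, 8, 0] p :=
  H.back (i := 0) (by decide) (f508 H)

theorem f510 : g 2 • path g [9, 7, 8, 0] p = path g [9, 8, 0] p :=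
  scan (u := [0]) (w := [0, 2, 3, 5, 7, 5, 7, 6, 5, 7, 6, 8]) (i := 2) (r8_0_9 H) (step (f506 H) rfl) (step (H.back (i := 5) (by decide) (f163 H)) (step (H.back (i := 7) (by decide) (f158 H)) (step (H.back (i := 8) (by decide) (f458 H)) (step (H.back (i := 0) (by decide) (f452 H)) (step (H.back (i := 2) (by decide) (f397 H)) (step (H.back (i := 0) (by decide) (f416 H)) (step (H.back (i := 2) (by decide) (f125 H)) (step (H.back (i := 1) (by decide) (f40 H)) (step (H.back (i := 0) (by decide) (f28 H)) (step (H.back (i := 2) (by decide) (f136 H)) (step (H.back (i := 1) (by decide) (f132 H)) (step (H.back (i := 3) (by decide) (f121 H)) rfl))))))))))))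

theorem f511 : g 7 • path g [9, 8, 0] p = path g [9, 7, 8, 0] p :=
  H.back (i := 2) (by decide) (f510 H)

theorem f512 : g 2 • path g [9, 8, 0] p = path g [9, 7, 8, 0] p :=
  scan (u := [2]) (w := []) (i := 2) (r2_0_0 H) (step (f510 H) rfl) rfl

theorem f513 : g 7 • path g [9, 7, 8, 0] p = path g [9, 8, 0] p :=
  H.back (i := 2) (by decide) (f512 H)

theorem f514 : g 6 • path g [9, 7, 8] p = path g [9, 7, 8, 6] p :=
  rfl

theorem f515 : g 1 • path g [9, 7, 8, 6] p = path g [9, 7, 8] p :=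
  H.back (i := 6) (by decide) (f514 H)

theorem f516 : g 1 • path g [9, 7, 8] p = path g [9, 7, 8, 1] p :=
  rfl

theorem f517 : g 6 • path g [9, 7, 8, 1] p = path g [9, 7, 8] p :=
  H.back (i := 1) (by decide) (f516 H)

theorem f518 : g 1 • path g [9, 7, 8, 1] p = path g [9, 7, 8, 6] p :=
  scan (u := [1]) (w := [1]) (i := 1) (r1_0_0 H) (step (f516 H) rfl) (step (H.back (i := 6) (by decide) (f514 H)) rfl)

theorem f519 : g 6 • path g [9, 7, 8, 6] p = path g [9, 7, 8, 1] p :=
  H.back (i := 1) (by decide) (f518 H)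

theorem f526 : g 8 • path g [9, 7, 6] p = path g [9, 7, 6, 8] p :=
  rfl

theorem f528 : g 3 • path g [9, 7, 6] p = path g [9, 7, 6, 3] p :=
  rfl

theorem f530 : g 3 • path g [9, 7, 6, 3] p = path g [9, 7, 6, 8] p :=
  scan (u := [3]) (w := [3]) (i := 3) (r6_0_0 H) (step (f528 H) rfl) (step (H.back (i := 8) (by decide) (f526 H)) rfl)

theorem f532 : g 4 • path g [9, 7, 6] p = path g [9, 7, 6, 4] p :=
  rfl

theorem f536 : g 7 • path g [9, 7, 3] p = path g [9, 7, 3, 7] p :=
  rfl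

theorem f538 : g 7 • path g [9, 7, 3, 7] p = path g [9, 7, 3] p :=
  scan (u := [7]) (w := []) (i := 7) (r2_1_0 H) (step (f536 H) rfl) rfl

theorem f539 : g 2 • path g [9, 7, 3] p = path g [9, 7, 3, 7] p :=
  H.back (i := 7) (by decide) (f538 H)

theorem f546 : g 0 • path g [9, 7, 3] p = path g [9, 7, 3, 0] p :=
  rfl

theorem f547 : g 5 • path g [9, 7, 3, 0] p = path g [9, 7, 3] p :=
  H.back (i := 0) (by decide) (f546 H)

theorem f548 : g 0 • path g [9, 7, 3, 0] p = path g [9, 7, 3] p :=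
  scan (u := [0]) (w := []) (i := 0) (r0_0_0 H) (step (f546 H) rfl) rfl

theorem f549 : g 5 • path g [9, 7, 3] p = path g [9, 7, 3, 0] p :=
  H.back (i := 0) (by decide) (f548 H)

theorem f550 : g 6 • path g [9, 7, 3] p = path g [9, 7, 3, 6] p :=
  rfl

theorem f552 : g 1 • path g [9, 7, 3] p = path g [9, 7, 3, 1] p :=
  rfl

theorem f553 : g 6 • path g [9, 7, 3, 1] p = path g [9, 7, 3] p :=
  H.back (i := 1) (by decide) (f552 H)

theorem f554 : g 1 • path g [9, 7, 3, 1] p = path g [9, 7, 3, 6] p :=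
  scan (u := [1]) (w := [1]) (i := 1) (r1_0_0 H) (step (f552 H) rfl) (step (H.back (i := 6) (by decide) (f550 H)) rfl)

theorem f560 : g 3 • path g [9, 7, 1] p = path g [9, 7, 1, 3] p :=
  rfl

theorem f561 : g 8 • path g [9, 7, 1, 3] p = path g [9, 7, 1] p :=
  H.back (i := 3) (by decide) (f560 H)

theorem f562 : g 3 • path g [9, 7, 1, 3] p = path g [9, 7, 8, 7] p :=
  scan (u := [3]) (w := [3]) (i := 3) (r6_0_0 H) (step (f560 H) rfl) (step (H.back (i := 8) (by decide) (f501 H)) rfl)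

theorem f563 : g 8 • path g [9, 7, 8, 7] p = path g [9, 7, 1, 3] p :=
  H.back (i := 3) (by decide) (f562 H)

theorem f590 : g 7 • path g [9, 0, 9] p = path g [9, 0, 9, 7] p :=
  rfl

theorem f591 : g 2 • path g [9, 0, 9, 7] p = path g [9, 0, 9] p :=
  H.back (i := 7) (by decide) (f590 H)

theorem f592 : g 7 • path g [9, 0, 9, 7] p = path g [9, 0, 9] p :=
  scan (u := [7]) (w := []) (i := 7) (r2_1_0 H) (step (f590 H) rfl) rfl

theorem f594 : g 0 • path g [9, 0, 9] p = path g [9, 0, 9, 0] p :=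
  rfl

theorem f595 : g 5 • path g [9, 0, 9, 0] p = path g [9, 0, 9] p :=
  H.back (i := 0) (by decide) (f594 H)

theorem f596 : g 0 • path g [9, 0, 9, 0] p = path g [9, 0, 9] p :=
  scan (u := [0]) (w := []) (i := 0) (r0_0_0 H) (step (f594 H) rfl) rfl

theorem f598 : g 1 • path g [9, 0, 9, 0] p = path g [9, 1, 9] p :=
  scan (u := [0]) (w := [4, 6, 5, 9]) (i := 1) (r14_0_5 H) (step (f594 H) rfl) (step (H.back (i := 9) (by decide) (f192 H)) (step (H.back (i := 1) (by decide) (f40 H)) (step (H.back (i := 0) (by decide) (f28 H)) (step (H.back (i := 4) (by decide) (f145 H)) rfl))))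

theorem f599 : g 6 • path g [9, 1, 9] p = path g [9, 0, 9, 0] p :=
  H.back (i := 1) (by decide) (f598 H)

theorem f600 : g 8 • path g [9, 0, 9] p = path g [9, 0, 9, 8] p :=
  rfl

theorem f601 : g 3 • path g [9, 0, 9, 8] p = path g [9, 0, 9] p :=
  H.back (i := 8) (by decide) (f600 H)

theorem f602 : g 9 • path g [9, 0, 9, 8] p = path g [9, 0, 3] p :=
  scan (u := [8]) (w := [8, 9]) (i := 9) (r15_1_0 H) (step (f600 H) rfl) (step (H.back (i := 3) (by decide) (f148 H)) (step (H.back (i := 4) (by decide) (f145 H)) rfl))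

theorem f603 : g 4 • path g [9, 0, 3] p = path g [9, 0, 9, 8] p :=
  H.back (i := 9) (by decide) (f602 H)

theorem f604 : g 6 • path g [9, 0, 9] p = path g [9, 0, 9, 6] p :=
  rfl

theorem f610 : g 1 • path g [9, 0, 9] p = path g [9, 0, 9, 1] p :=
  rfl

theorem f611 : g 6 • path g [9, 0, 9, 1] p = path g [9, 0, 9] p :=
  H.back (i := 1) (by decide) (f610 H)

theorem f612 : g 1 • path g [9, 0, 9, 1] p = path g [9, 0, 9, 6] p :=
  scan (u := [1]) (w := [1]) (i := 1) (r1_0_0 H) (step (f610 H) rfl) (step (H.back (i := 6) (by decide) (f604 H)) rfl)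

theorem f613 : g 6 • path g [9, 0, 9, 6] p = path g [9, 0, 9, 1] p :=
  H.back (i := 1) (by decide) (f612 H)

theorem f614 : g 9 • path g [9, 0, 8] p = path g [9, 0, 8, 9] p :=
  rfl

theorem f618 : g 0 • path g [9, 0, 8] p = path g [9, 0, 8, 0] p :=
  rfl

theorem f619 : g 5 • path g [9, 0, 8, 0] p = path g [9, 0, 8] p :=
  H.back (i := 0) (by decide) (f618 H)

theorem f620 : g 0 • path g [9, 0, 8, 0] p = path g [9, 0, 8] p :=
  scan (u := [0]) (w := []) (i := 0) (r0_0_0 H) (step (f618 H) rfl) rfl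

theorem f621 : g 5 • path g [9, 0, 8] p = path g [9, 0, 8, 0] p :=
  H.back (i := 0) (by decide) (f620 H)

theorem f622 : g 6 • path g [9, 0, 8] p = path g [9, 0, 8, 6] p :=
  rfl

theorem f623 : g 1 • path g [9, 0, 8, 6] p = path g [9, 0, 8] p :=
  H.back (i := 6) (by decide) (f622 H)

theorem f624 : g 1 • path g [9, 0, 8] p = path g [9, 0, 8, 1] p :=
  rfl

theorem f625 : g 6 • path g [9, 0, 8, 1] p = path g [9, 0, 8] p :=
  H.back (i := 1) (by decide) (f624 H)

theorem f626 : g 1 • path g [9, 0, 8, 1] p = path g [9, 0, 8, 6] p :=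
  scan (u := [1]) (w := [1]) (i := 1) (r1_0_0 H) (step (f624 H) rfl) (step (H.back (i := 6) (by decide) (f622 H)) rfl)

theorem f628 : g 4 • path g [9, 0, 8] p = path g [9, 0, 8, 4] p :=
  rfl

theorem f629 : g 9 • path g [9, 0, 8, 4] p = path g [9, 0, 8] p :=
  H.back (i := 4) (by decide) (f628 H)

theorem f630 : g 4 • path g [9, 0, 8, 4] p = path g [9, 0, 8, 9] p :=
  scan (u := [4]) (w := [4]) (i := 4) (r10_0_0 H) (step (f628 H) rfl) (step (H.back (i := 9) (by decide) (f614 H)) rfl)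

theorem f632 : g 7 • path g [9, 0, 3] p = path g [9, 0, 3, 7] p :=
  rfl

theorem f634 : g 7 • path g [9, 0, 3, 7] p = path g [9, 0, 3] p :=
  scan (u := [7]) (w := []) (i := 7) (r2_1_0 H) (step (f632 H) rfl) rfl

theorem f635 : g 2 • path g [9, 0, 3] p = path g [9, 0, 3, 7] p :=
  H.back (i := 7) (by decide) (f634 H)

theorem f636 : g 9 • path g [9, 0, 3] p = path g [9, 0, 3, 9] p :=
  rfl

theorem f638 : g 9 • path g [9, 0, 3, 9] p = path g [9, 0, 9, 8] p :=
  scan (u := [9]) (w := [9]) (i := 9) (r10_1_0 H) (step (f636 H) rfl) (step (H.back (i := 4) (by decide) (f603 H)) rfl)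

theorem f642 : g 0 • path g [9, 0, 3] p = path g [9, 0, 3, 0] p :=
  rfl

theorem f643 : g 5 • path g [9, 0, 3, 0] p = path g [9, 0, 3] p :=
  H.back (i := 0) (by decide) (f642 H)

theorem f644 : g 0 • path g [9, 0, 3, 0] p = path g [9, 0, 3] p :=
  scan (u := [0]) (w := []) (i := 0) (r0_0_0 H) (step (f642 H) rfl) rfl

theorem f645 : g 5 • path g [9, 0, 3] p = path g [9, 0, 3, 0] p :=
  H.back (i := 0) (by decide) (f644 H)

theorem f646 : g 6 • path g [9, 0, 3] p = path g [9, 0, 3, 6] p :=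
  rfl

theorem f647 : g 1 • path g [9, 0, 3, 6] p = path g [9, 0, 3] p :=
  H.back (i := 6) (by decide) (f646 H)

theorem f648 : g 1 • path g [9, 0, 3] p = path g [9, 0, 3, 1] p :=
  rfl

theorem f650 : g 1 • path g [9, 0, 3, 1] p = path g [9, 0, 3, 6] p :=
  scan (u := [1]) (w := [1]) (i := 1) (r1_0_0 H) (step (f648 H) rfl) (step (H.back (i := 6) (by decide) (f646 H)) rfl)

theorem f651 : g 6 • path g [9, 0, 3, 6] p = path g [9, 0, 3, 1] p :=
  H.back (i := 1) (by decide) (f650 H)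

theorem f652 : g 7 • path g [9, 0, 4] p = path g [9, 0, 4, 7] p :=
  rfl

theorem f653 : g 2 • path g [9, 0, 4, 7] p = path g [9, 0, 4] p :=
  H.back (i := 7) (by decide) (f652 H)

theorem f654 : g 7 • path g [9, 0, 4, 7] p = path g [9, 0, 4] p :=
  scan (u := [7]) (w := []) (i := 7) (r2_1_0 H) (step (f652 H) rfl) rfl

theorem f655 : g 2 • path g [9, 0, 4] p = path g [9, 0, 4, 7] p :=
  H.back (i := 7) (by decide) (f654 H)

theorem f656 : g 0 • path g [9, 0, 4] p = path g [9, 0, 4, 0] p :=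
  rfl

theorem f657 : g 5 • path g [9, 0, 4, 0] p = path g [9, 0, 4] p :=
  H.back (i := 0) (by decide) (f656 H)

theorem f658 : g 0 • path g [9, 0, 4, 0] p = path g [9, 0, 4] p :=
  scan (u := [0]) (w := []) (i := 0) (r0_0_0 H) (step (f656 H) rfl) rfl

theorem f660 : g 1 • path g [9, 0, 4, 0] p = path g [9, 1, 4] p :=
  scan (u := [0]) (w := [4, 6, 5, 9]) (i := 1) (r14_0_5 H) (step (f656 H) rfl) (step (H.back (i := 9) (by decide) (f213 H)) (step (H.back (i := 1) (by decide) (f598 H)) (step (H.back (i := 0) (by decide) (f594 H)) (step (H.back (i := 4) (by decide) (f154 H)) rfl))))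

theorem f661 : g 6 • path g [9, 1, 4] p = path g [9, 0, 4, 0] p :=
  H.back (i := 1) (by decide) (f660 H)

theorem f662 : g 8 • path g [9, 0, 4] p = path g [9, 0, 4, 8] p :=
  rfl

theorem f668 : g 6 • path g [9, 0, 4] p = path g [9, 0, 4, 6] p :=
  rfl

theorem f670 : g 1 • path g [9, 0, 4] p = path g [9, 0, 4, 1] p :=
  rfl

theorem f672 : g 1 • path g [9, 0, 4, 1] p = path g [9, 0, 4, 6] p :=
  scan (u := [1]) (w := [1]) (i := 1) (r1_0_0 H) (step (f670 H) rfl) (step (H.back (i := 6) (by decide) (f668 H)) rfl)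

theorem f673 : g 6 • path g [9, 0, 4, 6] p = path g [9, 0, 4, 1] p :=
  H.back (i := 1) (by decide) (f672 H)

theorem f674 : g 9 • path g [9, 8, 7] p = path g [9, 8, 7, 9] p :=
  rfl

theorem f675 : g 4 • path g [9, 8, 7, 9] p = path g [9, 8, 7] p :=
  H.back (i := 9) (by decide) (f674 H)

theorem f676 : g 0 • path g [9, 8, 7] p = path g [9, 8, 7, 0] p :=
  rfl

theorem f677 : g 5 • path g [9, 8, 7, 0] p = path g [9, 8, 7] p :=
  H.back (i := 0) (by decide) (f676 H)

theorem f678 : g 0 • path g [9, 8, 7, 0] p = path g [9, 8, 7] p :=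
  scan (u := [0]) (w := []) (i := 0) (r0_0_0 H) (step (f676 H) rfl) rfl

theorem f680 : g 2 • path g [9, 8, 7, 0] p = path g [3, 0, 4] p :=
  scan (u := [0]) (w := [9, 7, 5, 7, 4, 2]) (i := 2) (r13_1_3 H) (step (f676 H) rfl) (step (H.back (i := 4) (by decide) (f348 H)) (step (H.back (i := 2) (by decide) (f82 H)) (step (H.back (i := 0) (by decide) (f78 H)) (step (H.back (i := 2) (by decide) (f64 H)) (step (H.back (i := 9) (by decide) (f34 H)) (step (H.back (i := 7) (by decide) (f158 H)) rfl))))))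

theorem f682 : g 2 • path g [3, 0, 4] p = path g [9, 8, 7, 0] p :=
  scan (u := [2]) (w := []) (i := 2) (r2_0_0 H) (step (f680 H) rfl) rfl

theorem f684 : g 0 • path g [9, 7, 8, 7] p = path g [3, 0, 9] p :=
  scan (u := [2, 0, 2, 0, 2, 0, 2]) (w := [4, 5, 7, 5, 7, 5, 7, 5, 7, 4]) (i := 0) (r11_0_14 H) (step (f682 H) (step (f678 H) (step (f157 H) (step (f160 H) (step (f512 H) (step (f508 H) (step (f499 H) rfl))))))) (step (H.back (i := 9) (by decide) (f322 H)) (step (H.back (i := 0) (by decide) (f78 H)) (step (H.back (i := 2) (by decide) (f64 H)) (step (H.back (i := 0) (by decide) (f80 H)) (step (H.back (i := 2) (by decide) (f82 H)) (step (H.back (i := 0) (by decide) (f78 H)) (step (H.back (i := 2) (by decide) (f64 H)) (step (H.back (i := 0) (by decide) (f80 H)) (step (H.back (i := 2) (by decide) (f82 H)) (step (H.back (i := 9) (by decide) (f349 H)) rfl))))))))))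

theorem f685 : g 5 • path g [3, 0, 9] p = path g [9, 7, 8, 7] p :=
  H.back (i := 0) (by decide) (f684 H)

theorem f686 : g 0 • path g [3, 0, 9] p = path g [9, 7, 8, 7] p :=
  scan (u := [0]) (w := []) (i := 0) (r0_0_0 H) (step (f684 H) rfl) rfl

theorem f687 : g 5 • path g [9, 7, 8, 7] p = path g [3, 0, 9] p :=
  H.back (i := 0) (by decide) (f686 H)

theorem f688 : g 1 • path g [9, 7, 8, 7] p = path g [3, 1, 9] p :=
  scan (u := [0]) (w := [4, 6, 5, 9]) (i := 1) (r14_0_5 H) (step (f686 H) rfl) (step (H.back (i := 9) (by decide) (f374 H)) (step (H.back (i := 1) (by decide) (f86 H)) (step (H.back (i := 0) (by decide) (f80 H)) (step (H.back (i := 4) (by decide) (f323 H)) rfl))))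

theorem f689 : g 6 • path g [3, 1, 9] p = path g [9, 7, 8, 7] p :=
  H.back (i := 1) (by decide) (f688 H)

theorem f690 : g 2 • path g [9, 0, 8, 0] p = path g [3, 0, 9] p :=
  scan (u := [0, 2, 3, 5, 7, 5, 7, 6, 5, 7, 6, 8, 0]) (w := []) (i := 2) (r8_0_11 H) (step (f686 H) (step (f497 H) (step (f121 H) (step (f24 H) (step (f22 H) (step (f29 H) (step (f137 H) (step (f133 H) (step (f24 H) (step (f22 H) (step (f31 H) (step (f146 H) (step (f618 H) rfl))))))))))))) rfl

theorem f691 : g 7 • path g [3, 0, 9] p = path g [9, 0, 8, 0] p :=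
  H.back (i := 2) (by decide) (f690 H)

theorem f692 : path g [3, 9, 7] p = path g [9, 0, 8] p :=
  close (u := [0, 2, 0, 2, 0, 9, 5, 7, 5, 7, 5, 7, 5, 7, 9, 2]) (w := [0, 2]) (r11_1_8 H) (step (f686 H) (step (f497 H) (step (f506 H) (step (f510 H) (step (f162 H) (step (f34 H) (step (f81 H) (step (f83 H) (step (f79 H) (step (f65 H) (step (f81 H) (step (f83 H) (step (f79 H) (step (f65 H) (step (f72 H) (step (f311 H) rfl)))))))))))))))) (step (H.back (i := 5) (by decide) (f619 H)) (step (H.back (i := 7) (by decide) (f691 H)) rfl))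

theorem f695 : g 7 • path g [9, 0, 8] p = path g [3, 9] p :=
  (congrArg (g 7 • ·) (f692 H).symm).trans (f310 H)

theorem f696 : path g [9, 1, 8] p = path g [3, 9] p :=
  (f204 H).symm.trans (f695 H)

theorem f700 : g 7 • path g [3, 9] p = path g [9, 0, 8] p :=
  (f308 H).trans (f692 H)

theorem f703 : g 2 • path g [3, 9] p = path g [9, 0, 8] p :=
  (f311 H).trans (f692 H)

theorem f705 : g 8 • path g [3, 9] p = path g [9, 1, 3] p :=
  (congrArg (g 8 • ·) (f696 H).symm).trans (f209 H)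

theorem f706 : path g [8, 4] p = path g [9, 1, 3] p :=
  (f76 H).symm.trans (f705 H)

theorem f707 : path g [9, 1, 3] p = path g [8, 4] p :=
  (f706 H).symm

theorem f708 : g 8 • path g [8, 4] p = path g [9, 1] p :=
  (congrArg (g 8 • ·) (f707 H).symm).trans (f207 H)

theorem f709 : path g [9, 3, 9] p = path g [9, 1] p :=
  (f180 H).symm.trans (f708 H)

theorem f715 : g 9 • path g [9, 1] p = path g [4, 8] p :=
  (congrArg (g 9 • ·) (f709 H).symm).trans (f176 H)

theorem f716 : path g [9, 1, 9] p = path g [4, 8] p :=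
  (f192 H).symm.trans (f715 H)

theorem f726 : g 9 • path g [4, 8] p = path g [9, 1, 4] p :=
  (congrArg (g 9 • ·) (f716 H).symm).trans (f213 H)

theorem f727 : path g [9, 3] p = path g [9, 1, 4] p :=
  (f112 H).symm.trans (f726 H)

theorem f728 : g 6 • path g [4, 8] p = path g [9, 0, 9, 0] p :=
  (congrArg (g 6 • ·) (f716 H).symm).trans (f599 H)

theorem f729 : path g [4, 8, 6] p = path g [9, 0, 9, 0] p :=
  (f444 H).symm.trans (f728 H)

theorem f730 : path g [9, 0, 9, 0] p = path g [4, 8, 6] p :=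
  (f729 H).symm

theorem f731 : g 5 • path g [4, 8, 6] p = path g [9, 0, 9] p :=
  (congrArg (g 5 • ·) (f730 H).symm).trans (f595 H)

theorem f733 : g 0 • path g [9, 0, 9] p = path g [4, 8, 6] p :=
  H.back (i := 5) (by decide) (f731 H)

theorem f734 : g 0 • path g [4, 8, 6] p = path g [9, 0, 9] p :=
  (congrArg (g 0 • ·) (f730 H).symm).trans (f596 H)

theorem f736 : g 5 • path g [9, 0, 9] p = path g [4, 8, 6] p :=
  H.back (i := 0) (by decide) (f734 H)

theorem f740 : path g [9, 1, 4] p = path g [9, 3] p :=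
  (f727 H).symm

theorem f742 : g 9 • path g [9, 3] p = path g [9, 1] p :=
  (f174 H).trans (f709 H)

theorem f747 : g 6 • path g [9, 3] p = path g [9, 0, 4, 0] p :=
  (congrArg (g 6 • ·) (f740 H).symm).trans (f661 H)

theorem f748 : path g [9, 3, 6] p = path g [9, 0, 4, 0] p :=
  (f186 H).symm.trans (f747 H)

theorem f749 : path g [9, 0, 4, 0] p = path g [9, 3, 6] p :=
  (f748 H).symm

theorem f750 : g 5 • path g [9, 3, 6] p = path g [9, 0, 4] p :=
  (congrArg (g 5 • ·) (f749 H).symm).trans (f657 H)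

theorem f752 : g 0 • path g [9, 0, 4] p = path g [9, 3, 6] p :=
  H.back (i := 5) (by decide) (f750 H)

theorem f753 : g 0 • path g [9, 3, 6] p = path g [9, 0, 4] p :=
  (congrArg (g 0 • ·) (f749 H).symm).trans (f658 H)

theorem f755 : g 5 • path g [9, 0, 4] p = path g [9, 3, 6] p :=
  H.back (i := 0) (by decide) (f753 H)

theorem f759 : g 7 • path g [9, 0, 8] p = path g [3, 9] p :=
  (f204 H).trans (f696 H)

theorem f761 : g 9 • path g [9, 1] p = path g [4, 8] p :=
  (f192 H).trans (f716 H)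

theorem f762 : g 2 • path g [3, 0, 9] p = path g [9, 0, 8, 0] p :=
  scan (u := [2]) (w := []) (i := 2) (r2_0_0 H) (step (f690 H) rfl) rfl

theorem f763 : g 7 • path g [9, 0, 8, 0] p = path g [3, 0, 9] p :=
  H.back (i := 2) (by decide) (f762 H)

theorem f764 : g 2 • path g [9, 0, 8] p = path g [3, 9] p :=
  (f203 H).trans (f696 H)

theorem f765 : path g [9, 0, 8, 1] p = path g [9, 0, 9, 7] p :=
  close (u := [2, 0, 1]) (w := [2, 0, 1, 3, 5, 7, 5, 8, 0]) (r9_0_10 H) (step (f762 H) (step (f620 H) (step (f624 H) rfl))) (step (H.back (i := 7) (by decide) (f590 H)) (step (H.back (i := 5) (by decide) (f731 H)) (step (H.back (i := 6) (by decide) (f444 H)) (step (H.back (i := 8) (by decide) (f108 H)) (step (H.back (i := 0) (by decide) (f104 H)) (step (H.back (i := 2) (by decide) (f406 H)) (step (H.back (i := 0) (by decide) (f410 H)) (step (H.back (i := 3) (by decide) (f500 H)) (step (H.back (i := 5) (by decide) (f685 H)) rfl)))))))))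

theorem f766 : g 6 • path g [9, 0, 9, 7] p = path g [9, 0, 8] p :=
  (congrArg (g 6 • ·) (f765 H).symm).trans (f625 H)

theorem f768 : g 1 • path g [9, 0, 8] p = path g [9, 0, 9, 7] p :=
  H.back (i := 6) (by decide) (f766 H)

theorem f769 : g 1 • path g [9, 0, 9, 7] p = path g [9, 0, 8, 6] p :=
  (congrArg (g 1 • ·) (f765 H).symm).trans (f626 H)

theorem f771 : g 6 • path g [9, 0, 8, 6] p = path g [9, 0, 9, 7] p :=
  H.back (i := 1) (by decide) (f769 H)

theorem f772 : g 3 • path g [3, 9] p = path g [9, 1] p :=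
  (f179 H).trans (f709 H)

theorem f773 : path g [9, 7, 1, 3] p = path g [8, 9, 7] p :=
  close (u := [7, 5, 8]) (w := [2, 3, 6, 5, 7, 6, 5]) (r7_0_1 H) (step (f763 H) (step (f685 H) (step (f563 H) rfl))) (step (H.back (i := 7) (by decide) (f214 H)) (step (H.back (i := 8) (by decide) (f110 H)) (step (H.back (i := 1) (by decide) (f445 H)) (step (H.back (i := 0) (by decide) (f733 H)) (step (H.back (i := 2) (by decide) (f591 H)) (step (H.back (i := 1) (by decide) (f768 H)) (step (H.back (i := 0) (by decide) (f620 H)) rfl)))))))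

theorem f774 : g 8 • path g [8, 9, 7] p = path g [9, 7, 1] p :=
  (congrArg (g 8 • ·) (f773 H).symm).trans (f561 H)

theorem f776 : g 3 • path g [9, 7, 1] p = path g [8, 9, 7] p :=
  H.back (i := 8) (by decide) (f774 H)

theorem f780 : g 2 • path g [9, 0, 8, 6] p = path g [9, 0, 9, 6] p :=
  scan (u := [1]) (w := [1, 2]) (i := 2) (r3_0_0 H) (step (f769 H) rfl) (step (H.back (i := 6) (by decide) (f604 H)) (step (H.back (i := 7) (by decide) (f592 H)) rfl))

theorem f781 : g 7 • path g [9, 0, 9, 6] p = path g [9, 0, 8, 6] p :=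
  H.back (i := 2) (by decide) (f780 H)

theorem f782 : g 2 • path g [9, 0, 9, 6] p = path g [9, 0, 8, 6] p :=
  scan (u := [2]) (w := []) (i := 2) (r2_0_0 H) (step (f780 H) rfl) rfl

theorem f784 : path g [3, 9, 1] p = path g [9, 0, 9, 6] p :=
  close (u := [2, 1, 2, 1]) (w := []) (r3_0_1 H) (step (f782 H) (step (f623 H) (step (f764 H) (step (f318 H) rfl)))) rfl

theorem f785 : path g [9, 0, 9, 6] p = path g [3, 9, 1] p :=
  (f784 H).symm

theorem f788 : g 6 • path g [3, 9, 1] p = path g [9, 0, 9, 1] p :=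
  (congrArg (g 6 • ·) (f785 H).symm).trans (f613 H)

theorem f789 : path g [3, 9] p = path g [9, 0, 9, 1] p :=
  (f319 H).symm.trans (f788 H)

theorem f790 : g 7 • path g [3, 9, 1] p = path g [9, 0, 8, 6] p :=
  (congrArg (g 7 • ·) (f785 H).symm).trans (f781 H)

theorem f793 : g 2 • path g [3, 9, 1] p = path g [9, 0, 8, 6] p :=
  (congrArg (g 2 • ·) (f785 H).symm).trans (f782 H)

theorem f795 : g 7 • path g [9, 0, 8, 6] p = path g [3, 9, 1] p :=
  H.back (i := 2) (by decide) (f793 H)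

theorem f796 : path g [9, 0, 9, 1] p = path g [3, 9] p :=
  (f789 H).symm

theorem f797 : g 6 • path g [3, 9] p = path g [9, 0, 9] p :=
  (congrArg (g 6 • ·) (f796 H).symm).trans (f611 H)

theorem f798 : path g [3, 9, 6] p = path g [9, 0, 9] p :=
  (f316 H).symm.trans (f797 H)

theorem f803 : g 1 • path g [9, 0, 9] p = path g [3, 9] p :=
  (f610 H).trans (f796 H)

theorem f806 : g 6 • path g [9, 0, 9] p = path g [3, 9, 1] p :=
  (f604 H).trans (f785 H)

theorem f810 : g 0 • path g [9, 0, 9] p = path g [3, 6, 9] p :=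
  (congrArg (g 0 • ·) (f798 H).symm).trans (f356 H)

theorem f811 : path g [4, 8, 6] p = path g [3, 6, 9] p :=
  (f733 H).symm.trans (f810 H)

theorem f812 : g 1 • path g [3, 6, 9] p = path g [4, 8] p :=
  (congrArg (g 1 • ·) (f811 H).symm).trans (f445 H)

theorem f814 : g 6 • path g [4, 8] p = path g [3, 6, 9] p :=
  H.back (i := 1) (by decide) (f812 H)

theorem f815 : g 6 • path g [3, 6, 9] p = path g [4, 8, 1] p :=
  (congrArg (g 6 • ·) (f811 H).symm).trans (f449 H)

theorem f822 : g 0 • path g [3, 6, 9] p = path g [9, 0, 9] p :=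
  (f354 H).trans (f798 H)

theorem f824 : g 0 • path g [9, 0, 9] p = path g [3, 6, 9] p :=
  (f733 H).trans (f811 H)

theorem f825 : g 1 • path g [3, 9, 1] p = path g [9, 0, 9] p :=
  (f320 H).trans (f798 H)

theorem f826 : g 5 • path g [9, 0, 9] p = path g [3, 6, 9] p :=
  (f736 H).trans (f811 H)

theorem f828 : g 2 • path g [3, 1, 9] p = path g [9, 7, 8, 6] p :=
  scan (u := [1]) (w := [1, 2]) (i := 2) (r3_0_0 H) (step (f688 H) rfl) (step (H.back (i := 6) (by decide) (f514 H)) (step (H.back (i := 7) (by decide) (f498 H)) rfl))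

theorem f829 : g 7 • path g [9, 7, 8, 6] p = path g [3, 1, 9] p :=
  H.back (i := 2) (by decide) (f828 H)

theorem f830 : g 0 • path g [9, 7, 8, 6] p = path g [9, 7, 8, 6] p :=
  scan (u := [1, 2]) (w := [1, 3, 5, 7, 5, 8, 0, 2, 0]) (i := 0) (r9_0_0 H) (step (f688 H) (step (f828 H) rfl)) (step (H.back (i := 6) (by decide) (f514 H)) (step (H.back (i := 8) (by decide) (f120 H)) (step (H.back (i := 0) (by decide) (f25 H)) (step (H.back (i := 2) (by decide) (f23 H)) (step (H.back (i := 0) (by decide) (f28 H)) (step (H.back (i := 3) (by decide) (f147 H)) (step (H.back (i := 5) (by decide) (f619 H)) (step (H.back (i := 7) (by decide) (f691 H)) (step (H.back (i := 5) (by decide) (f687 H)) rfl)))))))))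

theorem f831 : g 5 • path g [9, 7, 8, 6] p = path g [9, 7, 8, 6] p :=
  H.back (i := 0) (by decide) (f830 H)

theorem f832 : path g [9, 0, 3, 7] p = path g [9, 7, 3] p :=
  close (u := [6, 5, 7, 5, 8, 2]) (w := [3, 6, 5, 7]) (r7_0_9 H) (step (f689 H) (step (f687 H) (step (f691 H) (step (f619 H) (step (f151 H) (step (f635 H) rfl)))))) (step (H.back (i := 8) (by decide) (f131 H)) (step (H.back (i := 1) (by decide) (f515 H)) (step (H.back (i := 0) (by decide) (f830 H)) (step (H.back (i := 2) (by decide) (f828 H)) rfl))))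

theorem f835 : g 7 • path g [9, 7, 3] p = path g [9, 0, 3] p :=
  (congrArg (g 7 • ·) (f832 H).symm).trans (f634 H)

theorem f836 : path g [9, 7, 3, 7] p = path g [9, 0, 3] p :=
  (f536 H).symm.trans (f835 H)

theorem f838 : g 2 • path g [9, 0, 3] p = path g [9, 7, 3] p :=
  (f635 H).trans (f832 H)

theorem f841 : g 7 • path g [9, 0, 3] p = path g [9, 7, 3] p :=
  (f632 H).trans (f832 H)

theorem f843 : g 2 • path g [9, 7, 8, 6] p = path g [3, 1, 9] p :=
  scan (u := [0]) (w := [4, 7, 5, 7, 9, 2]) (i := 2) (r13_0_0 H) (step (f830 H) rfl) (step (H.back (i := 9) (by decide) (f374 H)) (step (H.back (i := 2) (by decide) (f94 H)) (step (H.back (i := 0) (by decide) (f92 H)) (step (H.back (i := 2) (by decide) (f90 H)) (step (H.back (i := 4) (by decide) (f375 H)) (step (H.back (i := 7) (by decide) (f829 H)) rfl))))))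

theorem f844 : g 7 • path g [3, 1, 9] p = path g [9, 7, 8, 6] p :=
  H.back (i := 2) (by decide) (f843 H)

theorem f845 : g 7 • path g [9, 7, 3] p = path g [9, 0, 3] p :=
  (f536 H).trans (f836 H)

theorem f846 : g 8 • path g [9, 8, 7] p = path g [9, 8, 7, 8] p :=
  rfl

theorem f847 : g 3 • path g [9, 8, 7, 8] p = path g [9, 8, 7] p :=
  H.back (i := 8) (by decide) (f846 H)

theorem f848 : g 8 • path g [9, 8, 7, 8] p = path g [4, 1, 0] p :=
  scan (u := [8]) (w := [8]) (i := 8) (r6_1_0 H) (step (f846 H) rfl) (step (H.back (i := 3) (by decide) (f459 H)) rfl)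

theorem f849 : g 3 • path g [4, 1, 0] p = path g [9, 8, 7, 8] p :=
  H.back (i := 8) (by decide) (f848 H)

theorem f850 : g 6 • path g [9, 8, 7] p = path g [9, 8, 7, 6] p :=
  rfl

theorem f851 : g 1 • path g [9, 8, 7, 6] p = path g [9, 8, 7] p :=
  H.back (i := 6) (by decide) (f850 H)

theorem f852 : g 7 • path g [9, 8, 7, 6] p = path g [9, 8, 1] p :=
  scan (u := [6]) (w := [6, 7]) (i := 7) (r3_1_1 H) (step (f850 H) rfl) (step (H.back (i := 1) (by decide) (f166 H)) (step (H.back (i := 2) (by decide) (f157 H)) rfl))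

theorem f853 : g 2 • path g [9, 8, 1] p = path g [9, 8, 7, 6] p :=
  H.back (i := 7) (by decide) (f852 H)

theorem f854 : g 7 • path g [9, 8, 1] p = path g [9, 8, 7, 6] p :=
  scan (u := [7]) (w := []) (i := 7) (r2_1_0 H) (step (f852 H) rfl) rfl

theorem f855 : g 2 • path g [9, 8, 7, 6] p = path g [9, 8, 1] p :=
  H.back (i := 7) (by decide) (f854 H)

theorem f856 : g 2 • path g [9, 7, 3] p = path g [9, 0, 3] p :=
  (f539 H).trans (f836 H)

theorem f857 : g 5 • path g [9, 0, 8, 6] p = path g [9, 8, 7, 6] p :=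
  scan (u := [7, 6, 5, 7, 5, 8, 2, 3, 6]) (w := []) (i := 5) (r7_0_8 H) (step (f852 H) (step (f167 H) (step (f163 H) (step (f511 H) (step (f507 H) (step (f131 H) (step (f856 H) (step (f150 H) (step (f622 H) rfl))))))))) rfl

theorem f858 : g 0 • path g [9, 8, 7, 6] p = path g [9, 0, 8, 6] p :=
  H.back (i := 5) (by decide) (f857 H)

theorem f859 : g 5 • path g [9, 8, 7, 6] p = path g [9, 0, 8, 6] p :=
  scan (u := [5]) (w := []) (i := 5) (r0_1_0 H) (step (f857 H) rfl) rfl

theorem f860 : g 0 • path g [9, 0, 8, 6] p = path g [9, 8, 7, 6] p :=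
  H.back (i := 5) (by decide) (f859 H)

theorem f861 : g 2 • path g [8, 4, 0] p = path g [9, 0, 3, 0] p :=
  scan (u := [5, 7, 6, 8, 0]) (w := [0, 2, 3, 5, 7, 5, 7, 6]) (i := 2) (r8_0_5 H) (step (f859 H) (step (f795 H) (step (f319 H) (step (f76 H) (step (f294 H) rfl))))) (step (H.back (i := 5) (by decide) (f645 H)) (step (H.back (i := 7) (by decide) (f845 H)) (step (H.back (i := 8) (by decide) (f131 H)) (step (H.back (i := 0) (by decide) (f508 H)) (step (H.back (i := 2) (by decide) (f512 H)) (step (H.back (i := 0) (by decide) (f160 H)) (step (H.back (i := 2) (by decide) (f157 H)) (step (H.back (i := 1) (by decide) (f851 H)) rfl))))))))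

theorem f862 : g 7 • path g [9, 0, 3, 0] p = path g [8, 4, 0] p :=
  H.back (i := 2) (by decide) (f861 H)

theorem f863 : g 2 • path g [9, 0, 3, 0] p = path g [8, 4, 0] p :=
  scan (u := [2]) (w := []) (i := 2) (r2_0_0 H) (step (f861 H) rfl) rfl

theorem f866 : g 1 • path g [9, 8, 7] p = path g [9, 8, 7, 1] p :=
  rfl

theorem f868 : g 1 • path g [9, 8, 7, 1] p = path g [9, 8, 7, 6] p :=
  scan (u := [1]) (w := [1]) (i := 1) (r1_0_0 H) (step (f866 H) rfl) (step (H.back (i := 6) (by decide) (f850 H)) rfl)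

theorem f869 : g 6 • path g [9, 8, 7, 6] p = path g [9, 8, 7, 1] p :=
  H.back (i := 1) (by decide) (f868 H)

theorem f870 : g 2 • path g [9, 8, 7, 1] p = path g [9, 8, 6] p :=
  scan (u := [1]) (w := [1, 2]) (i := 2) (r3_0_0 H) (step (f866 H) rfl) (step (H.back (i := 6) (by decide) (f164 H)) (step (H.back (i := 7) (by decide) (f158 H)) rfl))

theorem f871 : g 7 • path g [9, 8, 6] p = path g [9, 8, 7, 1] p :=
  H.back (i := 2) (by decide) (f870 H)

theorem f872 : g 2 • path g [9, 8, 6] p = path g [9, 8, 7, 1] p :=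
  scan (u := [2]) (w := []) (i := 2) (r2_0_0 H) (step (f870 H) rfl) rfl

theorem f873 : g 7 • path g [9, 8, 7, 1] p = path g [9, 8, 6] p :=
  H.back (i := 2) (by decide) (f872 H)

theorem f874 : g 4 • path g [9, 8, 7] p = path g [9, 8, 7, 4] p :=
  rfl

theorem f875 : g 9 • path g [9, 8, 7, 4] p = path g [9, 8, 7] p :=
  H.back (i := 4) (by decide) (f874 H)

theorem f876 : g 4 • path g [9, 8, 7, 4] p = path g [9, 8, 7, 9] p :=
  scan (u := [4]) (w := [4]) (i := 4) (r10_0_0 H) (step (f874 H) rfl) (step (H.back (i := 9) (by decide) (f674 H)) rfl)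

theorem f880 : g 8 • path g [9, 8, 0] p = path g [9, 8, 0, 8] p :=
  rfl

theorem f881 : g 3 • path g [9, 8, 0, 8] p = path g [9, 8, 0] p :=
  H.back (i := 8) (by decide) (f880 H)

theorem f882 : g 6 • path g [9, 8, 0] p = path g [9, 8, 0, 6] p :=
  rfl

theorem f884 : g 3 • path g [9, 8, 0] p = path g [9, 8, 0, 3] p :=
  rfl

theorem f885 : g 8 • path g [9, 8, 0, 3] p = path g [9, 8, 0] p :=
  H.back (i := 3) (by decide) (f884 H)

theorem f886 : g 3 • path g [9, 8, 0, 3] p = path g [9, 8, 0, 8] p :=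
  scan (u := [3]) (w := [3]) (i := 3) (r6_0_0 H) (step (f884 H) rfl) (step (H.back (i := 8) (by decide) (f880 H)) rfl)

theorem f887 : g 8 • path g [9, 8, 0, 8] p = path g [9, 8, 0, 3] p :=
  H.back (i := 3) (by decide) (f886 H)

theorem f888 : g 1 • path g [9, 8, 0] p = path g [9, 8, 0, 1] p :=
  rfl

theorem f889 : g 6 • path g [9, 8, 0, 1] p = path g [9, 8, 0] p :=
  H.back (i := 1) (by decide) (f888 H)

theorem f890 : g 1 • path g [9, 8, 0, 1] p = path g [9, 8, 0, 6] p :=
  scan (u := [1]) (w := [1]) (i := 1) (r1_0_0 H) (step (f888 H) rfl) (step (H.back (i := 6) (by decide) (f882 H)) rfl)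

theorem f892 : g 9 • path g [9, 8, 0, 1] p = path g [3, 0, 1] p :=
  scan (u := [1]) (w := [6, 5, 4, 0]) (i := 9) (r14_1_3 H) (step (f888 H) rfl) (step (H.back (i := 1) (by decide) (f332 H)) (step (H.back (i := 0) (by decide) (f78 H)) (step (H.back (i := 9) (by decide) (f34 H)) (step (H.back (i := 5) (by decide) (f161 H)) rfl))))

theorem f893 : g 4 • path g [3, 0, 1] p = path g [9, 8, 0, 1] p :=
  H.back (i := 9) (by decide) (f892 H)

theorem f900 : g 8 • path g [9, 8, 6] p = path g [9, 8, 6, 8] p :=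
  rfl

theorem f902 : g 3 • path g [9, 8, 6] p = path g [9, 8, 6, 3] p :=
  rfl

theorem f904 : g 3 • path g [9, 8, 6, 3] p = path g [9, 8, 6, 8] p :=
  scan (u := [3]) (w := [3]) (i := 3) (r6_0_0 H) (step (f902 H) rfl) (step (H.back (i := 8) (by decide) (f900 H)) rfl)

theorem f905 : g 8 • path g [9, 8, 6, 8] p = path g [9, 8, 6, 3] p :=
  H.back (i := 3) (by decide) (f904 H)

theorem f906 : g 4 • path g [9, 8, 6] p = path g [9, 8, 6, 4] p :=
  rfl

theorem f912 : g 0 • path g [9, 8, 1] p = path g [9, 8, 1, 0] p :=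
  rfl

theorem f913 : g 5 • path g [9, 8, 1, 0] p = path g [9, 8, 1] p :=
  H.back (i := 0) (by decide) (f912 H)

theorem f914 : g 0 • path g [9, 8, 1, 0] p = path g [9, 8, 1] p :=
  scan (u := [0]) (w := []) (i := 0) (r0_0_0 H) (step (f912 H) rfl) rfl

theorem f915 : g 5 • path g [9, 8, 1] p = path g [9, 8, 1, 0] p :=
  H.back (i := 0) (by decide) (f914 H)

theorem f928 : g 0 • path g [9, 3, 7] p = path g [9, 3, 7, 0] p :=
  rfl

theorem f929 : g 5 • path g [9, 3, 7, 0] p = path g [9, 3, 7] p :=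
  H.back (i := 0) (by decide) (f928 H)

theorem f930 : g 0 • path g [9, 3, 7, 0] p = path g [9, 3, 7] p :=
  scan (u := [0]) (w := []) (i := 0) (r0_0_0 H) (step (f928 H) rfl) rfl

theorem f931 : g 5 • path g [9, 3, 7] p = path g [9, 3, 7, 0] p :=
  H.back (i := 0) (by decide) (f930 H)

theorem f932 : g 2 • path g [9, 3, 7, 0] p = path g [4, 1, 4] p :=
  scan (u := [0]) (w := [9, 7, 5, 7, 4, 2]) (i := 2) (r13_1_3 H) (step (f928 H) rfl) (step (H.back (i := 4) (by decide) (f470 H)) (step (H.back (i := 2) (by decide) (f397 H)) (step (H.back (i := 0) (by decide) (f416 H)) (step (H.back (i := 2) (by decide) (f125 H)) (step (H.back (i := 9) (by decide) (f742 H)) (step (H.back (i := 7) (by decide) (f172 H)) rfl))))))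

theorem f934 : g 2 • path g [4, 1, 4] p = path g [9, 3, 7, 0] p :=
  scan (u := [2]) (w := []) (i := 2) (r2_0_0 H) (step (f932 H) rfl) rfl

theorem f935 : g 7 • path g [9, 3, 7, 0] p = path g [4, 1, 4] p :=
  H.back (i := 2) (by decide) (f934 H)

theorem f936 : g 8 • path g [9, 3, 7] p = path g [9, 3, 7, 8] p :=
  rfl

theorem f938 : g 6 • path g [9, 3, 7] p = path g [9, 3, 7, 6] p :=
  rfl

theorem f940 : g 7 • path g [9, 3, 7, 6] p = path g [9, 3, 1] p :=
  scan (u := [6]) (w := [6, 7]) (i := 7) (r3_1_1 H) (step (f938 H) rfl) (step (H.back (i := 1) (by decide) (f188 H)) (step (H.back (i := 2) (by decide) (f171 H)) rfl))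

theorem f942 : g 7 • path g [9, 3, 1] p = path g [9, 3, 7, 6] p :=
  scan (u := [7]) (w := []) (i := 7) (r2_1_0 H) (step (f940 H) rfl) rfl

theorem f944 : g 3 • path g [9, 3, 7] p = path g [9, 3, 7, 3] p :=
  rfl

theorem f945 : g 8 • path g [9, 3, 7, 3] p = path g [9, 3, 7] p :=
  H.back (i := 3) (by decide) (f944 H)

theorem f946 : g 3 • path g [9, 3, 7, 3] p = path g [9, 3, 7, 8] p :=
  scan (u := [3]) (w := [3]) (i := 3) (r6_0_0 H) (step (f944 H) rfl) (step (H.back (i := 8) (by decide) (f936 H)) rfl)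

theorem f947 : g 8 • path g [9, 3, 7, 8] p = path g [9, 3, 7, 3] p :=
  H.back (i := 3) (by decide) (f946 H)

theorem f948 : g 1 • path g [9, 3, 7] p = path g [9, 3, 7, 1] p :=
  rfl

theorem f949 : g 6 • path g [9, 3, 7, 1] p = path g [9, 3, 7] p :=
  H.back (i := 1) (by decide) (f948 H)

theorem f950 : g 1 • path g [9, 3, 7, 1] p = path g [9, 3, 7, 6] p :=
  scan (u := [1]) (w := [1]) (i := 1) (r1_0_0 H) (step (f948 H) rfl) (step (H.back (i := 6) (by decide) (f938 H)) rfl)

theorem f951 : g 6 • path g [9, 3, 7, 6] p = path g [9, 3, 7, 1] p :=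
  H.back (i := 1) (by decide) (f950 H)

theorem f952 : g 2 • path g [9, 3, 7, 1] p = path g [9, 3, 6] p :=
  scan (u := [1]) (w := [1, 2]) (i := 2) (r3_0_0 H) (step (f948 H) rfl) (step (H.back (i := 6) (by decide) (f186 H)) (step (H.back (i := 7) (by decide) (f172 H)) rfl))

theorem f953 : g 7 • path g [9, 3, 6] p = path g [9, 3, 7, 1] p :=
  H.back (i := 2) (by decide) (f952 H)

theorem f954 : g 2 • path g [9, 3, 6] p = path g [9, 3, 7, 1] p :=
  scan (u := [2]) (w := []) (i := 2) (r2_0_0 H) (step (f952 H) rfl) rfl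

theorem f955 : g 7 • path g [9, 3, 7, 1] p = path g [9, 3, 6] p :=
  H.back (i := 2) (by decide) (f954 H)

theorem f960 : g 7 • path g [9, 3, 0] p = path g [9, 3, 0, 7] p :=
  rfl

theorem f961 : g 2 • path g [9, 3, 0, 7] p = path g [9, 3, 0] p :=
  H.back (i := 7) (by decide) (f960 H)

theorem f962 : g 7 • path g [9, 3, 0, 7] p = path g [9, 3, 0] p :=
  scan (u := [7]) (w := []) (i := 7) (r2_1_0 H) (step (f960 H) rfl) rfl

theorem f963 : g 2 • path g [9, 3, 0] p = path g [9, 3, 0, 7] p :=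
  H.back (i := 7) (by decide) (f962 H)

theorem f964 : g 5 • path g [9, 3, 0, 7] p = path g [9, 8, 7, 8] p :=
  scan (u := [7]) (w := [8, 0, 2, 0, 1, 2, 0, 1, 3, 5]) (i := 5) (r9_0_6 H) (step (f960 H) rfl) (step (H.back (i := 3) (by decide) (f849 H)) (step (H.back (i := 5) (by decide) (f455 H)) (step (H.back (i := 7) (by decide) (f394 H)) (step (H.back (i := 5) (by decide) (f412 H)) (step (H.back (i := 6) (by decide) (f122 H)) (step (H.back (i := 7) (by decide) (f20 H)) (step (H.back (i := 5) (by decide) (f27 H)) (step (H.back (i := 6) (by decide) (f31 H)) (step (H.back (i := 8) (by decide) (f37 H)) (step (H.back (i := 0) (by decide) (f184 H)) rfl))))))))))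

theorem f966 : g 5 • path g [9, 8, 7, 8] p = path g [9, 3, 0, 7] p :=
  scan (u := [5]) (w := []) (i := 5) (r0_1_0 H) (step (f964 H) rfl) rfl

theorem f967 : g 0 • path g [9, 3, 0, 7] p = path g [9, 8, 7, 8] p :=
  H.back (i := 5) (by decide) (f966 H)

theorem f970 : g 8 • path g [9, 3, 0] p = path g [9, 3, 0, 8] p :=
  rfl

theorem f972 : g 6 • path g [9, 3, 0] p = path g [9, 3, 0, 6] p :=
  rfl

theorem f974 : g 3 • path g [9, 3, 0] p = path g [9, 3, 0, 3] p :=
  rfl

theorem f975 : g 8 • path g [9, 3, 0, 3] p = path g [9, 3, 0] p :=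
  H.back (i := 3) (by decide) (f974 H)

theorem f978 : g 1 • path g [9, 3, 0] p = path g [9, 3, 0, 1] p :=
  rfl

theorem f979 : g 6 • path g [9, 3, 0, 1] p = path g [9, 3, 0] p :=
  H.back (i := 1) (by decide) (f978 H)

theorem f980 : g 1 • path g [9, 3, 0, 1] p = path g [9, 3, 0, 6] p :=
  scan (u := [1]) (w := [1]) (i := 1) (r1_0_0 H) (step (f978 H) rfl) (step (H.back (i := 6) (by decide) (f972 H)) rfl)

theorem f982 : g 9 • path g [9, 3, 0, 1] p = path g [9, 1, 0] p :=
  scan (u := [1]) (w := [6, 5, 4, 0]) (i := 9) (r14_1_3 H) (step (f978 H) rfl) (step (H.back (i := 1) (by decide) (f198 H)) (step (H.back (i := 0) (by decide) (f194 H)) (step (H.back (i := 9) (by decide) (f742 H)) (step (H.back (i := 5) (by decide) (f183 H)) rfl))))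

theorem f983 : g 4 • path g [9, 1, 0] p = path g [9, 3, 0, 1] p :=
  H.back (i := 9) (by decide) (f982 H)

theorem f984 : g 0 • path g [9, 3, 0, 1] p = path g [9, 0, 4, 6] p :=
  scan (u := [1]) (w := [1, 0, 6, 6, 0]) (i := 0) (r4_0_0 H) (step (f978 H) rfl) (step (H.back (i := 6) (by decide) (f668 H)) (step (H.back (i := 5) (by decide) (f750 H)) (step (H.back (i := 1) (by decide) (f190 H)) (step (H.back (i := 1) (by decide) (f188 H)) (step (H.back (i := 5) (by decide) (f183 H)) rfl)))))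

theorem f985 : g 5 • path g [9, 0, 4, 6] p = path g [9, 3, 0, 1] p :=
  H.back (i := 0) (by decide) (f984 H)

theorem f986 : g 0 • path g [9, 0, 4, 6] p = path g [9, 3, 0, 1] p :=
  scan (u := [0]) (w := []) (i := 0) (r0_0_0 H) (step (f984 H) rfl) rfl

theorem f994 : g 8 • path g [9, 3, 6] p = path g [9, 3, 6, 8] p :=
  rfl

theorem f995 : g 3 • path g [9, 3, 6, 8] p = path g [9, 3, 6] p :=
  H.back (i := 8) (by decide) (f994 H)

theorem f996 : g 3 • path g [9, 3, 6] p = path g [9, 3, 6, 3] p :=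
  rfl

theorem f998 : g 3 • path g [9, 3, 6, 3] p = path g [9, 3, 6, 8] p :=
  scan (u := [3]) (w := [3]) (i := 3) (r6_0_0 H) (step (f996 H) rfl) (step (H.back (i := 8) (by decide) (f994 H)) rfl)

theorem f1006 : g 0 • path g [9, 3, 1] p = path g [9, 3, 1, 0] p :=
  rfl

theorem f1007 : g 5 • path g [9, 3, 1, 0] p = path g [9, 3, 1] p :=
  H.back (i := 0) (by decide) (f1006 H)

theorem f1008 : g 0 • path g [9, 3, 1, 0] p = path g [9, 3, 1] p :=
  scan (u := [0]) (w := []) (i := 0) (r0_0_0 H) (step (f1006 H) rfl) rfl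

theorem f1009 : g 5 • path g [9, 3, 1] p = path g [9, 3, 1, 0] p :=
  H.back (i := 0) (by decide) (f1008 H)

theorem f1020 : g 7 • path g [9, 1, 0] p = path g [9, 1, 0, 7] p :=
  rfl

theorem f1021 : g 2 • path g [9, 1, 0, 7] p = path g [9, 1, 0] p :=
  H.back (i := 7) (by decide) (f1020 H)

theorem f1022 : g 7 • path g [9, 1, 0, 7] p = path g [9, 1, 0] p :=
  scan (u := [7]) (w := []) (i := 7) (r2_1_0 H) (step (f1020 H) rfl) rfl

theorem f1023 : g 2 • path g [9, 1, 0] p = path g [9, 1, 0, 7] p :=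
  H.back (i := 7) (by decide) (f1022 H)

theorem f1024 : g 6 • path g [9, 1, 0, 7] p = path g [9, 1, 0, 7] p :=
  scan (u := [7]) (w := [7, 6]) (i := 6) (r3_1_0 H) (step (f1020 H) rfl) (step (H.back (i := 2) (by decide) (f1023 H)) (step (H.back (i := 1) (by decide) (f198 H)) rfl))

theorem f1026 : g 5 • path g [9, 1, 0, 7] p = path g [9, 1, 0, 7] p :=
  scan (u := [7, 6]) (w := [7, 5, 8, 2, 3, 6, 5]) (i := 5) (r7_0_8 H) (step (f1020 H) (step (f1024 H) rfl)) (step (H.back (i := 2) (by decide) (f1023 H)) (step (H.back (i := 0) (by decide) (f194 H)) (step (H.back (i := 3) (by decide) (f772 H)) (step (H.back (i := 7) (by decide) (f759 H)) (step (H.back (i := 8) (by decide) (f146 H)) (step (H.back (i := 1) (by decide) (f42 H)) (step (H.back (i := 0) (by decide) (f196 H)) rfl)))))))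

theorem f1027 : g 0 • path g [9, 1, 0, 7] p = path g [9, 1, 0, 7] p :=
  H.back (i := 5) (by decide) (f1026 H)

theorem f1028 : g 2 • path g [9, 8, 7, 8] p = path g [4, 8, 0] p :=
  scan (u := [7, 5, 7, 5, 7, 5, 7, 4, 2, 0, 2, 0, 2, 0]) (w := [0, 4, 5]) (i := 2) (r11_0_6 H) (step (f1020 H) (step (f1026 H) (step (f1022 H) (step (f195 H) (step (f126 H) (step (f412 H) (step (f394 H) (step (f470 H) (step (f934 H) (step (f930 H) (step (f171 H) (step (f182 H) (step (f963 H) (step (f967 H) rfl)))))))))))))) (step (H.back (i := 5) (by decide) (f443 H)) (step (H.back (i := 9) (by decide) (f761 H)) (step (H.back (i := 0) (by decide) (f196 H)) rfl)))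

theorem f1029 : g 7 • path g [4, 8, 0] p = path g [9, 8, 7, 8] p :=
  H.back (i := 2) (by decide) (f1028 H)

theorem f1030 : g 2 • path g [4, 8, 0] p = path g [9, 8, 7, 8] p :=
  scan (u := [2]) (w := []) (i := 2) (r2_0_0 H) (step (f1028 H) rfl) rfl

theorem f1031 : g 7 • path g [9, 8, 7, 8] p = path g [4, 8, 0] p :=
  H.back (i := 2) (by decide) (f1030 H)

theorem f1032 : path g [4, 7, 8] p = path g [9, 3, 0, 7] p :=
  close (u := [2, 0, 2, 3, 5, 7, 5, 7, 6, 5, 7, 6, 8]) (w := [0]) (r8_0_10 H) (step (f1028 H) (step (f442 H) (step (f437 H) (step (f438 H) (step (f195 H) (step (f126 H) (step (f412 H) (step (f394 H) (step (f115 H) (step (f105 H) (step (f407 H) (step (f403 H) (step (f390 H) rfl))))))))))))) (step (H.back (i := 5) (by decide) (f966 H)) rfl)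

theorem f1033 : path g [9, 3, 0, 7] p = path g [4, 7, 8] p :=
  (f1032 H).symm

theorem f1034 : g 2 • path g [4, 7, 8] p = path g [9, 3, 0] p :=
  (congrArg (g 2 • ·) (f1033 H).symm).trans (f961 H)

theorem f1036 : g 7 • path g [9, 3, 0] p = path g [4, 7, 8] p :=
  H.back (i := 2) (by decide) (f1034 H)

theorem f1037 : g 7 • path g [4, 7, 8] p = path g [9, 3, 0] p :=
  (congrArg (g 7 • ·) (f1033 H).symm).trans (f962 H)

theorem f1040 : g 5 • path g [4, 7, 8] p = path g [9, 8, 7, 8] p :=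
  (congrArg (g 5 • ·) (f1033 H).symm).trans (f964 H)

theorem f1043 : g 0 • path g [4, 7, 8] p = path g [9, 8, 7, 8] p :=
  (congrArg (g 0 • ·) (f1033 H).symm).trans (f967 H)

theorem f1045 : g 5 • path g [9, 8, 7, 8] p = path g [4, 7, 8] p :=
  H.back (i := 0) (by decide) (f1043 H)

theorem f1046 : path g [4, 7, 1] p = path g [9, 3, 0, 3] p :=
  close (u := [5, 7, 5, 3, 1, 2, 0, 1, 2, 0, 2, 0]) (w := [8, 7]) (r8_1_2 H) (step (f1040 H) (step (f1031 H) (step (f441 H) (step (f109 H) (step (f114 H) (step (f395 H) (step (f413 H) (step (f123 H) (step (f21 H) (step (f26 H) (step (f138 H) (step (f410 H) rfl)))))))))))) (step (H.back (i := 3) (by decide) (f974 H)) (step (H.back (i := 2) (by decide) (f1034 H)) rfl))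

theorem f1047 : path g [9, 3, 0, 3] p = path g [4, 7, 1] p :=
  (f1046 H).symm

theorem f1048 : g 8 • path g [4, 7, 1] p = path g [9, 3, 0] p :=
  (congrArg (g 8 • ·) (f1047 H).symm).trans (f975 H)

theorem f1054 : path g [9, 3, 7, 0] p = path g [4, 0, 8] p :=
  close (u := [7, 5, 7, 5]) (w := [3, 1, 2, 0, 1, 2, 0, 2, 0, 8]) (r8_1_1 H) (step (f1037 H) (step (f183 H) (step (f170 H) (step (f931 H) rfl)))) (step (H.back (i := 8) (by decide) (f424 H)) (step (H.back (i := 6) (by decide) (f107 H)) (step (H.back (i := 7) (by decide) (f98 H)) (step (H.back (i := 5) (by decide) (f100 H)) (step (H.back (i := 6) (by decide) (f403 H)) (step (H.back (i := 7) (by decide) (f407 H)) (step (H.back (i := 5) (by decide) (f105 H)) (step (H.back (i := 7) (by decide) (f98 H)) (step (H.back (i := 5) (by decide) (f100 H)) (step (H.back (i := 3) (by decide) (f391 H)) rfl))))))))))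

theorem f1055 : g 5 • path g [4, 0, 8] p = path g [9, 3, 7] p :=
  (congrArg (g 5 • ·) (f1054 H).symm).trans (f929 H)

theorem f1057 : g 0 • path g [9, 3, 7] p = path g [4, 0, 8] p :=
  H.back (i := 5) (by decide) (f1055 H)

theorem f1058 : g 0 • path g [4, 0, 8] p = path g [9, 3, 7] p :=
  (congrArg (g 0 • ·) (f1054 H).symm).trans (f930 H)

theorem f1060 : g 5 • path g [9, 3, 7] p = path g [4, 0, 8] p :=
  H.back (i := 0) (by decide) (f1058 H)

theorem f1063 : g 7 • path g [4, 0, 8] p = path g [4, 1, 4] p :=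
  (congrArg (g 7 • ·) (f1054 H).symm).trans (f935 H)

theorem f1064 : path g [4, 1, 8] p = path g [4, 1, 4] p :=
  (f464 H).symm.trans (f1063 H)

theorem f1065 : path g [4, 1, 4] p = path g [4, 1, 8] p :=
  (f1064 H).symm

theorem f1066 : g 9 • path g [4, 1, 8] p = path g [4, 1] p :=
  (congrArg (g 9 • ·) (f1065 H).symm).trans (f471 H)

theorem f1068 : g 4 • path g [4, 1] p = path g [4, 1, 8] p :=
  H.back (i := 9) (by decide) (f1066 H)

theorem f1069 : g 4 • path g [4, 1, 8] p = path g [4, 1, 9] p :=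
  (congrArg (g 4 • ·) (f1065 H).symm).trans (f472 H)

theorem f1071 : g 9 • path g [4, 1, 9] p = path g [4, 1, 8] p :=
  H.back (i := 4) (by decide) (f1069 H)

theorem f1078 : g 9 • path g [9, 1, 0] p = path g [9, 1, 0, 9] p :=
  rfl

theorem f1079 : g 4 • path g [9, 1, 0, 9] p = path g [9, 1, 0] p :=
  H.back (i := 9) (by decide) (f1078 H)

theorem f1080 : g 9 • path g [9, 1, 0, 9] p = path g [9, 3, 0, 1] p :=
  scan (u := [9]) (w := [9]) (i := 9) (r10_1_0 H) (step (f1078 H) rfl) (step (H.back (i := 4) (by decide) (f983 H)) rfl)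

theorem f1082 : g 0 • path g [9, 1, 0, 9] p = path g [3, 9, 1] p :=
  scan (u := [9]) (w := [1, 4, 6, 5]) (i := 0) (r14_0_4 H) (step (f1078 H) rfl) (step (H.back (i := 6) (by decide) (f806 H)) (step (H.back (i := 9) (by decide) (f144 H)) (step (H.back (i := 1) (by decide) (f42 H)) (step (H.back (i := 0) (by decide) (f196 H)) rfl))))

theorem f1083 : g 5 • path g [3, 9, 1] p = path g [9, 1, 0, 9] p :=
  H.back (i := 0) (by decide) (f1082 H)

theorem f1084 : g 6 • path g [9, 1, 0, 9] p = path g [4, 8, 0] p :=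
  scan (u := [9]) (w := [5, 4, 0, 1]) (i := 6) (r14_1_4 H) (step (f1078 H) rfl) (step (H.back (i := 0) (by decide) (f440 H)) (step (H.back (i := 9) (by decide) (f761 H)) (step (H.back (i := 5) (by decide) (f195 H)) (step (H.back (i := 6) (by decide) (f199 H)) rfl))))

theorem f1085 : g 1 • path g [4, 8, 0] p = path g [9, 1, 0, 9] p :=
  H.back (i := 6) (by decide) (f1084 H)

theorem f1086 : g 0 • path g [3, 9, 1] p = path g [9, 1, 0, 9] p :=
  scan (u := [0]) (w := []) (i := 0) (r0_0_0 H) (step (f1082 H) rfl) rfl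

theorem f1087 : g 5 • path g [9, 1, 0, 9] p = path g [3, 9, 1] p :=
  H.back (i := 0) (by decide) (f1086 H)

theorem f1088 : g 3 • path g [9, 1, 0] p = path g [9, 1, 0, 3] p :=
  rfl

theorem f1089 : g 8 • path g [9, 1, 0, 3] p = path g [9, 1, 0] p :=
  H.back (i := 3) (by decide) (f1088 H)

theorem f1090 : g 3 • path g [9, 1, 0, 3] p = path g [4, 8, 7] p :=
  scan (u := [3]) (w := [3]) (i := 3) (r6_0_0 H) (step (f1088 H) rfl) (step (H.back (i := 8) (by decide) (f439 H)) rfl)

theorem f1094 : g 0 • path g [8, 9, 7] p = path g [8, 9, 7, 0] p :=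
  rfl

theorem f1095 : g 5 • path g [8, 9, 7, 0] p = path g [8, 9, 7] p :=
  H.back (i := 0) (by decide) (f1094 H)

theorem f1096 : g 0 • path g [8, 9, 7, 0] p = path g [8, 9, 7] p :=
  scan (u := [0]) (w := []) (i := 0) (r0_0_0 H) (step (f1094 H) rfl) rfl

theorem f1097 : g 5 • path g [8, 9, 7] p = path g [8, 9, 7, 0] p :=
  H.back (i := 0) (by decide) (f1096 H)

theorem f1098 : g 2 • path g [8, 9, 7, 0] p = path g [8, 0, 9] p :=
  scan (u := [0]) (w := [4, 7, 5, 7, 9, 2]) (i := 2) (r13_0_0 H) (step (f1094 H) rfl) (step (H.back (i := 9) (by decide) (f228 H)) (step (H.back (i := 2) (by decide) (f52 H)) (step (H.back (i := 0) (by decide) (f48 H)) (step (H.back (i := 2) (by decide) (f10 H)) (step (H.back (i := 4) (by decide) (f45 H)) (step (H.back (i := 7) (by decide) (f216 H)) rfl))))))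

theorem f1099 : g 7 • path g [8, 0, 9] p = path g [8, 9, 7, 0] p :=
  H.back (i := 2) (by decide) (f1098 H)

theorem f1100 : path g [8, 0, 9] p = path g [9, 7, 3, 0] p :=
  close (u := [0, 2]) (w := [0, 8, 6, 5, 7, 6, 5, 7, 5, 3]) (r9_1_4 H) (step (f1094 H) (step (f1098 H) rfl)) (step (H.back (i := 5) (by decide) (f549 H)) (step (H.back (i := 3) (by decide) (f128 H)) (step (H.back (i := 1) (by decide) (f123 H)) (step (H.back (i := 0) (by decide) (f413 H)) (step (H.back (i := 2) (by decide) (f395 H)) (step (H.back (i := 1) (by decide) (f114 H)) (step (H.back (i := 0) (by decide) (f104 H)) (step (H.back (i := 2) (by decide) (f406 H)) (step (H.back (i := 0) (by decide) (f410 H)) (step (H.back (i := 8) (by decide) (f774 H)) rfl))))))))))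

theorem f1101 : path g [9, 7, 3, 0] p = path g [8, 0, 9] p :=
  (f1100 H).symm

theorem f1102 : g 5 • path g [8, 0, 9] p = path g [9, 7, 3] p :=
  (congrArg (g 5 • ·) (f1101 H).symm).trans (f547 H)

theorem f1104 : g 0 • path g [9, 7, 3] p = path g [8, 0, 9] p :=
  H.back (i := 5) (by decide) (f1102 H)

theorem f1105 : g 0 • path g [8, 0, 9] p = path g [9, 7, 3] p :=
  (congrArg (g 0 • ·) (f1101 H).symm).trans (f548 H)

theorem f1107 : g 5 • path g [9, 7, 3] p = path g [8, 0, 9] p :=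
  H.back (i := 0) (by decide) (f1105 H)

theorem f1108 : path g [9, 7, 3, 1] p = path g [8, 1, 9] p :=
  close (u := [0, 1]) (w := [4, 6, 5, 9]) (r14_0_5 H) (step (f1105 H) (step (f552 H) rfl)) (step (H.back (i := 9) (by decide) (f276 H)) (step (H.back (i := 1) (by decide) (f56 H)) (step (H.back (i := 0) (by decide) (f50 H)) (step (H.back (i := 4) (by decide) (f229 H)) rfl))))

theorem f1109 : g 6 • path g [8, 1, 9] p = path g [9, 7, 3] p :=
  (congrArg (g 6 • ·) (f1108 H).symm).trans (f553 H)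

theorem f1111 : g 1 • path g [9, 7, 3] p = path g [8, 1, 9] p :=
  H.back (i := 6) (by decide) (f1109 H)

theorem f1112 : g 1 • path g [8, 1, 9] p = path g [9, 7, 3, 6] p :=
  (congrArg (g 1 • ·) (f1108 H).symm).trans (f554 H)

theorem f1114 : g 6 • path g [9, 7, 3, 6] p = path g [8, 1, 9] p :=
  H.back (i := 1) (by decide) (f1112 H)

theorem f1115 : g 7 • path g [9, 0, 3, 6] p = path g [8, 1, 9] p :=
  scan (u := [6, 7, 6]) (w := []) (i := 7) (r3_1_1 H) (step (f1109 H) (step (f845 H) (step (f646 H) rfl))) rfl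

theorem f1116 : g 2 • path g [8, 1, 9] p = path g [9, 0, 3, 6] p :=
  H.back (i := 7) (by decide) (f1115 H)

theorem f1117 : g 5 • path g [9, 0, 3, 6] p = path g [9, 0, 3, 6] p :=
  scan (u := [6, 5, 7, 5, 8, 2, 3, 6]) (w := [7]) (i := 5) (r7_0_9 H) (step (f1109 H) (step (f1107 H) (step (f1099 H) (step (f1095 H) (step (f774 H) (step (f136 H) (step (f148 H) (step (f646 H) rfl)))))))) (step (H.back (i := 2) (by decide) (f1116 H)) rfl)

theorem f1118 : g 0 • path g [9, 0, 3, 6] p = path g [9, 0, 3, 6] p :=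
  H.back (i := 5) (by decide) (f1117 H)

theorem f1119 : g 7 • path g [8, 9, 7, 0] p = path g [8, 0, 9] p :=
  scan (u := [6, 8, 0, 2, 0, 2, 3, 5]) (w := [5, 7, 6, 5, 7]) (i := 7) (r8_0_7 H) (step (f1109 H) (step (f129 H) (step (f25 H) (step (f21 H) (step (f26 H) (step (f138 H) (step (f776 H) (step (f1097 H) rfl)))))))) (step (H.back (i := 0) (by decide) (f1104 H)) (step (H.back (i := 2) (by decide) (f838 H)) (step (H.back (i := 1) (by decide) (f647 H)) (step (H.back (i := 0) (by decide) (f1118 H)) (step (H.back (i := 2) (by decide) (f1116 H)) rfl)))))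

theorem f1120 : g 2 • path g [8, 0, 9] p = path g [8, 9, 7, 0] p :=
  H.back (i := 7) (by decide) (f1119 H)

theorem f1121 : g 6 • path g [9, 0, 4, 7] p = path g [8, 9, 7] p :=
  scan (u := [7, 5, 8, 2, 3, 6, 5, 7]) (w := [5]) (i := 6) (r7_0_1 H) (step (f1119 H) (step (f1102 H) (step (f129 H) (step (f21 H) (step (f36 H) (step (f186 H) (step (f750 H) (step (f652 H) rfl)))))))) (step (H.back (i := 0) (by decide) (f1096 H)) rfl)

theorem f1122 : g 1 • path g [8, 9, 7] p = path g [9, 0, 4, 7] p :=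
  H.back (i := 6) (by decide) (f1121 H)

theorem f1123 : path g [8, 9, 6] p = path g [9, 0, 4] p :=
  close (u := [6, 7, 6]) (w := [7]) (r3_1_1 H) (step (f1121 H) (step (f216 H) (step (f222 H) rfl))) (step (H.back (i := 2) (by decide) (f653 H)) rfl)

theorem f1126 : g 6 • path g [9, 0, 4] p = path g [8, 9, 1] p :=
  (congrArg (g 6 • ·) (f1123 H).symm).trans (f227 H)

theorem f1127 : path g [9, 0, 4, 6] p = path g [8, 9, 1] p :=
  (f668 H).symm.trans (f1126 H)

theorem f1130 : g 0 • path g [9, 0, 4] p = path g [8, 6, 9] p :=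
  (congrArg (g 0 • ·) (f1123 H).symm).trans (f262 H)

theorem f1131 : path g [9, 3, 6] p = path g [8, 6, 9] p :=
  (f752 H).symm.trans (f1130 H)

theorem f1132 : path g [8, 6, 9] p = path g [9, 3, 6] p :=
  (f1131 H).symm

theorem f1144 : g 4 • path g [8, 6, 4] p = path g [9, 3, 6] p :=
  (f274 H).trans (f1132 H)

theorem f1150 : g 9 • path g [8, 6] p = path g [9, 3, 6] p :=
  (f258 H).trans (f1132 H)

theorem f1156 : g 1 • path g [8, 9, 1] p = path g [9, 0, 4] p :=
  (f226 H).trans (f1123 H)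

theorem f1158 : g 6 • path g [8, 9, 1] p = path g [9, 0, 4, 1] p :=
  (congrArg (g 6 • ·) (f1127 H).symm).trans (f673 H)

theorem f1159 : path g [8, 9] p = path g [9, 0, 4, 1] p :=
  (f225 H).symm.trans (f1158 H)

theorem f1160 : g 5 • path g [8, 9, 1] p = path g [9, 3, 0, 1] p :=
  (congrArg (g 5 • ·) (f1127 H).symm).trans (f985 H)

theorem f1162 : g 0 • path g [9, 3, 0, 1] p = path g [8, 9, 1] p :=
  H.back (i := 5) (by decide) (f1160 H)

theorem f1163 : g 0 • path g [8, 9, 1] p = path g [9, 3, 0, 1] p :=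
  (congrArg (g 0 • ·) (f1127 H).symm).trans (f986 H)

theorem f1165 : g 5 • path g [9, 3, 0, 1] p = path g [8, 9, 1] p :=
  H.back (i := 0) (by decide) (f1163 H)

theorem f1166 : path g [9, 0, 4, 1] p = path g [8, 9] p :=
  (f1159 H).symm

theorem f1168 : g 6 • path g [8, 9] p = path g [9, 0, 4] p :=
  (f222 H).trans (f1123 H)

theorem f1173 : g 5 • path g [4, 7, 3] p = path g [4, 1, 8] p :=
  scan (u := [6, 8, 0, 2, 0, 2, 3]) (w := [7, 5, 7, 6, 5, 7]) (i := 5) (r8_0_7 H) (step (f1121 H) (step (f774 H) (step (f410 H) (step (f406 H) (step (f104 H) (step (f99 H) (step (f398 H) rfl))))))) (step (H.back (i := 2) (by decide) (f463 H)) (step (H.back (i := 0) (by decide) (f1057 H)) (step (H.back (i := 2) (by decide) (f173 H)) (step (H.back (i := 1) (by decide) (f187 H)) (step (H.back (i := 0) (by decide) (f752 H)) (step (H.back (i := 2) (by decide) (f653 H)) rfl))))))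

theorem f1174 : g 0 • path g [4, 1, 8] p = path g [4, 7, 3] p :=
  H.back (i := 5) (by decide) (f1173 H)

theorem f1177 : g 1 • path g [9, 0, 4] p = path g [8, 9] p :=
  (f670 H).trans (f1166 H)

theorem f1178 : g 5 • path g [4, 1, 8] p = path g [4, 7, 3] p :=
  scan (u := [5]) (w := []) (i := 5) (r0_1_0 H) (step (f1173 H) rfl) rfl

theorem f1180 : path g [9, 3, 7, 8] p = path g [4, 7, 1] p :=
  close (u := [5, 7, 5, 8]) (w := [0, 2, 0, 1, 2, 0, 1, 3]) (r9_0_5 H) (step (f1173 H) (step (f462 H) (step (f1055 H) (step (f936 H) rfl)))) (step (H.back (i := 5) (by decide) (f415 H)) (step (H.back (i := 7) (by decide) (f137 H)) (step (H.back (i := 5) (by decide) (f29 H)) (step (H.back (i := 6) (by decide) (f41 H)) (step (H.back (i := 7) (by decide) (f124 H)) (step (H.back (i := 5) (by decide) (f417 H)) (step (H.back (i := 6) (by decide) (f392 H)) (step (H.back (i := 8) (by decide) (f399 H)) rfl))))))))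

theorem f1183 : g 8 • path g [4, 7, 1] p = path g [9, 3, 7, 3] p :=
  (congrArg (g 8 • ·) (f1180 H).symm).trans (f947 H)

theorem f1184 : path g [9, 3, 0] p = path g [9, 3, 7, 3] p :=
  (f1048 H).symm.trans (f1183 H)

theorem f1185 : path g [9, 3, 7, 3] p = path g [9, 3, 0] p :=
  (f1184 H).symm

theorem f1186 : g 8 • path g [9, 3, 0] p = path g [9, 3, 7] p :=
  (congrArg (g 8 • ·) (f1185 H).symm).trans (f945 H)

theorem f1187 : path g [9, 3, 0, 8] p = path g [9, 3, 7] p :=
  (f970 H).symm.trans (f1186 H)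

theorem f1195 : g 8 • path g [9, 3, 7] p = path g [4, 7, 1] p :=
  (f936 H).trans (f1180 H)

theorem f1198 : g 6 • path g [9, 0, 4] p = path g [8, 9, 1] p :=
  (f668 H).trans (f1127 H)

theorem f1199 : g 7 • path g [8, 1, 9] p = path g [9, 0, 3, 6] p :=
  scan (u := [5, 7, 4, 2, 0, 2, 9]) (w := []) (i := 7) (r13_1_7 H) (step (f1117 H) (step (f1115 H) (step (f277 H) (step (f60 H) (step (f62 H) (step (f66 H) (step (f276 H) rfl))))))) rfl

theorem f1201 : g 7 • path g [9, 0, 3, 1] p = path g [9, 7, 3, 6] p :=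
  scan (u := [7, 6]) (w := [6]) (i := 7) (r3_1_0 H) (step (f1199 H) (step (f651 H) rfl)) (step (H.back (i := 1) (by decide) (f1112 H)) rfl)

theorem f1205 : g 6 • path g [8, 9, 7] p = path g [8, 9, 7, 6] p :=
  rfl

theorem f1206 : g 1 • path g [8, 9, 7, 6] p = path g [8, 9, 7] p :=
  H.back (i := 6) (by decide) (f1205 H)

theorem f1207 : g 6 • path g [8, 9, 7, 6] p = path g [9, 0, 4, 7] p :=
  scan (u := [6]) (w := [6]) (i := 6) (r1_1_0 H) (step (f1205 H) rfl) (step (H.back (i := 1) (by decide) (f1122 H)) rfl)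

theorem f1208 : g 1 • path g [9, 0, 4, 7] p = path g [8, 9, 7, 6] p :=
  H.back (i := 6) (by decide) (f1207 H)

theorem f1209 : g 7 • path g [8, 9, 7, 6] p = path g [8, 9, 1] p :=
  scan (u := [6]) (w := [6, 7]) (i := 7) (r3_1_1 H) (step (f1205 H) rfl) (step (H.back (i := 1) (by decide) (f224 H)) (step (H.back (i := 2) (by decide) (f215 H)) rfl))

theorem f1210 : g 2 • path g [8, 9, 1] p = path g [8, 9, 7, 6] p :=
  H.back (i := 7) (by decide) (f1209 H)

theorem f1211 : path g [9, 0, 8, 0] p = path g [8, 9, 7] p :=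
  close (u := [6, 7, 5, 6, 7, 5, 7, 1, 5, 7, 1, 5]) (w := []) (r5_1_1 H) (step (f1205 H) (step (f1209 H) (step (f1160 H) (step (f979 H) (step (f1036 H) (step (f1040 H) (step (f1031 H) (step (f1085 H) (step (f1087 H) (step (f790 H) (step (f623 H) (step (f621 H) rfl)))))))))))) rfl

theorem f1218 : g 7 • path g [8, 9, 7] p = path g [3, 0, 9] p :=
  (congrArg (g 7 • ·) (f1211 H).symm).trans (f763 H)

theorem f1219 : path g [8, 9] p = path g [3, 0, 9] p :=
  (f216 H).symm.trans (f1218 H)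

theorem f1220 : path g [3, 0, 9] p = path g [8, 9] p :=
  (f1219 H).symm

theorem f1223 : g 9 • path g [8, 9] p = path g [3, 0, 4] p :=
  (congrArg (g 9 • ·) (f1220 H).symm).trans (f351 H)

theorem f1224 : path g [8, 4] p = path g [3, 0, 4] p :=
  (f71 H).symm.trans (f1223 H)

theorem f1227 : g 0 • path g [8, 9] p = path g [9, 7, 8, 7] p :=
  (congrArg (g 0 • ·) (f1220 H).symm).trans (f686 H)

theorem f1228 : path g [8, 9, 0] p = path g [9, 7, 8, 7] p :=
  (f218 H).symm.trans (f1227 H)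

theorem f1235 : path g [9, 7, 8, 7] p = path g [8, 9, 0] p :=
  (f1228 H).symm

theorem f1239 : g 7 • path g [8, 9, 0] p = path g [9, 7, 8] p :=
  (congrArg (g 7 • ·) (f1235 H).symm).trans (f498 H)

theorem f1241 : g 2 • path g [9, 7, 8] p = path g [8, 9, 0] p :=
  H.back (i := 7) (by decide) (f1239 H)

theorem f1254 : g 1 • path g [8, 9, 0] p = path g [3, 1, 9] p :=
  (congrArg (g 1 • ·) (f1235 H).symm).trans (f688 H)

theorem f1256 : g 6 • path g [3, 1, 9] p = path g [8, 9, 0] p :=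
  H.back (i := 1) (by decide) (f1254 H)

theorem f1257 : path g [3, 0, 4] p = path g [8, 4] p :=
  (f1224 H).symm

theorem f1258 : g 9 • path g [8, 4] p = path g [3, 0] p :=
  (congrArg (g 9 • ·) (f1257 H).symm).trans (f349 H)

theorem f1259 : path g [8] p = path g [3, 0] p :=
  (f69 H).symm.trans (f1258 H)

theorem f1265 : g 2 • path g [8, 4] p = path g [9, 8, 7, 0] p :=
  (congrArg (g 2 • ·) (f1257 H).symm).trans (f682 H)

theorem f1266 : path g [8, 4, 7] p = path g [9, 8, 7, 0] p :=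
  (f293 H).symm.trans (f1265 H)

theorem f1267 : path g [9, 8, 7, 0] p = path g [8, 4, 7] p :=
  (f1266 H).symm

theorem f1268 : g 5 • path g [8, 4, 7] p = path g [9, 8, 7] p :=
  (congrArg (g 5 • ·) (f1267 H).symm).trans (f677 H)

theorem f1270 : g 0 • path g [9, 8, 7] p = path g [8, 4, 7] p :=
  H.back (i := 5) (by decide) (f1268 H)

theorem f1271 : g 0 • path g [8, 4, 7] p = path g [9, 8, 7] p :=
  (congrArg (g 0 • ·) (f1267 H).symm).trans (f678 H)

theorem f1273 : g 5 • path g [9, 8, 7] p = path g [8, 4, 7] p :=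
  H.back (i := 0) (by decide) (f1271 H)

theorem f1280 : path g [3, 0] p = path g [8] p :=
  (f1259 H).symm

theorem f1300 : g 1 • path g [8] p = path g [3, 0, 1] p :=
  (congrArg (g 1 • ·) (f1280 H).symm).trans (f332 H)

theorem f1301 : path g [8, 1] p = path g [3, 0, 1] p :=
  (f56 H).symm.trans (f1300 H)

theorem f1305 : path g [3, 0, 1] p = path g [8, 1] p :=
  (f1301 H).symm

theorem f1317 : g 5 • path g [8, 1] p = path g [3, 1] p :=
  (congrArg (g 5 • ·) (f1305 H).symm).trans (f343 H)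

theorem f1318 : path g [8, 0, 1] p = path g [3, 1] p :=
  (f245 H).symm.trans (f1317 H)

theorem f1319 : g 4 • path g [8, 1] p = path g [9, 8, 0, 1] p :=
  (congrArg (g 4 • ·) (f1305 H).symm).trans (f893 H)

theorem f1320 : path g [8, 1, 4] p = path g [9, 8, 0, 1] p :=
  (f286 H).symm.trans (f1319 H)

theorem f1321 : path g [9, 8, 0, 1] p = path g [8, 1, 4] p :=
  (f1320 H).symm

theorem f1322 : g 6 • path g [8, 1, 4] p = path g [9, 8, 0] p :=
  (congrArg (g 6 • ·) (f1321 H).symm).trans (f889 H)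

theorem f1324 : g 1 • path g [9, 8, 0] p = path g [8, 1, 4] p :=
  H.back (i := 6) (by decide) (f1322 H)

theorem f1325 : g 1 • path g [8, 1, 4] p = path g [9, 8, 0, 6] p :=
  (congrArg (g 1 • ·) (f1321 H).symm).trans (f890 H)

theorem f1327 : g 6 • path g [9, 8, 0, 6] p = path g [8, 1, 4] p :=
  H.back (i := 1) (by decide) (f1325 H)

theorem f1338 : g 0 • path g [3, 1] p = path g [8, 1] p :=
  (f342 H).trans (f1305 H)

theorem f1340 : g 7 • path g [3, 1] p = path g [8, 0, 6] p :=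
  (congrArg (g 7 • ·) (f1318 H).symm).trans (f247 H)

theorem f1341 : path g [3, 6] p = path g [8, 0, 6] p :=
  (f95 H).symm.trans (f1340 H)

theorem f1343 : g 5 • path g [3, 1] p = path g [8, 1] p :=
  (f339 H).trans (f1305 H)

theorem f1345 : path g [8, 0, 6] p = path g [3, 6] p :=
  (f1341 H).symm

theorem f1346 : g 1 • path g [3, 6] p = path g [8, 0] p :=
  (congrArg (g 1 • ·) (f1345 H).symm).trans (f233 H)

theorem f1347 : path g [3] p = path g [8, 0] p :=
  (f85 H).symm.trans (f1346 H)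

theorem f1363 : path g [8, 0] p = path g [3] p :=
  (f1347 H).symm

theorem f1365 : g 5 • path g [3] p = path g [8] p :=
  (f81 H).trans (f1280 H)

theorem f1368 : g 0 • path g [3] p = path g [8] p :=
  (f78 H).trans (f1280 H)

theorem f1388 : g 4 • path g [3] p = path g [8, 0, 4] p :=
  (congrArg (g 4 • ·) (f1363 H).symm).trans (f254 H)

theorem f1389 : path g [9, 8] p = path g [8, 0, 4] p :=
  (f35 H).symm.trans (f1388 H)

theorem f1390 : path g [8, 0, 4] p = path g [9, 8] p :=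
  (f1389 H).symm

theorem f1394 : g 4 • path g [9, 8] p = path g [8, 0, 9] p :=
  (congrArg (g 4 • ·) (f1390 H).symm).trans (f256 H)

theorem f1395 : path g [3, 9] p = path g [8, 0, 9] p :=
  (f75 H).symm.trans (f1394 H)

theorem f1396 : path g [8, 0, 9] p = path g [3, 9] p :=
  (f1395 H).symm

theorem f1407 : g 0 • path g [3, 9] p = path g [9, 7, 3] p :=
  (congrArg (g 0 • ·) (f1396 H).symm).trans (f1105 H)

theorem f1408 : path g [3, 9, 0] p = path g [9, 7, 3] p :=
  (f312 H).symm.trans (f1407 H)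

theorem f1409 : g 2 • path g [3, 9] p = path g [8, 9, 7, 0] p :=
  (congrArg (g 2 • ·) (f1396 H).symm).trans (f1120 H)

theorem f1410 : path g [9, 0, 8] p = path g [8, 9, 7, 0] p :=
  (f703 H).symm.trans (f1409 H)

theorem f1411 : path g [8, 9, 7, 0] p = path g [9, 0, 8] p :=
  (f1410 H).symm

theorem f1413 : g 5 • path g [9, 0, 8] p = path g [8, 9, 7] p :=
  (f621 H).trans (f1211 H)

theorem f1416 : g 0 • path g [9, 0, 8] p = path g [8, 9, 7] p :=
  (f618 H).trans (f1211 H)

theorem f1425 : g 5 • path g [9, 7, 3] p = path g [3, 9] p :=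
  (f1107 H).trans (f1396 H)

theorem f1428 : g 0 • path g [9, 7, 3] p = path g [3, 9] p :=
  (f1104 H).trans (f1396 H)

theorem f1487 : g 0 • path g [8, 9, 7] p = path g [9, 0, 8] p :=
  (f1094 H).trans (f1411 H)

theorem f1488 : g 5 • path g [8, 9, 7] p = path g [9, 0, 8] p :=
  (f1097 H).trans (f1411 H)

theorem f1489 : g 5 • path g [9, 8, 7, 1] p = path g [9, 0, 4, 7] p :=
  scan (u := [1, 5, 6, 5, 6]) (w := [1]) (i := 5) (r4_1_2 H) (step (f1206 H) (step (f1488 H) (step (f622 H) (step (f857 H) (step (f869 H) rfl))))) (step (H.back (i := 6) (by decide) (f1207 H)) rfl)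

theorem f1490 : g 0 • path g [9, 0, 4, 7] p = path g [9, 8, 7, 1] p :=
  H.back (i := 5) (by decide) (f1489 H)

theorem f1491 : g 7 • path g [8, 9, 1] p = path g [8, 9, 7, 6] p :=
  scan (u := [1, 5, 6, 7, 5, 6, 7, 5, 7, 1, 5]) (w := []) (i := 7) (r5_1_11 H) (step (f1206 H) (step (f1488 H) (step (f622 H) (step (f795 H) (step (f1083 H) (step (f1084 H) (step (f1029 H) (step (f1045 H) (step (f1037 H) (step (f978 H) (step (f1165 H) rfl))))))))))) rfl

theorem f1493 : g 5 • path g [9, 0, 4, 7] p = path g [9, 8, 7, 1] p :=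
  scan (u := [5]) (w := []) (i := 5) (r0_1_0 H) (step (f1489 H) rfl) rfl

theorem f1494 : g 0 • path g [9, 8, 7, 1] p = path g [9, 0, 4, 7] p :=
  H.back (i := 5) (by decide) (f1493 H)

theorem f1495 : path g [4, 0, 4] p = path g [9, 8, 6] p :=
  close (u := [5, 7, 9, 2, 0, 2, 4]) (w := [7]) (r13_0_4 H) (step (f1489 H) (step (f654 H) (step (f153 H) (step (f138 H) (step (f410 H) (step (f406 H) (step (f430 H) rfl))))))) (step (H.back (i := 2) (by decide) (f870 H)) rfl)

theorem f1498 : g 4 • path g [9, 8, 6] p = path g [4, 0, 9] p :=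
  (congrArg (g 4 • ·) (f1495 H).symm).trans (f432 H)

theorem f1499 : path g [9, 8, 6, 4] p = path g [4, 0, 9] p :=
  (f906 H).symm.trans (f1498 H)

theorem f1501 : g 9 • path g [4, 0, 9] p = path g [9, 8, 6] p :=
  (f433 H).trans (f1495 H)

theorem f1507 : g 4 • path g [4, 0] p = path g [9, 8, 6] p :=
  (f430 H).trans (f1495 H)

theorem f1512 : g 4 • path g [9, 8, 6] p = path g [4, 0, 9] p :=
  (f906 H).trans (f1499 H)

theorem f1513 : g 4 • path g [4, 1, 0] p = path g [9, 8, 1, 0] p :=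
  scan (u := [5, 7, 6, 5, 9, 0, 1, 2, 0, 1, 2, 0]) (w := [5, 7, 6]) (i := 4) (r12_0_3 H) (step (f1489 H) (step (f654 H) (step (f1198 H) (step (f1160 H) (step (f982 H) (step (f196 H) (step (f42 H) (step (f138 H) (step (f410 H) (step (f404 H) (step (f397 H) (step (f452 H) rfl)))))))))))) (step (H.back (i := 0) (by decide) (f912 H)) (step (H.back (i := 2) (by decide) (f855 H)) (step (H.back (i := 1) (by decide) (f868 H)) rfl)))

theorem f1515 : g 5 • path g [8, 1] p = path g [3, 1] p :=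
  (f245 H).trans (f1318 H)

theorem f1517 : g 3 • path g [9, 8, 1, 0] p = path g [9, 8, 7, 9] p :=
  scan (u := [4]) (w := [4, 3]) (i := 3) (r15_0_0 H) (step (f1513 H) rfl) (step (H.back (i := 9) (by decide) (f674 H)) (step (H.back (i := 8) (by decide) (f458 H)) rfl))

theorem f1518 : g 8 • path g [9, 8, 7, 9] p = path g [9, 8, 1, 0] p :=
  H.back (i := 3) (by decide) (f1517 H)

theorem f1519 : g 6 • path g [9, 8, 1, 0] p = path g [4, 7, 3] p :=
  scan (u := [4]) (w := [5, 9, 0, 1]) (i := 6) (r14_0_1 H) (step (f1513 H) rfl) (step (H.back (i := 0) (by decide) (f1174 H)) (step (H.back (i := 4) (by decide) (f1068 H)) (step (H.back (i := 5) (by decide) (f453 H)) (step (H.back (i := 6) (by decide) (f457 H)) rfl))))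

theorem f1520 : g 1 • path g [4, 7, 3] p = path g [9, 8, 1, 0] p :=
  H.back (i := 6) (by decide) (f1519 H)

theorem f1521 : g 6 • path g [4, 1, 8] p = path g [3, 6, 4] p :=
  scan (u := [6, 5]) (w := [5, 1, 1, 5]) (i := 6) (r4_1_4 H) (step (f1519 H) (step (f1173 H) rfl)) (step (H.back (i := 0) (by decide) (f372 H)) (step (H.back (i := 6) (by decide) (f164 H)) (step (H.back (i := 6) (by decide) (f167 H)) (step (H.back (i := 0) (by decide) (f914 H)) rfl))))

theorem f1522 : g 1 • path g [3, 6, 4] p = path g [4, 1, 8] p :=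
  H.back (i := 6) (by decide) (f1521 H)

theorem f1523 : g 8 • path g [9, 3, 0] p = path g [9, 3, 7] p :=
  (f970 H).trans (f1187 H)

theorem f1524 : g 0 • path g [3, 9] p = path g [9, 7, 3] p :=
  (f312 H).trans (f1408 H)

theorem f1525 : g 0 • path g [8] p = path g [3] p :=
  (f48 H).trans (f1363 H)

theorem f1527 : g 5 • path g [3, 9] p = path g [9, 7, 3] p :=
  (f315 H).trans (f1408 H)

theorem f1528 : g 6 • path g [3, 1, 4] p = path g [8, 4, 0] p :=
  scan (u := [1, 9]) (w := [5, 4, 0]) (i := 6) (r14_1_3 H) (step (f1254 H) (step (f387 H) rfl)) (step (H.back (i := 0) (by decide) (f294 H)) (step (H.back (i := 9) (by decide) (f71 H)) (step (H.back (i := 5) (by decide) (f219 H)) rfl)))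

theorem f1530 : path g [3, 1, 9] p = path g [9, 3, 1, 0] p :=
  close (u := [1]) (w := [0, 1, 0, 6, 6, 0]) (r4_0_0 H) (step (f1254 H) rfl) (step (H.back (i := 5) (by decide) (f1009 H)) (step (H.back (i := 6) (by decide) (f191 H)) (step (H.back (i := 5) (by decide) (f755 H)) (step (H.back (i := 1) (by decide) (f1156 H)) (step (H.back (i := 1) (by decide) (f224 H)) (step (H.back (i := 5) (by decide) (f219 H)) rfl))))))

theorem f1531 : path g [9, 3, 1, 0] p = path g [3, 1, 9] p :=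
  (f1530 H).symm

theorem f1532 : g 5 • path g [3, 1, 9] p = path g [9, 3, 1] p :=
  (congrArg (g 5 • ·) (f1531 H).symm).trans (f1007 H)

theorem f1535 : g 0 • path g [3, 1, 9] p = path g [9, 3, 1] p :=
  (congrArg (g 0 • ·) (f1531 H).symm).trans (f1008 H)

theorem f1537 : g 5 • path g [9, 3, 1] p = path g [3, 1, 9] p :=
  H.back (i := 0) (by decide) (f1535 H)

theorem f1538 : g 0 • path g [8, 1] p = path g [3, 1] p :=
  (f248 H).trans (f1318 H)

theorem f1539 : path g [9, 7, 8, 0] p = path g [9, 1, 0, 3] p :=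
  close (u := [7, 5]) (w := [8, 0, 2, 0, 1, 2, 0, 1, 3, 5]) (r9_0_6 H) (step (f1239 H) (step (f509 H) rfl)) (step (H.back (i := 3) (by decide) (f1088 H)) (step (H.back (i := 5) (by decide) (f197 H)) (step (H.back (i := 7) (by decide) (f124 H)) (step (H.back (i := 5) (by decide) (f417 H)) (step (H.back (i := 6) (by decide) (f392 H)) (step (H.back (i := 7) (by decide) (f96 H)) (step (H.back (i := 5) (by decide) (f103 H)) (step (H.back (i := 6) (by decide) (f107 H)) (step (H.back (i := 8) (by decide) (f46 H)) (step (H.back (i := 0) (by decide) (f220 H)) rfl))))))))))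

theorem f1540 : path g [9, 1, 0, 3] p = path g [9, 7, 8, 0] p :=
  (f1539 H).symm

theorem f1541 : g 8 • path g [9, 7, 8, 0] p = path g [9, 1, 0] p :=
  (congrArg (g 8 • ·) (f1540 H).symm).trans (f1089 H)

theorem f1544 : g 3 • path g [9, 7, 8, 0] p = path g [4, 8, 7] p :=
  (congrArg (g 3 • ·) (f1540 H).symm).trans (f1090 H)

theorem f1546 : g 8 • path g [4, 8, 7] p = path g [9, 7, 8, 0] p :=
  H.back (i := 3) (by decide) (f1544 H)

theorem f1553 : g 9 • path g [8, 9, 0] p = path g [8, 9, 0, 9] p :=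
  rfl

theorem f1554 : g 4 • path g [8, 9, 0, 9] p = path g [8, 9, 0] p :=
  H.back (i := 9) (by decide) (f1553 H)

theorem f1557 : g 6 • path g [8, 9, 0] p = path g [8, 9, 0, 6] p :=
  rfl

theorem f1565 : g 5 • path g [8, 9, 0, 6] p = path g [9, 3, 0, 6] p :=
  scan (u := [6]) (w := [6, 5, 1, 1, 5]) (i := 5) (r4_1_4 H) (step (f1557 H) rfl) (step (H.back (i := 1) (by decide) (f980 H)) (step (H.back (i := 0) (by decide) (f1163 H)) (step (H.back (i := 6) (by decide) (f1198 H)) (step (H.back (i := 6) (by decide) (f1168 H)) (step (H.back (i := 0) (by decide) (f220 H)) rfl)))))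

theorem f1569 : g 4 • path g [8, 9, 0] p = path g [8, 9, 0, 4] p :=
  rfl

theorem f1570 : g 9 • path g [8, 9, 0, 4] p = path g [8, 9, 0] p :=
  H.back (i := 4) (by decide) (f1569 H)

theorem f1571 : g 4 • path g [8, 9, 0, 4] p = path g [8, 9, 0, 9] p :=
  scan (u := [4]) (w := [4]) (i := 4) (r10_0_0 H) (step (f1569 H) rfl) (step (H.back (i := 9) (by decide) (f1553 H)) rfl)

theorem f1575 : g 9 • path g [8, 9, 1] p = path g [8, 9, 1, 9] p :=
  rfl

theorem f1576 : g 4 • path g [8, 9, 1, 9] p = path g [8, 9, 1] p :=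
  H.back (i := 9) (by decide) (f1575 H)

theorem f1587 : g 4 • path g [8, 9, 1] p = path g [8, 9, 1, 4] p :=
  rfl

theorem f1589 : g 4 • path g [8, 9, 1, 4] p = path g [8, 9, 1, 9] p :=
  scan (u := [4]) (w := [4]) (i := 4) (r10_0_0 H) (step (f1587 H) rfl) (step (H.back (i := 9) (by decide) (f1575 H)) rfl)

theorem f1590 : g 9 • path g [8, 9, 1, 9] p = path g [8, 9, 1, 4] p :=
  H.back (i := 4) (by decide) (f1589 H)

theorem f1595 : g 0 • path g [8, 6, 8] p = path g [8, 6, 8, 0] p :=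
  rfl

theorem f1597 : g 0 • path g [8, 6, 8, 0] p = path g [8, 6, 8] p :=
  scan (u := [0]) (w := []) (i := 0) (r0_0_0 H) (step (f1595 H) rfl) rfl

theorem f1598 : g 5 • path g [8, 6, 8] p = path g [8, 6, 8, 0] p :=
  H.back (i := 0) (by decide) (f1597 H)

theorem f1599 : g 6 • path g [8, 6, 8] p = path g [8, 6, 8, 6] p :=
  rfl

theorem f1601 : g 1 • path g [8, 6, 8] p = path g [8, 6, 8, 1] p :=
  rfl

theorem f1602 : g 6 • path g [8, 6, 8, 1] p = path g [8, 6, 8] p :=
  H.back (i := 1) (by decide) (f1601 H)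

theorem f1605 : g 2 • path g [8, 6, 8, 1] p = path g [8, 6, 8, 6] p :=
  scan (u := [1]) (w := [1, 2]) (i := 2) (r3_0_0 H) (step (f1601 H) rfl) (step (H.back (i := 6) (by decide) (f1599 H)) (step (H.back (i := 7) (by decide) (f267 H)) rfl))

theorem f1606 : g 7 • path g [8, 6, 8, 6] p = path g [8, 6, 8, 1] p :=
  H.back (i := 2) (by decide) (f1605 H)

theorem f1609 : g 4 • path g [8, 6, 8] p = path g [8, 6, 8, 4] p :=
  rfl

theorem f1617 : g 9 • path g [8, 6, 3] p = path g [8, 6, 3, 9] p :=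
  rfl

theorem f1618 : g 4 • path g [8, 6, 3, 9] p = path g [8, 6, 3] p :=
  H.back (i := 9) (by decide) (f1617 H)

theorem f1619 : g 8 • path g [8, 6, 3, 9] p = path g [8, 6, 8, 4] p :=
  scan (u := [9]) (w := [9, 8]) (i := 8) (r15_1_1 H) (step (f1617 H) rfl) (step (H.back (i := 4) (by decide) (f1609 H)) (step (H.back (i := 3) (by decide) (f270 H)) rfl))

theorem f1620 : g 3 • path g [8, 6, 8, 4] p = path g [8, 6, 3, 9] p :=
  H.back (i := 8) (by decide) (f1619 H)

theorem f1621 : g 0 • path g [8, 6, 3] p = path g [8, 6, 3, 0] p :=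
  rfl

theorem f1622 : g 5 • path g [8, 6, 3, 0] p = path g [8, 6, 3] p :=
  H.back (i := 0) (by decide) (f1621 H)

theorem f1623 : g 0 • path g [8, 6, 3, 0] p = path g [8, 6, 3] p :=
  scan (u := [0]) (w := []) (i := 0) (r0_0_0 H) (step (f1621 H) rfl) rfl

theorem f1624 : g 5 • path g [8, 6, 3] p = path g [8, 6, 3, 0] p :=
  H.back (i := 0) (by decide) (f1623 H)

theorem f1625 : g 2 • path g [8, 6, 3, 0] p = path g [8, 6, 3, 0] p :=
  scan (u := [0]) (w := [0, 8, 6, 5, 7, 6, 5, 7, 5, 3]) (i := 2) (r9_1_4 H) (step (f1621 H) rfl) (step (H.back (i := 5) (by decide) (f1624 H)) (step (H.back (i := 3) (by decide) (f268 H)) (step (H.back (i := 1) (by decide) (f58 H)) (step (H.back (i := 0) (by decide) (f1338 H)) (step (H.back (i := 2) (by decide) (f94 H)) (step (H.back (i := 1) (by decide) (f88 H)) (step (H.back (i := 0) (by decide) (f1538 H)) (step (H.back (i := 2) (by decide) (f66 H)) (step (H.back (i := 0) (by decide) (f62 H)) (step (H.back (i := 8) (by decide)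 (f269 H)) rfl))))))))))

theorem f1626 : g 7 • path g [8, 6, 3, 0] p = path g [8, 6, 3, 0] p :=
  H.back (i := 2) (by decide) (f1625 H)

theorem f1627 : g 6 • path g [8, 6, 3] p = path g [8, 6, 3, 6] p :=
  rfl

theorem f1629 : g 1 • path g [8, 6, 3] p = path g [8, 6, 3, 1] p :=
  rfl

theorem f1631 : g 1 • path g [8, 6, 3, 1] p = path g [8, 6, 3, 6] p :=
  scan (u := [1]) (w := [1]) (i := 1) (r1_0_0 H) (step (f1629 H) rfl) (step (H.back (i := 6) (by decide) (f1627 H)) rfl)

theorem f1633 : g 4 • path g [8, 6, 3] p = path g [8, 6, 3, 4] p :=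
  rfl

theorem f1634 : g 9 • path g [8, 6, 3, 4] p = path g [8, 6, 3] p :=
  H.back (i := 4) (by decide) (f1633 H)

theorem f1635 : g 4 • path g [8, 6, 3, 4] p = path g [8, 6, 3, 9] p :=
  scan (u := [4]) (w := [4]) (i := 4) (r10_0_0 H) (step (f1633 H) rfl) (step (H.back (i := 9) (by decide) (f1617 H)) rfl)

theorem f1637 : path g [8, 6, 3, 4] p = path g [9, 3, 6, 8] p :=
  close (u := [4]) (w := [3, 4, 3]) (r15_0_0 H) (step (f1633 H) rfl) (step (H.back (i := 8) (by decide) (f994 H)) (step (H.back (i := 9) (by decide) (f1150 H)) (step (H.back (i := 8) (by decide) (f269 H)) rfl)))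

theorem f1638 : g 9 • path g [9, 3, 6, 8] p = path g [8, 6, 3] p :=
  (congrArg (g 9 • ·) (f1637 H).symm).trans (f1634 H)

theorem f1640 : g 4 • path g [8, 6, 3] p = path g [9, 3, 6, 8] p :=
  H.back (i := 9) (by decide) (f1638 H)

theorem f1641 : g 4 • path g [9, 3, 6, 8] p = path g [8, 6, 3, 9] p :=
  (congrArg (g 4 • ·) (f1637 H).symm).trans (f1635 H)

theorem f1644 : g 7 • path g [8, 6, 4] p = path g [8, 6, 4, 7] p :=
  rfl

theorem f1646 : g 7 • path g [8, 6, 4, 7] p = path g [8, 6, 4] p :=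
  scan (u := [7]) (w := []) (i := 7) (r2_1_0 H) (step (f1644 H) rfl) rfl

theorem f1647 : g 2 • path g [8, 6, 4] p = path g [8, 6, 4, 7] p :=
  H.back (i := 7) (by decide) (f1646 H)

theorem f1648 : g 8 • path g [8, 6, 4] p = path g [8, 6, 4, 8] p :=
  rfl

theorem f1649 : g 3 • path g [8, 6, 4, 8] p = path g [8, 6, 4] p :=
  H.back (i := 8) (by decide) (f1648 H)

theorem f1652 : g 9 • path g [8, 6, 4, 8] p = path g [9, 3, 6, 3] p :=
  scan (u := [8]) (w := [8, 9]) (i := 9) (r15_1_0 H) (step (f1648 H) rfl) (step (H.back (i := 3) (by decide) (f996 H)) (step (H.back (i := 4) (by decide) (f1144 H)) rfl))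

theorem f1653 : g 4 • path g [9, 3, 6, 3] p = path g [8, 6, 4, 8] p :=
  H.back (i := 9) (by decide) (f1652 H)

theorem f1654 : g 6 • path g [8, 6, 4] p = path g [8, 6, 4, 6] p :=
  rfl

theorem f1656 : g 5 • path g [8, 6, 4, 6] p = path g [3, 1, 4] p :=
  scan (u := [6]) (w := [9, 0, 1, 4]) (i := 5) (r14_0_2 H) (step (f1654 H) rfl) (step (H.back (i := 4) (by decide) (f384 H)) (step (H.back (i := 5) (by decide) (f1515 H)) (step (H.back (i := 6) (by decide) (f59 H)) (step (H.back (i := 9) (by decide) (f273 H)) rfl))))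

theorem f1657 : g 0 • path g [3, 1, 4] p = path g [8, 6, 4, 6] p :=
  H.back (i := 5) (by decide) (f1656 H)

theorem f1658 : g 5 • path g [3, 1, 4] p = path g [8, 6, 4, 6] p :=
  scan (u := [5]) (w := []) (i := 5) (r0_1_0 H) (step (f1656 H) rfl) rfl

theorem f1659 : g 0 • path g [8, 6, 4, 6] p = path g [3, 1, 4] p :=
  H.back (i := 5) (by decide) (f1658 H)

theorem f1660 : g 1 • path g [8, 6, 4] p = path g [8, 6, 4, 1] p :=
  rfl

theorem f1661 : g 6 • path g [8, 6, 4, 1] p = path g [8, 6, 4] p :=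
  H.back (i := 1) (by decide) (f1660 H)

theorem f1662 : g 1 • path g [8, 6, 4, 1] p = path g [8, 6, 4, 6] p :=
  scan (u := [1]) (w := [1]) (i := 1) (r1_0_0 H) (step (f1660 H) rfl) (step (H.back (i := 6) (by decide) (f1654 H)) rfl)

theorem f1664 : g 0 • path g [8, 1, 9] p = path g [8, 1, 9, 0] p :=
  rfl

theorem f1665 : g 5 • path g [8, 1, 9, 0] p = path g [8, 1, 9] p :=
  H.back (i := 0) (by decide) (f1664 H)

theorem f1666 : g 0 • path g [8, 1, 9, 0] p = path g [8, 1, 9] p :=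
  scan (u := [0]) (w := []) (i := 0) (r0_0_0 H) (step (f1664 H) rfl) rfl

theorem f1668 : path g [8, 1, 9, 0] p = path g [4, 8, 1] p :=
  close (u := [0]) (w := [1, 4, 6, 5, 9]) (r14_0_5 H) (step (f1664 H) rfl) (step (H.back (i := 6) (by decide) (f815 H)) (step (H.back (i := 9) (by decide) (f352 H)) (step (H.back (i := 1) (by decide) (f88 H)) (step (H.back (i := 0) (by decide) (f1538 H)) (step (H.back (i := 4) (by decide) (f277 H)) rfl)))))

theorem f1669 : g 5 • path g [4, 8, 1] p = path g [8, 1, 9] p :=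
  (congrArg (g 5 • ·) (f1668 H).symm).trans (f1665 H)

theorem f1671 : g 0 • path g [8, 1, 9] p = path g [4, 8, 1] p :=
  H.back (i := 5) (by decide) (f1669 H)

theorem f1672 : g 0 • path g [4, 8, 1] p = path g [8, 1, 9] p :=
  (congrArg (g 0 • ·) (f1668 H).symm).trans (f1666 H)

theorem f1674 : g 5 • path g [8, 1, 9] p = path g [4, 8, 1] p :=
  H.back (i := 0) (by decide) (f1672 H)

theorem f1675 : g 8 • path g [8, 1, 9] p = path g [8, 1, 9, 8] p :=
  rfl

theorem f1677 : g 9 • path g [8, 1, 9, 8] p = path g [8, 1, 3] p :=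
  scan (u := [8]) (w := [8, 9]) (i := 9) (r15_1_0 H) (step (f1675 H) rfl) (step (H.back (i := 3) (by decide) (f282 H)) (step (H.back (i := 4) (by decide) (f277 H)) rfl))

theorem f1678 : g 4 • path g [8, 1, 3] p = path g [8, 1, 9, 8] p :=
  H.back (i := 9) (by decide) (f1677 H)

theorem f1679 : g 3 • path g [8, 1, 9] p = path g [8, 1, 9, 3] p :=
  rfl

theorem f1680 : g 8 • path g [8, 1, 9, 3] p = path g [8, 1, 9] p :=
  H.back (i := 3) (by decide) (f1679 H)

theorem f1681 : g 3 • path g [8, 1, 9, 3] p = path g [8, 1, 9, 8] p :=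
  scan (u := [3]) (w := [3]) (i := 3) (r6_0_0 H) (step (f1679 H) rfl) (step (H.back (i := 8) (by decide) (f1675 H)) rfl)

theorem f1683 : g 9 • path g [8, 1, 8] p = path g [8, 1, 8, 9] p :=
  rfl

theorem f1685 : g 8 • path g [8, 1, 8, 9] p = path g [8, 1, 4] p :=
  scan (u := [9]) (w := [9, 8]) (i := 8) (r15_1_1 H) (step (f1683 H) rfl) (step (H.back (i := 4) (by decide) (f286 H)) (step (H.back (i := 3) (by decide) (f279 H)) rfl))

theorem f1686 : g 3 • path g [8, 1, 4] p = path g [8, 1, 8, 9] p :=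
  H.back (i := 8) (by decide) (f1685 H)

theorem f1687 : g 0 • path g [8, 1, 8] p = path g [8, 1, 8, 0] p :=
  rfl

theorem f1688 : g 5 • path g [8, 1, 8, 0] p = path g [8, 1, 8] p :=
  H.back (i := 0) (by decide) (f1687 H)

theorem f1691 : g 2 • path g [8, 1, 8, 0] p = path g [8, 6, 8, 0] p :=
  scan (u := [0]) (w := [0, 2, 3, 5, 7, 5, 7, 6, 5, 7, 6, 8]) (i := 2) (r8_0_9 H) (step (f1687 H) rfl) (step (H.back (i := 5) (by decide) (f1598 H)) (step (H.back (i := 7) (by decide) (f267 H)) (step (H.back (i := 8) (by decide) (f264 H)) (step (H.back (i := 0) (by decide) (f62 H)) (step (H.back (i := 2) (by decide) (f60 H)) (step (H.back (i := 0) (by decide) (f1338 H)) (step (H.back (i := 2) (by decide) (f94 H)) (step (H.back (i := 1) (by decide) (f88 H)) (step (H.back (i := 0) (by decide) (f1538 H)) (step (H.back (i := 2) (by decide) (f66 H)) (step (H.back (i := 1) (by decide) (f58 H)) (step (H.back (i := 3) (by decide) (f279 H)) rfl))))))))))))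

theorem f1692 : g 7 • path g [8, 6, 8, 0] p = path g [8, 1, 8, 0] p :=
  H.back (i := 2) (by decide) (f1691 H)

theorem f1705 : g 4 • path g [8, 1, 8] p = path g [8, 1, 8, 4] p :=
  rfl

theorem f1706 : g 9 • path g [8, 1, 8, 4] p = path g [8, 1, 8] p :=
  H.back (i := 4) (by decide) (f1705 H)

theorem f1709 : g 7 • path g [8, 1, 3] p = path g [8, 1, 3, 7] p :=
  rfl

theorem f1710 : g 2 • path g [8, 1, 3, 7] p = path g [8, 1, 3] p :=
  H.back (i := 7) (by decide) (f1709 H)

theorem f1711 : g 7 • path g [8, 1, 3, 7] p = path g [8, 1, 3] p :=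
  scan (u := [7]) (w := []) (i := 7) (r2_1_0 H) (step (f1709 H) rfl) rfl

theorem f1712 : g 2 • path g [8, 1, 3] p = path g [8, 1, 3, 7] p :=
  H.back (i := 7) (by decide) (f1711 H)

theorem f1713 : g 9 • path g [8, 1, 3] p = path g [8, 1, 3, 9] p :=
  rfl

theorem f1714 : g 4 • path g [8, 1, 3, 9] p = path g [8, 1, 3] p :=
  H.back (i := 9) (by decide) (f1713 H)

theorem f1715 : g 9 • path g [8, 1, 3, 9] p = path g [8, 1, 9, 8] p :=
  scan (u := [9]) (w := [9]) (i := 9) (r10_1_0 H) (step (f1713 H) rfl) (step (H.back (i := 4) (by decide) (f1678 H)) rfl)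

theorem f1716 : g 4 • path g [8, 1, 9, 8] p = path g [8, 1, 3, 9] p :=
  H.back (i := 9) (by decide) (f1715 H)

theorem f1717 : g 8 • path g [8, 1, 3, 9] p = path g [8, 1, 8, 4] p :=
  scan (u := [9]) (w := [9, 8]) (i := 8) (r15_1_1 H) (step (f1713 H) rfl) (step (H.back (i := 4) (by decide) (f1705 H)) (step (H.back (i := 3) (by decide) (f284 H)) rfl))

theorem f1719 : g 0 • path g [8, 1, 3] p = path g [8, 1, 3, 0] p :=
  rfl

theorem f1720 : g 5 • path g [8, 1, 3, 0] p = path g [8, 1, 3] p :=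
  H.back (i := 0) (by decide) (f1719 H)

theorem f1721 : g 0 • path g [8, 1, 3, 0] p = path g [8, 1, 3] p :=
  scan (u := [0]) (w := []) (i := 0) (r0_0_0 H) (step (f1719 H) rfl) rfl

theorem f1722 : g 5 • path g [8, 1, 3] p = path g [8, 1, 3, 0] p :=
  H.back (i := 0) (by decide) (f1721 H)

theorem f1723 : g 2 • path g [8, 1, 3, 0] p = path g [8, 1, 3, 0] p :=
  scan (u := [0]) (w := [0, 8, 6, 5, 7, 6, 5, 7, 5, 3]) (i := 2) (r9_1_4 H) (step (f1719 H) rfl) (step (H.back (i := 5) (by decide) (f1722 H)) (step (H.back (i := 3) (by decide) (f282 H)) (step (H.back (i := 1) (by decide) (f56 H)) (step (H.back (i := 0) (by decide) (f1368 H)) (step (H.back (i := 2) (by decide) (f64 H)) (step (H.back (i := 1) (by decide) (f85 H)) (step (H.back (i := 0) (by decide) (f92 H)) (step (H.back (i := 2) (by decide) (f90 H)) (step (H.back (i := 0) (by decide) (f1538 H)) (step (H.back (i := 8) (by decide) (f283 H)) rfl))))))))))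

theorem f1724 : g 7 • path g [8, 1, 3, 0] p = path g [8, 1, 3, 0] p :=
  H.back (i := 2) (by decide) (f1723 H)

theorem f1727 : g 1 • path g [8, 1, 3] p = path g [8, 1, 3, 1] p :=
  rfl

theorem f1728 : g 6 • path g [8, 1, 3, 1] p = path g [8, 1, 3] p :=
  H.back (i := 1) (by decide) (f1727 H)

theorem f1731 : g 7 • path g [8, 1, 4] p = path g [8, 1, 4, 7] p :=
  rfl

theorem f1733 : g 7 • path g [8, 1, 4, 7] p = path g [8, 1, 4] p :=
  scan (u := [7]) (w := []) (i := 7) (r2_1_0 H) (step (f1731 H) rfl) rfl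

theorem f1734 : g 2 • path g [8, 1, 4] p = path g [8, 1, 4, 7] p :=
  H.back (i := 7) (by decide) (f1733 H)

theorem f1735 : g 5 • path g [8, 1, 4, 7] p = path g [8, 1, 4, 7] p :=
  scan (u := [7]) (w := [7, 9, 2, 0, 2, 4]) (i := 5) (r13_0_3 H) (step (f1731 H) rfl) (step (H.back (i := 2) (by decide) (f1734 H)) (step (H.back (i := 4) (by decide) (f286 H)) (step (H.back (i := 7) (by decide) (f61 H)) (step (H.back (i := 5) (by decide) (f63 H)) (step (H.back (i := 7) (by decide) (f67 H)) (step (H.back (i := 9) (by decide) (f287 H)) rfl))))))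

theorem f1736 : g 0 • path g [8, 1, 4, 7] p = path g [8, 1, 4, 7] p :=
  H.back (i := 5) (by decide) (f1735 H)

theorem f1737 : g 6 • path g [9, 7, 8, 0] p = path g [8, 1, 4, 7] p :=
  scan (u := [5, 7, 6, 5, 9, 0, 1, 2, 0, 1, 2, 0, 4, 5, 7]) (w := []) (i := 6) (r12_0_3 H) (step (f1735 H) (step (f1733 H) (step (f1322 H) (step (f161 H) (step (f34 H) (step (f1368 H) (step (f56 H) (step (f60 H) (step (f62 H) (step (f55 H) (step (f10 H) (step (f1525 H) (step (f35 H) (step (f163 H) (step (f511 H) rfl))))))))))))))) rfl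

theorem f1738 : g 1 • path g [8, 1, 4, 7] p = path g [9, 7, 8, 0] p :=
  H.back (i := 6) (by decide) (f1737 H)

theorem f1739 : g 3 • path g [9, 1, 0, 7] p = path g [8, 4, 7] p :=
  scan (u := [0, 1, 8, 7]) (w := [0, 2, 0, 1, 2]) (i := 3) (r7_1_2 H) (step (f1736 H) (step (f1738 H) (step (f1541 H) (step (f1020 H) rfl)))) (step (H.back (i := 5) (by decide) (f1273 H)) (step (H.back (i := 7) (by decide) (f156 H)) (step (H.back (i := 5) (by decide) (f161 H)) (step (H.back (i := 6) (by decide) (f1322 H)) (step (H.back (i := 7) (by decide) (f1733 H)) rfl)))))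

theorem f1740 : g 8 • path g [8, 4, 7] p = path g [9, 1, 0, 7] p :=
  H.back (i := 3) (by decide) (f1739 H)

theorem f1741 : path g [4, 7, 6] p = path g [9, 8, 0, 8] p :=
  close (u := [0, 1, 2, 0, 2, 0, 8, 7, 5, 7, 5]) (w := [3, 1, 2]) (r8_1_8 H) (step (f1736 H) (step (f1738 H) (step (f510 H) (step (f162 H) (step (f159 H) (step (f1270 H) (step (f1740 H) (step (f1022 H) (step (f195 H) (step (f126 H) (step (f412 H) rfl))))))))))) (step (H.back (i := 8) (by decide) (f880 H)) (step (H.back (i := 6) (by decide) (f1322 H)) (step (H.back (i := 7) (by decide) (f1733 H)) rfl)))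

theorem f1742 : path g [9, 8, 0, 8] p = path g [4, 7, 6] p :=
  (f1741 H).symm

theorem f1743 : g 3 • path g [4, 7, 6] p = path g [9, 8, 0] p :=
  (congrArg (g 3 • ·) (f1742 H).symm).trans (f881 H)

theorem f1745 : g 8 • path g [9, 8, 0] p = path g [4, 7, 6] p :=
  H.back (i := 3) (by decide) (f1743 H)

theorem f1746 : g 8 • path g [4, 7, 6] p = path g [9, 8, 0, 3] p :=
  (congrArg (g 8 • ·) (f1742 H).symm).trans (f887 H)

theorem f1749 : g 0 • path g [8, 1, 4] p = path g [8, 1, 4, 0] p :=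
  rfl

theorem f1750 : g 5 • path g [8, 1, 4, 0] p = path g [8, 1, 4] p :=
  H.back (i := 0) (by decide) (f1749 H)

theorem f1751 : g 0 • path g [8, 1, 4, 0] p = path g [8, 1, 4] p :=
  scan (u := [0]) (w := []) (i := 0) (r0_0_0 H) (step (f1749 H) rfl) rfl

theorem f1752 : g 5 • path g [8, 1, 4] p = path g [8, 1, 4, 0] p :=
  H.back (i := 0) (by decide) (f1751 H)

theorem f1755 : g 6 • path g [8, 1, 4, 0] p = path g [4, 1, 8] p :=
  scan (u := [0]) (w := [6, 0, 1, 0, 1]) (i := 6) (r4_0_3 H) (step (f1749 H) rfl) (step (H.back (i := 1) (by decide) (f1522 H)) (step (H.back (i := 5) (by decide) (f371 H)) (step (H.back (i := 6) (by decide) (f164 H)) (step (H.back (i := 5) (by decide) (f161 H)) (step (H.back (i := 6) (by decide) (f1322 H)) rfl)))))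

theorem f1756 : g 1 • path g [4, 1, 8] p = path g [8, 1, 4, 0] p :=
  H.back (i := 6) (by decide) (f1755 H)

theorem f1757 : g 8 • path g [8, 1, 4] p = path g [8, 1, 4, 8] p :=
  rfl

theorem f1759 : g 8 • path g [8, 1, 4, 8] p = path g [8, 1, 8, 9] p :=
  scan (u := [8]) (w := [8]) (i := 8) (r6_1_0 H) (step (f1757 H) rfl) (step (H.back (i := 3) (by decide) (f1686 H)) rfl)

theorem f1760 : g 3 • path g [8, 1, 8, 9] p = path g [8, 1, 4, 8] p :=
  H.back (i := 8) (by decide) (f1759 H)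

theorem f1761 : g 9 • path g [8, 1, 4, 8] p = path g [8, 1, 9, 3] p :=
  scan (u := [8]) (w := [8, 9]) (i := 9) (r15_1_0 H) (step (f1757 H) rfl) (step (H.back (i := 3) (by decide) (f1679 H)) (step (H.back (i := 4) (by decide) (f288 H)) rfl))

theorem f1762 : g 4 • path g [8, 1, 9, 3] p = path g [8, 1, 4, 8] p :=
  H.back (i := 9) (by decide) (f1761 H)

theorem f1765 : g 6 • path g [8, 4, 7] p = path g [8, 4, 7, 6] p :=
  rfl

theorem f1766 : g 1 • path g [8, 4, 7, 6] p = path g [8, 4, 7] p :=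
  H.back (i := 6) (by decide) (f1765 H)

theorem f1767 : g 7 • path g [8, 4, 7, 6] p = path g [8, 4, 1] p :=
  scan (u := [6]) (w := [6, 7]) (i := 7) (r3_1_1 H) (step (f1765 H) rfl) (step (H.back (i := 1) (by decide) (f304 H)) (step (H.back (i := 2) (by decide) (f291 H)) rfl))

theorem f1768 : g 2 • path g [8, 4, 1] p = path g [8, 4, 7, 6] p :=
  H.back (i := 7) (by decide) (f1767 H)

theorem f1769 : g 5 • path g [8, 4, 7, 6] p = path g [8, 9, 7, 6] p :=
  scan (u := [6]) (w := [6, 5, 1, 1, 5]) (i := 5) (r4_1_4 H) (step (f1765 H) rfl) (step (H.back (i := 1) (by decide) (f1208 H)) (step (H.back (i := 0) (by decide) (f1494 H)) (step (H.back (i := 6) (by decide) (f869 H)) (step (H.back (i := 6) (by decide) (f850 H)) (step (H.back (i := 0) (by decide) (f1271 H)) rfl)))))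

theorem f1770 : g 0 • path g [8, 9, 7, 6] p = path g [8, 4, 7, 6] p :=
  H.back (i := 5) (by decide) (f1769 H)

theorem f1771 : g 5 • path g [8, 9, 7, 6] p = path g [8, 4, 7, 6] p :=
  scan (u := [5]) (w := []) (i := 5) (r0_1_0 H) (step (f1769 H) rfl) rfl

theorem f1772 : g 0 • path g [8, 4, 7, 6] p = path g [8, 9, 7, 6] p :=
  H.back (i := 5) (by decide) (f1771 H)

theorem f1773 : g 7 • path g [8, 4, 1] p = path g [8, 4, 7, 6] p :=
  scan (u := [7]) (w := []) (i := 7) (r2_1_0 H) (step (f1767 H) rfl) rfl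

theorem f1775 : g 3 • path g [8, 4, 7] p = path g [8, 4, 7, 3] p :=
  rfl

theorem f1776 : g 8 • path g [8, 4, 7, 3] p = path g [8, 4, 7] p :=
  H.back (i := 3) (by decide) (f1775 H)

theorem f1777 : g 3 • path g [8, 4, 7, 3] p = path g [9, 1, 0, 7] p :=
  scan (u := [3]) (w := [3]) (i := 3) (r6_0_0 H) (step (f1775 H) rfl) (step (H.back (i := 8) (by decide) (f1740 H)) rfl)

theorem f1779 : g 2 • path g [9, 8, 0, 3] p = path g [8, 4, 7, 3] p :=
  scan (u := [3, 6, 5, 7, 6, 5, 7, 5, 8]) (w := []) (i := 2) (r7_0_5 H) (step (f1777 H) (step (f1024 H) (step (f1026 H) (step (f1022 H) (step (f199 H) (step (f195 H) (step (f126 H) (step (f412 H) (step (f1746 H) rfl))))))))) rfl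

theorem f1780 : g 7 • path g [8, 4, 7, 3] p = path g [9, 8, 0, 3] p :=
  H.back (i := 2) (by decide) (f1779 H)

theorem f1781 : g 7 • path g [9, 8, 0, 3] p = path g [8, 4, 7, 3] p :=
  scan (u := [3, 0, 2, 0, 1, 2, 0, 1, 8]) (w := []) (i := 7) (r7_1_6 H) (step (f1777 H) (step (f1027 H) (step (f1021 H) (step (f196 H) (step (f42 H) (step (f138 H) (step (f410 H) (step (f404 H) (step (f1746 H) rfl))))))))) rfl

theorem f1782 : g 2 • path g [8, 4, 7, 3] p = path g [9, 8, 0, 3] p :=
  H.back (i := 7) (by decide) (f1781 H)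

theorem f1783 : g 1 • path g [8, 4, 7] p = path g [8, 4, 7, 1] p :=
  rfl

theorem f1784 : g 6 • path g [8, 4, 7, 1] p = path g [8, 4, 7] p :=
  H.back (i := 1) (by decide) (f1783 H)

theorem f1785 : g 1 • path g [8, 4, 7, 1] p = path g [8, 4, 7, 6] p :=
  scan (u := [1]) (w := [1]) (i := 1) (r1_0_0 H) (step (f1783 H) rfl) (step (H.back (i := 6) (by decide) (f1765 H)) rfl)

theorem f1786 : g 6 • path g [8, 4, 7, 6] p = path g [8, 4, 7, 1] p :=
  H.back (i := 1) (by decide) (f1785 H)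

theorem f1787 : g 2 • path g [8, 4, 7, 1] p = path g [8, 4, 6] p :=
  scan (u := [1]) (w := [1, 2]) (i := 2) (r3_0_0 H) (step (f1783 H) rfl) (step (H.back (i := 6) (by decide) (f298 H)) (step (H.back (i := 7) (by decide) (f292 H)) rfl))

theorem f1788 : g 7 • path g [8, 4, 6] p = path g [8, 4, 7, 1] p :=
  H.back (i := 2) (by decide) (f1787 H)

theorem f1789 : g 0 • path g [8, 4, 7, 1] p = path g [9, 0, 9, 7] p :=
  scan (u := [1]) (w := [1, 0, 6, 6, 0]) (i := 0) (r4_0_0 H) (step (f1783 H) rfl) (step (H.back (i := 6) (by decide) (f771 H)) (step (H.back (i := 5) (by decide) (f859 H)) (step (H.back (i := 1) (by decide) (f868 H)) (step (H.back (i := 1) (by decide) (f866 H)) (step (H.back (i := 5) (by decide) (f1268 H)) rfl)))))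

theorem f1790 : g 5 • path g [9, 0, 9, 7] p = path g [8, 4, 7, 1] p :=
  H.back (i := 0) (by decide) (f1789 H)

theorem f1791 : g 5 • path g [8, 4, 7, 1] p = path g [9, 0, 9, 7] p :=
  scan (u := [1]) (w := [6, 5, 6, 5, 1]) (i := 5) (r4_1_2 H) (step (f1783 H) rfl) (step (H.back (i := 1) (by decide) (f768 H)) (step (H.back (i := 0) (by decide) (f1487 H)) (step (H.back (i := 1) (by decide) (f1206 H)) (step (H.back (i := 0) (by decide) (f1772 H)) (step (H.back (i := 6) (by decide) (f1765 H)) rfl)))))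

theorem f1793 : path g [8, 6, 4, 1] p = path g [4, 1, 3] p :=
  close (u := [1, 2, 0, 1]) (w := [8, 7, 3, 0, 2, 0]) (r7_1_0 H) (step (f1783 H) (step (f1787 H) (step (f303 H) (step (f1660 H) rfl)))) (step (H.back (i := 3) (by decide) (f466 H)) (step (H.back (i := 2) (by decide) (f397 H)) (step (H.back (i := 8) (by decide) (f1745 H)) (step (H.back (i := 5) (by decide) (f163 H)) (step (H.back (i := 7) (by decide) (f158 H)) (step (H.back (i := 5) (by decide) (f1268 H)) rfl))))))

theorem f1794 : g 6 • path g [4, 1, 3] p = path g [8, 6, 4] p :=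
  (congrArg (g 6 • ·) (f1793 H).symm).trans (f1661 H)

theorem f1796 : g 1 • path g [8, 6, 4] p = path g [4, 1, 3] p :=
  H.back (i := 6) (by decide) (f1794 H)

theorem f1797 : g 1 • path g [4, 1, 3] p = path g [8, 6, 4, 6] p :=
  (congrArg (g 1 • ·) (f1793 H).symm).trans (f1662 H)

theorem f1800 : path g [4, 0, 9] p = path g [8, 4, 6] p :=
  close (u := [5, 7, 9, 2, 0, 2, 4]) (w := [7]) (r13_0_4 H) (step (f1791 H) (step (f592 H) (step (f155 H) (step (f655 H) (step (f1490 H) (step (f870 H) (step (f1512 H) rfl))))))) (step (H.back (i := 2) (by decide) (f1787 H)) rfl)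

theorem f1801 : g 4 • path g [8, 4, 6] p = path g [4, 0] p :=
  (congrArg (g 4 • ·) (f1800 H).symm).trans (f423 H)

theorem f1804 : g 9 • path g [8, 4, 6] p = path g [9, 8, 6] p :=
  (congrArg (g 9 • ·) (f1800 H).symm).trans (f1501 H)

theorem f1806 : g 4 • path g [9, 8, 6] p = path g [8, 4, 6] p :=
  H.back (i := 9) (by decide) (f1804 H)

theorem f1807 : path g [4, 1, 9] p = path g [4, 1, 3] p :=
  close (u := [9, 0, 1, 4]) (w := [6, 5]) (r14_0_4 H) (step (f1804 H) (step (f372 H) (step (f1522 H) (step (f1069 H) rfl)))) (step (H.back (i := 1) (by decide) (f1796 H)) (step (H.back (i := 0) (by decide) (f303 H)) rfl))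

theorem f1808 : path g [4, 1, 3] p = path g [4, 1, 9] p :=
  (f1807 H).symm

theorem f1809 : g 8 • path g [4, 1, 9] p = path g [4, 1] p :=
  (congrArg (g 8 • ·) (f1808 H).symm).trans (f467 H)

theorem f1812 : g 3 • path g [4, 1, 9] p = path g [4, 1, 8] p :=
  (congrArg (g 3 • ·) (f1808 H).symm).trans (f468 H)

theorem f1814 : g 8 • path g [4, 1, 8] p = path g [4, 1, 9] p :=
  H.back (i := 3) (by decide) (f1812 H)

theorem f1815 : g 6 • path g [4, 1, 9] p = path g [8, 6, 4] p :=
  (congrArg (g 6 • ·) (f1808 H).symm).trans (f1794 H)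

theorem f1817 : g 1 • path g [8, 6, 4] p = path g [4, 1, 9] p :=
  H.back (i := 6) (by decide) (f1815 H)

theorem f1818 : g 1 • path g [4, 1, 9] p = path g [8, 6, 4, 6] p :=
  (congrArg (g 1 • ·) (f1808 H).symm).trans (f1797 H)

theorem f1820 : g 6 • path g [8, 6, 4, 6] p = path g [4, 1, 9] p :=
  H.back (i := 1) (by decide) (f1818 H)

theorem f1821 : g 7 • path g [8, 4, 7, 1] p = path g [8, 4, 6] p :=
  scan (u := [9, 2, 0, 2, 4, 7, 5]) (w := []) (i := 7) (r13_0_6 H) (step (f1804 H) (step (f872 H) (step (f1494 H) (step (f653 H) (step (f154 H) (step (f590 H) (step (f1790 H) rfl))))))) rfl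

theorem f1822 : g 2 • path g [8, 4, 6] p = path g [8, 4, 7, 1] p :=
  H.back (i := 7) (by decide) (f1821 H)

theorem f1829 : g 8 • path g [8, 4, 0] p = path g [8, 4, 0, 8] p :=
  rfl

theorem f1831 : g 2 • path g [8, 4, 0, 8] p = path g [4, 1, 9] p :=
  scan (u := [8]) (w := [3, 6, 5, 7, 6, 5, 7, 5]) (i := 2) (r7_0_3 H) (step (f1829 H) rfl) (step (H.back (i := 8) (by decide) (f1814 H)) (step (H.back (i := 1) (by decide) (f1522 H)) (step (H.back (i := 0) (by decide) (f372 H)) (step (H.back (i := 2) (by decide) (f870 H)) (step (H.back (i := 1) (by decide) (f866 H)) (step (H.back (i := 0) (by decide) (f1271 H)) (step (H.back (i := 2) (by decide) (f293 H)) (step (H.back (i := 0) (by decide) (f296 H)) rfl))))))))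

theorem f1833 : g 2 • path g [4, 1, 9] p = path g [8, 4, 0, 8] p :=
  scan (u := [2]) (w := []) (i := 2) (r2_0_0 H) (step (f1831 H) rfl) rfl

theorem f1834 : g 7 • path g [8, 4, 0, 8] p = path g [4, 1, 9] p :=
  H.back (i := 2) (by decide) (f1833 H)

theorem f1835 : g 0 • path g [4, 8, 7] p = path g [8, 4, 0, 8] p :=
  scan (u := [2, 4, 7, 5, 7, 9, 2]) (w := []) (i := 0) (r13_0_1 H) (step (f1831 H) (step (f451 H) (step (f396 H) (step (f417 H) (step (f124 H) (step (f761 H) (step (f437 H) rfl))))))) rfl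

theorem f1836 : g 5 • path g [8, 4, 0, 8] p = path g [4, 8, 7] p :=
  H.back (i := 0) (by decide) (f1835 H)

theorem f1837 : g 0 • path g [4, 1, 9] p = path g [8, 4, 7, 3] p :=
  scan (u := [2]) (w := [8, 6, 5, 7, 6, 5, 7, 5, 3, 0]) (i := 0) (r9_1_5 H) (step (f1831 H) rfl) (step (H.back (i := 3) (by decide) (f1775 H)) (step (H.back (i := 1) (by decide) (f1766 H)) (step (H.back (i := 0) (by decide) (f1770 H)) (step (H.back (i := 2) (by decide) (f1210 H)) (step (H.back (i := 1) (by decide) (f224 H)) (step (H.back (i := 0) (by decide) (f220 H)) (step (H.back (i := 2) (by decide) (f1241 H)) (step (H.back (i := 0) (by decide) (f508 H)) (step (H.back (i := 8) (by decide) (f1546 H)) (step (H.back (i := 5) (by decide) (f1836 H)) rfl))))))))))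

theorem f1839 : g 0 • path g [8, 4, 7, 3] p = path g [4, 1, 9] p :=
  scan (u := [0]) (w := []) (i := 0) (r0_0_0 H) (step (f1837 H) rfl) rfl

theorem f1840 : g 5 • path g [4, 1, 9] p = path g [8, 4, 7, 3] p :=
  H.back (i := 0) (by decide) (f1839 H)

theorem f1841 : g 0 • path g [8, 4, 0, 8] p = path g [4, 8, 7] p :=
  scan (u := [0, 2]) (w := [8, 6, 5, 7, 6, 5, 7, 5, 3]) (i := 0) (r9_1_4 H) (step (f1839 H) (step (f1833 H) rfl)) (step (H.back (i := 3) (by decide) (f1544 H)) (step (H.back (i := 1) (by decide) (f1738 H)) (step (H.back (i := 0) (by decide) (f1736 H)) (step (H.back (i := 2) (by decide) (f1734 H)) (step (H.back (i := 1) (by decide) (f1324 H)) (step (H.back (i := 0) (by decide) (f160 H)) (step (H.back (i := 2) (by decide) (f157 H)) (step (H.back (i := 0) (by decide) (f1271 H)) (step (H.back (i := 8) (by decide) (f1776 H)) rfl)))))))))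

theorem f1842 : g 5 • path g [4, 8, 7] p = path g [8, 4, 0, 8] p :=
  H.back (i := 0) (by decide) (f1841 H)

theorem f1843 : g 0 • path g [4, 0, 3] p = path g [9, 8, 0, 3] p :=
  scan (u := [0, 8, 6, 5, 7, 6, 5, 7, 5, 3]) (w := [2]) (i := 0) (r9_1_6 H) (step (f1839 H) (step (f1809 H) (step (f115 H) (step (f105 H) (step (f407 H) (step (f403 H) (step (f100 H) (step (f98 H) (step (f105 H) (step (f426 H) rfl)))))))))) (step (H.back (i := 7) (by decide) (f1780 H)) rfl)

theorem f1844 : g 5 • path g [9, 8, 0, 3] p = path g [4, 0, 3] p :=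
  H.back (i := 0) (by decide) (f1843 H)

theorem f1845 : g 0 • path g [9, 8, 0, 3] p = path g [4, 0, 3] p :=
  scan (u := [0]) (w := []) (i := 0) (r0_0_0 H) (step (f1843 H) rfl) rfl

theorem f1846 : g 5 • path g [4, 0, 3] p = path g [9, 8, 0, 3] p :=
  H.back (i := 0) (by decide) (f1845 H)

theorem f1847 : g 2 • path g [4, 7, 3] p = path g [4, 0, 3] p :=
  scan (u := [0, 2, 3, 5, 7, 5, 7, 6, 5, 7, 6, 8, 0]) (w := []) (i := 2) (r8_0_11 H) (step (f1843 H) (step (f1779 H) (step (f1777 H) (step (f1026 H) (step (f1022 H) (step (f195 H) (step (f126 H) (step (f135 H) (step (f415 H) (step (f409 H) (step (f117 H) (step (f460 H) (step (f1174 H) rfl))))))))))))) rfl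

theorem f1848 : g 7 • path g [4, 0, 3] p = path g [4, 7, 3] p :=
  H.back (i := 2) (by decide) (f1847 H)

theorem f1849 : g 7 • path g [4, 7, 3] p = path g [4, 0, 3] p :=
  scan (u := [0, 2, 0, 9, 5]) (w := [5, 7, 5, 7, 5, 7, 9, 2, 0, 2, 0, 2]) (i := 7) (r11_1_10 H) (step (f1843 H) (step (f1779 H) (step (f1839 H) (step (f1071 H) (step (f1178 H) rfl))))) (step (H.back (i := 0) (by decide) (f1845 H)) (step (H.back (i := 2) (by decide) (f1782 H)) (step (H.back (i := 0) (by decide) (f1837 H)) (step (H.back (i := 2) (by decide) (f1831 H)) (step (H.back (i := 0) (by decide) (f1835 H)) (step (H.back (i := 2) (by decide) (f437 H)) (step (H.back (i := 4) (by decide) (f113 H)) (step (H.back (i := 7) (by decide) (f172 H)) (step (H.back (i := 5) (by decide) (f1055 H)) (step (H.back (i := 7) (by decide) (f462 H)) (step (H.back (i := 5) (by decide) (f1173 H)) (step (H.back (i := 7) (by decide) (f1848 H)) rfl))))))))))))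

theorem f1850 : g 2 • path g [4, 0, 3] p = path g [4, 7, 3] p :=
  H.back (i := 7) (by decide) (f1849 H)

theorem f1851 : path g [4, 8, 0] p = path g [9, 7, 6, 3] p :=
  close (u := [0, 2, 0]) (w := [8, 7, 5, 7, 5, 3, 1, 2, 0, 1, 2]) (r8_1_11 H) (step (f1841 H) (step (f435 H) (step (f440 H) rfl))) (step (H.back (i := 3) (by decide) (f528 H)) (step (H.back (i := 2) (by decide) (f125 H)) (step (H.back (i := 0) (by decide) (f196 H)) (step (H.back (i := 2) (by decide) (f1021 H)) (step (H.back (i := 0) (by decide) (f1027 H)) (step (H.back (i := 8) (by decide) (f1740 H)) (step (H.back (i := 6) (by decide) (f1784 H)) (step (H.back (i := 7) (by decide) (f1788 H)) (step (H.back (i := 5) (by decide) (f302 H)) (step (H.back (i := 6) (by decide) (f1815 H)) (step (H.back (i := 7) (by decide) (f1834 H)) rfl)))))))))))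

theorem f1852 : path g [9, 7, 6, 3] p = path g [4, 8, 0] p :=
  (f1851 H).symm

theorem f1856 : g 3 • path g [4, 8, 0] p = path g [9, 7, 6, 8] p :=
  (congrArg (g 3 • ·) (f1852 H).symm).trans (f530 H)

theorem f1859 : path g [9, 7, 6, 8] p = path g [9, 0, 3, 0] p :=
  close (u := [3]) (w := [0, 2, 0, 1, 2, 0, 1, 8, 7]) (r7_1_6 H) (step (f1856 H) rfl) (step (H.back (i := 5) (by decide) (f645 H)) (step (H.back (i := 7) (by decide) (f845 H)) (step (H.back (i := 5) (by decide) (f1527 H)) (step (H.back (i := 6) (by decide) (f319 H)) (step (H.back (i := 7) (by decide) (f795 H)) (step (H.back (i := 5) (by decide) (f859 H)) (step (H.back (i := 6) (by decide) (f850 H)) (step (H.back (i := 3) (by decide) (f847 H)) (step (H.back (i := 2) (by decide) (f1030 H)) rfl)))))))))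

theorem f1860 : path g [9, 0, 3, 0] p = path g [9, 7, 6, 8] p :=
  (f1859 H).symm

theorem f1861 : g 5 • path g [9, 7, 6, 8] p = path g [9, 0, 3] p :=
  (congrArg (g 5 • ·) (f1860 H).symm).trans (f643 H)

theorem f1863 : g 0 • path g [9, 0, 3] p = path g [9, 7, 6, 8] p :=
  H.back (i := 5) (by decide) (f1861 H)

theorem f1864 : g 0 • path g [9, 7, 6, 8] p = path g [9, 0, 3] p :=
  (congrArg (g 0 • ·) (f1860 H).symm).trans (f644 H)

theorem f1866 : g 5 • path g [9, 0, 3] p = path g [9, 7, 6, 8] p :=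
  H.back (i := 0) (by decide) (f1864 H)

theorem f1867 : g 7 • path g [9, 7, 6, 8] p = path g [8, 4, 0] p :=
  (congrArg (g 7 • ·) (f1860 H).symm).trans (f862 H)

theorem f1870 : g 2 • path g [9, 7, 6, 8] p = path g [8, 4, 0] p :=
  (congrArg (g 2 • ·) (f1860 H).symm).trans (f863 H)

theorem f1872 : g 7 • path g [8, 4, 0] p = path g [9, 7, 6, 8] p :=
  H.back (i := 2) (by decide) (f1870 H)

theorem f1873 : g 6 • path g [8, 6, 4, 7] p = path g [8, 4, 0, 8] p :=
  scan (u := [3, 0, 2, 0, 8, 6, 5, 7]) (w := [5, 7, 5]) (i := 6) (r9_1_3 H) (step (f1856 H) (step (f1864 H) (step (f838 H) (step (f1428 H) (step (f76 H) (step (f298 H) (step (f300 H) (step (f1644 H) rfl)))))))) (step (H.back (i := 0) (by decide) (f1835 H)) (step (H.back (i := 2) (by decide) (f437 H)) (step (H.back (i := 0) (by decide) (f442 H)) rfl)))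

theorem f1874 : g 1 • path g [8, 4, 0, 8] p = path g [8, 6, 4, 7] p :=
  H.back (i := 6) (by decide) (f1873 H)

theorem f1887 : g 8 • path g [8, 4, 6] p = path g [8, 4, 6, 8] p :=
  rfl

theorem f1889 : g 9 • path g [8, 4, 6, 8] p = path g [4, 0, 3] p :=
  scan (u := [8]) (w := [8, 9]) (i := 9) (r15_1_0 H) (step (f1887 H) rfl) (step (H.back (i := 3) (by decide) (f426 H)) (step (H.back (i := 4) (by decide) (f1801 H)) rfl))

theorem f1890 : g 4 • path g [4, 0, 3] p = path g [8, 4, 6, 8] p :=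
  H.back (i := 9) (by decide) (f1889 H)

theorem f1891 : g 3 • path g [8, 4, 6] p = path g [8, 4, 6, 3] p :=
  rfl

theorem f1895 : g 4 • path g [8, 4, 6, 3] p = path g [9, 8, 6, 8] p :=
  scan (u := [3]) (w := [3, 4]) (i := 4) (r15_0_1 H) (step (f1891 H) rfl) (step (H.back (i := 8) (by decide) (f900 H)) (step (H.back (i := 9) (by decide) (f1804 H)) rfl))

theorem f1896 : g 9 • path g [9, 8, 6, 8] p = path g [8, 4, 6, 3] p :=
  H.back (i := 4) (by decide) (f1895 H)

theorem f1899 : g 0 • path g [8, 4, 1] p = path g [8, 4, 1, 0] p :=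
  rfl

theorem f1900 : g 5 • path g [8, 4, 1, 0] p = path g [8, 4, 1] p :=
  H.back (i := 0) (by decide) (f1899 H)

theorem f1901 : g 0 • path g [8, 4, 1, 0] p = path g [8, 4, 1] p :=
  scan (u := [0]) (w := []) (i := 0) (r0_0_0 H) (step (f1899 H) rfl) rfl

theorem f1902 : g 5 • path g [8, 4, 1] p = path g [8, 4, 1, 0] p :=
  H.back (i := 0) (by decide) (f1901 H)

theorem f1903 : g 6 • path g [8, 4, 1, 0] p = path g [8, 4, 7, 3] p :=
  scan (u := [0]) (w := [2, 0, 2, 1, 0, 2, 1, 0, 6, 2]) (i := 6) (r5_0_2 H) (step (f1899 H) rfl) (step (H.back (i := 7) (by decide) (f1781 H)) (step (H.back (i := 5) (by decide) (f1846 H)) (step (H.back (i := 7) (by decide) (f1849 H)) (step (H.back (i := 6) (by decide) (f1519 H)) (step (H.back (i := 5) (by decide) (f915 H)) (step (H.back (i := 7) (by decide) (f852 H)) (step (H.back (i := 6) (by decide) (f850 H)) (step (H.back (i := 5) (by decide) (f1268 H)) (step (H.back (i := 1) (by decide) (f1766 H)) (step (H.back (i := 7)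 (by decide) (f1773 H)) rfl))))))))))

theorem f1904 : g 1 • path g [8, 4, 7, 3] p = path g [8, 4, 1, 0] p :=
  H.back (i := 6) (by decide) (f1903 H)

theorem f1905 : g 4 • path g [8, 4, 1, 0] p = path g [4, 1, 0] p :=
  scan (u := [0]) (w := [5, 7, 6, 5, 7, 6, 5, 9, 0, 1, 2, 0, 1, 2]) (i := 4) (r12_0_14 H) (step (f1899 H) rfl) (step (H.back (i := 0) (by decide) (f452 H)) (step (H.back (i := 2) (by decide) (f397 H)) (step (H.back (i := 1) (by decide) (f404 H)) (step (H.back (i := 0) (by decide) (f410 H)) (step (H.back (i := 2) (by decide) (f138 H)) (step (H.back (i := 1) (by decide) (f42 H)) (step (H.back (i := 0) (by decide) (f196 H)) (step (H.back (i := 4) (by decide) (f1079 H)) (step (H.back (i := 5) (by decide) (f1083 H)) (step (H.back (i := 6) (by decide) (f806 H)) (step (H.back (i := 7) (by decide) (f592 H)) (step (H.back (i := 5) (by decide) (f1791 H)) (step (H.back (i := 6) (by decide) (f1786 H)) (step (H.back (i := 7) (by decide) (f1773 H)) rfl))))))))))))))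

theorem f1906 : g 9 • path g [4, 1, 0] p = path g [8, 4, 1, 0] p :=
  H.back (i := 4) (by decide) (f1905 H)

theorem f1909 : g 8 • path g [8, 4, 1] p = path g [8, 4, 1, 8] p :=
  rfl

theorem f1911 : g 3 • path g [8, 4, 1] p = path g [8, 4, 1, 3] p :=
  rfl

theorem f1913 : g 3 • path g [8, 4, 1, 3] p = path g [8, 4, 1, 8] p :=
  scan (u := [3]) (w := [3]) (i := 3) (r6_0_0 H) (step (f1911 H) rfl) (step (H.back (i := 8) (by decide) (f1909 H)) rfl)

theorem f1931 : g 7 • path g [3, 6, 9] p = path g [3, 6, 9, 7] p :=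
  rfl

theorem f1933 : g 7 • path g [3, 6, 9, 7] p = path g [3, 6, 9] p :=
  scan (u := [7]) (w := []) (i := 7) (r2_1_0 H) (step (f1931 H) rfl) rfl

theorem f1934 : g 2 • path g [3, 6, 9] p = path g [3, 6, 9, 7] p :=
  H.back (i := 7) (by decide) (f1933 H)

theorem f1935 : g 6 • path g [3, 6, 9, 7] p = path g [4, 8, 7] p :=
  scan (u := [7]) (w := [7, 6]) (i := 6) (r3_1_0 H) (step (f1931 H) rfl) (step (H.back (i := 2) (by decide) (f437 H)) (step (H.back (i := 1) (by decide) (f812 H)) rfl))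

theorem f1936 : g 1 • path g [4, 8, 7] p = path g [3, 6, 9, 7] p :=
  H.back (i := 6) (by decide) (f1935 H)

theorem f1937 : g 5 • path g [3, 6, 9, 7] p = path g [9, 3, 7, 1] p :=
  scan (u := [7]) (w := [7, 4, 2, 0, 2, 9]) (i := 5) (r13_1_6 H) (step (f1931 H) rfl) (step (H.back (i := 2) (by decide) (f954 H)) (step (H.back (i := 9) (by decide) (f1150 H)) (step (H.back (i := 7) (by decide) (f67 H)) (step (H.back (i := 5) (by decide) (f1343 H)) (step (H.back (i := 7) (by decide) (f91 H)) (step (H.back (i := 4) (by decide) (f353 H)) rfl))))))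

theorem f1938 : g 0 • path g [9, 3, 7, 1] p = path g [3, 6, 9, 7] p :=
  H.back (i := 5) (by decide) (f1937 H)

theorem f1939 : g 0 • path g [3, 6, 9, 7] p = path g [9, 3, 7, 1] p :=
  scan (u := [7, 5, 7, 5, 7, 5, 7, 4, 2, 0, 2, 0, 2]) (w := [2, 0, 4, 5]) (i := 0) (r11_0_6 H) (step (f1931 H) (step (f1937 H) (step (f955 H) (step (f750 H) (step (f652 H) (step (f1493 H) (step (f873 H) (step (f1806 H) (step (f1822 H) (step (f1789 H) (step (f591 H) (step (f824 H) (step (f1934 H) rfl))))))))))))) (step (H.back (i := 7) (by decide) (f953 H)) (step (H.back (i := 5) (by decide) (f755 H)) (step (H.back (i := 9) (by decide) (f155 H)) (step (H.back (i := 0) (by decide) (f822 H)) rfl))))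

theorem f1940 : g 5 • path g [9, 3, 7, 1] p = path g [3, 6, 9, 7] p :=
  H.back (i := 0) (by decide) (f1939 H)

theorem f1941 : g 8 • path g [3, 6, 9] p = path g [3, 6, 9, 8] p :=
  rfl

theorem f1943 : g 9 • path g [3, 6, 9, 8] p = path g [3, 6, 3] p :=
  scan (u := [8]) (w := [8, 9]) (i := 9) (r15_1_0 H) (step (f1941 H) rfl) (step (H.back (i := 3) (by decide) (f362 H)) (step (H.back (i := 4) (by decide) (f353 H)) rfl))

theorem f1957 : g 6 • path g [3, 6, 8] p = path g [3, 6, 8, 6] p :=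
  rfl

theorem f1958 : g 1 • path g [3, 6, 8, 6] p = path g [3, 6, 8] p :=
  H.back (i := 6) (by decide) (f1957 H)

theorem f1959 : g 5 • path g [3, 6, 8, 6] p = path g [8, 6, 8, 6] p :=
  scan (u := [6]) (w := [7, 6, 5, 7, 5, 3, 0, 2, 0, 8]) (i := 5) (r9_1_8 H) (step (f1957 H) rfl) (step (H.back (i := 2) (by decide) (f1605 H)) (step (H.back (i := 1) (by decide) (f1601 H)) (step (H.back (i := 0) (by decide) (f1597 H)) (step (H.back (i := 2) (by decide) (f1691 H)) (step (H.back (i := 0) (by decide) (f1687 H)) (step (H.back (i := 8) (by decide) (f278 H)) (step (H.back (i := 5) (by decide) (f1343 H)) (step (H.back (i := 7) (by decide) (f91 H)) (step (H.back (i := 5) (by decide) (f93 H)) (step (H.back (i := 3) (by decide) (f359 H)) rfl))))))))))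

theorem f1961 : path g [3, 6, 3] p = path g [8, 1, 3, 7] p :=
  close (u := [1, 8]) (w := [7, 3, 0, 2, 0, 1, 2, 0]) (r7_1_3 H) (step (f1958 H) (step (f365 H) rfl)) (step (H.back (i := 2) (by decide) (f1712 H)) (step (H.back (i := 8) (by decide) (f285 H)) (step (H.back (i := 5) (by decide) (f1688 H)) (step (H.back (i := 7) (by decide) (f1692 H)) (step (H.back (i := 5) (by decide) (f1598 H)) (step (H.back (i := 6) (by decide) (f1602 H)) (step (H.back (i := 7) (by decide) (f1606 H)) (step (H.back (i := 5) (by decide) (f1959 H)) rfl))))))))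

theorem f1962 : path g [8, 1, 3, 7] p = path g [3, 6, 3] p :=
  (f1961 H).symm

theorem f1963 : g 2 • path g [3, 6, 3] p = path g [8, 1, 3] p :=
  (congrArg (g 2 • ·) (f1962 H).symm).trans (f1710 H)

theorem f1965 : g 7 • path g [8, 1, 3] p = path g [3, 6, 3] p :=
  H.back (i := 2) (by decide) (f1963 H)

theorem f1966 : g 7 • path g [3, 6, 3] p = path g [8, 1, 3] p :=
  (congrArg (g 7 • ·) (f1962 H).symm).trans (f1711 H)

theorem f1983 : g 9 • path g [3, 6, 3] p = path g [3, 6, 3, 9] p :=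
  rfl

theorem f1984 : g 4 • path g [3, 6, 3, 9] p = path g [3, 6, 3] p :=
  H.back (i := 9) (by decide) (f1983 H)

theorem f1989 : g 0 • path g [3, 6, 3] p = path g [3, 6, 3, 0] p :=
  rfl

theorem f1990 : g 5 • path g [3, 6, 3, 0] p = path g [3, 6, 3] p :=
  H.back (i := 0) (by decide) (f1989 H)

theorem f1991 : g 0 • path g [3, 6, 3, 0] p = path g [3, 6, 3] p :=
  scan (u := [0]) (w := []) (i := 0) (r0_0_0 H) (step (f1989 H) rfl) rfl

theorem f1992 : g 5 • path g [3, 6, 3] p = path g [3, 6, 3, 0] p :=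
  H.back (i := 0) (by decide) (f1991 H)

theorem f1993 : g 2 • path g [3, 6, 3, 0] p = path g [3, 6, 3, 0] p :=
  scan (u := [0]) (w := [0, 8, 6, 5, 7, 6, 5, 7, 5, 3]) (i := 2) (r9_1_4 H) (step (f1989 H) rfl) (step (H.back (i := 5) (by decide) (f1992 H)) (step (H.back (i := 3) (by decide) (f362 H)) (step (H.back (i := 1) (by decide) (f88 H)) (step (H.back (i := 0) (by decide) (f1538 H)) (step (H.back (i := 2) (by decide) (f66 H)) (step (H.back (i := 1) (by decide) (f58 H)) (step (H.back (i := 0) (by decide) (f1338 H)) (step (H.back (i := 2) (by decide) (f94 H)) (step (H.back (i := 0) (by decide) (f92 H)) (step (H.back (i := 8) (by decide) (f363 H)) rfl))))))))))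

theorem f1994 : g 7 • path g [3, 6, 3, 0] p = path g [3, 6, 3, 0] p :=
  H.back (i := 2) (by decide) (f1993 H)

theorem f1995 : g 6 • path g [3, 6, 3] p = path g [3, 6, 3, 6] p :=
  rfl

theorem f1997 : g 7 • path g [3, 6, 3, 6] p = path g [8, 1, 3, 1] p :=
  scan (u := [6]) (w := [6, 7]) (i := 7) (r3_1_1 H) (step (f1995 H) rfl) (step (H.back (i := 1) (by decide) (f1727 H)) (step (H.back (i := 2) (by decide) (f1963 H)) rfl))

theorem f1999 : g 7 • path g [8, 1, 3, 1] p = path g [3, 6, 3, 6] p :=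
  scan (u := [7]) (w := []) (i := 7) (r2_1_0 H) (step (f1997 H) rfl) rfl

theorem f2001 : g 5 • path g [8, 6, 3, 6] p = path g [3, 6, 3, 6] p :=
  scan (u := [7, 6, 5, 7, 5, 8, 2, 3, 6]) (w := []) (i := 5) (r7_0_8 H) (step (f1997 H) (step (f1728 H) (step (f1722 H) (step (f1724 H) (step (f1720 H) (step (f283 H) (step (f60 H) (step (f268 H) (step (f1627 H) rfl))))))))) rfl

theorem f2005 : g 1 • path g [3, 6, 3] p = path g [3, 6, 3, 1] p :=
  rfl

theorem f2007 : g 1 • path g [3, 6, 3, 1] p = path g [3, 6, 3, 6] p :=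
  scan (u := [1]) (w := [1]) (i := 1) (r1_0_0 H) (step (f2005 H) rfl) (step (H.back (i := 6) (by decide) (f1995 H)) rfl)

theorem f2008 : g 6 • path g [3, 6, 3, 6] p = path g [3, 6, 3, 1] p :=
  H.back (i := 1) (by decide) (f2007 H)

theorem f2013 : g 7 • path g [3, 6, 4] p = path g [3, 6, 4, 7] p :=
  rfl

theorem f2015 : g 7 • path g [3, 6, 4, 7] p = path g [3, 6, 4] p :=
  scan (u := [7]) (w := []) (i := 7) (r2_1_0 H) (step (f2013 H) rfl) rfl

theorem f2016 : g 2 • path g [3, 6, 4] p = path g [3, 6, 4, 7] p :=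
  H.back (i := 7) (by decide) (f2015 H)

theorem f2017 : g 6 • path g [3, 6, 4, 7] p = path g [4, 0, 8] p :=
  scan (u := [7]) (w := [7, 6]) (i := 6) (r3_1_0 H) (step (f2013 H) rfl) (step (H.back (i := 2) (by decide) (f465 H)) (step (H.back (i := 1) (by decide) (f1522 H)) rfl))

theorem f2018 : g 1 • path g [4, 0, 8] p = path g [3, 6, 4, 7] p :=
  H.back (i := 6) (by decide) (f2017 H)

theorem f2019 : g 5 • path g [3, 6, 4, 7] p = path g [8, 6, 4, 7] p :=
  scan (u := [7]) (w := [7, 9, 2, 0, 2, 4]) (i := 5) (r13_0_3 H) (step (f2013 H) rfl) (step (H.back (i := 2) (by decide) (f1647 H)) (step (H.back (i := 4) (by decide) (f272 H)) (step (H.back (i := 7) (by decide) (f67 H)) (step (H.back (i := 5) (by decide) (f1343 H)) (step (H.back (i := 7) (by decide) (f91 H)) (step (H.back (i := 9) (by decide) (f367 H)) rfl))))))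

theorem f2020 : g 0 • path g [8, 6, 4, 7] p = path g [3, 6, 4, 7] p :=
  H.back (i := 5) (by decide) (f2019 H)

theorem f2021 : g 0 • path g [3, 6, 4, 7] p = path g [8, 6, 4, 7] p :=
  scan (u := [7, 5, 7, 5, 7, 5, 7, 9, 2, 0, 2, 0, 2]) (w := [2, 0, 9, 5]) (i := 0) (r11_1_15 H) (step (f2013 H) (step (f2019 H) (step (f1646 H) (step (f302 H) (step (f1788 H) (step (f1791 H) (step (f592 H) (step (f155 H) (step (f655 H) (step (f1490 H) (step (f870 H) (step (f372 H) (step (f2016 H) rfl))))))))))))) (step (H.back (i := 7) (by decide) (f1644 H)) (step (H.back (i := 5) (by decide) (f300 H)) (step (H.back (i := 4) (by decide) (f1806 H)) (step (H.back (i := 0) (by decide) (f370 H)) rfl))))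

theorem f2022 : g 5 • path g [8, 6, 4, 7] p = path g [3, 6, 4, 7] p :=
  H.back (i := 0) (by decide) (f2021 H)

theorem f2029 : g 8 • path g [3, 1, 9] p = path g [3, 1, 9, 8] p :=
  rfl

theorem f2031 : g 9 • path g [3, 1, 9, 8] p = path g [3, 1, 3] p :=
  scan (u := [8]) (w := [8, 9]) (i := 9) (r15_1_0 H) (step (f2029 H) rfl) (step (H.back (i := 3) (by decide) (f380 H)) (step (H.back (i := 4) (by decide) (f375 H)) rfl))

theorem f2032 : g 4 • path g [3, 1, 3] p = path g [3, 1, 9, 8] p :=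
  H.back (i := 9) (by decide) (f2031 H)

theorem f2071 : g 4 • path g [3, 1, 8] p = path g [3, 1, 8, 4] p :=
  rfl

theorem f2072 : g 9 • path g [3, 1, 8, 4] p = path g [3, 1, 8] p :=
  H.back (i := 4) (by decide) (f2071 H)

theorem f2075 : g 9 • path g [3, 1, 3] p = path g [3, 1, 3, 9] p :=
  rfl

theorem f2077 : g 9 • path g [3, 1, 3, 9] p = path g [3, 1, 9, 8] p :=
  scan (u := [9]) (w := [9]) (i := 9) (r10_1_0 H) (step (f2075 H) rfl) (step (H.back (i := 4) (by decide) (f2032 H)) rfl)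

theorem f2078 : g 4 • path g [3, 1, 9, 8] p = path g [3, 1, 3, 9] p :=
  H.back (i := 9) (by decide) (f2077 H)

theorem f2079 : g 8 • path g [3, 1, 3, 9] p = path g [3, 1, 8, 4] p :=
  scan (u := [9]) (w := [9, 8]) (i := 8) (r15_1_1 H) (step (f2075 H) rfl) (step (H.back (i := 4) (by decide) (f2071 H)) (step (H.back (i := 3) (by decide) (f382 H)) rfl))

theorem f2105 : g 7 • path g [3, 1, 4] p = path g [3, 1, 4, 7] p :=
  rfl

theorem f2106 : g 2 • path g [3, 1, 4, 7] p = path g [3, 1, 4] p :=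
  H.back (i := 7) (by decide) (f2105 H)

theorem f2107 : g 7 • path g [3, 1, 4, 7] p = path g [3, 1, 4] p :=
  scan (u := [7]) (w := []) (i := 7) (r2_1_0 H) (step (f2105 H) rfl) rfl

theorem f2108 : g 2 • path g [3, 1, 4] p = path g [3, 1, 4, 7] p :=
  H.back (i := 7) (by decide) (f2107 H)

theorem f2109 : g 5 • path g [3, 1, 4, 7] p = path g [3, 1, 4, 7] p :=
  scan (u := [7]) (w := [7, 9, 2, 0, 2, 4]) (i := 5) (r13_0_3 H) (step (f2105 H) rfl) (step (H.back (i := 2) (by decide) (f2108 H)) (step (H.back (i := 4) (by decide) (f384 H)) (step (H.back (i := 7) (by decide) (f91 H)) (step (H.back (i := 5) (by decide) (f93 H)) (step (H.back (i := 7) (by decide) (f95 H)) (step (H.back (i := 9) (by decide) (f385 H)) rfl))))))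

theorem f2110 : g 0 • path g [3, 1, 4, 7] p = path g [3, 1, 4, 7] p :=
  H.back (i := 5) (by decide) (f2109 H)

theorem f2111 : g 1 • path g [3, 1, 4, 7] p = path g [9, 7, 6, 8] p :=
  scan (u := [7]) (w := [5, 6, 7, 5, 6, 7, 5, 7, 1, 5]) (i := 1) (r5_1_10 H) (step (f2105 H) rfl) (step (H.back (i := 0) (by decide) (f1863 H)) (step (H.back (i := 1) (by decide) (f647 H)) (step (H.back (i := 2) (by decide) (f1116 H)) (step (H.back (i := 0) (by decide) (f1672 H)) (step (H.back (i := 1) (by decide) (f446 H)) (step (H.back (i := 2) (by decide) (f435 H)) (step (H.back (i := 0) (by decide) (f1841 H)) (step (H.back (i := 2) (by decide) (f1833 H)) (step (H.back (i := 6) (by decide) (f1820 H)) (step (H.back (i := 0) (by decide) (f1657 H)) rfl))))))))))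

theorem f2112 : g 6 • path g [9, 7, 6, 8] p = path g [3, 1, 4, 7] p :=
  H.back (i := 1) (by decide) (f2111 H)

theorem f2149 : g 6 • path g [4, 7, 8] p = path g [4, 7, 8, 6] p :=
  rfl

theorem f2151 : g 7 • path g [4, 7, 8, 6] p = path g [9, 3, 0, 1] p :=
  scan (u := [6]) (w := [6, 7]) (i := 7) (r3_1_1 H) (step (f2149 H) rfl) (step (H.back (i := 1) (by decide) (f978 H)) (step (H.back (i := 2) (by decide) (f1034 H)) rfl))

theorem f2152 : g 2 • path g [9, 3, 0, 1] p = path g [4, 7, 8, 6] p :=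
  H.back (i := 7) (by decide) (f2151 H)

theorem f2153 : g 5 • path g [4, 7, 8, 6] p = path g [4, 7, 8, 6] p :=
  scan (u := [6]) (w := [7, 6, 5, 7, 5, 8, 2, 3]) (i := 5) (r7_0_6 H) (step (f2149 H) rfl) (step (H.back (i := 2) (by decide) (f2152 H)) (step (H.back (i := 1) (by decide) (f978 H)) (step (H.back (i := 0) (by decide) (f182 H)) (step (H.back (i := 2) (by decide) (f171 H)) (step (H.back (i := 0) (by decide) (f1058 H)) (step (H.back (i := 3) (by decide) (f428 H)) (step (H.back (i := 7) (by decide) (f1849 H)) (step (H.back (i := 8) (by decide) (f401 H)) rfl))))))))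

theorem f2155 : g 2 • path g [4, 7, 8, 6] p = path g [9, 3, 0, 1] p :=
  scan (u := [6]) (w := [0, 2, 1, 0, 2, 1, 0, 6, 2, 0]) (i := 2) (r5_0_3 H) (step (f2149 H) rfl) (step (H.back (i := 5) (by decide) (f1160 H)) (step (H.back (i := 7) (by decide) (f1209 H)) (step (H.back (i := 6) (by decide) (f1205 H)) (step (H.back (i := 5) (by decide) (f1413 H)) (step (H.back (i := 7) (by decide) (f700 H)) (step (H.back (i := 6) (by decide) (f319 H)) (step (H.back (i := 5) (by decide) (f1087 H)) (step (H.back (i := 1) (by decide) (f1085 H)) (step (H.back (i := 7) (by decide) (f1031 H)) (step (H.back (i := 5) (by decide) (f1040 H)) rfl))))))))))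

theorem f2157 : g 1 • path g [4, 7, 8] p = path g [4, 7, 8, 1] p :=
  rfl

theorem f2159 : g 1 • path g [4, 7, 8, 1] p = path g [4, 7, 8, 6] p :=
  scan (u := [1]) (w := [1]) (i := 1) (r1_0_0 H) (step (f2157 H) rfl) (step (H.back (i := 6) (by decide) (f2149 H)) rfl)

theorem f2160 : g 6 • path g [4, 7, 8, 6] p = path g [4, 7, 8, 1] p :=
  H.back (i := 1) (by decide) (f2159 H)

theorem f2165 : g 4 • path g [4, 7, 8] p = path g [4, 7, 8, 4] p :=
  rfl

theorem f2166 : g 9 • path g [4, 7, 8, 4] p = path g [4, 7, 8] p :=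
  H.back (i := 4) (by decide) (f2165 H)

theorem f2185 : g 9 • path g [4, 7, 3] p = path g [4, 7, 3, 9] p :=
  rfl

theorem f2189 : g 8 • path g [4, 7, 3, 9] p = path g [4, 7, 8, 4] p :=
  scan (u := [9]) (w := [9, 8]) (i := 8) (r15_1_1 H) (step (f2185 H) rfl) (step (H.back (i := 4) (by decide) (f2165 H)) (step (H.back (i := 3) (by decide) (f400 H)) rfl))

theorem f2191 : g 6 • path g [4, 7, 3] p = path g [4, 7, 3, 6] p :=
  rfl

theorem f2193 : g 6 • path g [4, 7, 3, 6] p = path g [9, 8, 1, 0] p :=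
  scan (u := [6]) (w := [6]) (i := 6) (r1_1_0 H) (step (f2191 H) rfl) (step (H.back (i := 1) (by decide) (f1520 H)) rfl)

theorem f2194 : g 1 • path g [9, 8, 1, 0] p = path g [4, 7, 3, 6] p :=
  H.back (i := 6) (by decide) (f2193 H)

theorem f2195 : g 0 • path g [4, 7, 3, 6] p = path g [9, 8, 0, 6] p :=
  scan (u := [6]) (w := [1, 0, 1, 0, 6]) (i := 0) (r4_0_5 H) (step (f2191 H) rfl) (step (H.back (i := 6) (by decide) (f882 H)) (step (H.back (i := 5) (by decide) (f163 H)) (step (H.back (i := 6) (by decide) (f167 H)) (step (H.back (i := 5) (by decide) (f913 H)) (step (H.back (i := 1) (by decide) (f1520 H)) rfl)))))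

theorem f2196 : g 5 • path g [9, 8, 0, 6] p = path g [4, 7, 3, 6] p :=
  H.back (i := 0) (by decide) (f2195 H)

theorem f2227 : g 6 • path g [4, 7, 4] p = path g [4, 7, 4, 6] p :=
  rfl

theorem f2229 : g 5 • path g [4, 7, 4, 6] p = path g [9, 7, 6, 4] p :=
  scan (u := [6]) (w := [9, 0, 1, 4]) (i := 5) (r14_0_2 H) (step (f2227 H) rfl) (step (H.back (i := 4) (by decide) (f532 H)) (step (H.back (i := 5) (by decide) (f417 H)) (step (H.back (i := 6) (by decide) (f392 H)) (step (H.back (i := 9) (by decide) (f419 H)) rfl))))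

theorem f2231 : g 5 • path g [9, 7, 6, 4] p = path g [4, 7, 4, 6] p :=
  scan (u := [5]) (w := []) (i := 5) (r0_1_0 H) (step (f2229 H) rfl) rfl

theorem f2232 : g 0 • path g [4, 7, 4, 6] p = path g [9, 7, 6, 4] p :=
  H.back (i := 5) (by decide) (f2231 H)

theorem f2233 : g 1 • path g [4, 7, 4] p = path g [4, 7, 4, 1] p :=
  rfl

theorem f2235 : g 1 • path g [4, 7, 4, 1] p = path g [4, 7, 4, 6] p :=
  scan (u := [1]) (w := [1]) (i := 1) (r1_0_0 H) (step (f2233 H) rfl) (step (H.back (i := 6) (by decide) (f2227 H)) rfl)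

theorem f2237 : g 9 • path g [4, 0, 8] p = path g [4, 0, 8, 9] p :=
  rfl

theorem f2238 : g 4 • path g [4, 0, 8, 9] p = path g [4, 0, 8] p :=
  H.back (i := 9) (by decide) (f2237 H)

theorem f2239 : path g [4, 0, 8, 9] p = path g [9, 8, 6, 3] p :=
  close (u := [9]) (w := [8, 9, 8]) (r15_1_1 H) (step (f2237 H) rfl) (step (H.back (i := 3) (by decide) (f902 H)) (step (H.back (i := 4) (by decide) (f1507 H)) (step (H.back (i := 3) (by decide) (f425 H)) rfl)))

theorem f2240 : g 4 • path g [9, 8, 6, 3] p = path g [4, 0, 8] p :=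
  (congrArg (g 4 • ·) (f2239 H).symm).trans (f2238 H)

theorem f2242 : g 9 • path g [4, 0, 8] p = path g [9, 8, 6, 3] p :=
  H.back (i := 4) (by decide) (f2240 H)

theorem f2243 : g 6 • path g [4, 0, 8] p = path g [4, 0, 8, 6] p :=
  rfl

theorem f2244 : g 1 • path g [4, 0, 8, 6] p = path g [4, 0, 8] p :=
  H.back (i := 6) (by decide) (f2243 H)

theorem f2245 : g 6 • path g [4, 0, 8, 6] p = path g [3, 6, 4, 7] p :=
  scan (u := [6]) (w := [6]) (i := 6) (r1_1_0 H) (step (f2243 H) rfl) (step (H.back (i := 1) (by decide) (f2018 H)) rfl)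

theorem f2246 : g 1 • path g [3, 6, 4, 7] p = path g [4, 0, 8, 6] p :=
  H.back (i := 6) (by decide) (f2245 H)

theorem f2247 : g 7 • path g [4, 0, 8, 6] p = path g [8, 1, 4, 0] p :=
  scan (u := [6]) (w := [6, 7]) (i := 7) (r3_1_1 H) (step (f2243 H) rfl) (step (H.back (i := 1) (by decide) (f1756 H)) (step (H.back (i := 2) (by decide) (f463 H)) rfl))

theorem f2249 : g 2 • path g [4, 0, 8, 6] p = path g [8, 1, 4, 0] p :=
  scan (u := [6]) (w := [0, 6, 2, 0, 2, 1, 0, 2, 1, 0]) (i := 2) (r5_0_0 H) (step (f2243 H) rfl) (step (H.back (i := 5) (by decide) (f1752 H)) (step (H.back (i := 1) (by decide) (f1324 H)) (step (H.back (i := 7) (by decide) (f513 H)) (step (H.back (i := 5) (by decide) (f509 H)) (step (H.back (i := 7) (by decide) (f1239 H)) (step (H.back (i := 6) (by decide) (f1256 H)) (step (H.back (i := 5) (by decide) (f1537 H)) (step (H.back (i := 7) (by decide) (f940 H)) (step (H.back (i := 6) (by decide) (f938 H)) (step (H.back (i := 5) (by decide) (f1055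 H)) rfl))))))))))

theorem f2250 : g 7 • path g [8, 1, 4, 0] p = path g [4, 0, 8, 6] p :=
  H.back (i := 2) (by decide) (f2249 H)

theorem f2251 : g 4 • path g [4, 0, 8] p = path g [4, 0, 8, 4] p :=
  rfl

theorem f2253 : g 4 • path g [4, 0, 8, 4] p = path g [9, 8, 6, 3] p :=
  scan (u := [4]) (w := [4]) (i := 4) (r10_0_0 H) (step (f2251 H) rfl) (step (H.back (i := 9) (by decide) (f2242 H)) rfl)

theorem f2254 : g 9 • path g [9, 8, 6, 3] p = path g [4, 0, 8, 4] p :=
  H.back (i := 4) (by decide) (f2253 H)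

theorem f2255 : g 9 • path g [4, 0, 3] p = path g [4, 0, 3, 9] p :=
  rfl

theorem f2257 : g 9 • path g [4, 0, 3, 9] p = path g [8, 4, 6, 8] p :=
  scan (u := [9]) (w := [9]) (i := 9) (r10_1_0 H) (step (f2255 H) rfl) (step (H.back (i := 4) (by decide) (f1890 H)) rfl)

theorem f2258 : g 4 • path g [8, 4, 6, 8] p = path g [4, 0, 3, 9] p :=
  H.back (i := 9) (by decide) (f2257 H)

theorem f2259 : g 8 • path g [4, 0, 3, 9] p = path g [4, 0, 8, 4] p :=
  scan (u := [9]) (w := [9, 8]) (i := 8) (r15_1_1 H) (step (f2255 H) rfl) (step (H.back (i := 4) (by decide) (f2251 H)) (step (H.back (i := 3) (by decide) (f428 H)) rfl))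

theorem f2260 : g 3 • path g [4, 0, 8, 4] p = path g [4, 0, 3, 9] p :=
  H.back (i := 8) (by decide) (f2259 H)

theorem f2261 : g 6 • path g [4, 0, 3] p = path g [4, 0, 3, 6] p :=
  rfl

theorem f2263 : g 7 • path g [4, 0, 3, 6] p = path g [9, 8, 1, 0] p :=
  scan (u := [6]) (w := [6, 7]) (i := 7) (r3_1_1 H) (step (f2261 H) rfl) (step (H.back (i := 1) (by decide) (f1520 H)) (step (H.back (i := 2) (by decide) (f1850 H)) rfl))

theorem f2269 : g 1 • path g [4, 0, 3] p = path g [4, 0, 3, 1] p :=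
  rfl

theorem f2273 : g 2 • path g [4, 0, 3, 1] p = path g [4, 7, 3, 6] p :=
  scan (u := [1]) (w := [1, 2]) (i := 2) (r3_0_0 H) (step (f2269 H) rfl) (step (H.back (i := 6) (by decide) (f2191 H)) (step (H.back (i := 7) (by decide) (f1848 H)) rfl))

theorem f2275 : g 2 • path g [4, 7, 3, 6] p = path g [4, 0, 3, 1] p :=
  scan (u := [2]) (w := []) (i := 2) (r2_0_0 H) (step (f2273 H) rfl) rfl

theorem f2277 : g 9 • path g [4, 8, 7] p = path g [4, 8, 7, 9] p :=
  rfl

theorem f2279 : g 8 • path g [4, 8, 7, 9] p = path g [9, 3, 0, 1] p :=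
  scan (u := [9]) (w := [9, 8]) (i := 8) (r15_1_1 H) (step (f2277 H) rfl) (step (H.back (i := 4) (by decide) (f983 H)) (step (H.back (i := 3) (by decide) (f438 H)) rfl))

theorem f2280 : g 3 • path g [9, 3, 0, 1] p = path g [4, 8, 7, 9] p :=
  H.back (i := 8) (by decide) (f2279 H)

theorem f2281 : g 6 • path g [4, 8, 7] p = path g [4, 8, 7, 6] p :=
  rfl

theorem f2283 : g 6 • path g [4, 8, 7, 6] p = path g [3, 6, 9, 7] p :=
  scan (u := [6]) (w := [6]) (i := 6) (r1_1_0 H) (step (f2281 H) rfl) (step (H.back (i := 1) (by decide) (f1936 H)) rfl)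

theorem f2285 : g 7 • path g [4, 8, 7, 6] p = path g [4, 8, 1] p :=
  scan (u := [6]) (w := [6, 7]) (i := 7) (r3_1_1 H) (step (f2281 H) rfl) (step (H.back (i := 1) (by decide) (f446 H)) (step (H.back (i := 2) (by decide) (f435 H)) rfl))

theorem f2286 : g 2 • path g [4, 8, 1] p = path g [4, 8, 7, 6] p :=
  H.back (i := 7) (by decide) (f2285 H)

theorem f2287 : g 0 • path g [4, 8, 7, 6] p = path g [4, 0, 8, 6] p :=
  scan (u := [6]) (w := [1, 0, 1, 0, 6]) (i := 0) (r4_0_5 H) (step (f2281 H) rfl) (step (H.back (i := 6) (by decide) (f2243 H)) (step (H.back (i := 5) (by decide) (f1060 H)) (step (H.back (i := 6) (by decide) (f949 H)) (step (H.back (i := 5) (by decide) (f1937 H)) (step (H.back (i := 1) (by decide) (f1936 H)) rfl)))))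

theorem f2289 : g 5 • path g [4, 8, 7, 6] p = path g [4, 0, 8, 6] p :=
  scan (u := [6]) (w := [1, 1, 5, 6, 5]) (i := 5) (r4_1_6 H) (step (f2281 H) rfl) (step (H.back (i := 6) (by decide) (f2243 H)) (step (H.back (i := 6) (by decide) (f2017 H)) (step (H.back (i := 0) (by decide) (f2020 H)) (step (H.back (i := 1) (by decide) (f1874 H)) (step (H.back (i := 0) (by decide) (f1835 H)) rfl)))))

theorem f2290 : g 0 • path g [4, 0, 8, 6] p = path g [4, 8, 7, 6] p :=
  H.back (i := 5) (by decide) (f2289 H)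

theorem f2291 : g 2 • path g [4, 8, 7, 6] p = path g [4, 8, 1] p :=
  scan (u := [6]) (w := [0, 2, 1, 0, 2, 1, 0, 6, 2, 0]) (i := 2) (r5_0_3 H) (step (f2281 H) rfl) (step (H.back (i := 5) (by decide) (f1674 H)) (step (H.back (i := 7) (by decide) (f1115 H)) (step (H.back (i := 6) (by decide) (f646 H)) (step (H.back (i := 5) (by decide) (f1861 H)) (step (H.back (i := 7) (by decide) (f1872 H)) (step (H.back (i := 6) (by decide) (f1528 H)) (step (H.back (i := 5) (by decide) (f1656 H)) (step (H.back (i := 1) (by decide) (f1818 H)) (step (H.back (i := 7) (by decide) (f1834 H)) (step (H.back (i := 5) (by decide) (f1842 H)) rfl))))))))))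

theorem f2292 : g 7 • path g [4, 8, 1] p = path g [4, 8, 7, 6] p :=
  H.back (i := 2) (by decide) (f2291 H)

theorem f2293 : g 4 • path g [4, 8, 7] p = path g [4, 8, 7, 4] p :=
  rfl

theorem f2295 : g 4 • path g [4, 8, 7, 4] p = path g [4, 8, 7, 9] p :=
  scan (u := [4]) (w := [4]) (i := 4) (r10_0_0 H) (step (f2293 H) rfl) (step (H.back (i := 9) (by decide) (f2277 H)) rfl)

theorem f2299 : g 6 • path g [4, 8, 0] p = path g [4, 8, 0, 6] p :=
  rfl

theorem f2303 : g 0 • path g [4, 8, 0, 6] p = path g [9, 7, 3, 6] p :=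
  scan (u := [6]) (w := [1, 0, 1, 0, 6]) (i := 0) (r4_0_5 H) (step (f2299 H) rfl) (step (H.back (i := 6) (by decide) (f550 H)) (step (H.back (i := 5) (by decide) (f1527 H)) (step (H.back (i := 6) (by decide) (f319 H)) (step (H.back (i := 5) (by decide) (f1087 H)) (step (H.back (i := 1) (by decide) (f1085 H)) rfl)))))

theorem f2304 : g 5 • path g [9, 7, 3, 6] p = path g [4, 8, 0, 6] p :=
  H.back (i := 0) (by decide) (f2303 H)

theorem f2305 : g 5 • path g [4, 8, 0, 6] p = path g [9, 7, 3, 6] p :=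
  scan (u := [6]) (w := [6, 5, 1, 1, 5]) (i := 5) (r4_1_4 H) (step (f2299 H) rfl) (step (H.back (i := 1) (by decide) (f1112 H)) (step (H.back (i := 0) (by decide) (f1672 H)) (step (H.back (i := 6) (by decide) (f815 H)) (step (H.back (i := 6) (by decide) (f814 H)) (step (H.back (i := 0) (by decide) (f442 H)) rfl)))))

theorem f2306 : g 0 • path g [9, 7, 3, 6] p = path g [4, 8, 0, 6] p :=
  H.back (i := 5) (by decide) (f2305 H)

theorem f2315 : g 8 • path g [4, 8, 1] p = path g [4, 8, 1, 8] p :=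
  rfl

theorem f2321 : g 3 • path g [4, 8, 1] p = path g [4, 8, 1, 3] p :=
  rfl

theorem f2323 : g 3 • path g [4, 8, 1, 3] p = path g [4, 8, 1, 8] p :=
  scan (u := [3]) (w := [3]) (i := 3) (r6_0_0 H) (step (f2321 H) rfl) (step (H.back (i := 8) (by decide) (f2315 H)) rfl)

theorem f2324 : g 8 • path g [4, 8, 1, 8] p = path g [4, 8, 1, 3] p :=
  H.back (i := 3) (by decide) (f2323 H)

theorem f2496 : g 9 • path g [9, 7, 8, 0] p = path g [9, 7, 8, 0, 9] p :=
  rfl

theorem f2497 : g 4 • path g [9, 7, 8, 0, 9] p = path g [9, 7, 8, 0] p :=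
  H.back (i := 9) (by decide) (f2496 H)

theorem f2498 : g 8 • path g [9, 7, 8, 0, 9] p = path g [4, 8, 7, 4] p :=
  scan (u := [9]) (w := [9, 8]) (i := 8) (r15_1_1 H) (step (f2496 H) rfl) (step (H.back (i := 4) (by decide) (f2293 H)) (step (H.back (i := 3) (by decide) (f1544 H)) rfl))

theorem f2500 : g 1 • path g [9, 7, 8, 0] p = path g [9, 7, 8, 0, 1] p :=
  rfl

theorem f2502 : g 1 • path g [9, 7, 8, 0, 1] p = path g [8, 1, 4, 7] p :=
  scan (u := [1]) (w := [1]) (i := 1) (r1_0_0 H) (step (f2500 H) rfl) (step (H.back (i := 6) (by decide) (f1737 H)) rfl)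

theorem f2503 : g 6 • path g [8, 1, 4, 7] p = path g [9, 7, 8, 0, 1] p :=
  H.back (i := 1) (by decide) (f2502 H)

theorem f2506 : g 0 • path g [9, 7, 8, 0, 1] p = path g [9, 7, 8, 1] p :=
  scan (u := [1]) (w := [1, 0, 6, 6, 0]) (i := 0) (r4_0_0 H) (step (f2500 H) rfl) (step (H.back (i := 6) (by decide) (f519 H)) (step (H.back (i := 5) (by decide) (f831 H)) (step (H.back (i := 1) (by decide) (f518 H)) (step (H.back (i := 1) (by decide) (f516 H)) (step (H.back (i := 5) (by decide) (f507 H)) rfl)))))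

theorem f2507 : g 5 • path g [9, 7, 8, 1] p = path g [9, 7, 8, 0, 1] p :=
  H.back (i := 0) (by decide) (f2506 H)

theorem f2510 : g 2 • path g [9, 8, 0, 6] p = path g [9, 7, 8, 0, 1] p :=
  scan (u := [0, 6, 2, 0, 2, 1, 0, 2, 1, 0, 6]) (w := []) (i := 2) (r5_0_2 H) (step (f2506 H) (step (f517 H) (step (f1241 H) (step (f220 H) (step (f217 H) (step (f1122 H) (step (f1490 H) (step (f870 H) (step (f165 H) (step (f160 H) (step (f882 H) rfl))))))))))) rfl

theorem f2511 : g 7 • path g [9, 7, 8, 0, 1] p = path g [9, 8, 0, 6] p :=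
  H.back (i := 2) (by decide) (f2510 H)

theorem f2512 : g 4 • path g [9, 7, 8, 0] p = path g [9, 7, 8, 0, 4] p :=
  rfl

theorem f2513 : g 9 • path g [9, 7, 8, 0, 4] p = path g [9, 7, 8, 0] p :=
  H.back (i := 4) (by decide) (f2512 H)

theorem f2514 : g 4 • path g [9, 7, 8, 0, 4] p = path g [9, 7, 8, 0, 9] p :=
  scan (u := [4]) (w := [4]) (i := 4) (r10_0_0 H) (step (f2512 H) rfl) (step (H.back (i := 9) (by decide) (f2496 H)) rfl)

theorem f2516 : g 3 • path g [9, 7, 8, 0, 4] p = path g [9, 1, 0, 9] p :=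
  scan (u := [4]) (w := [4, 3]) (i := 3) (r15_0_0 H) (step (f2512 H) rfl) (step (H.back (i := 9) (by decide) (f1078 H)) (step (H.back (i := 8) (by decide) (f1541 H)) rfl))

theorem f2517 : g 8 • path g [9, 1, 0, 9] p = path g [9, 7, 8, 0, 4] p :=
  H.back (i := 3) (by decide) (f2516 H)

theorem f2518 : g 2 • path g [8, 1, 4, 8] p = path g [9, 7, 8, 0, 4] p :=
  scan (u := [3, 6, 5, 7, 6, 5, 7, 5, 8]) (w := []) (i := 2) (r7_0_5 H) (step (f2516 H) (step (f1084 H) (step (f441 H) (step (f434 H) (step (f2281 H) (step (f2289 H) (step (f2247 H) (step (f1750 H) (step (f1757 H) rfl))))))))) rfl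

theorem f2520 : g 7 • path g [8, 1, 4, 8] p = path g [9, 7, 8, 0, 4] p :=
  scan (u := [3, 0, 2, 0, 1, 2, 0, 1, 8]) (w := []) (i := 7) (r7_1_6 H) (step (f2516 H) (step (f1082 H) (step (f793 H) (step (f860 H) (step (f851 H) (step (f157 H) (step (f160 H) (step (f1324 H) (step (f1757 H) rfl))))))))) rfl

theorem f2521 : g 2 • path g [9, 7, 8, 0, 4] p = path g [8, 1, 4, 8] p :=
  H.back (i := 7) (by decide) (f2520 H)

theorem f2540 : g 8 • path g [9, 7, 8, 1] p = path g [9, 7, 8, 1, 8] p :=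
  rfl

theorem f2590 : g 1 • path g [9, 7, 6, 8] p = path g [9, 7, 6, 8, 1] p :=
  rfl

theorem f2592 : g 1 • path g [9, 7, 6, 8, 1] p = path g [3, 1, 4, 7] p :=
  scan (u := [1]) (w := [1]) (i := 1) (r1_0_0 H) (step (f2590 H) rfl) (step (H.back (i := 6) (by decide) (f2112 H)) rfl)

theorem f2593 : g 6 • path g [3, 1, 4, 7] p = path g [9, 7, 6, 8, 1] p :=
  H.back (i := 1) (by decide) (f2592 H)

theorem f2598 : g 5 • path g [9, 7, 6, 8, 1] p = path g [9, 0, 3, 1] p :=
  scan (u := [1, 1, 5, 6]) (w := [6, 5]) (i := 5) (r4_1_1 H) (step (f2590 H) (step (f2592 H) (step (f2109 H) (step (f2593 H) rfl)))) (step (H.back (i := 1) (by decide) (f648 H)) (step (H.back (i := 0) (by decide) (f1864 H)) rfl))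

theorem f2618 : g 6 • path g [9, 7, 6, 4] p = path g [9, 7, 6, 4, 6] p :=
  rfl

theorem f2624 : g 1 • path g [9, 7, 6, 4] p = path g [9, 7, 6, 4, 1] p :=
  rfl

theorem f2626 : g 1 • path g [9, 7, 6, 4, 1] p = path g [9, 7, 6, 4, 6] p :=
  scan (u := [1]) (w := [1]) (i := 1) (r1_0_0 H) (step (f2624 H) rfl) (step (H.back (i := 6) (by decide) (f2618 H)) rfl)

theorem f2627 : g 6 • path g [9, 7, 6, 4, 6] p = path g [9, 7, 6, 4, 1] p :=
  H.back (i := 1) (by decide) (f2626 H)

theorem f2647 : g 8 • path g [9, 7, 3, 6] p = path g [9, 7, 3, 6, 8] p :=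
  rfl

theorem f2648 : g 3 • path g [9, 7, 3, 6, 8] p = path g [9, 7, 3, 6] p :=
  H.back (i := 8) (by decide) (f2647 H)

theorem f2649 : g 7 • path g [9, 7, 3, 6, 8] p = path g [9, 0, 4, 8] p :=
  scan (u := [8]) (w := [3, 0, 2, 0, 1, 2, 0, 1]) (i := 7) (r7_1_4 H) (step (f2647 H) rfl) (step (H.back (i := 8) (by decide) (f662 H)) (step (H.back (i := 5) (by decide) (f750 H)) (step (H.back (i := 7) (by decide) (f955 H)) (step (H.back (i := 5) (by decide) (f1937 H)) (step (H.back (i := 6) (by decide) (f2283 H)) (step (H.back (i := 7) (by decide) (f2292 H)) (step (H.back (i := 5) (by decide) (f1674 H)) (step (H.back (i := 6) (by decide) (f1114 H)) rfl))))))))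

theorem f2651 : g 7 • path g [9, 0, 4, 8] p = path g [9, 7, 3, 6, 8] p :=
  scan (u := [7]) (w := []) (i := 7) (r2_1_0 H) (step (f2649 H) rfl) rfl

theorem f2787 : g 8 • path g [9, 0, 9, 7] p = path g [9, 0, 9, 7, 8] p :=
  rfl

theorem f2788 : g 3 • path g [9, 0, 9, 7, 8] p = path g [9, 0, 9, 7] p :=
  H.back (i := 8) (by decide) (f2787 H)

theorem f2798 : g 7 • path g [9, 0, 9, 8] p = path g [9, 0, 9, 8, 7] p :=
  rfl

theorem f2799 : g 2 • path g [9, 0, 9, 8, 7] p = path g [9, 0, 9, 8] p :=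
  H.back (i := 7) (by decide) (f2798 H)

theorem f2800 : g 7 • path g [9, 0, 9, 8, 7] p = path g [9, 0, 9, 8] p :=
  scan (u := [7]) (w := []) (i := 7) (r2_1_0 H) (step (f2798 H) rfl) rfl

theorem f2801 : g 2 • path g [9, 0, 9, 8] p = path g [9, 0, 9, 8, 7] p :=
  H.back (i := 7) (by decide) (f2800 H)

theorem f2804 : g 0 • path g [9, 0, 9, 8] p = path g [9, 0, 9, 8, 0] p :=
  rfl

theorem f2805 : g 5 • path g [9, 0, 9, 8, 0] p = path g [9, 0, 9, 8] p :=
  H.back (i := 0) (by decide) (f2804 H)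

theorem f2806 : g 0 • path g [9, 0, 9, 8, 0] p = path g [9, 0, 9, 8] p :=
  scan (u := [0]) (w := []) (i := 0) (r0_0_0 H) (step (f2804 H) rfl) rfl

theorem f2807 : g 5 • path g [9, 0, 9, 8] p = path g [9, 0, 9, 8, 0] p :=
  H.back (i := 0) (by decide) (f2806 H)

theorem f2808 : g 6 • path g [9, 0, 9, 8] p = path g [9, 0, 9, 8, 6] p :=
  rfl

theorem f2810 : g 1 • path g [9, 0, 9, 8] p = path g [9, 0, 9, 8, 1] p :=
  rfl

theorem f2811 : g 6 • path g [9, 0, 9, 8, 1] p = path g [9, 0, 9, 8] p :=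
  H.back (i := 1) (by decide) (f2810 H)

theorem f2812 : g 1 • path g [9, 0, 9, 8, 1] p = path g [9, 0, 9, 8, 6] p :=
  scan (u := [1]) (w := [1]) (i := 1) (r1_0_0 H) (step (f2810 H) rfl) (step (H.back (i := 6) (by decide) (f2808 H)) rfl)

theorem f2813 : g 6 • path g [9, 0, 9, 8, 6] p = path g [9, 0, 9, 8, 1] p :=
  H.back (i := 1) (by decide) (f2812 H)

theorem f2836 : g 7 • path g [9, 0, 8, 9] p = path g [9, 0, 8, 9, 7] p :=
  rfl

theorem f2838 : g 7 • path g [9, 0, 8, 9, 7] p = path g [9, 0, 8, 9] p :=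
  scan (u := [7]) (w := []) (i := 7) (r2_1_0 H) (step (f2836 H) rfl) rfl

theorem f2839 : g 2 • path g [9, 0, 8, 9] p = path g [9, 0, 8, 9, 7] p :=
  H.back (i := 7) (by decide) (f2838 H)

theorem f2844 : g 6 • path g [9, 0, 8, 9] p = path g [9, 0, 8, 9, 6] p :=
  rfl

theorem f2846 : g 1 • path g [9, 0, 8, 9] p = path g [9, 0, 8, 9, 1] p :=
  rfl

theorem f2847 : g 6 • path g [9, 0, 8, 9, 1] p = path g [9, 0, 8, 9] p :=
  H.back (i := 1) (by decide) (f2846 H)

theorem f2848 : g 1 • path g [9, 0, 8, 9, 1] p = path g [9, 0, 8, 9, 6] p :=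
  scan (u := [1]) (w := [1]) (i := 1) (r1_0_0 H) (step (f2846 H) rfl) (step (H.back (i := 6) (by decide) (f2844 H)) rfl)

theorem f2849 : g 6 • path g [9, 0, 8, 9, 6] p = path g [9, 0, 8, 9, 1] p :=
  H.back (i := 1) (by decide) (f2848 H)

theorem f2850 : g 9 • path g [9, 0, 8, 6] p = path g [9, 0, 8, 6, 9] p :=
  rfl

theorem f2858 : g 4 • path g [9, 0, 8, 6] p = path g [9, 0, 8, 6, 4] p :=
  rfl

theorem f2860 : g 4 • path g [9, 0, 8, 6, 4] p = path g [9, 0, 8, 6, 9] p :=
  scan (u := [4]) (w := [4]) (i := 4) (r10_0_0 H) (step (f2858 H) rfl) (step (H.back (i := 9) (by decide) (f2850 H)) rfl)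

theorem f2861 : g 9 • path g [9, 0, 8, 6, 9] p = path g [9, 0, 8, 6, 4] p :=
  H.back (i := 4) (by decide) (f2860 H)

theorem f2862 : g 7 • path g [9, 0, 8, 4] p = path g [9, 0, 8, 4, 7] p :=
  rfl

theorem f2864 : g 7 • path g [9, 0, 8, 4, 7] p = path g [9, 0, 8, 4] p :=
  scan (u := [7]) (w := []) (i := 7) (r2_1_0 H) (step (f2862 H) rfl) rfl

theorem f2865 : g 2 • path g [9, 0, 8, 4] p = path g [9, 0, 8, 4, 7] p :=
  H.back (i := 7) (by decide) (f2864 H)

theorem f2866 : g 5 • path g [9, 0, 8, 4, 7] p = path g [9, 0, 9, 8, 7] p :=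
  scan (u := [7]) (w := [7, 9, 2, 0, 2, 4]) (i := 5) (r13_0_3 H) (step (f2862 H) rfl) (step (H.back (i := 2) (by decide) (f2801 H)) (step (H.back (i := 4) (by decide) (f603 H)) (step (H.back (i := 7) (by decide) (f845 H)) (step (H.back (i := 5) (by decide) (f1527 H)) (step (H.back (i := 7) (by decide) (f759 H)) (step (H.back (i := 9) (by decide) (f629 H)) rfl))))))

theorem f2868 : g 5 • path g [9, 0, 9, 8, 7] p = path g [9, 0, 8, 4, 7] p :=
  scan (u := [5]) (w := []) (i := 5) (r0_1_0 H) (step (f2866 H) rfl) rfl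

theorem f2869 : g 0 • path g [9, 0, 8, 4, 7] p = path g [9, 0, 9, 8, 7] p :=
  H.back (i := 5) (by decide) (f2868 H)

theorem f2870 : g 5 • path g [9, 0, 8, 4] p = path g [9, 7, 8, 1, 8] p :=
  scan (u := [5, 7]) (w := [3, 1, 2, 0, 1, 2, 0, 2, 0, 8, 7]) (i := 5) (r8_1_2 H) (step (f2868 H) (step (f2864 H) rfl)) (step (H.back (i := 8) (by decide) (f2540 H)) (step (H.back (i := 6) (by decide) (f519 H)) (step (H.back (i := 7) (by decide) (f844 H)) (step (H.back (i := 5) (by decide) (f1537 H)) (step (H.back (i := 6) (by decide) (f191 H)) (step (H.back (i := 7) (by decide) (f955 H)) (step (H.back (i := 5) (by decide) (f1937 H)) (step (H.back (i := 7) (by decide) (f1931 H)) (step (H.back (i := 5) (by decide) (f826 H)) (step (H.back (i := 3) (by decide) (f601 H)) (step (H.back (i := 2) (by decide) (f2799 H)) rfl)))))))))))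

theorem f2872 : g 5 • path g [9, 7, 8, 1, 8] p = path g [9, 0, 8, 4] p :=
  scan (u := [5]) (w := []) (i := 5) (r0_1_0 H) (step (f2870 H) rfl) rfl

theorem f2873 : g 0 • path g [9, 0, 8, 4] p = path g [9, 7, 8, 1, 8] p :=
  H.back (i := 5) (by decide) (f2872 H)

theorem f2874 : g 6 • path g [9, 0, 8, 4] p = path g [9, 0, 8, 4, 6] p :=
  rfl

theorem f2876 : g 1 • path g [9, 0, 8, 4] p = path g [9, 0, 8, 4, 1] p :=
  rfl

theorem f2878 : g 1 • path g [9, 0, 8, 4, 1] p = path g [9, 0, 8, 4, 6] p :=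
  scan (u := [1]) (w := [1]) (i := 1) (r1_0_0 H) (step (f2876 H) rfl) (step (H.back (i := 6) (by decide) (f2874 H)) rfl)

theorem f2880 : g 7 • path g [9, 0, 3, 9] p = path g [9, 0, 3, 9, 7] p :=
  rfl

theorem f2882 : g 7 • path g [9, 0, 3, 9, 7] p = path g [9, 0, 3, 9] p :=
  scan (u := [7]) (w := []) (i := 7) (r2_1_0 H) (step (f2880 H) rfl) rfl

theorem f2884 : g 5 • path g [9, 0, 3, 9, 7] p = path g [9, 0, 8, 9, 7] p :=
  scan (u := [7]) (w := [7, 9, 2, 0, 2, 4]) (i := 5) (r13_0_3 H) (step (f2880 H) rfl) (step (H.back (i := 2) (by decide) (f2839 H)) (step (H.back (i := 4) (by decide) (f630 H)) (step (H.back (i := 7) (by decide) (f2864 H)) (step (H.back (i := 5) (by decide) (f2868 H)) (step (H.back (i := 7) (by decide) (f2798 H)) (step (H.back (i := 9) (by decide) (f638 H)) rfl))))))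

theorem f2886 : g 5 • path g [9, 0, 8, 9, 7] p = path g [9, 0, 3, 9, 7] p :=
  scan (u := [5]) (w := []) (i := 5) (r0_1_0 H) (step (f2884 H) rfl) rfl

theorem f2892 : g 6 • path g [9, 0, 3, 9] p = path g [9, 0, 3, 9, 6] p :=
  rfl

theorem f2894 : g 1 • path g [9, 0, 3, 9] p = path g [9, 0, 3, 9, 1] p :=
  rfl

theorem f2896 : g 1 • path g [9, 0, 3, 9, 1] p = path g [9, 0, 3, 9, 6] p :=
  scan (u := [1]) (w := [1]) (i := 1) (r1_0_0 H) (step (f2894 H) rfl) (step (H.back (i := 6) (by decide) (f2892 H)) rfl)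

theorem f2898 : g 9 • path g [9, 0, 3, 6] p = path g [9, 0, 3, 6, 9] p :=
  rfl

theorem f2900 : g 0 • path g [9, 0, 3, 6, 9] p = path g [9, 0, 3, 9, 6] p :=
  scan (u := [9]) (w := [1, 4, 6, 5]) (i := 0) (r14_0_4 H) (step (f2898 H) rfl) (step (H.back (i := 6) (by decide) (f2892 H)) (step (H.back (i := 9) (by decide) (f636 H)) (step (H.back (i := 1) (by decide) (f647 H)) (step (H.back (i := 0) (by decide) (f1118 H)) rfl))))

theorem f2902 : g 0 • path g [9, 0, 3, 9, 6] p = path g [9, 0, 3, 6, 9] p :=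
  scan (u := [0]) (w := []) (i := 0) (r0_0_0 H) (step (f2900 H) rfl) rfl

theorem f2910 : g 4 • path g [9, 0, 3, 6] p = path g [9, 0, 3, 6, 4] p :=
  rfl

theorem f2912 : g 4 • path g [9, 0, 3, 6, 4] p = path g [9, 0, 3, 6, 9] p :=
  scan (u := [4]) (w := [4]) (i := 4) (r10_0_0 H) (step (f2910 H) rfl) (step (H.back (i := 9) (by decide) (f2898 H)) rfl)

theorem f2913 : g 9 • path g [9, 0, 3, 6, 9] p = path g [9, 0, 3, 6, 4] p :=
  H.back (i := 4) (by decide) (f2912 H)

theorem f2914 : g 0 • path g [9, 0, 3, 6, 4] p = path g [9, 0, 9, 8, 6] p :=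
  scan (u := [4]) (w := [1, 9, 6, 5]) (i := 0) (r14_1_1 H) (step (f2910 H) rfl) (step (H.back (i := 6) (by decide) (f2808 H)) (step (H.back (i := 4) (by decide) (f603 H)) (step (H.back (i := 1) (by decide) (f647 H)) (step (H.back (i := 0) (by decide) (f1118 H)) rfl))))

theorem f2916 : g 0 • path g [9, 0, 9, 8, 6] p = path g [9, 0, 3, 6, 4] p :=
  scan (u := [0]) (w := []) (i := 0) (r0_0_0 H) (step (f2914 H) rfl) rfl

theorem f2917 : g 5 • path g [9, 0, 3, 6, 4] p = path g [9, 0, 9, 8, 6] p :=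
  H.back (i := 0) (by decide) (f2916 H)

theorem f2934 : g 8 • path g [9, 0, 4, 7] p = path g [9, 0, 4, 7, 8] p :=
  rfl

theorem f2936 : g 3 • path g [9, 0, 4, 7] p = path g [9, 0, 4, 7, 3] p :=
  rfl

theorem f2937 : g 8 • path g [9, 0, 4, 7, 3] p = path g [9, 0, 4, 7] p :=
  H.back (i := 3) (by decide) (f2936 H)

theorem f2938 : g 3 • path g [9, 0, 4, 7, 3] p = path g [9, 0, 4, 7, 8] p :=
  scan (u := [3]) (w := [3]) (i := 3) (r6_0_0 H) (step (f2936 H) rfl) (step (H.back (i := 8) (by decide) (f2934 H)) rfl)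

theorem f2939 : g 8 • path g [9, 0, 4, 7, 8] p = path g [9, 0, 4, 7, 3] p :=
  H.back (i := 3) (by decide) (f2938 H)

theorem f2940 : g 4 • path g [9, 0, 4, 7] p = path g [9, 0, 4, 7, 4] p :=
  rfl

theorem f2944 : g 6 • path g [9, 0, 4, 7, 4] p = path g [9, 7, 8, 1, 8] p :=
  scan (u := [4]) (w := [5, 9, 0, 1]) (i := 6) (r14_0_1 H) (step (f2940 H) rfl) (step (H.back (i := 0) (by decide) (f2873 H)) (step (H.back (i := 4) (by decide) (f628 H)) (step (H.back (i := 5) (by decide) (f1488 H)) (step (H.back (i := 6) (by decide) (f1121 H)) rfl))))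

theorem f2956 : g 7 • path g [9, 8, 7, 9] p = path g [9, 8, 7, 9, 7] p :=
  rfl

theorem f2958 : g 7 • path g [9, 8, 7, 9, 7] p = path g [9, 8, 7, 9] p :=
  scan (u := [7]) (w := []) (i := 7) (r2_1_0 H) (step (f2956 H) rfl) rfl

theorem f2959 : g 2 • path g [9, 8, 7, 9] p = path g [9, 8, 7, 9, 7] p :=
  H.back (i := 7) (by decide) (f2958 H)

theorem f2960 : g 0 • path g [9, 8, 7, 9] p = path g [9, 8, 7, 9, 0] p :=
  rfl

theorem f2961 : g 5 • path g [9, 8, 7, 9, 0] p = path g [9, 8, 7, 9] p :=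
  H.back (i := 0) (by decide) (f2960 H)

theorem f2962 : g 0 • path g [9, 8, 7, 9, 0] p = path g [9, 8, 7, 9] p :=
  scan (u := [0]) (w := []) (i := 0) (r0_0_0 H) (step (f2960 H) rfl) rfl

theorem f2963 : g 5 • path g [9, 8, 7, 9] p = path g [9, 8, 7, 9, 0] p :=
  H.back (i := 0) (by decide) (f2962 H)

theorem f2964 : g 6 • path g [9, 8, 7, 9] p = path g [9, 8, 7, 9, 6] p :=
  rfl

theorem f2966 : g 5 • path g [9, 8, 7, 9, 6] p = path g [9, 0, 8, 6, 9] p :=
  scan (u := [6]) (w := [4, 0, 1, 9]) (i := 5) (r14_1_5 H) (step (f2964 H) rfl) (step (H.back (i := 9) (by decide) (f2850 H)) (step (H.back (i := 5) (by decide) (f859 H)) (step (H.back (i := 6) (by decide) (f850 H)) (step (H.back (i := 4) (by decide) (f675 H)) rfl))))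

theorem f2968 : g 5 • path g [9, 0, 8, 6, 9] p = path g [9, 8, 7, 9, 6] p :=
  scan (u := [5]) (w := []) (i := 5) (r0_1_0 H) (step (f2966 H) rfl) rfl

theorem f2969 : g 0 • path g [9, 8, 7, 9, 6] p = path g [9, 0, 8, 6, 9] p :=
  H.back (i := 5) (by decide) (f2968 H)

theorem f2970 : g 3 • path g [9, 8, 7, 9] p = path g [9, 8, 7, 9, 3] p :=
  rfl

theorem f2972 : g 3 • path g [9, 8, 7, 9, 3] p = path g [9, 8, 1, 0] p :=
  scan (u := [3]) (w := [3]) (i := 3) (r6_0_0 H) (step (f2970 H) rfl) (step (H.back (i := 8) (by decide) (f1518 H)) rfl)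

theorem f2976 : g 7 • path g [8, 1, 9, 8] p = path g [9, 8, 7, 9, 3] p :=
  scan (u := [3, 0, 2, 0, 1, 2, 0, 1, 8]) (w := []) (i := 7) (r7_1_6 H) (step (f2972 H) (step (f914 H) (step (f853 H) (step (f858 H) (step (f623 H) (step (f764 H) (step (f1524 H) (step (f1111 H) (step (f1675 H) rfl))))))))) rfl

theorem f2977 : g 2 • path g [9, 8, 7, 9, 3] p = path g [8, 1, 9, 8] p :=
  H.back (i := 7) (by decide) (f2976 H)

theorem f2978 : g 1 • path g [9, 8, 7, 9] p = path g [9, 8, 7, 9, 1] p :=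
  rfl

theorem f2980 : g 1 • path g [9, 8, 7, 9, 1] p = path g [9, 8, 7, 9, 6] p :=
  scan (u := [1]) (w := [1]) (i := 1) (r1_0_0 H) (step (f2978 H) rfl) (step (H.back (i := 6) (by decide) (f2964 H)) rfl)

theorem f2982 : g 9 • path g [9, 8, 7, 8] p = path g [9, 8, 7, 8, 9] p :=
  rfl

theorem f2984 : g 8 • path g [9, 8, 7, 8, 9] p = path g [9, 8, 7, 4] p :=
  scan (u := [9]) (w := [9, 8]) (i := 8) (r15_1_1 H) (step (f2982 H) rfl) (step (H.back (i := 4) (by decide) (f874 H)) (step (H.back (i := 3) (by decide) (f847 H)) rfl))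

theorem f2985 : g 3 • path g [9, 8, 7, 4] p = path g [9, 8, 7, 8, 9] p :=
  H.back (i := 8) (by decide) (f2984 H)

theorem f2986 : g 6 • path g [9, 8, 7, 8] p = path g [9, 8, 7, 8, 6] p :=
  rfl

theorem f2992 : g 2 • path g [9, 8, 7, 8, 6] p = path g [9, 1, 0, 9] p :=
  scan (u := [6]) (w := [0, 6, 2, 0, 2, 1, 0, 2, 1, 0]) (i := 2) (r5_0_0 H) (step (f2986 H) rfl) (step (H.back (i := 5) (by decide) (f1083 H)) (step (H.back (i := 1) (by decide) (f318 H)) (step (H.back (i := 7) (by decide) (f759 H)) (step (H.back (i := 5) (by decide) (f1488 H)) (step (H.back (i := 7) (by decide) (f214 H)) (step (H.back (i := 6) (by decide) (f225 H)) (step (H.back (i := 5) (by decide) (f1165 H)) (step (H.back (i := 7) (by decide) (f2151 H)) (step (H.back (i := 6) (by decide) (f2149 H)) (step (H.back (i := 5) (by decide) (f1045 H)) rfl))))))))))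

theorem f2993 : g 7 • path g [9, 1, 0, 9] p = path g [9, 8, 7, 8, 6] p :=
  H.back (i := 2) (by decide) (f2992 H)

theorem f2994 : g 1 • path g [9, 8, 7, 8] p = path g [9, 8, 7, 8, 1] p :=
  rfl

theorem f2996 : g 1 • path g [9, 8, 7, 8, 1] p = path g [9, 8, 7, 8, 6] p :=
  scan (u := [1]) (w := [1]) (i := 1) (r1_0_0 H) (step (f2994 H) rfl) (step (H.back (i := 6) (by decide) (f2986 H)) rfl)

theorem f2997 : g 6 • path g [9, 8, 7, 8, 6] p = path g [9, 8, 7, 8, 1] p :=
  H.back (i := 1) (by decide) (f2996 H)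

theorem f3000 : g 0 • path g [9, 8, 7, 8, 1] p = path g [4, 7, 8, 1] p :=
  scan (u := [1]) (w := [1, 0, 6, 6, 0]) (i := 0) (r4_0_0 H) (step (f2994 H) rfl) (step (H.back (i := 6) (by decide) (f2160 H)) (step (H.back (i := 5) (by decide) (f2153 H)) (step (H.back (i := 1) (by decide) (f2159 H)) (step (H.back (i := 1) (by decide) (f2157 H)) (step (H.back (i := 5) (by decide) (f1045 H)) rfl)))))

theorem f3004 : g 2 • path g [4, 8, 0, 6] p = path g [9, 8, 7, 8, 1] p :=
  scan (u := [0, 1, 2, 0, 1, 8, 7, 3, 0]) (w := []) (i := 2) (r7_1_9 H) (step (f3000 H) (step (f2159 H) (step (f2155 H) (step (f1162 H) (step (f1156 H) (step (f662 H) (step (f2651 H) (step (f2648 H) (step (f2306 H) rfl))))))))) rfl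

theorem f3005 : g 7 • path g [9, 8, 7, 8, 1] p = path g [4, 8, 0, 6] p :=
  H.back (i := 2) (by decide) (f3004 H)

theorem f3006 : g 4 • path g [9, 8, 7, 8] p = path g [9, 8, 7, 8, 4] p :=
  rfl

theorem f3008 : g 4 • path g [9, 8, 7, 8, 4] p = path g [9, 8, 7, 8, 9] p :=
  scan (u := [4]) (w := [4]) (i := 4) (r10_0_0 H) (step (f3006 H) rfl) (step (H.back (i := 9) (by decide) (f2982 H)) rfl)

theorem f3009 : g 9 • path g [9, 8, 7, 8, 9] p = path g [9, 8, 7, 8, 4] p :=
  H.back (i := 4) (by decide) (f3008 H)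

theorem f3010 : g 3 • path g [9, 8, 7, 8, 4] p = path g [8, 4, 1, 0] p :=
  scan (u := [4]) (w := [4, 3]) (i := 3) (r15_0_0 H) (step (f3006 H) rfl) (step (H.back (i := 9) (by decide) (f1906 H)) (step (H.back (i := 8) (by decide) (f848 H)) rfl))

theorem f3011 : g 8 • path g [8, 4, 1, 0] p = path g [9, 8, 7, 8, 4] p :=
  H.back (i := 3) (by decide) (f3010 H)

theorem f3012 : g 7 • path g [3, 1, 9, 8] p = path g [9, 8, 7, 8, 4] p :=
  scan (u := [3, 0, 2, 0, 1, 2, 0, 1, 8]) (w := []) (i := 7) (r7_1_6 H) (step (f3010 H) (step (f1901 H) (step (f1768 H) (step (f1772 H) (step (f1206 H) (step (f215 H) (step (f218 H) (step (f1254 H) (step (f2029 H) rfl))))))))) rfl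

theorem f3014 : g 7 • path g [9, 8, 7, 8, 4] p = path g [3, 1, 9, 8] p :=
  scan (u := [7]) (w := []) (i := 7) (r2_1_0 H) (step (f3012 H) rfl) rfl

theorem f3016 : g 9 • path g [9, 8, 7, 6] p = path g [9, 8, 7, 6, 9] p :=
  rfl

theorem f3018 : g 0 • path g [9, 8, 7, 6, 9] p = path g [9, 0, 8, 9, 6] p :=
  scan (u := [9]) (w := [1, 4, 6, 5]) (i := 0) (r14_0_4 H) (step (f3016 H) rfl) (step (H.back (i := 6) (by decide) (f2844 H)) (step (H.back (i := 9) (by decide) (f614 H)) (step (H.back (i := 1) (by decide) (f623 H)) (step (H.back (i := 0) (by decide) (f858 H)) rfl))))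

theorem f3020 : g 0 • path g [9, 0, 8, 9, 6] p = path g [9, 8, 7, 6, 9] p :=
  scan (u := [0]) (w := []) (i := 0) (r0_0_0 H) (step (f3018 H) rfl) rfl

theorem f3021 : g 5 • path g [9, 8, 7, 6, 9] p = path g [9, 0, 8, 9, 6] p :=
  H.back (i := 0) (by decide) (f3020 H)

theorem f3028 : g 4 • path g [9, 8, 7, 6] p = path g [9, 8, 7, 6, 4] p :=
  rfl

theorem f3030 : g 4 • path g [9, 8, 7, 6, 4] p = path g [9, 8, 7, 6, 9] p :=
  scan (u := [4]) (w := [4]) (i := 4) (r10_0_0 H) (step (f3028 H) rfl) (step (H.back (i := 9) (by decide) (f3016 H)) rfl)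

theorem f3032 : g 0 • path g [9, 8, 7, 6, 4] p = path g [9, 0, 8, 4, 6] p :=
  scan (u := [4]) (w := [1, 9, 6, 5]) (i := 0) (r14_1_1 H) (step (f3028 H) rfl) (step (H.back (i := 6) (by decide) (f2874 H)) (step (H.back (i := 4) (by decide) (f628 H)) (step (H.back (i := 1) (by decide) (f623 H)) (step (H.back (i := 0) (by decide) (f858 H)) rfl))))

theorem f3034 : g 0 • path g [9, 0, 8, 4, 6] p = path g [9, 8, 7, 6, 4] p :=
  scan (u := [0]) (w := []) (i := 0) (r0_0_0 H) (step (f3032 H) rfl) rfl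

theorem f3062 : g 8 • path g [9, 8, 7, 4] p = path g [9, 8, 7, 4, 8] p :=
  rfl

theorem f3064 : g 8 • path g [9, 8, 7, 4, 8] p = path g [9, 8, 7, 8, 9] p :=
  scan (u := [8]) (w := [8]) (i := 8) (r6_1_0 H) (step (f3062 H) rfl) (step (H.back (i := 3) (by decide) (f2985 H)) rfl)

theorem f3066 : g 9 • path g [9, 8, 7, 4, 8] p = path g [9, 8, 7, 9, 3] p :=
  scan (u := [8]) (w := [8, 9]) (i := 9) (r15_1_0 H) (step (f3062 H) rfl) (step (H.back (i := 3) (by decide) (f2970 H)) (step (H.back (i := 4) (by decide) (f876 H)) rfl))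

theorem f3068 : g 6 • path g [9, 8, 7, 4] p = path g [9, 8, 7, 4, 6] p :=
  rfl

theorem f3070 : g 5 • path g [9, 8, 7, 4, 6] p = path g [9, 0, 8, 6, 4] p :=
  scan (u := [6]) (w := [9, 0, 1, 4]) (i := 5) (r14_0_2 H) (step (f3068 H) rfl) (step (H.back (i := 4) (by decide) (f2858 H)) (step (H.back (i := 5) (by decide) (f859 H)) (step (H.back (i := 6) (by decide) (f850 H)) (step (H.back (i := 9) (by decide) (f875 H)) rfl))))

theorem f3072 : g 5 • path g [9, 0, 8, 6, 4] p = path g [9, 8, 7, 4, 6] p :=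
  scan (u := [5]) (w := []) (i := 5) (r0_1_0 H) (step (f3070 H) rfl) rfl

theorem f3074 : g 1 • path g [9, 8, 7, 4] p = path g [9, 8, 7, 4, 1] p :=
  rfl

theorem f3075 : g 6 • path g [9, 8, 7, 4, 1] p = path g [9, 8, 7, 4] p :=
  H.back (i := 1) (by decide) (f3074 H)

theorem f3076 : g 1 • path g [9, 8, 7, 4, 1] p = path g [9, 8, 7, 4, 6] p :=
  scan (u := [1]) (w := [1]) (i := 1) (r1_0_0 H) (step (f3074 H) rfl) (step (H.back (i := 6) (by decide) (f3068 H)) rfl)

theorem f3077 : g 6 • path g [9, 8, 7, 4, 6] p = path g [9, 8, 7, 4, 1] p :=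
  H.back (i := 1) (by decide) (f3076 H)

theorem f3104 : g 8 • path g [9, 8, 0, 6] p = path g [9, 8, 0, 6, 8] p :=
  rfl

theorem f3106 : g 7 • path g [9, 8, 0, 6, 8] p = path g [8, 4, 6, 8] p :=
  scan (u := [8]) (w := [3, 0, 2, 0, 1, 2, 0, 1]) (i := 7) (r7_1_4 H) (step (f3104 H) rfl) (step (H.back (i := 8) (by decide) (f1887 H)) (step (H.back (i := 5) (by decide) (f302 H)) (step (H.back (i := 7) (by decide) (f1646 H)) (step (H.back (i := 5) (by decide) (f2019 H)) (step (H.back (i := 6) (by decide) (f2245 H)) (step (H.back (i := 7) (by decide) (f2250 H)) (step (H.back (i := 5) (by decide) (f1752 H)) (step (H.back (i := 6) (by decide) (f1327 H)) rfl))))))))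

theorem f3110 : g 3 • path g [9, 8, 0, 6] p = path g [9, 8, 0, 6, 3] p :=
  rfl

theorem f3111 : g 8 • path g [9, 8, 0, 6, 3] p = path g [9, 8, 0, 6] p :=
  H.back (i := 3) (by decide) (f3110 H)

theorem f3112 : g 3 • path g [9, 8, 0, 6, 3] p = path g [9, 8, 0, 6, 8] p :=
  scan (u := [3]) (w := [3]) (i := 3) (r6_0_0 H) (step (f3110 H) rfl) (step (H.back (i := 8) (by decide) (f3104 H)) rfl)

theorem f3113 : g 8 • path g [9, 8, 0, 6, 8] p = path g [9, 8, 0, 6, 3] p :=
  H.back (i := 3) (by decide) (f3112 H)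

theorem f3124 : g 6 • path g [9, 8, 0, 3] p = path g [9, 8, 0, 3, 6] p :=
  rfl

theorem f3126 : g 7 • path g [9, 8, 0, 3, 6] p = path g [8, 4, 1, 0] p :=
  scan (u := [6]) (w := [6, 7]) (i := 7) (r3_1_1 H) (step (f3124 H) rfl) (step (H.back (i := 1) (by decide) (f1904 H)) (step (H.back (i := 2) (by decide) (f1779 H)) rfl))

theorem f3127 : g 2 • path g [8, 4, 1, 0] p = path g [9, 8, 0, 3, 6] p :=
  H.back (i := 7) (by decide) (f3126 H)

theorem f3128 : g 5 • path g [9, 8, 0, 3, 6] p = path g [9, 8, 0, 3, 6] p :=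
  scan (u := [6]) (w := [7, 6, 5, 7, 5, 8, 2, 3]) (i := 5) (r7_0_6 H) (step (f3124 H) rfl) (step (H.back (i := 2) (by decide) (f3127 H)) (step (H.back (i := 1) (by decide) (f1904 H)) (step (H.back (i := 0) (by decide) (f1837 H)) (step (H.back (i := 2) (by decide) (f1831 H)) (step (H.back (i := 0) (by decide) (f1835 H)) (step (H.back (i := 3) (by decide) (f1544 H)) (step (H.back (i := 7) (by decide) (f511 H)) (step (H.back (i := 8) (by decide) (f885 H)) rfl))))))))

theorem f3130 : g 2 • path g [9, 8, 0, 3, 6] p = path g [8, 4, 1, 0] p :=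
  scan (u := [6]) (w := [0, 6, 2, 0, 2, 1, 0, 2, 1, 0]) (i := 2) (r5_0_0 H) (step (f3124 H) rfl) (step (H.back (i := 5) (by decide) (f1902 H)) (step (H.back (i := 1) (by decide) (f304 H)) (step (H.back (i := 7) (by decide) (f292 H)) (step (H.back (i := 5) (by decide) (f1273 H)) (step (H.back (i := 7) (by decide) (f156 H)) (step (H.back (i := 6) (by decide) (f167 H)) (step (H.back (i := 5) (by decide) (f913 H)) (step (H.back (i := 7) (by decide) (f2263 H)) (step (H.back (i := 6) (by decide) (f2261 H)) (step (H.back (i := 5) (by decide) (f1844 H)) rfl))))))))))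

theorem f3132 : g 1 • path g [9, 8, 0, 3] p = path g [9, 8, 0, 3, 1] p :=
  rfl

theorem f3134 : g 1 • path g [9, 8, 0, 3, 1] p = path g [9, 8, 0, 3, 6] p :=
  scan (u := [1]) (w := [1]) (i := 1) (r1_0_0 H) (step (f3132 H) rfl) (step (H.back (i := 6) (by decide) (f3124 H)) rfl)

theorem f3135 : g 6 • path g [9, 8, 0, 3, 6] p = path g [9, 8, 0, 3, 1] p :=
  H.back (i := 1) (by decide) (f3134 H)

theorem f3138 : g 5 • path g [9, 8, 0, 3, 1] p = path g [4, 0, 3, 1] p :=
  scan (u := [1, 1, 5, 6]) (w := [6, 5]) (i := 5) (r4_1_1 H) (step (f3132 H) (step (f3134 H) (step (f3128 H) (step (f3135 H) rfl)))) (step (H.back (i := 1) (by decide) (f2269 H)) (step (H.back (i := 0) (by decide) (f1845 H)) rfl))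

theorem f3139 : g 0 • path g [4, 0, 3, 1] p = path g [9, 8, 0, 3, 1] p :=
  H.back (i := 5) (by decide) (f3138 H)

theorem f3176 : g 4 • path g [9, 8, 6, 8] p = path g [9, 8, 6, 8, 4] p :=
  rfl

theorem f3178 : g 4 • path g [9, 8, 6, 8, 4] p = path g [8, 4, 6, 3] p :=
  scan (u := [4]) (w := [4]) (i := 4) (r10_0_0 H) (step (f3176 H) rfl) (step (H.back (i := 9) (by decide) (f1896 H)) rfl)

theorem f3179 : g 9 • path g [8, 4, 6, 3] p = path g [9, 8, 6, 8, 4] p :=
  H.back (i := 4) (by decide) (f3178 H)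

theorem f3180 : g 3 • path g [9, 8, 6, 8, 4] p = path g [4, 0, 8, 4] p :=
  scan (u := [4]) (w := [4, 3]) (i := 3) (r15_0_0 H) (step (f3176 H) rfl) (step (H.back (i := 9) (by decide) (f2254 H)) (step (H.back (i := 8) (by decide) (f905 H)) rfl))

theorem f3182 : g 3 • path g [4, 0, 3, 9] p = path g [9, 8, 6, 8, 4] p :=
  scan (u := [3, 3]) (w := []) (i := 3) (r6_0_0 H) (step (f3180 H) (step (f2260 H) rfl)) rfl

theorem f3188 : g 0 • path g [9, 8, 6, 3] p = path g [9, 8, 6, 3, 0] p :=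
  rfl

theorem f3190 : g 0 • path g [9, 8, 6, 3, 0] p = path g [9, 8, 6, 3] p :=
  scan (u := [0]) (w := []) (i := 0) (r0_0_0 H) (step (f3188 H) rfl) rfl

theorem f3191 : g 5 • path g [9, 8, 6, 3] p = path g [9, 8, 6, 3, 0] p :=
  H.back (i := 0) (by decide) (f3190 H)

theorem f3307 : g 0 • path g [9, 3, 7, 6] p = path g [9, 3, 7, 6, 0] p :=
  rfl

theorem f3309 : g 0 • path g [9, 3, 7, 6, 0] p = path g [9, 3, 7, 6] p :=
  scan (u := [0]) (w := []) (i := 0) (r0_0_0 H) (step (f3307 H) rfl) rfl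

theorem f3310 : g 5 • path g [9, 3, 7, 6] p = path g [9, 3, 7, 6, 0] p :=
  H.back (i := 0) (by decide) (f3309 H)

theorem f3313 : g 6 • path g [9, 3, 7, 6, 0] p = path g [8, 6, 4, 7] p :=
  scan (u := [0]) (w := [6, 0, 1, 0, 1]) (i := 6) (r4_0_3 H) (step (f3307 H) rfl) (step (H.back (i := 1) (by decide) (f1874 H)) (step (H.back (i := 5) (by decide) (f1842 H)) (step (H.back (i := 6) (by decide) (f1935 H)) (step (H.back (i := 5) (by decide) (f1940 H)) (step (H.back (i := 6) (by decide) (f951 H)) rfl)))))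

theorem f3315 : g 2 • path g [9, 3, 7, 6, 0] p = path g [8, 6, 4, 6] p :=
  scan (u := [0]) (w := [1, 0, 2, 1, 0, 6, 2, 0, 6, 2]) (i := 2) (r5_0_5 H) (step (f3307 H) rfl) (step (H.back (i := 6) (by decide) (f1654 H)) (step (H.back (i := 5) (by decide) (f300 H)) (step (H.back (i := 7) (by decide) (f1821 H)) (step (H.back (i := 6) (by decide) (f1786 H)) (step (H.back (i := 5) (by decide) (f1771 H)) (step (H.back (i := 1) (by decide) (f1208 H)) (step (H.back (i := 7) (by decide) (f652 H)) (step (H.back (i := 5) (by decide) (f750 H)) (step (H.back (i := 1) (by decide) (f190 H)) (step (H.back (i := 7) (by decide) (f940 H)) rfl))))))))))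

theorem f3317 : g 7 • path g [9, 3, 7, 6, 0] p = path g [8, 6, 4, 6] p :=
  scan (u := [0, 2, 0, 4, 5, 7, 5]) (w := [5, 7, 5, 7, 4, 2, 0, 2, 0, 2]) (i := 7) (r11_0_1 H) (step (f3307 H) (step (f3315 H) (step (f1659 H) (step (f386 H) (step (f1532 H) (step (f942 H) (step (f3310 H) rfl))))))) (step (H.back (i := 0) (by decide) (f1657 H)) (step (H.back (i := 2) (by decide) (f2106 H)) (step (H.back (i := 0) (by decide) (f2110 H)) (step (H.back (i := 2) (by decide) (f2108 H)) (step (H.back (i := 9) (by decide) (f387 H)) (step (H.back (i := 7) (by decide) (f829 H)) (step (H.back (i := 5) (by decide) (f831 H)) (step (H.back (i := 7) (by decide) (f844 H)) (step (H.back (i := 5) (by decide) (f1537 H)) (step (H.back (i := 7) (by decide) (f940 H)) rfl))))))))))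

theorem f3318 : g 2 • path g [8, 6, 4, 6] p = path g [9, 3, 7, 6, 0] p :=
  H.back (i := 7) (by decide) (f3317 H)

theorem f3335 : g 9 • path g [9, 3, 7, 1] p = path g [9, 3, 7, 1, 9] p :=
  rfl

theorem f3337 : g 6 • path g [9, 3, 7, 1, 9] p = path g [9, 8, 6, 3, 0] p :=
  scan (u := [9]) (w := [5, 4, 0, 1]) (i := 6) (r14_1_4 H) (step (f3335 H) rfl) (step (H.back (i := 0) (by decide) (f3188 H)) (step (H.back (i := 9) (by decide) (f2242 H)) (step (H.back (i := 5) (by decide) (f1060 H)) (step (H.back (i := 6) (by decide) (f949 H)) rfl))))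

theorem f3338 : g 1 • path g [9, 8, 6, 3, 0] p = path g [9, 3, 7, 1, 9] p :=
  H.back (i := 6) (by decide) (f3337 H)

theorem f3339 : g 8 • path g [9, 3, 7, 1] p = path g [9, 3, 7, 1, 8] p :=
  rfl

theorem f3343 : g 7 • path g [9, 3, 7, 1, 8] p = path g [9, 0, 4, 7, 8] p :=
  scan (u := [8]) (w := [3, 0, 2, 0, 1, 2, 0, 1]) (i := 7) (r7_1_4 H) (step (f3339 H) rfl) (step (H.back (i := 8) (by decide) (f2934 H)) (step (H.back (i := 5) (by decide) (f1489 H)) (step (H.back (i := 7) (by decide) (f871 H)) (step (H.back (i := 5) (by decide) (f373 H)) (step (H.back (i := 6) (by decide) (f1521 H)) (step (H.back (i := 7) (by decide) (f464 H)) (step (H.back (i := 5) (by decide) (f1060 H)) (step (H.back (i := 6) (by decide) (f949 H)) rfl))))))))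

theorem f3345 : g 3 • path g [9, 3, 7, 1] p = path g [9, 3, 7, 1, 3] p :=
  rfl

theorem f3347 : g 3 • path g [9, 3, 7, 1, 3] p = path g [9, 3, 7, 1, 8] p :=
  scan (u := [3]) (w := [3]) (i := 3) (r6_0_0 H) (step (f3345 H) rfl) (step (H.back (i := 8) (by decide) (f3339 H)) rfl)

theorem f3349 : g 4 • path g [9, 3, 7, 1] p = path g [9, 3, 7, 1, 4] p :=
  rfl

theorem f3350 : g 9 • path g [9, 3, 7, 1, 4] p = path g [9, 3, 7, 1] p :=
  H.back (i := 4) (by decide) (f3349 H)

theorem f3351 : g 4 • path g [9, 3, 7, 1, 4] p = path g [9, 3, 7, 1, 9] p :=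
  scan (u := [4]) (w := [4]) (i := 4) (r10_0_0 H) (step (f3349 H) rfl) (step (H.back (i := 9) (by decide) (f3335 H)) rfl)

theorem f3352 : g 9 • path g [9, 3, 7, 1, 9] p = path g [9, 3, 7, 1, 4] p :=
  H.back (i := 4) (by decide) (f3351 H)

theorem f3397 : g 9 • path g [9, 3, 0, 6] p = path g [9, 3, 0, 6, 9] p :=
  rfl

theorem f3409 : g 4 • path g [9, 3, 0, 6] p = path g [9, 3, 0, 6, 4] p :=
  rfl

theorem f3411 : g 4 • path g [9, 3, 0, 6, 4] p = path g [9, 3, 0, 6, 9] p :=
  scan (u := [4]) (w := [4]) (i := 4) (r10_0_0 H) (step (f3409 H) rfl) (step (H.back (i := 9) (by decide) (f3397 H)) rfl)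

theorem f3412 : g 9 • path g [9, 3, 0, 6, 9] p = path g [9, 3, 0, 6, 4] p :=
  H.back (i := 4) (by decide) (f3411 H)

theorem f3413 : g 8 • path g [9, 3, 0, 1] p = path g [9, 3, 0, 1, 8] p :=
  rfl

theorem f3415 : g 8 • path g [9, 3, 0, 1, 8] p = path g [4, 8, 7, 9] p :=
  scan (u := [8]) (w := [8]) (i := 8) (r6_1_0 H) (step (f3413 H) rfl) (step (H.back (i := 3) (by decide) (f2280 H)) rfl)

theorem f3416 : g 3 • path g [4, 8, 7, 9] p = path g [9, 3, 0, 1, 8] p :=
  H.back (i := 8) (by decide) (f3415 H)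

theorem f3437 : g 7 • path g [9, 3, 6, 8] p = path g [9, 3, 6, 8, 7] p :=
  rfl

theorem f3439 : g 7 • path g [9, 3, 6, 8, 7] p = path g [9, 3, 6, 8] p :=
  scan (u := [7]) (w := []) (i := 7) (r2_1_0 H) (step (f3437 H) rfl) rfl

theorem f3440 : g 2 • path g [9, 3, 6, 8] p = path g [9, 3, 6, 8, 7] p :=
  H.back (i := 7) (by decide) (f3439 H)

theorem f3441 : g 3 • path g [9, 3, 6, 8, 7] p = path g [4, 7, 3, 6] p :=
  scan (u := [7]) (w := [0, 2, 0, 1, 2, 0, 1, 8]) (i := 3) (r7_1_5 H) (step (f3437 H) rfl) (step (H.back (i := 5) (by decide) (f2196 H)) (step (H.back (i := 7) (by decide) (f2511 H)) (step (H.back (i := 5) (by decide) (f2507 H)) (step (H.back (i := 6) (by decide) (f519 H)) (step (H.back (i := 7) (by decide) (f844 H)) (step (H.back (i := 5) (by decide) (f1537 H)) (step (H.back (i := 6) (by decide) (f191 H)) (step (H.back (i := 3) (by decide) (f995 H)) rfl))))))))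

theorem f3457 : g 9 • path g [9, 3, 6, 3] p = path g [9, 3, 6, 3, 9] p :=
  rfl

theorem f3459 : g 9 • path g [9, 3, 6, 3, 9] p = path g [8, 6, 4, 8] p :=
  scan (u := [9]) (w := [9]) (i := 9) (r10_1_0 H) (step (f3457 H) rfl) (step (H.back (i := 4) (by decide) (f1653 H)) rfl)

theorem f3460 : g 4 • path g [8, 6, 4, 8] p = path g [9, 3, 6, 3, 9] p :=
  H.back (i := 9) (by decide) (f3459 H)

theorem f3461 : g 8 • path g [9, 3, 6, 3, 9] p = path g [8, 6, 3, 9] p :=
  scan (u := [9]) (w := [9, 8]) (i := 8) (r15_1_1 H) (step (f3457 H) rfl) (step (H.back (i := 4) (by decide) (f1641 H)) (step (H.back (i := 3) (by decide) (f998 H)) rfl))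

theorem f3463 : g 8 • path g [8, 6, 8, 4] p = path g [9, 3, 6, 3, 9] p :=
  scan (u := [8, 8]) (w := []) (i := 8) (r6_1_0 H) (step (f3461 H) (step (f1619 H) rfl)) rfl

theorem f3464 : g 3 • path g [9, 3, 6, 3, 9] p = path g [8, 6, 8, 4] p :=
  H.back (i := 8) (by decide) (f3463 H)

theorem f3559 : g 3 • path g [9, 1, 0, 9] p = path g [9, 1, 0, 9, 3] p :=
  rfl

theorem f3560 : g 8 • path g [9, 1, 0, 9, 3] p = path g [9, 1, 0, 9] p :=
  H.back (i := 3) (by decide) (f3559 H)

theorem f3561 : g 3 • path g [9, 1, 0, 9, 3] p = path g [9, 7, 8, 0, 4] p :=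
  scan (u := [3]) (w := [3]) (i := 3) (r6_0_0 H) (step (f3559 H) rfl) (step (H.back (i := 8) (by decide) (f2517 H)) rfl)

theorem f3562 : g 8 • path g [9, 7, 8, 0, 4] p = path g [9, 1, 0, 9, 3] p :=
  H.back (i := 3) (by decide) (f3561 H)

theorem f3563 : g 4 • path g [9, 1, 0, 9, 3] p = path g [9, 3, 0, 1, 8] p :=
  scan (u := [3]) (w := [3, 4]) (i := 4) (r15_0_1 H) (step (f3559 H) rfl) (step (H.back (i := 8) (by decide) (f3413 H)) (step (H.back (i := 9) (by decide) (f1080 H)) rfl))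

theorem f3564 : g 9 • path g [9, 3, 0, 1, 8] p = path g [9, 1, 0, 9, 3] p :=
  H.back (i := 4) (by decide) (f3563 H)

theorem f3633 : g 0 • path g [8, 9, 0, 9] p = path g [8, 9, 0, 9, 0] p :=
  rfl

theorem f3637 : g 1 • path g [8, 9, 0, 9, 0] p = path g [8, 9, 1, 9] p :=
  scan (u := [0]) (w := [4, 6, 5, 9]) (i := 1) (r14_0_5 H) (step (f3633 H) rfl) (step (H.back (i := 9) (by decide) (f1575 H)) (step (H.back (i := 1) (by decide) (f224 H)) (step (H.back (i := 0) (by decide) (f220 H)) (step (H.back (i := 4) (by decide) (f1554 H)) rfl))))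

theorem f3679 : g 0 • path g [8, 9, 0, 4] p = path g [8, 9, 0, 4, 0] p :=
  rfl

theorem f3681 : g 0 • path g [8, 9, 0, 4, 0] p = path g [8, 9, 0, 4] p :=
  scan (u := [0]) (w := []) (i := 0) (r0_0_0 H) (step (f3679 H) rfl) rfl

theorem f3683 : g 1 • path g [8, 9, 0, 4, 0] p = path g [8, 9, 1, 4] p :=
  scan (u := [0]) (w := [4, 6, 5, 9]) (i := 1) (r14_0_5 H) (step (f3679 H) rfl) (step (H.back (i := 9) (by decide) (f1590 H)) (step (H.back (i := 1) (by decide) (f3637 H)) (step (H.back (i := 0) (by decide) (f3633 H)) (step (H.back (i := 4) (by decide) (f1571 H)) rfl))))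

theorem f3684 : g 6 • path g [8, 9, 1, 4] p = path g [8, 9, 0, 4, 0] p :=
  H.back (i := 1) (by decide) (f3683 H)

theorem f3685 : g 6 • path g [8, 9, 0, 4] p = path g [8, 9, 0, 4, 6] p :=
  rfl

theorem f3687 : g 5 • path g [8, 9, 0, 4, 6] p = path g [9, 3, 0, 6, 4] p :=
  scan (u := [6]) (w := [9, 0, 1, 4]) (i := 5) (r14_0_2 H) (step (f3685 H) rfl) (step (H.back (i := 4) (by decide) (f3409 H)) (step (H.back (i := 5) (by decide) (f1565 H)) (step (H.back (i := 6) (by decide) (f1557 H)) (step (H.back (i := 9) (by decide) (f1570 H)) rfl))))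

theorem f3689 : g 5 • path g [9, 3, 0, 6, 4] p = path g [8, 9, 0, 4, 6] p :=
  scan (u := [5]) (w := []) (i := 5) (r0_1_0 H) (step (f3687 H) rfl) rfl

theorem f3690 : g 0 • path g [8, 9, 0, 4, 6] p = path g [9, 3, 0, 6, 4] p :=
  H.back (i := 5) (by decide) (f3689 H)

theorem f3691 : g 1 • path g [8, 9, 0, 4] p = path g [8, 9, 0, 4, 1] p :=
  rfl

theorem f3693 : g 1 • path g [8, 9, 0, 4, 1] p = path g [8, 9, 0, 4, 6] p :=
  scan (u := [1]) (w := [1]) (i := 1) (r1_0_0 H) (step (f3691 H) rfl) (step (H.back (i := 6) (by decide) (f3685 H)) rfl)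

theorem f3699 : g 0 • path g [8, 9, 1, 9] p = path g [8, 9, 1, 9, 0] p :=
  rfl

theorem f3703 : g 1 • path g [8, 9, 1, 9, 0] p = path g [9, 3, 0, 6, 9] p :=
  scan (u := [0]) (w := [4, 6, 5, 9]) (i := 1) (r14_0_5 H) (step (f3699 H) rfl) (step (H.back (i := 9) (by decide) (f3397 H)) (step (H.back (i := 1) (by decide) (f980 H)) (step (H.back (i := 0) (by decide) (f1163 H)) (step (H.back (i := 4) (by decide) (f1576 H)) rfl))))

theorem f3771 : g 0 • path g [8, 9, 1, 4] p = path g [8, 9, 1, 4, 0] p :=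
  rfl

theorem f3773 : g 0 • path g [8, 9, 1, 4, 0] p = path g [8, 9, 1, 4] p :=
  scan (u := [0]) (w := []) (i := 0) (r0_0_0 H) (step (f3771 H) rfl) rfl

theorem f3775 : g 1 • path g [8, 9, 1, 4, 0] p = path g [9, 3, 0, 6, 4] p :=
  scan (u := [0]) (w := [4, 6, 5, 9]) (i := 1) (r14_0_5 H) (step (f3771 H) rfl) (step (H.back (i := 9) (by decide) (f3412 H)) (step (H.back (i := 1) (by decide) (f3703 H)) (step (H.back (i := 0) (by decide) (f3699 H)) (step (H.back (i := 4) (by decide) (f1589 H)) rfl))))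

theorem f3776 : g 6 • path g [9, 3, 0, 6, 4] p = path g [8, 9, 1, 4, 0] p :=
  H.back (i := 1) (by decide) (f3775 H)

theorem f3783 : g 1 • path g [8, 9, 1, 4] p = path g [8, 9, 1, 4, 1] p :=
  rfl

theorem f3785 : g 1 • path g [8, 9, 1, 4, 1] p = path g [8, 9, 0, 4, 0] p :=
  scan (u := [1]) (w := [1]) (i := 1) (r1_0_0 H) (step (f3783 H) rfl) (step (H.back (i := 6) (by decide) (f3684 H)) rfl)

theorem f3885 : g 6 • path g [8, 6, 3, 0] p = path g [8, 6, 3, 0, 6] p :=
  rfl

theorem f3891 : g 1 • path g [8, 6, 3, 0] p = path g [8, 6, 3, 0, 1] p :=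
  rfl

theorem f3893 : g 1 • path g [8, 6, 3, 0, 1] p = path g [8, 6, 3, 0, 6] p :=
  scan (u := [1]) (w := [1]) (i := 1) (r1_0_0 H) (step (f3891 H) rfl) (step (H.back (i := 6) (by decide) (f3885 H)) rfl)

theorem f3895 : g 2 • path g [8, 6, 3, 0, 1] p = path g [8, 6, 3, 0, 6] p :=
  scan (u := [1]) (w := [1, 2]) (i := 2) (r3_0_0 H) (step (f3891 H) rfl) (step (H.back (i := 6) (by decide) (f3885 H)) (step (H.back (i := 7) (by decide) (f1626 H)) rfl))

theorem f3897 : g 0 • path g [8, 6, 3, 0, 1] p = path g [3, 6, 3, 1] p :=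
  scan (u := [1]) (w := [1, 0, 6, 6, 0]) (i := 0) (r4_0_0 H) (step (f3891 H) rfl) (step (H.back (i := 6) (by decide) (f2008 H)) (step (H.back (i := 5) (by decide) (f2001 H)) (step (H.back (i := 1) (by decide) (f1631 H)) (step (H.back (i := 1) (by decide) (f1629 H)) (step (H.back (i := 5) (by decide) (f1622 H)) rfl)))))

theorem f3899 : g 0 • path g [3, 6, 3, 1] p = path g [8, 6, 3, 0, 1] p :=
  scan (u := [0]) (w := []) (i := 0) (r0_0_0 H) (step (f3897 H) rfl) rfl

theorem f3900 : g 5 • path g [8, 6, 3, 0, 1] p = path g [3, 6, 3, 1] p :=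
  H.back (i := 0) (by decide) (f3899 H)

theorem f3901 : g 2 • path g [8, 6, 3, 0, 6] p = path g [8, 6, 3, 0, 1] p :=
  scan (u := [2]) (w := []) (i := 2) (r2_0_0 H) (step (f3895 H) rfl) rfl

theorem f3902 : g 7 • path g [8, 6, 3, 0, 1] p = path g [8, 6, 3, 0, 6] p :=
  H.back (i := 2) (by decide) (f3901 H)

theorem f3949 : g 7 • path g [8, 6, 4, 8] p = path g [8, 6, 4, 8, 7] p :=
  rfl

theorem f3951 : g 7 • path g [8, 6, 4, 8, 7] p = path g [8, 6, 4, 8] p :=
  scan (u := [7]) (w := []) (i := 7) (r2_1_0 H) (step (f3949 H) rfl) rfl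

theorem f3952 : g 2 • path g [8, 6, 4, 8] p = path g [8, 6, 4, 8, 7] p :=
  H.back (i := 7) (by decide) (f3951 H)

theorem f3953 : g 3 • path g [8, 6, 4, 8, 7] p = path g [4, 8, 0, 6] p :=
  scan (u := [7]) (w := [0, 2, 0, 1, 2, 0, 1, 8]) (i := 3) (r7_1_5 H) (step (f3949 H) rfl) (step (H.back (i := 5) (by decide) (f2304 H)) (step (H.back (i := 7) (by decide) (f1201 H)) (step (H.back (i := 5) (by decide) (f2598 H)) (step (H.back (i := 6) (by decide) (f2593 H)) (step (H.back (i := 7) (by decide) (f2105 H)) (step (H.back (i := 5) (by decide) (f1656 H)) (step (H.back (i := 6) (by decide) (f1654 H)) (step (H.back (i := 3) (by decide) (f1649 H)) rfl))))))))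

theorem f3954 : g 8 • path g [4, 8, 0, 6] p = path g [8, 6, 4, 8, 7] p :=
  H.back (i := 3) (by decide) (f3953 H)

theorem f3967 : g 8 • path g [8, 6, 4, 6] p = path g [8, 6, 4, 6, 8] p :=
  rfl

theorem f3971 : g 7 • path g [8, 6, 4, 6, 8] p = path g [8, 4, 1, 8] p :=
  scan (u := [8]) (w := [3, 0, 2, 0, 1, 2, 0, 1]) (i := 7) (r7_1_4 H) (step (f3967 H) rfl) (step (H.back (i := 8) (by decide) (f1909 H)) (step (H.back (i := 5) (by decide) (f1900 H)) (step (H.back (i := 7) (by decide) (f3126 H)) (step (H.back (i := 5) (by decide) (f3128 H)) (step (H.back (i := 6) (by decide) (f3124 H)) (step (H.back (i := 7) (by decide) (f1780 H)) (step (H.back (i := 5) (by decide) (f1840 H)) (step (H.back (i := 6) (by decide) (f1820 H)) rfl))))))))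

theorem f3972 : g 2 • path g [8, 4, 1, 8] p = path g [8, 6, 4, 6, 8] p :=
  H.back (i := 7) (by decide) (f3971 H)

theorem f3973 : g 3 • path g [8, 6, 4, 6] p = path g [8, 6, 4, 6, 3] p :=
  rfl

theorem f3974 : g 8 • path g [8, 6, 4, 6, 3] p = path g [8, 6, 4, 6] p :=
  H.back (i := 3) (by decide) (f3973 H)

theorem f3975 : g 3 • path g [8, 6, 4, 6, 3] p = path g [8, 6, 4, 6, 8] p :=
  scan (u := [3]) (w := [3]) (i := 3) (r6_0_0 H) (step (f3973 H) rfl) (step (H.back (i := 8) (by decide) (f3967 H)) rfl)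

theorem f3976 : g 8 • path g [8, 6, 4, 6, 8] p = path g [8, 6, 4, 6, 3] p :=
  H.back (i := 3) (by decide) (f3975 H)

theorem f3992 : g 7 • path g [8, 1, 9, 3] p = path g [8, 1, 9, 3, 7] p :=
  rfl

theorem f3993 : g 2 • path g [8, 1, 9, 3, 7] p = path g [8, 1, 9, 3] p :=
  H.back (i := 7) (by decide) (f3992 H)

theorem f3994 : g 7 • path g [8, 1, 9, 3, 7] p = path g [8, 1, 9, 3] p :=
  scan (u := [7]) (w := []) (i := 7) (r2_1_0 H) (step (f3992 H) rfl) rfl

theorem f3996 : g 9 • path g [8, 1, 9, 3] p = path g [8, 1, 9, 3, 9] p :=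
  rfl

theorem f3998 : g 9 • path g [8, 1, 9, 3, 9] p = path g [8, 1, 4, 8] p :=
  scan (u := [9]) (w := [9]) (i := 9) (r10_1_0 H) (step (f3996 H) rfl) (step (H.back (i := 4) (by decide) (f1762 H)) rfl)

theorem f3999 : g 4 • path g [8, 1, 4, 8] p = path g [8, 1, 9, 3, 9] p :=
  H.back (i := 9) (by decide) (f3998 H)

theorem f4000 : g 8 • path g [8, 1, 9, 3, 9] p = path g [8, 1, 3, 9] p :=
  scan (u := [9]) (w := [9, 8]) (i := 8) (r15_1_1 H) (step (f3996 H) rfl) (step (H.back (i := 4) (by decide) (f1716 H)) (step (H.back (i := 3) (by decide) (f1681 H)) rfl))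

theorem f4001 : g 3 • path g [8, 1, 3, 9] p = path g [8, 1, 9, 3, 9] p :=
  H.back (i := 8) (by decide) (f4000 H)

theorem f4002 : g 8 • path g [8, 1, 8, 4] p = path g [8, 1, 9, 3, 9] p :=
  scan (u := [8, 8]) (w := []) (i := 8) (r6_1_0 H) (step (f4000 H) (step (f1717 H) rfl)) rfl

theorem f4003 : g 3 • path g [8, 1, 9, 3, 9] p = path g [8, 1, 8, 4] p :=
  H.back (i := 8) (by decide) (f4002 H)

theorem f4004 : g 0 • path g [8, 1, 9, 3] p = path g [8, 1, 9, 3, 0] p :=
  rfl

theorem f4005 : g 5 • path g [8, 1, 9, 3, 0] p = path g [8, 1, 9, 3] p :=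
  H.back (i := 0) (by decide) (f4004 H)

theorem f4006 : g 0 • path g [8, 1, 9, 3, 0] p = path g [8, 1, 9, 3] p :=
  scan (u := [0]) (w := []) (i := 0) (r0_0_0 H) (step (f4004 H) rfl) rfl

theorem f4008 : g 2 • path g [8, 1, 9, 3, 0] p = path g [9, 8, 7, 9, 0] p :=
  scan (u := [0]) (w := [0, 8, 6, 5, 7, 6, 5, 7, 5, 3]) (i := 2) (r9_1_4 H) (step (f4004 H) rfl) (step (H.back (i := 5) (by decide) (f2963 H)) (step (H.back (i := 3) (by decide) (f1517 H)) (step (H.back (i := 1) (by decide) (f1520 H)) (step (H.back (i := 0) (by decide) (f1174 H)) (step (H.back (i := 2) (by decide) (f463 H)) (step (H.back (i := 1) (by decide) (f2244 H)) (step (H.back (i := 0) (by decide) (f2287 H)) (step (H.back (i := 2) (by decide) (f2286 H)) (step (H.back (i := 0) (by decide) (f1671 H)) (step (H.back (i := 8) (by decide) (f1680 H)) rfl))))))))))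

theorem f4009 : g 7 • path g [9, 8, 7, 9, 0] p = path g [8, 1, 9, 3, 0] p :=
  H.back (i := 2) (by decide) (f4008 H)

theorem f4010 : path g [9, 0, 9, 8, 0] p = path g [8, 1, 9, 3, 7] p :=
  close (u := [0, 2, 0, 4, 5, 7, 5, 7, 5, 7, 5, 7, 4, 2, 0, 2, 0]) (w := [2]) (r11_0_1 H) (step (f4004 H) (step (f4008 H) (step (f2962 H) (step (f675 H) (step (f1273 H) (step (f292 H) (step (f297 H) (step (f1872 H) (step (f1861 H) (step (f841 H) (step (f1425 H) (step (f700 H) (step (f628 H) (step (f2865 H) (step (f2869 H) (step (f2799 H) (step (f2804 H) rfl))))))))))))))))) (step (H.back (i := 7) (by decide) (f3992 H)) rfl)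

theorem f4011 : path g [8, 1, 9, 3, 7] p = path g [9, 0, 9, 8, 0] p :=
  (f4010 H).symm

theorem f4012 : g 2 • path g [9, 0, 9, 8, 0] p = path g [8, 1, 9, 3] p :=
  (congrArg (g 2 • ·) (f4011 H).symm).trans (f3993 H)

theorem f4014 : g 7 • path g [8, 1, 9, 3] p = path g [9, 0, 9, 8, 0] p :=
  H.back (i := 2) (by decide) (f4012 H)

theorem f4015 : g 7 • path g [9, 0, 9, 8, 0] p = path g [8, 1, 9, 3] p :=
  (congrArg (g 7 • ·) (f4011 H).symm).trans (f3994 H)

theorem f4017 : g 2 • path g [8, 1, 9, 3] p = path g [9, 0, 9, 8, 0] p :=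
  H.back (i := 7) (by decide) (f4015 H)

theorem f4018 : g 8 • path g [3, 6, 9, 7] p = path g [9, 8, 7, 9, 0] p :=
  scan (u := [5, 7, 5, 3, 1, 2, 0, 1, 2, 0, 2, 0]) (w := [7]) (i := 8) (r8_1_2 H) (step (f4005 H) (step (f4014 H) (step (f2805 H) (step (f601 H) (step (f803 H) (step (f703 H) (step (f1416 H) (step (f1122 H) (step (f653 H) (step (f752 H) (step (f954 H) (step (f1938 H) rfl)))))))))))) (step (H.back (i := 2) (by decide) (f4008 H)) rfl)

theorem f4019 : g 3 • path g [9, 8, 7, 9, 0] p = path g [3, 6, 9, 7] p :=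
  H.back (i := 8) (by decide) (f4018 H)

theorem f4020 : g 2 • path g [9, 8, 7, 9, 0] p = path g [9, 0, 9, 7, 8] p :=
  scan (u := [8]) (w := [3, 6, 5, 7, 6, 5, 7, 5]) (i := 2) (r7_0_3 H) (step (f4018 H) rfl) (step (H.back (i := 8) (by decide) (f2787 H)) (step (H.back (i := 1) (by decide) (f768 H)) (step (H.back (i := 0) (by decide) (f1487 H)) (step (H.back (i := 2) (by decide) (f217 H)) (step (H.back (i := 1) (by decide) (f1177 H)) (step (H.back (i := 0) (by decide) (f753 H)) (step (H.back (i := 2) (by decide) (f952 H)) (step (H.back (i := 0) (by decide) (f1939 H)) rfl))))))))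

theorem f4022 : path g [8, 1, 9, 3, 0] p = path g [9, 0, 9, 7, 8] p :=
  close (u := [8, 7]) (w := [3, 0, 2, 0, 1, 2, 0, 1]) (r7_1_4 H) (step (f4018 H) (step (f4009 H) rfl)) (step (H.back (i := 8) (by decide) (f2787 H)) (step (H.back (i := 5) (by decide) (f1791 H)) (step (H.back (i := 7) (by decide) (f1788 H)) (step (H.back (i := 5) (by decide) (f302 H)) (step (H.back (i := 6) (by decide) (f1815 H)) (step (H.back (i := 7) (by decide) (f1834 H)) (step (H.back (i := 5) (by decide) (f1842 H)) (step (H.back (i := 6) (by decide) (f1935 H)) rfl))))))))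

theorem f4023 : g 5 • path g [9, 0, 9, 7, 8] p = path g [8, 1, 9, 3] p :=
  (congrArg (g 5 • ·) (f4022 H).symm).trans (f4005 H)

theorem f4026 : g 0 • path g [9, 0, 9, 7, 8] p = path g [8, 1, 9, 3] p :=
  (congrArg (g 0 • ·) (f4022 H).symm).trans (f4006 H)

theorem f4028 : g 5 • path g [8, 1, 9, 3] p = path g [9, 0, 9, 7, 8] p :=
  H.back (i := 0) (by decide) (f4026 H)

theorem f4029 : g 2 • path g [9, 0, 9, 7, 8] p = path g [9, 8, 7, 9, 0] p :=
  (congrArg (g 2 • ·) (f4022 H).symm).trans (f4008 H)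

theorem f4031 : g 7 • path g [9, 8, 7, 9, 0] p = path g [9, 0, 9, 7, 8] p :=
  H.back (i := 2) (by decide) (f4029 H)

theorem f4032 : g 0 • path g [3, 6, 9, 8] p = path g [9, 8, 7, 9, 7] p :=
  scan (u := [2, 3, 5, 7, 5, 7, 6, 5, 7, 6, 8]) (w := [2, 0]) (i := 0) (r8_0_12 H) (step (f4020 H) (step (f2788 H) (step (f1790 H) (step (f1821 H) (step (f300 H) (step (f1644 H) (step (f1873 H) (step (f1836 H) (step (f436 H) (step (f814 H) (step (f1941 H) rfl))))))))))) (step (H.back (i := 7) (by decide) (f2956 H)) (step (H.back (i := 5) (by decide) (f2961 H)) rfl))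

theorem f4033 : g 5 • path g [9, 8, 7, 9, 7] p = path g [3, 6, 9, 8] p :=
  H.back (i := 0) (by decide) (f4032 H)

theorem f4034 : g 2 • path g [9, 7, 8, 0, 9] p = path g [3, 6, 9, 8] p :=
  scan (u := [2, 0, 2, 0, 9, 5, 7, 5, 7, 5, 7, 5, 7, 9]) (w := [0, 2, 0]) (i := 2) (r11_1_9 H) (step (f4020 H) (step (f4026 H) (step (f4017 H) (step (f2806 H) (step (f602 H) (step (f1866 H) (step (f1867 H) (step (f295 H) (step (f290 H) (step (f1268 H) (step (f158 H) (step (f163 H) (step (f511 H) (step (f2496 H) rfl)))))))))))))) (step (H.back (i := 5) (by decide) (f4033 H)) (step (H.back (i := 7) (by decide) (f2956 H)) (step (H.back (i := 5) (by decide) (f2961 H)) rfl)))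

theorem f4036 : g 2 • path g [3, 6, 9, 8] p = path g [9, 7, 8, 0, 9] p :=
  scan (u := [2]) (w := []) (i := 2) (r2_0_0 H) (step (f4034 H) rfl) rfl

theorem f4037 : g 7 • path g [9, 7, 8, 0, 9] p = path g [3, 6, 9, 8] p :=
  H.back (i := 2) (by decide) (f4036 H)

theorem f4038 : g 0 • path g [9, 8, 7, 9, 7] p = path g [3, 6, 9, 8] p :=
  scan (u := [2, 4, 7, 5, 7, 9, 2]) (w := []) (i := 0) (r13_0_1 H) (step (f4036 H) (step (f2497 H) (step (f513 H) (step (f161 H) (step (f156 H) (step (f674 H) (step (f2959 H) rfl))))))) rfl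

theorem f4039 : g 5 • path g [3, 6, 9, 8] p = path g [9, 8, 7, 9, 7] p :=
  H.back (i := 0) (by decide) (f4038 H)

theorem f4040 : path g [3, 6, 3, 9] p = path g [9, 0, 9, 8, 7] p :=
  close (u := [0, 9, 5, 7, 5, 7, 5, 7, 5, 7, 9]) (w := [2, 0, 2, 0, 2, 0, 2]) (r11_1_12 H) (step (f4038 H) (step (f1943 H) (step (f1992 H) (step (f1994 H) (step (f1990 H) (step (f1966 H) (step (f1722 H) (step (f1724 H) (step (f1720 H) (step (f1965 H) (step (f1983 H) rfl))))))))))) (step (H.back (i := 7) (by decide) (f2798 H)) (step (H.back (i := 5) (by decide) (f2805 H)) (step (H.back (i := 7) (by decide) (f4014 H)) (step (H.back (i := 5) (by decide) (f4023 H)) (step (H.back (i := 7) (by decide) (f4031 H)) (step (H.back (i := 5) (by decide) (f2963 H)) (step (H.back (i := 7) (by decide) (f2958 H)) rfl)))))))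

theorem f4041 : path g [9, 0, 9, 8, 7] p = path g [3, 6, 3, 9] p :=
  (f4040 H).symm

theorem f4045 : g 7 • path g [3, 6, 3, 9] p = path g [9, 0, 9, 8] p :=
  (congrArg (g 7 • ·) (f4041 H).symm).trans (f2800 H)

theorem f4097 : path g [9, 7, 8, 0, 4] p = path g [8, 1, 3, 0] p :=
  close (u := [7, 5, 7, 4, 2]) (w := [0, 2, 9]) (r13_1_6 H) (step (f4045 H) (step (f2807 H) (step (f4015 H) (step (f1762 H) (step (f2518 H) rfl))))) (step (H.back (i := 5) (by decide) (f1722 H)) (step (H.back (i := 7) (by decide) (f1966 H)) (step (H.back (i := 4) (by decide) (f1984 H)) rfl)))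

theorem f4098 : g 9 • path g [8, 1, 3, 0] p = path g [9, 7, 8, 0] p :=
  (congrArg (g 9 • ·) (f4097 H).symm).trans (f2513 H)

theorem f4101 : g 4 • path g [8, 1, 3, 0] p = path g [9, 7, 8, 0, 9] p :=
  (congrArg (g 4 • ·) (f4097 H).symm).trans (f2514 H)

theorem f4109 : g 2 • path g [8, 1, 3, 0] p = path g [8, 1, 4, 8] p :=
  (congrArg (g 2 • ·) (f4097 H).symm).trans (f2521 H)

theorem f4110 : path g [8, 1, 3, 0] p = path g [8, 1, 4, 8] p :=
  (f1723 H).symm.trans (f4109 H)

theorem f4111 : g 8 • path g [8, 1, 3, 0] p = path g [9, 1, 0, 9, 3] p :=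
  (congrArg (g 8 • ·) (f4097 H).symm).trans (f3562 H)

theorem f4114 : path g [8, 1, 4, 8] p = path g [8, 1, 3, 0] p :=
  (f4110 H).symm

theorem f4131 : g 4 • path g [8, 1, 3, 0] p = path g [8, 1, 9, 3, 9] p :=
  (congrArg (g 4 • ·) (f4114 H).symm).trans (f3999 H)

theorem f4132 : path g [9, 7, 8, 0, 9] p = path g [8, 1, 9, 3, 9] p :=
  (f4101 H).symm.trans (f4131 H)

theorem f4133 : path g [8, 1, 9, 3, 9] p = path g [9, 7, 8, 0, 9] p :=
  (f4132 H).symm

theorem f4139 : g 8 • path g [9, 7, 8, 0, 9] p = path g [8, 1, 3, 9] p :=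
  (congrArg (g 8 • ·) (f4133 H).symm).trans (f4000 H)

theorem f4140 : path g [4, 8, 7, 4] p = path g [8, 1, 3, 9] p :=
  (f2498 H).symm.trans (f4139 H)

theorem f4141 : g 3 • path g [9, 7, 8, 0, 9] p = path g [8, 1, 8, 4] p :=
  (congrArg (g 3 • ·) (f4133 H).symm).trans (f4003 H)

theorem f4143 : g 8 • path g [8, 1, 8, 4] p = path g [9, 7, 8, 0, 9] p :=
  H.back (i := 3) (by decide) (f4141 H)

theorem f4146 : g 4 • path g [8, 1, 3, 9] p = path g [4, 8, 7, 9] p :=
  (congrArg (g 4 • ·) (f4140 H).symm).trans (f2295 H)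

theorem f4147 : path g [8, 1, 3] p = path g [4, 8, 7, 9] p :=
  (f1714 H).symm.trans (f4146 H)

theorem f4149 : g 3 • path g [8, 1, 3, 9] p = path g [9, 7, 8, 0, 9] p :=
  (f4001 H).trans (f4133 H)

theorem f4151 : path g [4, 8, 7, 9] p = path g [8, 1, 3] p :=
  (f4147 H).symm

theorem f4159 : g 3 • path g [8, 1, 3] p = path g [9, 3, 0, 1, 8] p :=
  (congrArg (g 3 • ·) (f4151 H).symm).trans (f3416 H)

theorem f4160 : path g [8, 1, 8] p = path g [9, 3, 0, 1, 8] p :=
  (f284 H).symm.trans (f4159 H)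

theorem f4161 : path g [9, 3, 0, 1, 8] p = path g [8, 1, 8] p :=
  (f4160 H).symm

theorem f4171 : g 9 • path g [8, 1, 8] p = path g [9, 1, 0, 9, 3] p :=
  (congrArg (g 9 • ·) (f4161 H).symm).trans (f3564 H)

theorem f4172 : path g [8, 1, 8, 9] p = path g [9, 1, 0, 9, 3] p :=
  (f1683 H).symm.trans (f4171 H)

theorem f4173 : path g [9, 1, 0, 9, 3] p = path g [8, 1, 8, 9] p :=
  (f4172 H).symm

theorem f4174 : g 8 • path g [8, 1, 8, 9] p = path g [9, 1, 0, 9] p :=
  (congrArg (g 8 • ·) (f4173 H).symm).trans (f3560 H)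

theorem f4175 : path g [8, 1, 4] p = path g [9, 1, 0, 9] p :=
  (f1685 H).symm.trans (f4174 H)

theorem f4177 : g 3 • path g [8, 1, 8, 9] p = path g [8, 1, 3, 0] p :=
  (f1760 H).trans (f4114 H)

theorem f4182 : path g [9, 1, 0, 9] p = path g [8, 1, 4] p :=
  (f4175 H).symm

theorem f4196 : g 8 • path g [8, 1, 4] p = path g [8, 1, 3, 0] p :=
  (f1757 H).trans (f4114 H)

theorem f4200 : g 7 • path g [8, 1, 4] p = path g [9, 8, 7, 8, 6] p :=
  (congrArg (g 7 • ·) (f4182 H).symm).trans (f2993 H)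

theorem f4201 : path g [8, 1, 4, 7] p = path g [9, 8, 7, 8, 6] p :=
  (f1731 H).symm.trans (f4200 H)

theorem f4205 : path g [9, 8, 7, 8, 6] p = path g [8, 1, 4, 7] p :=
  (f4201 H).symm

theorem f4220 : g 6 • path g [8, 1, 4, 7] p = path g [9, 8, 7, 8, 1] p :=
  (congrArg (g 6 • ·) (f4205 H).symm).trans (f2997 H)

theorem f4221 : path g [9, 7, 8, 0, 1] p = path g [9, 8, 7, 8, 1] p :=
  (f2503 H).symm.trans (f4220 H)

theorem f4222 : path g [9, 8, 7, 8, 1] p = path g [9, 7, 8, 0, 1] p :=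
  (f4221 H).symm

theorem f4234 : g 7 • path g [9, 7, 8, 0, 1] p = path g [4, 8, 0, 6] p :=
  (congrArg (g 7 • ·) (f4222 H).symm).trans (f3005 H)

theorem f4235 : path g [9, 8, 0, 6] p = path g [4, 8, 0, 6] p :=
  (f2511 H).symm.trans (f4234 H)

theorem f4236 : path g [4, 8, 0, 6] p = path g [9, 8, 0, 6] p :=
  (f4235 H).symm

theorem f4252 : g 8 • path g [9, 8, 0, 6] p = path g [8, 6, 4, 8, 7] p :=
  (congrArg (g 8 • ·) (f4236 H).symm).trans (f3954 H)

theorem f4253 : path g [9, 8, 0, 6, 8] p = path g [8, 6, 4, 8, 7] p :=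
  (f3104 H).symm.trans (f4252 H)

theorem f4254 : path g [8, 6, 4, 8, 7] p = path g [9, 8, 0, 6, 8] p :=
  (f4253 H).symm

theorem f4257 : g 7 • path g [9, 8, 0, 6, 8] p = path g [8, 6, 4, 8] p :=
  (congrArg (g 7 • ·) (f4254 H).symm).trans (f3951 H)

theorem f4258 : path g [8, 4, 6, 8] p = path g [8, 6, 4, 8] p :=
  (f3106 H).symm.trans (f4257 H)

theorem f4268 : g 4 • path g [8, 6, 4, 8] p = path g [4, 0, 3, 9] p :=
  (congrArg (g 4 • ·) (f4258 H).symm).trans (f2258 H)

theorem f4269 : path g [9, 3, 6, 3, 9] p = path g [4, 0, 3, 9] p :=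
  (f3460 H).symm.trans (f4268 H)

theorem f4271 : g 2 • path g [8, 6, 4, 8] p = path g [9, 8, 0, 6, 8] p :=
  (f3952 H).trans (f4254 H)

theorem f4279 : g 9 • path g [4, 0, 3, 9] p = path g [8, 6, 4, 8] p :=
  (f2257 H).trans (f4258 H)

theorem f4283 : g 3 • path g [4, 0, 3, 9] p = path g [8, 6, 8, 4] p :=
  (congrArg (g 3 • ·) (f4269 H).symm).trans (f3464 H)

theorem f4284 : path g [9, 8, 6, 8, 4] p = path g [8, 6, 8, 4] p :=
  (f3182 H).symm.trans (f4283 H)

theorem f4289 : g 3 • path g [8, 6, 8, 4] p = path g [4, 0, 8, 4] p :=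
  (congrArg (g 3 • ·) (f4284 H).symm).trans (f3180 H)

theorem f4290 : path g [8, 6, 3, 9] p = path g [4, 0, 8, 4] p :=
  (f1620 H).symm.trans (f4289 H)

theorem f4292 : g 8 • path g [8, 6, 8, 4] p = path g [4, 0, 3, 9] p :=
  (f3463 H).trans (f4269 H)

theorem f4294 : path g [4, 0, 8, 4] p = path g [8, 6, 3, 9] p :=
  (f4290 H).symm

theorem f4297 : g 4 • path g [8, 6, 3, 9] p = path g [9, 8, 6, 3] p :=
  (congrArg (g 4 • ·) (f4294 H).symm).trans (f2253 H)

theorem f4298 : path g [8, 6, 3] p = path g [9, 8, 6, 3] p :=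
  (f1618 H).symm.trans (f4297 H)

theorem f4305 : path g [9, 8, 6, 3] p = path g [8, 6, 3] p :=
  (f4298 H).symm

theorem f4310 : g 4 • path g [8, 6, 3] p = path g [4, 0, 8] p :=
  (congrArg (g 4 • ·) (f4305 H).symm).trans (f2240 H)

theorem f4311 : path g [9, 3, 6, 8] p = path g [4, 0, 8] p :=
  (f1640 H).symm.trans (f4310 H)

theorem f4321 : g 5 • path g [8, 6, 3] p = path g [9, 8, 6, 3, 0] p :=
  (congrArg (g 5 • ·) (f4305 H).symm).trans (f3191 H)

theorem f4322 : path g [8, 6, 3, 0] p = path g [9, 8, 6, 3, 0] p :=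
  (f1624 H).symm.trans (f4321 H)

theorem f4340 : path g [9, 8, 6, 3, 0] p = path g [8, 6, 3, 0] p :=
  (f4322 H).symm

theorem f4347 : g 1 • path g [8, 6, 3, 0] p = path g [9, 3, 7, 1, 9] p :=
  (congrArg (g 1 • ·) (f4340 H).symm).trans (f3338 H)

theorem f4348 : path g [8, 6, 3, 0, 1] p = path g [9, 3, 7, 1, 9] p :=
  (f3891 H).symm.trans (f4347 H)

theorem f4352 : g 1 • path g [9, 3, 7, 1, 9] p = path g [8, 6, 3, 0, 6] p :=
  (congrArg (g 1 • ·) (f4348 H).symm).trans (f3893 H)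

theorem f4354 : g 6 • path g [8, 6, 3, 0, 6] p = path g [9, 3, 7, 1, 9] p :=
  H.back (i := 1) (by decide) (f4352 H)

theorem f4361 : g 5 • path g [9, 3, 7, 1, 9] p = path g [3, 6, 3, 1] p :=
  (congrArg (g 5 • ·) (f4348 H).symm).trans (f3900 H)

theorem f4363 : g 0 • path g [3, 6, 3, 1] p = path g [9, 3, 7, 1, 9] p :=
  H.back (i := 5) (by decide) (f4361 H)

theorem f4364 : g 7 • path g [9, 3, 7, 1, 9] p = path g [8, 6, 3, 0, 6] p :=
  (congrArg (g 7 • ·) (f4348 H).symm).trans (f3902 H)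

theorem f4386 : g 2 • path g [4, 0, 8] p = path g [9, 3, 6, 8, 7] p :=
  (congrArg (g 2 • ·) (f4311 H).symm).trans (f3440 H)

theorem f4387 : path g [4, 1, 8] p = path g [9, 3, 6, 8, 7] p :=
  (f463 H).symm.trans (f4386 H)

theorem f4416 : path g [9, 3, 6, 8, 7] p = path g [4, 1, 8] p :=
  (f4387 H).symm

theorem f4423 : g 3 • path g [4, 1, 8] p = path g [4, 7, 3, 6] p :=
  (congrArg (g 3 • ·) (f4416 H).symm).trans (f3441 H)

theorem f4424 : path g [4, 1] p = path g [4, 7, 3, 6] p :=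
  (f461 H).symm.trans (f4423 H)

theorem f4425 : path g [4, 7, 3, 6] p = path g [4, 1] p :=
  (f4424 H).symm

theorem f4436 : g 2 • path g [4, 1] p = path g [4, 0, 3, 1] p :=
  (congrArg (g 2 • ·) (f4425 H).symm).trans (f2275 H)

theorem f4437 : path g [4, 7, 6] p = path g [4, 0, 3, 1] p :=
  (f395 H).symm.trans (f4436 H)

theorem f4441 : path g [4, 0, 3, 1] p = path g [4, 7, 6] p :=
  (f4437 H).symm

theorem f4454 : g 0 • path g [4, 7, 6] p = path g [9, 8, 0, 3, 1] p :=
  (congrArg (g 0 • ·) (f4441 H).symm).trans (f3139 H)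

theorem f4455 : path g [9, 7, 6] p = path g [9, 8, 0, 3, 1] p :=
  (f413 H).symm.trans (f4454 H)

theorem f4456 : path g [9, 8, 0, 3, 1] p = path g [9, 7, 6] p :=
  (f4455 H).symm

theorem f4459 : g 1 • path g [9, 7, 6] p = path g [9, 8, 0, 3, 6] p :=
  (congrArg (g 1 • ·) (f4456 H).symm).trans (f3134 H)

theorem f4460 : path g [9, 7] p = path g [9, 8, 0, 3, 6] p :=
  (f123 H).symm.trans (f4459 H)

theorem f4467 : path g [9, 8, 0, 3, 6] p = path g [9, 7] p :=
  (f4460 H).symm

theorem f4478 : g 2 • path g [9, 7] p = path g [8, 4, 1, 0] p :=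
  (congrArg (g 2 • ·) (f4467 H).symm).trans (f3130 H)

theorem f4479 : path g [9] p = path g [8, 4, 1, 0] p :=
  (f21 H).symm.trans (f4478 H)

theorem f4483 : path g [8, 4, 1, 0] p = path g [9] p :=
  (f4479 H).symm

theorem f4494 : g 8 • path g [9] p = path g [9, 8, 7, 8, 4] p :=
  (congrArg (g 8 • ·) (f4483 H).symm).trans (f3011 H)

theorem f4495 : path g [9, 8] p = path g [9, 8, 7, 8, 4] p :=
  (f32 H).symm.trans (f4494 H)

theorem f4502 : path g [9, 8, 7, 8, 4] p = path g [9, 8] p :=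
  (f4495 H).symm

theorem f4512 : g 7 • path g [9, 8] p = path g [3, 1, 9, 8] p :=
  (congrArg (g 7 • ·) (f4502 H).symm).trans (f3014 H)

theorem f4513 : path g [9, 8, 7] p = path g [3, 1, 9, 8] p :=
  (f156 H).symm.trans (f4512 H)

theorem f4514 : path g [3, 1, 9, 8] p = path g [9, 8, 7] p :=
  (f4513 H).symm

theorem f4521 : g 4 • path g [9, 8, 7] p = path g [3, 1, 3, 9] p :=
  (congrArg (g 4 • ·) (f4514 H).symm).trans (f2078 H)

theorem f4522 : path g [9, 8, 7, 4] p = path g [3, 1, 3, 9] p :=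
  (f874 H).symm.trans (f4521 H)

theorem f4529 : path g [3, 1, 3, 9] p = path g [9, 8, 7, 4] p :=
  (f4522 H).symm

theorem f4535 : g 8 • path g [9, 8, 7, 4] p = path g [3, 1, 8, 4] p :=
  (congrArg (g 8 • ·) (f4529 H).symm).trans (f2079 H)

theorem f4536 : path g [9, 8, 7, 4, 8] p = path g [3, 1, 8, 4] p :=
  (f3062 H).symm.trans (f4535 H)

theorem f4540 : g 8 • path g [3, 1, 8, 4] p = path g [9, 8, 7, 8, 9] p :=
  (congrArg (g 8 • ·) (f4536 H).symm).trans (f3064 H)

theorem f4543 : g 9 • path g [3, 1, 8, 4] p = path g [9, 8, 7, 9, 3] p :=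
  (congrArg (g 9 • ·) (f4536 H).symm).trans (f3066 H)

theorem f4544 : path g [3, 1, 8] p = path g [9, 8, 7, 9, 3] p :=
  (f2072 H).symm.trans (f4543 H)

theorem f4545 : path g [9, 8, 7, 9, 3] p = path g [3, 1, 8] p :=
  (f4544 H).symm

theorem f4552 : g 2 • path g [3, 1, 8] p = path g [8, 1, 9, 8] p :=
  (congrArg (g 2 • ·) (f4545 H).symm).trans (f2977 H)

theorem f4553 : path g [3, 1, 8] p = path g [8, 1, 9, 8] p :=
  (f378 H).symm.trans (f4552 H)

theorem f4557 : path g [8, 1, 9, 8] p = path g [3, 1, 8] p :=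
  (f4553 H).symm

theorem f4564 : g 4 • path g [3, 1, 8] p = path g [8, 1, 3, 9] p :=
  (congrArg (g 4 • ·) (f4557 H).symm).trans (f1716 H)

theorem f4565 : path g [3, 1, 8, 4] p = path g [8, 1, 3, 9] p :=
  (f2071 H).symm.trans (f4564 H)

theorem f4607 : g 8 • path g [8, 1, 3, 9] p = path g [9, 8, 7, 8, 9] p :=
  (congrArg (g 8 • ·) (f4565 H).symm).trans (f4540 H)

theorem f4608 : path g [8, 1, 8, 4] p = path g [9, 8, 7, 8, 9] p :=
  (f1717 H).symm.trans (f4607 H)

theorem f4609 : path g [9, 8, 7, 8, 9] p = path g [8, 1, 8, 4] p :=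
  (f4608 H).symm

theorem f4614 : g 9 • path g [9, 8, 7, 8, 9] p = path g [9, 8] p :=
  (f3009 H).trans (f4502 H)

theorem f4615 : g 9 • path g [8, 1, 8, 4] p = path g [9, 8] p :=
  (congrArg (g 9 • ·) (f4609 H).symm).trans (f4614 H)

theorem f4616 : path g [8, 1, 8] p = path g [9, 8] p :=
  (f1706 H).symm.trans (f4615 H)

theorem f4640 : g 4 • path g [9, 8] p = path g [8, 1, 8, 4] p :=
  (congrArg (g 4 • ·) (f4616 H).symm).trans (f1705 H)

theorem f4641 : path g [3, 9] p = path g [8, 1, 8, 4] p :=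
  (f75 H).symm.trans (f4640 H)

theorem f4642 : path g [8, 1, 8, 4] p = path g [3, 9] p :=
  (f4641 H).symm

theorem f4650 : g 8 • path g [3, 9] p = path g [9, 7, 8, 0, 9] p :=
  (congrArg (g 8 • ·) (f4642 H).symm).trans (f4143 H)

theorem f4651 : path g [8, 4] p = path g [9, 7, 8, 0, 9] p :=
  (f76 H).symm.trans (f4650 H)

theorem f4652 : path g [9, 7, 8, 0, 9] p = path g [8, 4] p :=
  (f4651 H).symm

theorem f4662 : g 7 • path g [8, 4] p = path g [3, 6, 9, 8] p :=
  (congrArg (g 7 • ·) (f4652 H).symm).trans (f4037 H)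

theorem f4663 : path g [8, 4, 7] p = path g [3, 6, 9, 8] p :=
  (f290 H).symm.trans (f4662 H)

theorem f4667 : path g [3, 6, 9, 8] p = path g [8, 4, 7] p :=
  (f4663 H).symm

theorem f4684 : g 5 • path g [8, 4, 7] p = path g [9, 8, 7, 9, 7] p :=
  (congrArg (g 5 • ·) (f4667 H).symm).trans (f4039 H)

theorem f4685 : path g [9, 8, 7] p = path g [9, 8, 7, 9, 7] p :=
  (f1268 H).symm.trans (f4684 H)

theorem f4686 : path g [9, 8, 7, 9, 7] p = path g [9, 8, 7] p :=
  (f4685 H).symm

theorem f4689 : g 7 • path g [9, 8, 7] p = path g [9, 8, 7, 9] p :=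
  (congrArg (g 7 • ·) (f4686 H).symm).trans (f2958 H)

theorem f4690 : path g [9, 8] p = path g [9, 8, 7, 9] p :=
  (f158 H).symm.trans (f4689 H)

theorem f4697 : path g [9, 8, 7, 9] p = path g [9, 8] p :=
  (f4690 H).symm

theorem f4719 : g 1 • path g [9, 8] p = path g [9, 8, 7, 9, 1] p :=
  (congrArg (g 1 • ·) (f4697 H).symm).trans (f2978 H)

theorem f4720 : path g [9, 8, 1] p = path g [9, 8, 7, 9, 1] p :=
  (f166 H).symm.trans (f4719 H)

theorem f4721 : path g [9, 8, 7, 9, 1] p = path g [9, 8, 1] p :=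
  (f4720 H).symm

theorem f4725 : g 1 • path g [9, 8, 1] p = path g [9, 8, 7, 9, 6] p :=
  (congrArg (g 1 • ·) (f4721 H).symm).trans (f2980 H)

theorem f4726 : path g [9, 8, 6] p = path g [9, 8, 7, 9, 6] p :=
  (f168 H).symm.trans (f4725 H)

theorem f4727 : path g [9, 8, 7, 9, 6] p = path g [9, 8, 6] p :=
  (f4726 H).symm

theorem f4733 : g 0 • path g [9, 8, 6] p = path g [9, 0, 8, 6, 9] p :=
  (congrArg (g 0 • ·) (f4727 H).symm).trans (f2969 H)

theorem f4734 : path g [3, 6, 4] p = path g [9, 0, 8, 6, 9] p :=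
  (f372 H).symm.trans (f4733 H)

theorem f4738 : path g [9, 0, 8, 6, 9] p = path g [3, 6, 4] p :=
  (f4734 H).symm

theorem f4741 : g 9 • path g [3, 6, 4] p = path g [9, 0, 8, 6, 4] p :=
  (congrArg (g 9 • ·) (f4738 H).symm).trans (f2861 H)

theorem f4742 : path g [3, 6] p = path g [9, 0, 8, 6, 4] p :=
  (f367 H).symm.trans (f4741 H)

theorem f4749 : path g [9, 0, 8, 6, 4] p = path g [3, 6] p :=
  (f4742 H).symm

theorem f4757 : g 5 • path g [3, 6] p = path g [9, 8, 7, 4, 6] p :=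
  (congrArg (g 5 • ·) (f4749 H).symm).trans (f3072 H)

theorem f4758 : path g [3, 6] p = path g [9, 8, 7, 4, 6] p :=
  (f93 H).symm.trans (f4757 H)

theorem f4759 : path g [9, 8, 7, 4, 6] p = path g [3, 6] p :=
  (f4758 H).symm

theorem f4768 : g 6 • path g [3, 6] p = path g [9, 8, 7, 4, 1] p :=
  (congrArg (g 6 • ·) (f4759 H).symm).trans (f3077 H)

theorem f4769 : path g [3, 1] p = path g [9, 8, 7, 4, 1] p :=
  (f89 H).symm.trans (f4768 H)

theorem f4770 : path g [9, 8, 7, 4, 1] p = path g [3, 1] p :=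
  (f4769 H).symm

theorem f4771 : g 6 • path g [3, 1] p = path g [9, 8, 7, 4] p :=
  (congrArg (g 6 • ·) (f4770 H).symm).trans (f3075 H)

theorem f4772 : path g [3] p = path g [9, 8, 7, 4] p :=
  (f87 H).symm.trans (f4771 H)

theorem f4776 : path g [9, 8, 7, 4] p = path g [3] p :=
  (f4772 H).symm

theorem f4794 : path g [9, 8, 7, 4, 8] p = path g [8, 1, 3, 9] p :=
  (f4536 H).trans (f4565 H)

theorem f4795 : g 8 • path g [9, 8, 7, 4] p = path g [8, 1, 3, 9] p :=
  (f3062 H).trans (f4794 H)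

theorem f4796 : g 8 • path g [3] p = path g [8, 1, 3, 9] p :=
  (congrArg (g 8 • ·) (f4776 H).symm).trans (f4795 H)

theorem f4797 : path g [] p = path g [8, 1, 3, 9] p :=
  (f13 H).symm.trans (f4796 H)

theorem f4804 : path g [8, 1, 3, 9] p = path g [] p :=
  (f4797 H).symm

theorem f4812 : g 3 • path g [8, 1, 3, 9] p = path g [8, 4] p :=
  (f4149 H).trans (f4652 H)

theorem f4813 : g 3 • path g [] p = path g [8, 4] p :=
  (congrArg (g 3 • ·) (f4804 H).symm).trans (f4812 H)

theorem f4814 : path g [3] p = path g [8, 4] p :=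
  (f12 H).symm.trans (f4813 H)

theorem f4815 : path g [8, 4] p = path g [3] p :=
  (f4814 H).symm

theorem f4834 : g 1 • path g [3] p = path g [8, 4, 1] p :=
  (congrArg (g 1 • ·) (f4815 H).symm).trans (f304 H)

theorem f4835 : path g [3, 1] p = path g [8, 4, 1] p :=
  (f86 H).symm.trans (f4834 H)

theorem f4836 : path g [8, 4, 1] p = path g [3, 1] p :=
  (f4835 H).symm

theorem f4856 : g 3 • path g [3, 1] p = path g [8, 4, 1, 3] p :=
  (congrArg (g 3 • ·) (f4836 H).symm).trans (f1911 H)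

theorem f4857 : path g [3, 1, 3] p = path g [8, 4, 1, 3] p :=
  (f380 H).symm.trans (f4856 H)

theorem f4873 : path g [8, 4, 1, 3] p = path g [3, 1, 3] p :=
  (f4857 H).symm

theorem f4877 : g 3 • path g [3, 1, 3] p = path g [8, 4, 1, 8] p :=
  (congrArg (g 3 • ·) (f4873 H).symm).trans (f1913 H)

theorem f4878 : path g [3, 1, 8] p = path g [8, 4, 1, 8] p :=
  (f382 H).symm.trans (f4877 H)

theorem f4879 : path g [8, 4, 1, 8] p = path g [3, 1, 8] p :=
  (f4878 H).symm

theorem f4888 : g 2 • path g [3, 1, 8] p = path g [8, 6, 4, 6, 8] p :=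
  (congrArg (g 2 • ·) (f4879 H).symm).trans (f3972 H)

theorem f4889 : path g [3, 1, 8] p = path g [8, 6, 4, 6, 8] p :=
  (f378 H).symm.trans (f4888 H)

theorem f4890 : path g [8, 6, 4, 6, 8] p = path g [3, 1, 8] p :=
  (f4889 H).symm

theorem f4899 : g 8 • path g [3, 1, 8] p = path g [8, 6, 4, 6, 3] p :=
  (congrArg (g 8 • ·) (f4890 H).symm).trans (f3976 H)

theorem f4900 : path g [3, 1, 3] p = path g [8, 6, 4, 6, 3] p :=
  (f383 H).symm.trans (f4899 H)

theorem f4901 : path g [8, 6, 4, 6, 3] p = path g [3, 1, 3] p :=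
  (f4900 H).symm

theorem f4902 : g 8 • path g [3, 1, 3] p = path g [8, 6, 4, 6] p :=
  (congrArg (g 8 • ·) (f4901 H).symm).trans (f3974 H)

theorem f4903 : path g [3, 1] p = path g [8, 6, 4, 6] p :=
  (f381 H).symm.trans (f4902 H)

theorem f4907 : path g [8, 6, 4, 6] p = path g [3, 1] p :=
  (f4903 H).symm

theorem f4918 : g 2 • path g [3, 1] p = path g [9, 3, 7, 6, 0] p :=
  (congrArg (g 2 • ·) (f4907 H).symm).trans (f3318 H)

theorem f4919 : path g [3, 6] p = path g [9, 3, 7, 6, 0] p :=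
  (f90 H).symm.trans (f4918 H)

theorem f4943 : path g [9, 3, 7, 6, 0] p = path g [3, 6] p :=
  (f4919 H).symm

theorem f4950 : g 6 • path g [3, 6] p = path g [8, 6, 4, 7] p :=
  (congrArg (g 6 • ·) (f4943 H).symm).trans (f3313 H)

theorem f4951 : path g [3, 1] p = path g [8, 6, 4, 7] p :=
  (f89 H).symm.trans (f4950 H)

theorem f4958 : path g [8, 6, 4, 7] p = path g [3, 1] p :=
  (f4951 H).symm

theorem f4967 : g 5 • path g [3, 1] p = path g [3, 6, 4, 7] p :=
  (congrArg (g 5 • ·) (f4958 H).symm).trans (f2022 H)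

theorem f4968 : path g [8, 1] p = path g [3, 6, 4, 7] p :=
  (f1343 H).symm.trans (f4967 H)

theorem f5006 : path g [3, 6, 4, 7] p = path g [8, 1] p :=
  (f4968 H).symm

theorem f5019 : g 1 • path g [8, 1] p = path g [4, 0, 8, 6] p :=
  (congrArg (g 1 • ·) (f5006 H).symm).trans (f2246 H)

theorem f5020 : path g [8, 6] p = path g [4, 0, 8, 6] p :=
  (f58 H).symm.trans (f5019 H)

theorem f5021 : path g [4, 0, 8, 6] p = path g [8, 6] p :=
  (f5020 H).symm

theorem f5033 : g 0 • path g [8, 6] p = path g [4, 8, 7, 6] p :=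
  (congrArg (g 0 • ·) (f5021 H).symm).trans (f2290 H)

theorem f5034 : path g [8, 6] p = path g [4, 8, 7, 6] p :=
  (f62 H).symm.trans (f5033 H)

theorem f5035 : path g [4, 8, 7, 6] p = path g [8, 6] p :=
  (f5034 H).symm

theorem f5048 : g 2 • path g [8, 6] p = path g [4, 8, 1] p :=
  (congrArg (g 2 • ·) (f5035 H).symm).trans (f2291 H)

theorem f5049 : path g [8, 1] p = path g [4, 8, 1] p :=
  (f66 H).symm.trans (f5048 H)

theorem f5050 : path g [4, 8, 1] p = path g [8, 1] p :=
  (f5049 H).symm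

theorem f5070 : g 3 • path g [8, 1] p = path g [4, 8, 1, 3] p :=
  (congrArg (g 3 • ·) (f5050 H).symm).trans (f2321 H)

theorem f5071 : path g [8, 1, 3] p = path g [4, 8, 1, 3] p :=
  (f282 H).symm.trans (f5070 H)

theorem f5087 : path g [4, 8, 1, 3] p = path g [8, 1, 3] p :=
  (f5071 H).symm

theorem f5091 : g 3 • path g [8, 1, 3] p = path g [4, 8, 1, 8] p :=
  (congrArg (g 3 • ·) (f5087 H).symm).trans (f2323 H)

theorem f5092 : g 3 • path g [8, 1, 3] p = path g [9, 8] p :=
  (f284 H).trans (f4616 H)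

theorem f5093 : path g [9, 8] p = path g [4, 8, 1, 8] p :=
  (f5092 H).symm.trans (f5091 H)

theorem f5094 : path g [4, 8, 1, 8] p = path g [9, 8] p :=
  (f5093 H).symm

theorem f5102 : g 8 • path g [4, 8, 1, 8] p = path g [8, 1, 3] p :=
  (f2324 H).trans (f5087 H)

theorem f5103 : g 8 • path g [9, 8] p = path g [8, 1, 3] p :=
  (congrArg (g 8 • ·) (f5094 H).symm).trans (f5102 H)

theorem f5104 : path g [9, 3] p = path g [8, 1, 3] p :=
  (f39 H).symm.trans (f5103 H)

theorem f5105 : path g [8, 1, 3] p = path g [9, 3] p :=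
  (f5104 H).symm

theorem f5126 : g 1 • path g [9, 3] p = path g [8, 1, 3, 1] p :=
  (congrArg (g 1 • ·) (f5105 H).symm).trans (f1727 H)

theorem f5127 : path g [9, 3, 1] p = path g [8, 1, 3, 1] p :=
  (f188 H).symm.trans (f5126 H)

theorem f5128 : path g [8, 1, 3, 1] p = path g [9, 3, 1] p :=
  (f5127 H).symm

theorem f5136 : g 7 • path g [9, 3, 1] p = path g [3, 6, 3, 6] p :=
  (congrArg (g 7 • ·) (f5128 H).symm).trans (f1999 H)

theorem f5137 : path g [9, 3, 7, 6] p = path g [3, 6, 3, 6] p :=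
  (f942 H).symm.trans (f5136 H)

theorem f5138 : path g [3, 6, 3, 6] p = path g [9, 3, 7, 6] p :=
  (f5137 H).symm

theorem f5153 : g 6 • path g [9, 3, 7, 6] p = path g [3, 6, 3, 1] p :=
  (congrArg (g 6 • ·) (f5138 H).symm).trans (f2008 H)

theorem f5154 : path g [9, 3, 7, 1] p = path g [3, 6, 3, 1] p :=
  (f951 H).symm.trans (f5153 H)

theorem f5155 : path g [3, 6, 3, 1] p = path g [9, 3, 7, 1] p :=
  (f5154 H).symm

theorem f5167 : g 0 • path g [9, 3, 7, 1] p = path g [9, 3, 7, 1, 9] p :=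
  (congrArg (g 0 • ·) (f5155 H).symm).trans (f4363 H)

theorem f5168 : path g [3, 6, 9, 7] p = path g [9, 3, 7, 1, 9] p :=
  (f1938 H).symm.trans (f5167 H)

theorem f5169 : path g [9, 3, 7, 1, 9] p = path g [3, 6, 9, 7] p :=
  (f5168 H).symm

theorem f5175 : g 9 • path g [3, 6, 9, 7] p = path g [9, 3, 7, 1, 4] p :=
  (congrArg (g 9 • ·) (f5169 H).symm).trans (f3352 H)

theorem f5189 : g 7 • path g [3, 6, 9, 7] p = path g [8, 6, 3, 0, 6] p :=
  (congrArg (g 7 • ·) (f5169 H).symm).trans (f4364 H)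

theorem f5190 : path g [3, 6, 9] p = path g [8, 6, 3, 0, 6] p :=
  (f1933 H).symm.trans (f5189 H)

theorem f5191 : path g [8, 6, 3, 0, 6] p = path g [3, 6, 9] p :=
  (f5190 H).symm

theorem f5194 : g 6 • path g [8, 6, 3, 0, 6] p = path g [3, 6, 9, 7] p :=
  (f4354 H).trans (f5169 H)

theorem f5195 : g 6 • path g [3, 6, 9] p = path g [3, 6, 9, 7] p :=
  (congrArg (g 6 • ·) (f5191 H).symm).trans (f5194 H)

theorem f5196 : g 6 • path g [3, 6, 9] p = path g [8, 1] p :=
  (f815 H).trans (f5050 H)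

theorem f5197 : path g [8, 1] p = path g [3, 6, 9, 7] p :=
  (f5196 H).symm.trans (f5195 H)

theorem f5204 : path g [3, 6, 9, 7] p = path g [8, 1] p :=
  (f5197 H).symm

theorem f5221 : g 9 • path g [8, 1] p = path g [9, 3, 7, 1, 4] p :=
  (congrArg (g 9 • ·) (f5204 H).symm).trans (f5175 H)

theorem f5222 : path g [8, 1, 9] p = path g [9, 3, 7, 1, 4] p :=
  (f276 H).symm.trans (f5221 H)

theorem f5223 : path g [9, 3, 7, 1, 4] p = path g [8, 1, 9] p :=
  (f5222 H).symm

theorem f5224 : g 9 • path g [8, 1, 9] p = path g [9, 3, 7, 1] p :=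
  (congrArg (g 9 • ·) (f5223 H).symm).trans (f3350 H)

theorem f5225 : path g [8, 1, 4] p = path g [9, 3, 7, 1] p :=
  (f289 H).symm.trans (f5224 H)

theorem f5229 : path g [9, 3, 7, 1] p = path g [8, 1, 4] p :=
  (f5225 H).symm

theorem f5249 : g 3 • path g [8, 1, 4] p = path g [9, 3, 7, 1, 3] p :=
  (congrArg (g 3 • ·) (f5229 H).symm).trans (f3345 H)

theorem f5250 : path g [8, 1, 8, 9] p = path g [9, 3, 7, 1, 3] p :=
  (f1686 H).symm.trans (f5249 H)

theorem f5254 : path g [9, 3, 7, 1, 3] p = path g [8, 1, 8, 9] p :=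
  (f5250 H).symm

theorem f5258 : g 3 • path g [8, 1, 8, 9] p = path g [9, 3, 7, 1, 8] p :=
  (congrArg (g 3 • ·) (f5254 H).symm).trans (f3347 H)

theorem f5259 : path g [8, 1, 3, 0] p = path g [9, 3, 7, 1, 8] p :=
  (f4177 H).symm.trans (f5258 H)

theorem f5260 : path g [9, 3, 7, 1, 8] p = path g [8, 1, 3, 0] p :=
  (f5259 H).symm

theorem f5267 : g 7 • path g [8, 1, 3, 0] p = path g [9, 0, 4, 7, 8] p :=
  (congrArg (g 7 • ·) (f5260 H).symm).trans (f3343 H)

theorem f5268 : path g [8, 1, 3, 0] p = path g [9, 0, 4, 7, 8] p :=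
  (f1724 H).symm.trans (f5267 H)

theorem f5271 : g 8 • path g [8, 1, 3, 0] p = path g [8, 1, 8, 9] p :=
  (f4111 H).trans (f4173 H)

theorem f5273 : path g [9, 0, 4, 7, 8] p = path g [8, 1, 3, 0] p :=
  (f5268 H).symm

theorem f5276 : g 8 • path g [8, 1, 3, 0] p = path g [9, 0, 4, 7, 3] p :=
  (congrArg (g 8 • ·) (f5273 H).symm).trans (f2939 H)

theorem f5277 : path g [8, 1, 8, 9] p = path g [9, 0, 4, 7, 3] p :=
  (f5271 H).symm.trans (f5276 H)

theorem f5284 : path g [9, 0, 4, 7, 3] p = path g [8, 1, 8, 9] p :=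
  (f5277 H).symm

theorem f5285 : g 8 • path g [8, 1, 8, 9] p = path g [9, 0, 4, 7] p :=
  (congrArg (g 8 • ·) (f5284 H).symm).trans (f2937 H)

theorem f5286 : path g [8, 1, 4] p = path g [9, 0, 4, 7] p :=
  (f1685 H).symm.trans (f5285 H)

theorem f5290 : path g [9, 0, 4, 7] p = path g [8, 1, 4] p :=
  (f5286 H).symm

theorem f5311 : g 4 • path g [8, 1, 4] p = path g [9, 0, 4, 7, 4] p :=
  (congrArg (g 4 • ·) (f5290 H).symm).trans (f2940 H)

theorem f5312 : path g [8, 1, 9] p = path g [9, 0, 4, 7, 4] p :=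
  (f288 H).symm.trans (f5311 H)

theorem f5313 : path g [9, 0, 4, 7, 4] p = path g [8, 1, 9] p :=
  (f5312 H).symm

theorem f5319 : g 6 • path g [8, 1, 9] p = path g [9, 7, 8, 1, 8] p :=
  (congrArg (g 6 • ·) (f5313 H).symm).trans (f2944 H)

theorem f5320 : path g [9, 7, 3] p = path g [9, 7, 8, 1, 8] p :=
  (f1109 H).symm.trans (f5319 H)

theorem f5321 : path g [9, 7, 8, 1, 8] p = path g [9, 7, 3] p :=
  (f5320 H).symm

theorem f5328 : g 5 • path g [9, 7, 3] p = path g [9, 0, 8, 4] p :=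
  (congrArg (g 5 • ·) (f5321 H).symm).trans (f2872 H)

theorem f5329 : path g [3, 9] p = path g [9, 0, 8, 4] p :=
  (f1425 H).symm.trans (f5328 H)

theorem f5333 : path g [9, 0, 8, 4] p = path g [3, 9] p :=
  (f5329 H).symm

theorem f5355 : g 1 • path g [3, 9] p = path g [9, 0, 8, 4, 1] p :=
  (congrArg (g 1 • ·) (f5333 H).symm).trans (f2876 H)

theorem f5356 : path g [3, 9, 1] p = path g [9, 0, 8, 4, 1] p :=
  (f318 H).symm.trans (f5355 H)

theorem f5357 : path g [9, 0, 8, 4, 1] p = path g [3, 9, 1] p :=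
  (f5356 H).symm

theorem f5361 : g 1 • path g [3, 9, 1] p = path g [9, 0, 8, 4, 6] p :=
  (congrArg (g 1 • ·) (f5357 H).symm).trans (f2878 H)

theorem f5362 : path g [9, 0, 9] p = path g [9, 0, 8, 4, 6] p :=
  (f825 H).symm.trans (f5361 H)

theorem f5363 : path g [9, 0, 8, 4, 6] p = path g [9, 0, 9] p :=
  (f5362 H).symm

theorem f5372 : g 0 • path g [9, 0, 9] p = path g [9, 8, 7, 6, 4] p :=
  (congrArg (g 0 • ·) (f5363 H).symm).trans (f3034 H)

theorem f5373 : path g [3, 6, 9] p = path g [9, 8, 7, 6, 4] p :=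
  (f824 H).symm.trans (f5372 H)

theorem f5374 : path g [9, 8, 7, 6, 4] p = path g [3, 6, 9] p :=
  (f5373 H).symm

theorem f5377 : g 4 • path g [3, 6, 9] p = path g [9, 8, 7, 6, 9] p :=
  (congrArg (g 4 • ·) (f5374 H).symm).trans (f3030 H)

theorem f5378 : path g [3, 6] p = path g [9, 8, 7, 6, 9] p :=
  (f353 H).symm.trans (f5377 H)

theorem f5385 : path g [9, 8, 7, 6, 9] p = path g [3, 6] p :=
  (f5378 H).symm

theorem f5390 : g 5 • path g [3, 6] p = path g [9, 0, 8, 9, 6] p :=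
  (congrArg (g 5 • ·) (f5385 H).symm).trans (f3021 H)

theorem f5391 : path g [3, 6] p = path g [9, 0, 8, 9, 6] p :=
  (f93 H).symm.trans (f5390 H)

theorem f5395 : path g [9, 0, 8, 9, 6] p = path g [3, 6] p :=
  (f5391 H).symm

theorem f5398 : g 6 • path g [3, 6] p = path g [9, 0, 8, 9, 1] p :=
  (congrArg (g 6 • ·) (f5395 H).symm).trans (f2849 H)

theorem f5399 : path g [3, 1] p = path g [9, 0, 8, 9, 1] p :=
  (f89 H).symm.trans (f5398 H)

theorem f5406 : path g [9, 0, 8, 9, 1] p = path g [3, 1] p :=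
  (f5399 H).symm

theorem f5407 : g 6 • path g [3, 1] p = path g [9, 0, 8, 9] p :=
  (congrArg (g 6 • ·) (f5406 H).symm).trans (f2847 H)

theorem f5408 : path g [3] p = path g [9, 0, 8, 9] p :=
  (f87 H).symm.trans (f5407 H)

theorem f5412 : path g [9, 0, 8, 9] p = path g [3] p :=
  (f5408 H).symm

theorem f5424 : g 2 • path g [3] p = path g [9, 0, 8, 9, 7] p :=
  (congrArg (g 2 • ·) (f5412 H).symm).trans (f2839 H)

theorem f5425 : path g [3] p = path g [9, 0, 8, 9, 7] p :=
  (f64 H).symm.trans (f5424 H)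

theorem f5455 : path g [9, 0, 8, 9, 7] p = path g [3] p :=
  (f5425 H).symm

theorem f5464 : g 5 • path g [3] p = path g [9, 0, 3, 9, 7] p :=
  (congrArg (g 5 • ·) (f5455 H).symm).trans (f2886 H)

theorem f5465 : path g [8] p = path g [9, 0, 3, 9, 7] p :=
  (f1365 H).symm.trans (f5464 H)

theorem f5466 : path g [9, 0, 3, 9, 7] p = path g [8] p :=
  (f5465 H).symm

theorem f5469 : g 7 • path g [8] p = path g [9, 0, 3, 9] p :=
  (congrArg (g 7 • ·) (f5466 H).symm).trans (f2882 H)

theorem f5470 : path g [8] p = path g [9, 0, 3, 9] p :=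
  (f11 H).symm.trans (f5469 H)

theorem f5477 : path g [9, 0, 3, 9] p = path g [8] p :=
  (f5470 H).symm

theorem f5500 : g 1 • path g [8] p = path g [9, 0, 3, 9, 1] p :=
  (congrArg (g 1 • ·) (f5477 H).symm).trans (f2894 H)

theorem f5501 : path g [8, 1] p = path g [9, 0, 3, 9, 1] p :=
  (f56 H).symm.trans (f5500 H)

theorem f5502 : path g [9, 0, 3, 9, 1] p = path g [8, 1] p :=
  (f5501 H).symm

theorem f5506 : g 1 • path g [8, 1] p = path g [9, 0, 3, 9, 6] p :=
  (congrArg (g 1 • ·) (f5502 H).symm).trans (f2896 H)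

theorem f5507 : path g [8, 6] p = path g [9, 0, 3, 9, 6] p :=
  (f58 H).symm.trans (f5506 H)

theorem f5508 : path g [9, 0, 3, 9, 6] p = path g [8, 6] p :=
  (f5507 H).symm

theorem f5517 : g 0 • path g [8, 6] p = path g [9, 0, 3, 6, 9] p :=
  (congrArg (g 0 • ·) (f5508 H).symm).trans (f2902 H)

theorem f5518 : path g [8, 6] p = path g [9, 0, 3, 6, 9] p :=
  (f62 H).symm.trans (f5517 H)

theorem f5519 : path g [9, 0, 3, 6, 9] p = path g [8, 6] p :=
  (f5518 H).symm

theorem f5528 : g 9 • path g [8, 6] p = path g [9, 0, 3, 6, 4] p :=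
  (congrArg (g 9 • ·) (f5519 H).symm).trans (f2913 H)

theorem f5529 : path g [9, 3, 6] p = path g [9, 0, 3, 6, 4] p :=
  (f1150 H).symm.trans (f5528 H)

theorem f5530 : path g [9, 0, 3, 6, 4] p = path g [9, 3, 6] p :=
  (f5529 H).symm

theorem f5538 : g 5 • path g [9, 3, 6] p = path g [9, 0, 9, 8, 6] p :=
  (congrArg (g 5 • ·) (f5530 H).symm).trans (f2917 H)

theorem f5539 : path g [9, 0, 4] p = path g [9, 0, 9, 8, 6] p :=
  (f750 H).symm.trans (f5538 H)

theorem f5540 : path g [9, 0, 9, 8, 6] p = path g [9, 0, 4] p :=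
  (f5539 H).symm

theorem f5543 : g 6 • path g [9, 0, 4] p = path g [9, 0, 9, 8, 1] p :=
  (congrArg (g 6 • ·) (f5540 H).symm).trans (f2813 H)

theorem f5544 : path g [8, 9, 1] p = path g [9, 0, 9, 8, 1] p :=
  (f1198 H).symm.trans (f5543 H)

theorem f5551 : path g [9, 0, 9, 8, 1] p = path g [8, 9, 1] p :=
  (f5544 H).symm

theorem f5552 : g 6 • path g [8, 9, 1] p = path g [9, 0, 9, 8] p :=
  (congrArg (g 6 • ·) (f5551 H).symm).trans (f2811 H)

theorem f5553 : path g [8, 9] p = path g [9, 0, 9, 8] p :=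
  (f225 H).symm.trans (f5552 H)

theorem f5557 : path g [9, 0, 9, 8] p = path g [8, 9] p :=
  (f5553 H).symm

theorem f5574 : g 5 • path g [8, 9] p = path g [9, 0, 9, 8, 0] p :=
  (congrArg (g 5 • ·) (f5557 H).symm).trans (f2807 H)

theorem f5575 : path g [8, 9, 0] p = path g [9, 0, 9, 8, 0] p :=
  (f221 H).symm.trans (f5574 H)

theorem f5582 : path g [9, 0, 9, 8, 0] p = path g [8, 9, 0] p :=
  (f5575 H).symm

theorem f5591 : g 7 • path g [8, 9, 0] p = path g [8, 1, 9, 3] p :=
  (congrArg (g 7 • ·) (f5582 H).symm).trans (f4015 H)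

theorem f5592 : path g [9, 7, 8] p = path g [8, 1, 9, 3] p :=
  (f1239 H).symm.trans (f5591 H)

theorem f5593 : path g [8, 1, 9, 3] p = path g [9, 7, 8] p :=
  (f5592 H).symm

theorem f5615 : g 5 • path g [9, 7, 8] p = path g [9, 0, 9, 7, 8] p :=
  (congrArg (g 5 • ·) (f5593 H).symm).trans (f4028 H)

theorem f5616 : path g [9, 7, 8, 0] p = path g [9, 0, 9, 7, 8] p :=
  (f509 H).symm.trans (f5615 H)

theorem f5617 : path g [9, 0, 9, 7, 8] p = path g [9, 7, 8, 0] p :=
  (f5616 H).symm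

theorem f5630 : g 2 • path g [9, 7, 8, 0] p = path g [9, 8, 7, 9, 0] p :=
  (congrArg (g 2 • ·) (f5617 H).symm).trans (f4029 H)

theorem f5631 : path g [9, 8, 0] p = path g [9, 8, 7, 9, 0] p :=
  (f510 H).symm.trans (f5630 H)

theorem f5632 : path g [9, 8, 7, 9, 0] p = path g [9, 8, 0] p :=
  (f5631 H).symm

theorem f5642 : g 3 • path g [9, 8, 7, 9, 0] p = path g [8, 1] p :=
  (f4019 H).trans (f5204 H)

theorem f5643 : g 3 • path g [9, 8, 0] p = path g [8, 1] p :=
  (congrArg (g 3 • ·) (f5632 H).symm).trans (f5642 H)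

theorem f5644 : path g [9, 8, 0, 3] p = path g [8, 1] p :=
  (f884 H).symm.trans (f5643 H)

theorem f5668 : g 1 • path g [9, 8, 0, 3] p = path g [9, 7, 6] p :=
  (f3132 H).trans (f4456 H)

theorem f5669 : g 1 • path g [8, 1] p = path g [9, 7, 6] p :=
  (congrArg (g 1 • ·) (f5644 H).symm).trans (f5668 H)

theorem f5670 : path g [8, 6] p = path g [9, 7, 6] p :=
  (f58 H).symm.trans (f5669 H)

theorem f5671 : path g [9, 7, 6] p = path g [8, 6] p :=
  (f5670 H).symm

theorem f5690 : g 4 • path g [8, 6] p = path g [9, 7, 6, 4] p :=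
  (congrArg (g 4 • ·) (f5671 H).symm).trans (f532 H)

theorem f5691 : path g [8, 6, 4] p = path g [9, 7, 6, 4] p :=
  (f272 H).symm.trans (f5690 H)

theorem f5692 : path g [9, 7, 6, 4] p = path g [8, 6, 4] p :=
  (f5691 H).symm

theorem f5715 : g 1 • path g [8, 6, 4] p = path g [9, 7, 6, 4, 1] p :=
  (congrArg (g 1 • ·) (f5692 H).symm).trans (f2624 H)

theorem f5716 : path g [4, 1, 9] p = path g [9, 7, 6, 4, 1] p :=
  (f1817 H).symm.trans (f5715 H)

theorem f5717 : path g [9, 7, 6, 4, 1] p = path g [4, 1, 9] p :=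
  (f5716 H).symm

theorem f5721 : g 1 • path g [4, 1, 9] p = path g [9, 7, 6, 4, 6] p :=
  (congrArg (g 1 • ·) (f5717 H).symm).trans (f2626 H)

theorem f5722 : g 1 • path g [4, 1, 9] p = path g [3, 1] p :=
  (f1818 H).trans (f4907 H)

theorem f5723 : path g [3, 1] p = path g [9, 7, 6, 4, 6] p :=
  (f5722 H).symm.trans (f5721 H)

theorem f5724 : path g [9, 7, 6, 4, 6] p = path g [3, 1] p :=
  (f5723 H).symm

theorem f5732 : g 6 • path g [9, 7, 6, 4, 6] p = path g [4, 1, 9] p :=
  (f2627 H).trans (f5717 H)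

theorem f5733 : g 6 • path g [3, 1] p = path g [4, 1, 9] p :=
  (congrArg (g 6 • ·) (f5724 H).symm).trans (f5732 H)

theorem f5734 : path g [3] p = path g [4, 1, 9] p :=
  (f87 H).symm.trans (f5733 H)

theorem f5735 : path g [4, 1, 9] p = path g [3] p :=
  (f5734 H).symm

theorem f5754 : g 5 • path g [3] p = path g [8, 4, 7, 3] p :=
  (congrArg (g 5 • ·) (f5735 H).symm).trans (f1840 H)

theorem f5755 : path g [8] p = path g [8, 4, 7, 3] p :=
  (f1365 H).symm.trans (f5754 H)

theorem f5756 : path g [8, 4, 7, 3] p = path g [8] p :=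
  (f5755 H).symm

theorem f5773 : g 1 • path g [8, 4, 7, 3] p = path g [9] p :=
  (f1904 H).trans (f4483 H)

theorem f5774 : g 1 • path g [8] p = path g [9] p :=
  (congrArg (g 1 • ·) (f5756 H).symm).trans (f5773 H)

theorem f5775 : path g [8, 1] p = path g [9] p :=
  (f56 H).symm.trans (f5774 H)

theorem f5794 : g 4 • path g [9] p = path g [8, 1, 4] p :=
  (congrArg (g 4 • ·) (f5775 H).symm).trans (f286 H)

theorem f5795 : path g [] p = path g [8, 1, 4] p :=
  (f7 H).symm.trans (f5794 H)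

theorem f5796 : path g [8, 1, 4] p = path g [] p :=
  (f5795 H).symm

theorem f5816 : g 8 • path g [] p = path g [8, 1, 3, 0] p :=
  (congrArg (g 8 • ·) (f5796 H).symm).trans (f4196 H)

theorem f5817 : path g [8] p = path g [8, 1, 3, 0] p :=
  (f8 H).symm.trans (f5816 H)

theorem f5818 : path g [8, 1, 3, 0] p = path g [8] p :=
  (f5817 H).symm

theorem f5831 : g 9 • path g [8] p = path g [9, 7, 8, 0] p :=
  (congrArg (g 9 • ·) (f5818 H).symm).trans (f4098 H)

theorem f5832 : path g [8, 9] p = path g [9, 7, 8, 0] p :=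
  (f44 H).symm.trans (f5831 H)

theorem f5854 : path g [9, 7, 8, 0] p = path g [8, 9] p :=
  (f5832 H).symm

theorem f5872 : g 1 • path g [8, 9] p = path g [9, 7, 8, 0, 1] p :=
  (congrArg (g 1 • ·) (f5854 H).symm).trans (f2500 H)

theorem f5873 : path g [8, 9, 1] p = path g [9, 7, 8, 0, 1] p :=
  (f224 H).symm.trans (f5872 H)

theorem f5877 : path g [9, 7, 8, 0, 1] p = path g [8, 9, 1] p :=
  (f5873 H).symm

theorem f5889 : g 7 • path g [8, 9, 1] p = path g [9, 8, 0, 6] p :=
  (congrArg (g 7 • ·) (f5877 H).symm).trans (f2511 H)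

theorem f5890 : path g [8, 9, 7, 6] p = path g [9, 8, 0, 6] p :=
  (f1491 H).symm.trans (f5889 H)

theorem f5902 : g 2 • path g [9, 8, 0, 6] p = path g [8, 9, 1] p :=
  (f2510 H).trans (f5877 H)

theorem f5907 : g 5 • path g [9, 8, 0, 6] p = path g [8, 4, 7, 6] p :=
  (congrArg (g 5 • ·) (f5890 H).symm).trans (f1771 H)

theorem f5908 : g 5 • path g [9, 8, 0, 6] p = path g [4, 1] p :=
  (f2196 H).trans (f4425 H)

theorem f5909 : path g [4, 1] p = path g [8, 4, 7, 6] p :=
  (f5908 H).symm.trans (f5907 H)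

theorem f5944 : path g [8, 4, 7, 6] p = path g [4, 1] p :=
  (f5909 H).symm

theorem f5959 : g 6 • path g [4, 1] p = path g [8, 4, 7, 1] p :=
  (congrArg (g 6 • ·) (f5944 H).symm).trans (f1786 H)

theorem f5960 : path g [4] p = path g [8, 4, 7, 1] p :=
  (f115 H).symm.trans (f5959 H)

theorem f5961 : path g [8, 4, 7, 1] p = path g [4] p :=
  (f5960 H).symm

theorem f5973 : g 7 • path g [4] p = path g [8, 4, 6] p :=
  (congrArg (g 7 • ·) (f5961 H).symm).trans (f1821 H)

theorem f5974 : path g [4, 7] p = path g [8, 4, 6] p :=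
  (f96 H).symm.trans (f5973 H)

theorem f5975 : path g [8, 4, 6] p = path g [4, 7] p :=
  (f5974 H).symm

theorem f5999 : g 3 • path g [4, 7] p = path g [8, 4, 6, 3] p :=
  (congrArg (g 3 • ·) (f5975 H).symm).trans (f1891 H)

theorem f6000 : path g [4, 7, 3] p = path g [8, 4, 6, 3] p :=
  (f398 H).symm.trans (f5999 H)

theorem f6001 : path g [8, 4, 6, 3] p = path g [4, 7, 3] p :=
  (f6000 H).symm

theorem f6010 : g 9 • path g [8, 4, 6, 3] p = path g [8, 6, 8, 4] p :=
  (f3179 H).trans (f4284 H)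

theorem f6011 : g 9 • path g [4, 7, 3] p = path g [8, 6, 8, 4] p :=
  (congrArg (g 9 • ·) (f6001 H).symm).trans (f6010 H)

theorem f6012 : path g [4, 7, 3, 9] p = path g [8, 6, 8, 4] p :=
  (f2185 H).symm.trans (f6011 H)

theorem f6017 : g 8 • path g [8, 6, 8, 4] p = path g [4, 7, 8, 4] p :=
  (congrArg (g 8 • ·) (f6012 H).symm).trans (f2189 H)

theorem f6018 : path g [4, 0, 3, 9] p = path g [4, 7, 8, 4] p :=
  (f4292 H).symm.trans (f6017 H)

theorem f6021 : g 9 • path g [4, 7, 8, 4] p = path g [8, 6, 4, 8] p :=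
  (congrArg (g 9 • ·) (f6018 H).symm).trans (f4279 H)

theorem f6022 : path g [4, 7, 8] p = path g [8, 6, 4, 8] p :=
  (f2166 H).symm.trans (f6021 H)

theorem f6031 : path g [8, 6, 4, 8] p = path g [4, 7, 8] p :=
  (f6022 H).symm

end CfsgQS3.Zero.CertB
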