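import Cfsg.Agent.Lib.QS3.Zero.Cert.B0

/-!
Groups with an involution centraliser `Q.S₃`: a certificate of coset enumeration for the type 0, case B, part 1.
-/

set_option autoImplicit false
set_option maxRecDepth 10000
set_option linter.unusedSectionVars false

namespace CfsgQS3.Zero.CertB

variable {M α : Type*} [Group M] [MulAction M α] {g : ℕ → M} {p : α} (H : CosetData relsB 3 g p)
include H

theorem f6044 : g 2 • path g [4, 7, 8] p = path g [9, 8, 0, 6, 8] p :=
  (congrArg (g 2 • ·) (f6031 H).symm).trans (f4271 H)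

theorem f6045 : path g [9, 3, 0] p = path g [9, 8, 0, 6, 8] p :=
  (f1034 H).symm.trans (f6044 H)

theorem f6074 : path g [9, 8, 0, 6, 8] p = path g [9, 3, 0] p :=
  (f6045 H).symm

theorem f6084 : g 8 • path g [9, 3, 0] p = path g [9, 8, 0, 6, 3] p :=
  (congrArg (g 8 • ·) (f6074 H).symm).trans (f3113 H)

theorem f6085 : path g [9, 3, 7] p = path g [9, 8, 0, 6, 3] p :=
  (f1523 H).symm.trans (f6084 H)

theorem f6086 : path g [9, 8, 0, 6, 3] p = path g [9, 3, 7] p :=
  (f6085 H).symm

theorem f6087 : g 8 • path g [9, 3, 7] p = path g [9, 8, 0, 6] p :=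
  (congrArg (g 8 • ·) (f6086 H).symm).trans (f3111 H)

theorem f6088 : path g [4, 7, 1] p = path g [9, 8, 0, 6] p :=
  (f1195 H).symm.trans (f6087 H)

theorem f6092 : path g [9, 8, 0, 6] p = path g [4, 7, 1] p :=
  (f6088 H).symm

theorem f6103 : g 2 • path g [4, 7, 1] p = path g [8, 9, 1] p :=
  (congrArg (g 2 • ·) (f6092 H).symm).trans (f5902 H)

theorem f6104 : path g [4, 0] p = path g [8, 9, 1] p :=
  (f406 H).symm.trans (f6103 H)

theorem f6128 : path g [8, 9, 1] p = path g [4, 0] p :=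
  (f6104 H).symm

theorem f6151 : g 4 • path g [4, 0] p = path g [8, 9, 1, 4] p :=
  (congrArg (g 4 • ·) (f6128 H).symm).trans (f1587 H)

theorem f6152 : path g [9, 8, 6] p = path g [8, 9, 1, 4] p :=
  (f1507 H).symm.trans (f6151 H)

theorem f6153 : path g [8, 9, 1, 4] p = path g [9, 8, 6] p :=
  (f6152 H).symm

theorem f6158 : g 4 • path g [9, 8, 6] p = path g [4, 7] p :=
  (f1806 H).trans (f5975 H)

theorem f6175 : g 1 • path g [9, 8, 6] p = path g [8, 9, 1, 4, 1] p :=
  (congrArg (g 1 • ·) (f6153 H).symm).trans (f3783 H)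

theorem f6176 : path g [9, 8] p = path g [8, 9, 1, 4, 1] p :=
  (f165 H).symm.trans (f6175 H)

theorem f6177 : path g [8, 9, 1, 4, 1] p = path g [9, 8] p :=
  (f6176 H).symm

theorem f6181 : g 1 • path g [9, 8] p = path g [8, 9, 0, 4, 0] p :=
  (congrArg (g 1 • ·) (f6177 H).symm).trans (f3785 H)

theorem f6182 : path g [9, 8, 1] p = path g [8, 9, 0, 4, 0] p :=
  (f166 H).symm.trans (f6181 H)

theorem f6183 : path g [8, 9, 0, 4, 0] p = path g [9, 8, 1] p :=
  (f6182 H).symm

theorem f6186 : g 0 • path g [9, 8, 1] p = path g [8, 9, 0, 4] p :=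
  (congrArg (g 0 • ·) (f6183 H).symm).trans (f3681 H)

theorem f6187 : path g [9, 8, 1, 0] p = path g [8, 9, 0, 4] p :=
  (f912 H).symm.trans (f6186 H)

theorem f6194 : path g [8, 9, 0, 4] p = path g [9, 8, 1, 0] p :=
  (f6187 H).symm

theorem f6218 : g 1 • path g [9, 8, 1, 0] p = path g [8, 9, 0, 4, 1] p :=
  (congrArg (g 1 • ·) (f6194 H).symm).trans (f3691 H)

theorem f6219 : g 1 • path g [9, 8, 1, 0] p = path g [4, 1] p :=
  (f2194 H).trans (f4425 H)

theorem f6220 : path g [4, 1] p = path g [8, 9, 0, 4, 1] p :=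
  (f6219 H).symm.trans (f6218 H)

theorem f6221 : path g [8, 9, 0, 4, 1] p = path g [4, 1] p :=
  (f6220 H).symm

theorem f6225 : g 1 • path g [4, 1] p = path g [8, 9, 0, 4, 6] p :=
  (congrArg (g 1 • ·) (f6221 H).symm).trans (f3693 H)

theorem f6226 : path g [4, 0] p = path g [8, 9, 0, 4, 6] p :=
  (f116 H).symm.trans (f6225 H)

theorem f6227 : path g [8, 9, 0, 4, 6] p = path g [4, 0] p :=
  (f6226 H).symm

theorem f6233 : g 0 • path g [4, 0] p = path g [9, 3, 0, 6, 4] p :=
  (congrArg (g 0 • ·) (f6227 H).symm).trans (f3690 H)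

theorem f6234 : path g [4] p = path g [9, 3, 0, 6, 4] p :=
  (f104 H).symm.trans (f6233 H)

theorem f6238 : path g [9, 3, 0, 6, 4] p = path g [4] p :=
  (f6234 H).symm

theorem f6249 : g 6 • path g [4] p = path g [8, 9, 1, 4, 0] p :=
  (congrArg (g 6 • ·) (f6238 H).symm).trans (f3776 H)

theorem f6250 : path g [4, 0] p = path g [8, 9, 1, 4, 0] p :=
  (f107 H).symm.trans (f6249 H)

theorem f6251 : path g [8, 9, 1, 4, 0] p = path g [4, 0] p :=
  (f6250 H).symm

theorem f6255 : g 0 • path g [8, 9, 1, 4, 0] p = path g [9, 8, 6] p :=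
  (f3773 H).trans (f6153 H)

theorem f6256 : g 0 • path g [4, 0] p = path g [9, 8, 6] p :=
  (congrArg (g 0 • ·) (f6251 H).symm).trans (f6255 H)

theorem f6257 : path g [4] p = path g [9, 8, 6] p :=
  (f104 H).symm.trans (f6256 H)

theorem f6261 : path g [9, 8, 6] p = path g [4] p :=
  (f6257 H).symm

theorem f6280 : g 4 • path g [4] p = path g [4, 7] p :=
  (congrArg (g 4 • ·) (f6261 H).symm).trans (f6158 H)

theorem f6281 : path g [9] p = path g [4, 7] p :=
  (f18 H).symm.trans (f6280 H)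

theorem f6282 : path g [4, 7] p = path g [9] p :=
  (f6281 H).symm

theorem f6303 : g 4 • path g [9] p = path g [4, 7, 4] p :=
  (congrArg (g 4 • ·) (f6282 H).symm).trans (f418 H)

theorem f6304 : path g [] p = path g [4, 7, 4] p :=
  (f7 H).symm.trans (f6303 H)

theorem f6305 : path g [4, 7, 4] p = path g [] p :=
  (f6304 H).symm

theorem f6325 : g 1 • path g [] p = path g [4, 7, 4, 1] p :=
  (congrArg (g 1 • ·) (f6305 H).symm).trans (f2233 H)

theorem f6326 : path g [] p = path g [4, 7, 4, 1] p :=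
  (f2 H).symm.trans (f6325 H)

theorem f6327 : path g [4, 7, 4, 1] p = path g [] p :=
  (f6326 H).symm

theorem f6331 : g 1 • path g [] p = path g [4, 7, 4, 6] p :=
  (congrArg (g 1 • ·) (f6327 H).symm).trans (f2235 H)

theorem f6332 : path g [] p = path g [4, 7, 4, 6] p :=
  (f2 H).symm.trans (f6331 H)

theorem f6333 : path g [4, 7, 4, 6] p = path g [] p :=
  (f6332 H).symm

theorem f6340 : g 0 • path g [4, 7, 4, 6] p = path g [8, 6, 4] p :=
  (f2232 H).trans (f5692 H)

theorem f6341 : g 0 • path g [] p = path g [8, 6, 4] p :=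
  (congrArg (g 0 • ·) (f6333 H).symm).trans (f6340 H)

theorem f6342 : path g [] p = path g [8, 6, 4] p :=
  (f0 H).symm.trans (f6341 H)

theorem f6346 : path g [8, 6, 4] p = path g [] p :=
  (f6342 H).symm

theorem f6369 : g 1 • path g [8, 6, 4] p = path g [3] p :=
  (f1817 H).trans (f5735 H)

theorem f6370 : g 1 • path g [] p = path g [3] p :=
  (congrArg (g 1 • ·) (f6346 H).symm).trans (f6369 H)

theorem f6371 : path g [] p = path g [3] p :=
  (f2 H).symm.trans (f6370 H)

theorem f6372 : path g [3] p = path g [] p :=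
  (f6371 H).symm

theorem f6376 : g 3 • path g [] p = path g [] p :=
  (f12 H).trans (f6372 H)

end CfsgQS3.Zero.CertB
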